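import Groth.Prelude.Def_Grpd
import Mathlib

/-!
# A group scheme over `S` as a groupoid scheme over `S` (with `U = S`)
-/

set_option autoImplicit false
universe u
open CategoryTheory CategoryTheory.Limits AlgebraicGeometry MonoidalCategory CartesianMonoidalCategory
open Grpd
open scoped MonObj

namespace Groth.Agent.H37.GrpObjGrpd

variable {S : Scheme.{u}} (G : Over S) [GrpObj G]

/-- a `T`-point of `G`, as a morphism in `Over S` -/
def pt {T : Scheme.{u}} (p : T ⟶ S) (α : T ⟶ G.left) (hα : α ≫ G.hom = p) : Over.mk p ⟶ G :=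
  Over.homMk α hα

lemma lift_mul_left {T : Scheme.{u}} (p : T ⟶ S) (α β : T ⟶ G.left) (hα : α ≫ G.hom = p)
    (hβ : β ≫ G.hom = p) (h : α ≫ G.hom = β ≫ G.hom) :
    pullback.lift α β h ≫ μ[G].left = (pt G p α hα * pt G p β hβ).left := rfl

lemma pt_mul {T : Scheme.{u}} (p : T ⟶ S) (α β : T ⟶ G.left) (hα : α ≫ G.hom = p)
    (hβ : β ≫ G.hom = p) (h : α ≫ G.hom = β ≫ G.hom) (h' : (pullback.lift α β h ≫ μ[G].left) ≫ G.hom = p) :
    pt G p (pullback.lift α β h ≫ μ[G].left) h' = pt G p α hα * pt G p β hβ := by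
  ext; rfl

lemma pt_one {T : Scheme.{u}} (p : T ⟶ S) (h : (p ≫ η[G].left) ≫ G.hom = p) :
    pt G p (p ≫ η[G].left) h = 1 := by
  ext; rfl

lemma pt_inv {T : Scheme.{u}} (p : T ⟶ S) (α : T ⟶ G.left) (hα : α ≫ G.hom = p)
    (h : (α ≫ ι[G].left) ≫ G.hom = p) :
    pt G p (α ≫ ι[G].left) h = (pt G p α hα)⁻¹ := by
  ext; rfl

lemma mul_hom {T : Scheme.{u}} (α β : T ⟶ G.left) (h : α ≫ G.hom = β ≫ G.hom) :
    (pullback.lift α β h ≫ μ[G].left) ≫ G.hom = β ≫ G.hom := by
  rw [lift_mul_left G (β ≫ G.hom) α β h rfl h]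
  exact Over.w _

lemma η_hom : η[G].left ≫ G.hom = 𝟙 S := Over.w η[G]

lemma ι_hom : ι[G].left ≫ G.hom = G.hom := Over.w ι[G]

/-- the groupoid scheme `(S, G, p, p, μ)` attached to a group scheme `G` over `S` -/
noncomputable def ofGrpObj : Grpd.GroupoidScheme S where
  U := S
  R := G.left
  pU := 𝟙 S
  pR := G.hom
  s := G.hom
  t := G.hom
  e := η[G].left
  i := ι[G].left
  c := μ[G].left
  s_over := Category.comp_id _
  t_over := Category.comp_id _
  comp_s α β h := mul_hom G α β h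
  comp_t α β h := (mul_hom G α β h).trans h.symm
  assoc x y z h₁ h₂ := by
    have hy : y ≫ G.hom = z ≫ G.hom := h₂
    have hx : x ≫ G.hom = z ≫ G.hom := h₁.trans h₂
    have key := congrArg CommaMorphism.left
      (mul_assoc (pt G _ x hx) (pt G _ y hy) (pt G (z ≫ G.hom) z rfl))
    have e1 : (pullback.lift x y h₁ ≫ μ[G].left) ≫ G.hom = z ≫ G.hom :=
      (mul_hom G x y h₁).trans hy
    have e2 : (pullback.lift y z h₂ ≫ μ[G].left) ≫ G.hom = z ≫ G.hom := mul_hom G y z h₂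
    rw [lift_mul_left G (z ≫ G.hom) _ z e1 rfl, lift_mul_left G (z ≫ G.hom) x _ hx e2,
      pt_mul G _ x y hx hy h₁ e1, pt_mul G _ y z hy rfl h₂ e2]
    exact key
  e_s := η_hom G
  e_t := η_hom G
  comp_e α := by
    have e1 : (α ≫ G.hom ≫ η[G].left) ≫ G.hom = α ≫ G.hom := by
      rw [Category.assoc, Category.assoc, η_hom, Category.comp_id]
    rw [lift_mul_left G (α ≫ G.hom) α _ rfl e1]
    have e2 : pt G (α ≫ G.hom) (α ≫ G.hom ≫ η[G].left) e1 = 1 := by
      ext; exact (Category.assoc _ _ _).symm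
    rw [e2, mul_one]
    rfl
  e_comp α := by
    have e1 : (α ≫ G.hom ≫ η[G].left) ≫ G.hom = α ≫ G.hom := by
      rw [Category.assoc, Category.assoc, η_hom, Category.comp_id]
    rw [lift_mul_left G (α ≫ G.hom) _ α e1 rfl]
    have e2 : pt G (α ≫ G.hom) (α ≫ G.hom ≫ η[G].left) e1 = 1 := by
      ext; exact (Category.assoc _ _ _).symm
    rw [e2, one_mul]
    rfl
  i_s := ι_hom G
  i_t := ι_hom G
  comp_i α := by
    have e1 : (α ≫ ι[G].left) ≫ G.hom = α ≫ G.hom := by rw [Category.assoc, ι_hom]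
    rw [lift_mul_left G (α ≫ G.hom) α _ rfl e1, pt_inv G _ α rfl e1, mul_inv_cancel]
    exact Category.assoc _ _ _
  i_comp α := by
    have e1 : (α ≫ ι[G].left) ≫ G.hom = α ≫ G.hom := by rw [Category.assoc, ι_hom]
    rw [lift_mul_left G (α ≫ G.hom) _ α e1 rfl, pt_inv G _ α rfl e1, inv_mul_cancel]
    exact Category.assoc _ _ _

/-- a homomorphism of group schemes as a morphism of groupoid schemes -/
noncomputable def homOfMonHom {H G : Over S} [GrpObj H] [GrpObj G] (ψ : H ⟶ G) [IsMonHom ψ] :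
    Grpd.GroupoidScheme.Hom (ofGrpObj H) (ofGrpObj G) where
  fU := 𝟙 S
  fR := ψ.left
  fU_over := Category.comp_id _
  comm_s := (Over.w ψ).trans (Category.comp_id _).symm
  comm_t := (Over.w ψ).trans (Category.comp_id _).symm
  comm_c α β h := by
    have hα : α ≫ H.hom = β ≫ H.hom := h
    have key := congrArg CommaMorphism.left
      ((IsMonHom.monoidHom ψ _).map_mul (pt H _ α hα) (pt H (β ≫ H.hom) β rfl))
    exact key

end Groth.Agent.H37.GrpObjGrpd
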