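import Groth.Agent.H37.GrpdConn
import Groth.Agent.H37.GrpObjGrpd
import Groth.Agent.S0346

/-!
# Group schemes over a field: the connected component of the identity is irreducible and
quasi-compact
-/

set_option autoImplicit false
universe u
open CategoryTheory CategoryTheory.Limits AlgebraicGeometry MonoidalCategory
  CartesianMonoidalCategory
open scoped MonObj

namespace Groth.Agent.H37

variable (K : Type u) [Field K] (G : Over (Spec (CommRingCat.of K))) [GrpObj G]

/-- A group scheme over a field is quasi-separated. -/
theorem quasiSeparatedSpace_of_grpObj_field : QuasiSeparatedSpace G.left := by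
  haveI : Subsingleton ↥(Spec (CommRingCat.of K)) :=
    inferInstanceAs (Subsingleton (PrimeSpectrum K))
  haveI : QuasiCompact η[G].left := by
    refine ⟨fun U _ _ => ?_⟩
    have hs : (⇑η[G].left ⁻¹' U).Subsingleton := by
      intro a _ b _
      exact (Subsingleton.elim (α := PrimeSpectrum K) a b)
    exact hs.isCompact
  haveI : QuasiSeparated G.hom := (Groth.Agent.S0346.result _ G).2.mpr inferInstance
  exact quasiSeparatedSpace_of_quasiSeparated G.hom

/-- The connected component of the identity of a group scheme over a field is the irreducible
component through the identity; it is quasi-compact. -/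
theorem grp_connectedComponent_one :
    connectedComponent (η[G].left (IsLocalRing.closedPoint K)) =
      irreducibleComponent (η[G].left (IsLocalRing.closedPoint K)) ∧
    IsCompact (irreducibleComponent (η[G].left (IsLocalRing.closedPoint K))) := by
  haveI hqs : QuasiSeparatedSpace (GrpObjGrpd.ofGrpObj G).R :=
    quasiSeparatedSpace_of_grpObj_field K G
  have h1 := connectedComponent_eq_idComp (GrpObjGrpd.ofGrpObj G) K (Iso.refl _)
    (irreducibleComponent (η[G].left (IsLocalRing.closedPoint K)))
    (irreducibleComponent_mem_irreducibleComponents _) (IsLocalRing.closedPoint K)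
    mem_irreducibleComponent
  have h2 := isCompact_idComp (GrpObjGrpd.ofGrpObj G) K (Iso.refl _)
    (irreducibleComponent (η[G].left (IsLocalRing.closedPoint K)))
    (irreducibleComponent_mem_irreducibleComponents _) (IsLocalRing.closedPoint K)
    mem_irreducibleComponent
  exact ⟨h1, h2⟩

end Groth.Agent.H37
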