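import Groth.Agent.H37.GrpImage
import Groth.Agent.H37.GrpConn
import Groth.Agent.H51.Reduced
import Mathlib

/-!
# The reduced image of a homomorphism from a smooth group scheme of finite type is smooth
-/

set_option autoImplicit false
set_option linter.unusedSimpArgs false
universe u
open CategoryTheory CategoryTheory.Limits MonoidalCategory CartesianMonoidalCategory MonObj
open AlgebraicGeometry
open Groth.Agent.H37

namespace Groth.Agent.H37.GrpImage

/-- The kernel of a morphism from a reduced scheme is the vanishing ideal of the closure of its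
range. -/
lemma ker_eq_vanishingIdeal {X Y : Scheme.{u}} [IsReduced X] (f : X ⟶ Y) :
    f.ker = Scheme.IdealSheafData.vanishingIdeal ⟨closure (Set.range f), isClosed_closure⟩ := by
  have h1 : f.ker = (𝟙 X ≫ f).ker := by rw [Category.id_comp]
  rw [h1, Scheme.Hom.ker_comp, Scheme.Hom.ker_eq_bot_of_isIso, ← Scheme.nilradical_eq_bot,
    ← Scheme.IdealSheafData.vanishingIdeal_top, Scheme.IdealSheafData.map_vanishingIdeal]
  congr 1
  apply TopologicalSpace.Closeds.ext
  simp

theorem smooth_reduced_image (k : Type u) [Field k]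
    (G G' : Over (Spec (CommRingCat.of k))) [GrpObj G] [GrpObj G'] [Smooth G.hom]
    [QuasiCompact G.hom] [LocallyOfFiniteType G'.hom] (f : G ⟶ G') [IsMonHom f]
    (H : Scheme.{u}) (i : H ⟶ G'.left) [IsClosedImmersion i] [IsReduced H]
    (hH : Set.range ⇑i = Set.range ⇑f.left) : Smooth (i ≫ G'.hom) := by
  haveI : CompactSpace G.left := QuasiCompact.compactSpace_of_compactSpace G.hom
  haveI : QuasiSeparatedSpace G'.left := quasiSeparatedSpace_of_grpObj_field k G'
  haveI : QuasiCompact f.left := inferInstance
  obtain ⟨K, str, j, f', hj, hf', hfj, hcl, hker, hqc, hsurj⟩ := exists_image_grp k G G' f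
  letI := str
  haveI := hj
  haveI := hf'
  haveI := hcl
  haveI := hqc
  haveI := hsurj
  haveI hdom : IsSchemeTheoreticallyDominant f'.left := ⟨hker⟩
  haveI hGred : IsReduced G.left := Groth.Agent.H51.isReduced_of_smooth G.hom
  haveI hKred : IsReduced K.left := IsSchemeTheoreticallyDominant.isReduced f'.left
  haveI : LocallyOfFiniteType K.hom := by
    rw [← Over.w j]; infer_instance
  haveI : GeometricallyReduced K.hom := by
    refine ⟨geometrically_iff_of_commRing_of_isClosedUnderIsomorphisms.mpr fun L _ _ => ?_⟩
    obtain ⟨g, hg⟩ : ∃ g, g = Spec.map (CommRingCat.ofHom (algebraMap k L)) := ⟨_, rfl⟩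
    rw [← hg]
    haveI : Flat g := by
      obtain ⟨h1, h2⟩ := integral_subsingleton_of_iso_spec_field k (Iso.refl _)
      infer_instance
    obtain ⟨m, hm1, hm2⟩ : ∃ m : pullback G.hom g ⟶ pullback K.hom g,
        m ≫ pullback.fst K.hom g = pullback.fst G.hom g ≫ f'.left ∧
        m ≫ pullback.snd K.hom g = pullback.snd G.hom g :=
      ⟨pullback.lift (pullback.fst _ _ ≫ f'.left) (pullback.snd _ _)
        (by rw [Category.assoc, Over.w f']; exact pullback.condition),
        pullback.lift_fst _ _ _, pullback.lift_snd _ _ _⟩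
    have sq : IsPullback m (pullback.fst G.hom g) (pullback.fst K.hom g) f'.left := by
      refine IsPullback.of_right ?_ hm1 (IsPullback.of_hasPullback K.hom g).flip
      rw [hm2, Over.w f']
      exact (IsPullback.of_hasPullback G.hom g).flip
    haveI : Flat (pullback.fst K.hom g) := MorphismProperty.pullback_fst (P := @Flat) _ _ ‹Flat g›
    haveI : IsSchemeTheoreticallyDominant m := IsSchemeTheoreticallyDominant.of_isPullback sq.flip
    haveI : QuasiCompact m := MorphismProperty.of_isPullback (P := @QuasiCompact) sq.flip hqc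
    haveI : Smooth (pullback.snd G.hom g) :=
      MorphismProperty.pullback_snd (P := @Smooth) _ _ ‹Smooth G.hom›
    haveI : IsReduced (pullback G.hom g) :=
      Groth.Agent.H51.isReduced_of_smooth (pullback.snd G.hom g)
    exact IsSchemeTheoreticallyDominant.isReduced m
  haveI : GrpObj (Over.mk K.hom) := inferInstanceAs (GrpObj K)
  haveI hKsm : Smooth K.hom := smooth_of_grpObj K.hom
  have hcomp : f'.left ≫ j.left = f.left := by rw [← Over.comp_left, hfj]
  have hrange : Set.range ⇑j.left = Set.range ⇑i := by
    ext y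
    constructor
    · rintro ⟨x, rfl⟩
      obtain ⟨g0, rfl⟩ := hsurj.surj x
      rw [hH, ← Scheme.Hom.comp_apply, hcomp]
      exact ⟨g0, rfl⟩
    · intro hy
      rw [hH] at hy
      obtain ⟨g0, rfl⟩ := hy
      exact ⟨f'.left g0, by rw [← Scheme.Hom.comp_apply, hcomp]⟩
  have hcl' : (⟨closure (Set.range ⇑j.left), isClosed_closure⟩ : TopologicalSpace.Closeds G'.left) =
      ⟨closure (Set.range ⇑i), isClosed_closure⟩ := by
    apply TopologicalSpace.Closeds.ext
    show closure (Set.range ⇑j.left) = closure (Set.range ⇑i)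
    rw [hrange]
  have hkereq : j.left.ker = i.ker := by
    rw [ker_eq_vanishingIdeal j.left, ker_eq_vanishingIdeal i, hcl']
  haveI hiso : IsIso (IsClosedImmersion.lift j.left i hkereq.le) :=
    IsClosedImmersion.isIso_lift j.left i hkereq
  have hfac : IsClosedImmersion.lift j.left i hkereq.le ≫ j.left = i :=
    IsClosedImmersion.lift_fac _ _ _
  rw [← hfac, Category.assoc, Over.w j]
  infer_instance

end Groth.Agent.H37.GrpImage
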