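import Groth.Agent.H37.RatDense
import Groth.Agent.H37.GrpSmoothImage
import Groth.Agent.H38.GeomRedDense
import Mathlib

/-!
# Separable points of geometrically reduced schemes over a field

* `exists_field_of_minimalPrime`, `exists_separable_point_chart`: the generic points of a
  geometrically reduced scheme over `k` are "separable points" (`k'`-points with
  `Algebra.IsGeometricallyReduced k k'`).
* `forall_mem_of_isClosed_of_separable_points`: a closed subset containing all separable points of
  a geometrically reduced scheme is everything.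
* `geometricallyReduced_prod`: products of geometrically reduced schemes over a field.
* `exists_factor_of_range_subset`: factoring through a reduced closed subscheme.
* `smooth_subgroup_of_separable_points`: a geometrically reduced closed subscheme of a group scheme
  containing all separable points is a smooth subgroup scheme.
-/

set_option autoImplicit false
set_option linter.unusedSimpArgs false
universe u
open CategoryTheory CategoryTheory.Limits AlgebraicGeometry TensorProduct

namespace Groth.Agent.H37.SepPts

/-- ring level: the localization of a geometrically reduced algebra at a minimal prime is a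
geometrically reduced field extension -/
theorem exists_field_of_minimalPrime {k : Type u} [Field k] (R : Type u) [CommRing R]
    [Algebra k R] [Algebra.IsGeometricallyReduced k R] (p : Ideal R) (hp : p ∈ minimalPrimes R) :
    ∃ (k' : Type u) (_ : Field k') (_ : Algebra k k') (_ : Algebra.IsGeometricallyReduced k k')
      (g : R →+* k'), g.comp (algebraMap k R) = algebraMap k k' ∧ RingHom.ker g = p := by
  haveI hpp : p.IsPrime := hp.1.1
  haveI : _root_.IsReduced R := Algebra.isReduced_of_isGeometricallyReduced k
  haveI : Ring.KrullDimLE 0 (Localization.AtPrime p) := .of_isLocalization _ hp _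
  have hfield : IsField (Localization.AtPrime p) := Ring.KrullDimLE.isField_of_isReduced
  have hg : Algebra.IsGeometricallyReduced k (Localization.AtPrime p) :=
    Groth.Agent.H38.GenSmooth.isGeometricallyReduced_localization p.primeCompl
      (Localization.AtPrime p)
  have hmax : IsLocalRing.maximalIdeal (Localization.AtPrime p) = ⊥ :=
    IsLocalRing.isField_iff_maximalIdeal_eq.mp hfield
  have hker : RingHom.ker (algebraMap R (Localization.AtPrime p)) = p := by
    rw [RingHom.ker_eq_comap_bot, ← hmax]
    exact Localization.AtPrime.under_maximalIdeal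
  have hcomp : (algebraMap R (Localization.AtPrime p)).comp (algebraMap k R) =
      algebraMap k (Localization.AtPrime p) :=
    (IsScalarTower.algebraMap_eq k R (Localization.AtPrime p)).symm
  exact ⟨Localization.AtPrime p, hfield.toField, inferInstance, hg,
    algebraMap R (Localization.AtPrime p), hcomp, hker⟩

/-- the generic points of a geometrically reduced scheme over `k` are separable points -/
theorem exists_separable_point_chart {k : Type u} [Field k] {W : Scheme.{u}}
    (f : W ⟶ Spec (CommRingCat.of k)) [GeometricallyReduced f]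
    (R : CommRingCat.{u}) (j : Spec R ⟶ W) [IsOpenImmersion j] (p : Ideal R)
    (hp : p ∈ minimalPrimes R) :
    ∃ (k' : Type u) (_ : Field k') (_ : Algebra k k') (_ : Algebra.IsGeometricallyReduced k k')
      (x : Spec (CommRingCat.of k') ⟶ Spec R),
      x ≫ j ≫ f = Spec.map (CommRingCat.ofHom (algebraMap k k')) ∧
      ∀ t, x t = (⟨p, hp.1.1⟩ : PrimeSpectrum R) := by
  obtain ⟨φ, hφ⟩ : ∃ φ : CommRingCat.of k ⟶ R, Spec.map φ = j ≫ f := Spec.map_surjective _
  letI : Algebra k R := φ.hom.toAlgebra
  haveI : GeometricallyReduced (j ≫ f) :=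
    Groth.Agent.H38.GeomRedDense.geometricallyReduced_comp_openImmersion j f
  have hgr : GeometricallyReduced (Spec.map (CommRingCat.ofHom (algebraMap k R))) := by
    show GeometricallyReduced (Spec.map φ)
    rw [hφ]; infer_instance
  haveI : Algebra.IsGeometricallyReduced k R :=
    Groth.Agent.H38.GeomRedDense.isGeometricallyReduced_of_specMap k R hgr
  obtain ⟨k', iF, iA, iG, g, hg1, hg2⟩ := exists_field_of_minimalPrime (k := k) R p hp
  refine ⟨k', iF, iA, iG, Spec.map (CommRingCat.ofHom g), ?_, ?_⟩
  · have hc : φ ≫ CommRingCat.ofHom g = CommRingCat.ofHom (algebraMap k k') :=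
      CommRingCat.hom_ext hg1
    have h2 : Spec.map (CommRingCat.ofHom g) ≫ Spec.map φ =
        Spec.map (CommRingCat.ofHom (algebraMap k k')) := by
      rw [← Spec.map_comp]; exact congrArg Spec.map hc
    rw [← hφ]; exact h2
  · intro t
    apply PrimeSpectrum.ext
    show Ideal.comap g (t : PrimeSpectrum k').asIdeal = p
    haveI : (t : PrimeSpectrum k').asIdeal.IsPrime := (t : PrimeSpectrum k').isPrime
    rw [Ideal.eq_bot_of_prime (t : PrimeSpectrum k').asIdeal, ← RingHom.ker_eq_comap_bot]
    exact hg2

/-- a closed subset of a geometrically reduced scheme over `k` containing all separable points is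
everything -/
theorem forall_mem_of_isClosed_of_separable_points {k : Type u} [Field k] {W : Scheme.{u}}
    (f : W ⟶ Spec (CommRingCat.of k)) [GeometricallyReduced f] (D : Set W) (hD : IsClosed D)
    (h : ∀ (k' : Type u) [Field k'] [Algebra k k'] [Algebra.IsGeometricallyReduced k k']
      (x : Spec (CommRingCat.of k') ⟶ W),
      x ≫ f = Spec.map (CommRingCat.ofHom (algebraMap k k')) → ∀ t, x t ∈ D) (w : W) :
    w ∈ D := by
  have key : ∀ (R : CommRingCat.{u}) (j : Spec R ⟶ W) [IsOpenImmersion j] (q : Spec R),
      j q ∈ D := by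
    intro R j _ q
    haveI : (q : PrimeSpectrum R).asIdeal.IsPrime := (q : PrimeSpectrum R).isPrime
    obtain ⟨p, hp, hpq⟩ := Ideal.exists_minimalPrimes_le (I := (⊥ : Ideal R))
      (J := (q : PrimeSpectrum R).asIdeal) bot_le
    obtain ⟨k', iF, iA, iG, x, hx, hxp⟩ := exists_separable_point_chart f R j p hp
    have hmem : j (⟨p, hp.1.1⟩ : PrimeSpectrum R) ∈ D := by
      have := h k' (x ≫ j) (by rw [Category.assoc]; exact hx) (⊥ : PrimeSpectrum k')
      rw [Scheme.Hom.comp_apply, hxp] at this
      exact this
    have hspec : (⟨p, hp.1.1⟩ : PrimeSpectrum R) ⤳ (q : PrimeSpectrum R) :=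
      (PrimeSpectrum.le_iff_specializes _ _).mp hpq
    exact (hspec.map j.continuous).mem_closed hD hmem
  obtain ⟨q, hq⟩ := W.affineOpenCover.covers w
  rw [← hq]
  exact key _ _ q

/-- the product of two geometrically reduced schemes over a field is geometrically reduced -/
theorem geometricallyReduced_prod {k : Type u} [Field k] {X Y : Scheme.{u}}
    (a : X ⟶ Spec (CommRingCat.of k)) (b : Y ⟶ Spec (CommRingCat.of k))
    [GeometricallyReduced a] [GeometricallyReduced b] :
    GeometricallyReduced (pullback.fst a b ≫ a) := by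
  refine ⟨geometrically_iff_of_commRing_of_isClosedUnderIsomorphisms.mpr fun L _ _ => ?_⟩
  haveI hXL : IsReduced (pullback a (Spec.map (CommRingCat.ofHom (algebraMap k L)))) :=
    geometrically_iff_of_commRing_of_isClosedUnderIsomorphisms.mp
      (inferInstance : GeometricallyReduced a).geometrically_isReduced L
  obtain ⟨g, hg⟩ : ∃ g, g = Spec.map (CommRingCat.ofHom (algebraMap k L)) := ⟨_, rfl⟩
  rw [← hg] at hXL ⊢
  haveI h4 : IsReduced (pullback b (pullback.fst a g ≫ a)) :=
    Groth.Agent.S4628.result b (pullback.fst a g ≫ a)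
  haveI h3 : IsReduced (pullback (pullback.fst a g ≫ a) b) :=
    isReduced_of_isOpenImmersion (pullbackSymmetry (pullback.fst a g ≫ a) b).hom
  haveI h2 : IsReduced (pullback (pullback.fst a g) (pullback.fst a b)) :=
    isReduced_of_isOpenImmersion (pullbackRightPullbackFstIso a b (pullback.fst a g)).hom
  haveI h1 : IsReduced (pullback (pullback.fst a b) (pullback.fst a g)) :=
    isReduced_of_isOpenImmersion (pullbackSymmetry (pullback.fst a b) (pullback.fst a g)).hom
  exact isReduced_of_isOpenImmersion (pullbackRightPullbackFstIso a g (pullback.fst a b)).inv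

/-- factoring a morphism from a reduced scheme through a reduced closed subscheme -/
lemma exists_factor_of_range_subset {T Z Y : Scheme.{u}} [IsReduced T] [IsReduced Z] (z : Z ⟶ Y)
    [IsClosedImmersion z] (h : T ⟶ Y) (hh : ∀ t, h t ∈ Set.range ⇑z) :
    ∃ h' : T ⟶ Z, h' ≫ z = h := by
  have H : z.ker ≤ h.ker := by
    rw [GrpImage.ker_eq_vanishingIdeal z, GrpImage.ker_eq_vanishingIdeal h]
    refine Scheme.IdealSheafData.vanishingIdeal_antimono ?_
    refine SetLike.coe_subset_coe.mp ?_
    show closure (Set.range ⇑h) ⊆ closure (Set.range ⇑z)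
    refine closure_mono ?_
    rintro _ ⟨t, rfl⟩
    exact hh t
  exact ⟨IsClosedImmersion.lift z h H, IsClosedImmersion.lift_fac z h H⟩

section Group

open MonoidalCategory CartesianMonoidalCategory MonObj

/-- a geometrically reduced closed subscheme of a group scheme locally of finite type over a field
through which all separable points factor is a smooth subgroup scheme -/
theorem smooth_subgroup_of_separable_points (k : Type u) [Field k]
    (G : Over (Spec (CommRingCat.of k))) [GrpObj G] [LocallyOfFiniteType G.hom]
    (Z : Over (Spec (CommRingCat.of k))) (z : Z ⟶ G) (hz : IsClosedImmersion z.left)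
    (hred : GeometricallyReduced Z.hom)
    (hpts : ∀ (k' : Type u) [Field k'] [Algebra k k'] [Algebra.IsGeometricallyReduced k k']
      (x : Spec (CommRingCat.of k') ⟶ G.left),
      x ≫ G.hom = Spec.map (CommRingCat.ofHom (algebraMap k k')) →
      ∃ y : Spec (CommRingCat.of k') ⟶ Z.left, y ≫ z.left = x) :
    Smooth Z.hom ∧ ∃ inst : GrpObj Z, IsMonHom z := by
  haveI := hz
  haveI := hred
  have hZG : z.left ≫ G.hom = Z.hom := Over.w z
  obtain ⟨hint, hsubs⟩ :=
    integral_subsingleton_of_iso_spec_field k (Iso.refl (Spec (CommRingCat.of k)))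
  haveI := hint
  haveI := hsubs
  haveI hZred : IsReduced Z.left :=
    self_of_isIntegral_of_geometrically (P := IsReduced) hred.geometrically_isReduced
  -- the key property
  have KP : ∀ {W : Scheme.{u}} (f : W ⟶ Spec (CommRingCat.of k)) [GeometricallyReduced f]
      (h : W ⟶ G.left), h ≫ G.hom = f → ∀ w, h w ∈ Set.range ⇑z.left := by
    intro W f _ h hh w
    refine forall_mem_of_isClosed_of_separable_points f (⇑h ⁻¹' Set.range ⇑z.left)
      (z.left.isClosedEmbedding.isClosed_range.preimage h.continuous) ?_ w
    intro k' _ _ _ x hx t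
    obtain ⟨y, hy⟩ := hpts k' (x ≫ h) (by rw [Category.assoc, hh]; exact hx)
    show h (x t) ∈ Set.range ⇑z.left
    rw [← Scheme.Hom.comp_apply, ← hy, Scheme.Hom.comp_apply]
    exact ⟨_, rfl⟩
  -- the unit
  haveI hkk : Algebra.IsGeometricallyReduced k k := by
    rw [Algebra.isGeometricallyReduced_field_iff]
    exact isReduced_of_injective
      (Algebra.TensorProduct.rid k k (AlgebraicClosure k)).toRingEquiv.toRingHom
      (Algebra.TensorProduct.rid k k (AlgebraicClosure k)).injective
  obtain ⟨e', he'⟩ : ∃ e' : Spec (CommRingCat.of k) ⟶ Z.left, e' ≫ z.left = η[G].left :=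
    hpts k η[G].left ((GrpObjGrpd.η_hom G).trans (Spec.map_id _).symm)
  -- the inverse
  have hinvw : ι[G].left ≫ G.hom = G.hom := GrpObjGrpd.ι_hom G
  obtain ⟨i', hi'⟩ := exists_factor_of_range_subset z.left (z.left ≫ ι[G].left)
    (KP Z.hom (z.left ≫ ι[G].left) (by rw [Category.assoc, hinvw, hZG]))
  -- the multiplication
  haveI hP : IsReduced (pullback Z.hom Z.hom) := Groth.Agent.S4628.result Z.hom Z.hom
  haveI hPgr : GeometricallyReduced (pullback.fst Z.hom Z.hom ≫ Z.hom) :=
    geometricallyReduced_prod Z.hom Z.hom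
  have hcondm : (pullback.fst Z.hom Z.hom ≫ z.left) ≫ G.hom =
      (pullback.snd Z.hom Z.hom ≫ z.left) ≫ G.hom := by
    rw [Category.assoc, Category.assoc, hZG]; exact pullback.condition
  obtain ⟨m, hm1, hm2⟩ : ∃ m : pullback Z.hom Z.hom ⟶ pullback G.hom G.hom,
      m ≫ pullback.fst G.hom G.hom = pullback.fst Z.hom Z.hom ≫ z.left ∧
      m ≫ pullback.snd G.hom G.hom = pullback.snd Z.hom Z.hom ≫ z.left :=
    ⟨pullback.lift _ _ hcondm, pullback.lift_fst _ _ _, pullback.lift_snd _ _ _⟩
  obtain ⟨muG, hmu⟩ : ∃ muG : pullback G.hom G.hom ⟶ G.left, muG = μ[G].left := ⟨_, rfl⟩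
  have hmuw : muG ≫ G.hom = pullback.fst G.hom G.hom ≫ G.hom := by
    rw [hmu]; exact Over.w μ[G]
  obtain ⟨c', hc'⟩ := exists_factor_of_range_subset z.left (m ≫ muG)
    (KP (pullback.fst Z.hom Z.hom ≫ Z.hom) (m ≫ muG) (by
      rw [Category.assoc, hmuw, ← Category.assoc, hm1, Category.assoc, hZG]))
  -- the subgroup
  haveI : Mono z := by
    haveI : Mono z.left := inferInstance
    exact Over.mono_of_mono_left z
  have hone' : ∃ e : 𝟙_ (Over (Spec (CommRingCat.of k))) ⟶ Z, e ≫ z = η[G] := by
    refine ⟨Over.homMk e' ?_, ?_⟩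
    · show e' ≫ Z.hom = 𝟙 _
      rw [← hZG, ← Category.assoc, he']; exact GrpObjGrpd.η_hom G
    · ext
      exact he'
  have hinv' : ∀ {T : Over (Spec (CommRingCat.of k))} (x : T ⟶ Z),
      ∃ y : T ⟶ Z, y ≫ z = (x ≫ z)⁻¹ := by
    intro T x
    have hx : x.left ≫ Z.hom = T.hom := Over.w x
    refine ⟨Over.homMk (x.left ≫ i') ?_, ?_⟩
    · show (x.left ≫ i') ≫ Z.hom = T.hom
      rw [← hZG, Category.assoc, ← Category.assoc i', hi', Category.assoc, hinvw, hZG, hx]
    · ext
      show (x.left ≫ i') ≫ z.left = (x.left ≫ z.left) ≫ ι[G].left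
      simp only [Category.assoc, hi']
  have hmul' : ∀ {T : Over (Spec (CommRingCat.of k))} (x y : T ⟶ Z),
      ∃ w : T ⟶ Z, w ≫ z = (x ≫ z) * (y ≫ z) := by
    intro T x y
    have hx : x.left ≫ Z.hom = T.hom := Over.w x
    have hy : y.left ≫ Z.hom = T.hom := Over.w y
    have hxy : x.left ≫ Z.hom = y.left ≫ Z.hom := hx.trans hy.symm
    have hxy' : (x.left ≫ z.left) ≫ G.hom = (y.left ≫ z.left) ≫ G.hom := by
      rw [Category.assoc, Category.assoc, hZG]; exact hxy
    have hfin : ((x ≫ z) * (y ≫ z)).left =
        pullback.lift (x.left ≫ z.left) (y.left ≫ z.left) hxy' ≫ muG := by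
      rw [hmu]; rfl
    have hw : (pullback.lift x.left y.left hxy ≫ c') ≫ z.left =
        pullback.lift (x.left ≫ z.left) (y.left ≫ z.left) hxy' ≫ muG := by
      rw [Category.assoc, hc', ← Category.assoc]
      congr 1
      apply pullback.hom_ext
      · rw [Category.assoc, hm1, pullback.lift_fst_assoc, pullback.lift_fst]
      · rw [Category.assoc, hm2, pullback.lift_snd_assoc, pullback.lift_snd]
    refine ⟨Over.homMk (pullback.lift x.left y.left hxy ≫ c') ?_, ?_⟩
    · show (pullback.lift x.left y.left hxy ≫ c') ≫ Z.hom = T.hom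
      have this : ((pullback.lift x.left y.left hxy ≫ c') ≫ z.left) ≫ G.hom = T.hom := by
        rw [hw, ← hfin]; exact Over.w _
      rw [Category.assoc, hZG] at this
      exact this
    · ext
      show (pullback.lift x.left y.left hxy ≫ c') ≫ z.left = _
      rw [hw, hfin]
  obtain ⟨str, hstr⟩ := Groth.Agent.H30.ShQuot.exists_grpObj_of_closed z hmul' hinv' hone'
  refine ⟨?_, str, hstr⟩
  letI := str
  haveI : LocallyOfFiniteType Z.hom := by rw [← hZG]; infer_instance
  haveI : GrpObj (Over.mk Z.hom) := inferInstanceAs (GrpObj Z)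
  exact smooth_of_grpObj Z.hom

end Group

end Groth.Agent.H37.SepPts
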