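import Groth.Agent.H37.SepPts2
import Mathlib

/-!
# The smallest closed subgroup scheme through which a morphism from a geometrically reduced scheme
factors (SGA3 VI_B 7.1), via separable points

* `exists_factor_of_range_subset'`: factoring a morphism from a reduced scheme through an arbitrary
  closed subscheme, given set-theoretic containment.
* `exists_grpObj_of_reduced_closed`: a reduced closed subscheme `Z` of a group scheme over a field
  with `Z ×_k Z` reduced which is set-theoretically stable under the group operations is a subgroup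
  scheme.
* `exists_smallest_closedSubgroup_through`.
-/

set_option autoImplicit false
set_option linter.unusedSimpArgs false
universe u
open CategoryTheory CategoryTheory.Limits AlgebraicGeometry TensorProduct

namespace Groth.Agent.H37.SepPts

lemma exists_factor_of_range_subset' {T Z Y : Scheme.{u}} [IsReduced T] (z : Z ⟶ Y)
    [IsClosedImmersion z] (h : T ⟶ Y) (hh : ∀ t, h t ∈ Set.range ⇑z) :
    ∃ h' : T ⟶ Z, h' ≫ z = h := by
  have H : z.ker ≤ h.ker := by
    rw [GrpImage.ker_eq_vanishingIdeal h,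
      ← Scheme.IdealSheafData.le_support_iff_le_vanishingIdeal]
    refine SetLike.coe_subset_coe.mp ?_
    rw [Scheme.Hom.support_ker]
    show closure (Set.range ⇑h) ⊆ closure (Set.range ⇑z)
    exact closure_mono (by rintro _ ⟨t, rfl⟩; exact hh t)
  exact ⟨IsClosedImmersion.lift z h H, IsClosedImmersion.lift_fac z h H⟩

section Group

open MonoidalCategory CartesianMonoidalCategory MonObj

/-- a reduced closed subscheme of a group scheme over a field, with reduced self-product, which is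
set-theoretically stable under the group operations is a subgroup scheme -/
theorem exists_grpObj_of_reduced_closed (k : Type u) [Field k]
    (G : Over (Spec (CommRingCat.of k))) [GrpObj G] {Z : Scheme.{u}} (z : Z ⟶ G.left)
    [IsClosedImmersion z] [IsReduced Z] [IsReduced (pullback (z ≫ G.hom) (z ≫ G.hom))]
    (h1 : ∀ x, η[G].left x ∈ Set.range ⇑z) (hi : ∀ w, ι[G].left (z w) ∈ Set.range ⇑z)
    (hm : ∀ (m : pullback (z ≫ G.hom) (z ≫ G.hom) ⟶ pullback G.hom G.hom),
      m ≫ pullback.fst G.hom G.hom = pullback.fst (z ≫ G.hom) (z ≫ G.hom) ≫ z →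
      m ≫ pullback.snd G.hom G.hom = pullback.snd (z ≫ G.hom) (z ≫ G.hom) ≫ z →
      ∀ p, (m ≫ μ[G].left) p ∈ Set.range ⇑z) :
    ∃ (_ : GrpObj (Over.mk (z ≫ G.hom))) (i : Over.mk (z ≫ G.hom) ⟶ G),
      IsMonHom i ∧ i.left = z := by
  obtain ⟨hint, hsubs⟩ :=
    integral_subsingleton_of_iso_spec_field k (Iso.refl (Spec (CommRingCat.of k)))
  haveI := hint
  haveI := hsubs
  obtain ⟨muG, invG, oneG, hmu, hinv, hone⟩ :
    ∃ (muG : pullback G.hom G.hom ⟶ G.left) (invG : G.left ⟶ G.left)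
      (oneG : Spec (CommRingCat.of k) ⟶ G.left),
      muG = μ[G].left ∧ invG = ι[G].left ∧ oneG = η[G].left := ⟨_, _, _, rfl, rfl, rfl⟩
  obtain ⟨e', he'⟩ := exists_factor_of_range_subset z oneG (fun x => by rw [hone]; exact h1 x)
  obtain ⟨i', hi'⟩ := exists_factor_of_range_subset z (z ≫ invG) (fun w => by
    rw [Scheme.Hom.comp_apply, hinv]; exact hi w)
  have hcondm : (pullback.fst (z ≫ G.hom) (z ≫ G.hom) ≫ z) ≫ G.hom =
      (pullback.snd (z ≫ G.hom) (z ≫ G.hom) ≫ z) ≫ G.hom := by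
    simp only [Category.assoc]; exact pullback.condition
  obtain ⟨m, hm1, hm2⟩ : ∃ m : pullback (z ≫ G.hom) (z ≫ G.hom) ⟶ pullback G.hom G.hom,
      m ≫ pullback.fst G.hom G.hom = pullback.fst (z ≫ G.hom) (z ≫ G.hom) ≫ z ∧
      m ≫ pullback.snd G.hom G.hom = pullback.snd (z ≫ G.hom) (z ≫ G.hom) ≫ z :=
    ⟨pullback.lift _ _ hcondm, pullback.lift_fst _ _ _, pullback.lift_snd _ _ _⟩
  obtain ⟨c', hc'⟩ := exists_factor_of_range_subset z (m ≫ muG) (fun p => by
    rw [hmu]; exact hm m hm1 hm2 p)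
  obtain ⟨i, hi0⟩ : ∃ i : Over.mk (z ≫ G.hom) ⟶ G, i.left = z := ⟨Over.homMk z rfl, rfl⟩
  haveI : Mono i := by
    haveI : Mono i.left := by rw [hi0]; infer_instance
    exact Over.mono_of_mono_left i
  have hone' : ∃ e : 𝟙_ (Over (Spec (CommRingCat.of k))) ⟶ Over.mk (z ≫ G.hom),
      e ≫ i = η[G] := by
    refine ⟨Over.homMk e' ?_, ?_⟩
    · show e' ≫ z ≫ G.hom = 𝟙 _
      rw [← Category.assoc, he', hone]; exact GrpObjGrpd.η_hom G
    · ext
      show e' ≫ i.left = η[G].left
      rw [hi0, he', hone]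
  have hinvw : invG ≫ G.hom = G.hom := by rw [hinv]; exact GrpObjGrpd.ι_hom G
  have hinv' : ∀ {T : Over (Spec (CommRingCat.of k))} (x : T ⟶ Over.mk (z ≫ G.hom)),
      ∃ y : T ⟶ Over.mk (z ≫ G.hom), y ≫ i = (x ≫ i)⁻¹ := by
    intro T x
    have hx : x.left ≫ z ≫ G.hom = T.hom := Over.w x
    refine ⟨Over.homMk (x.left ≫ i') ?_, ?_⟩
    · show (x.left ≫ i') ≫ z ≫ G.hom = T.hom
      rw [Category.assoc, ← Category.assoc i', hi', Category.assoc, hinvw, hx]
    · ext
      show (x.left ≫ i') ≫ i.left = (x.left ≫ i.left) ≫ ι[G].left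
      rw [hi0, ← hinv]
      simp only [Category.assoc, hi']
  have hmul' : ∀ {T : Over (Spec (CommRingCat.of k))} (x y : T ⟶ Over.mk (z ≫ G.hom)),
      ∃ w : T ⟶ Over.mk (z ≫ G.hom), w ≫ i = (x ≫ i) * (y ≫ i) := by
    intro T x y
    have hx : x.left ≫ z ≫ G.hom = T.hom := Over.w x
    have hy : y.left ≫ z ≫ G.hom = T.hom := Over.w y
    have hxy : x.left ≫ z ≫ G.hom = y.left ≫ z ≫ G.hom := hx.trans hy.symm
    have hxy' : (x.left ≫ i.left) ≫ G.hom = (y.left ≫ i.left) ≫ G.hom := by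
      rw [hi0]; simpa only [Category.assoc] using hxy
    have hfin : ((x ≫ i) * (y ≫ i)).left =
        pullback.lift (x.left ≫ i.left) (y.left ≫ i.left) hxy' ≫ muG := by
      rw [hmu]; rfl
    have hw : (pullback.lift x.left y.left hxy ≫ c') ≫ z =
        pullback.lift (x.left ≫ i.left) (y.left ≫ i.left) hxy' ≫ muG := by
      rw [Category.assoc, hc', ← Category.assoc]
      congr 1
      apply pullback.hom_ext
      · rw [Category.assoc, hm1, pullback.lift_fst_assoc, pullback.lift_fst, hi0]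
      · rw [Category.assoc, hm2, pullback.lift_snd_assoc, pullback.lift_snd, hi0]
    refine ⟨Over.homMk (pullback.lift x.left y.left hxy ≫ c') ?_, ?_⟩
    · show (pullback.lift x.left y.left hxy ≫ c') ≫ z ≫ G.hom = T.hom
      rw [← Category.assoc, hw, ← hfin]
      exact Over.w _
    · ext
      show (pullback.lift x.left y.left hxy ≫ c') ≫ i.left = _
      rw [hi0, hw, hfin]
  obtain ⟨str, hstr⟩ := Groth.Agent.H30.ShQuot.exists_grpObj_of_closed i hmul' hinv' hone'
  exact ⟨str, i, hstr, hi0⟩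

/-- SGA3 VI_B 7.1: the smallest closed subgroup scheme through which a morphism from a geometrically
reduced scheme to a group scheme over a field factors exists and is geometrically reduced -/
theorem exists_smallest_closedSubgroup_through (k : Type u) [Field k]
    (G X : Over (Spec (CommRingCat.of k))) [GrpObj G] [GeometricallyReduced X.hom] (f : X ⟶ G) :
    ∃ (Γ : Over (Spec (CommRingCat.of k))) (_ : GrpObj Γ) (i : Γ ⟶ G), IsMonHom i ∧
      IsClosedImmersion i.left ∧ (∃ f' : X ⟶ Γ, f' ≫ i = f) ∧ GeometricallyReduced Γ.hom ∧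
      ∀ (Γ' : Over (Spec (CommRingCat.of k))) (_ : GrpObj Γ') (i' : Γ' ⟶ G), IsMonHom i' →
        IsClosedImmersion i'.left → (∃ f'' : X ⟶ Γ', f'' ≫ i' = f) →
        ∃ j : Γ ⟶ Γ', j ≫ i' = i := by
  obtain ⟨hint, hsubs⟩ :=
    integral_subsingleton_of_iso_spec_field k (Iso.refl (Spec (CommRingCat.of k)))
  haveI := hint
  haveI := hsubs
  obtain ⟨InR, hInR⟩ : ∃ InR : G.left → Prop, ∀ p, InR p ↔
      ∀ (Γ' : Over (Spec (CommRingCat.of k))) (_ : GrpObj Γ') (i' : Γ' ⟶ G), IsMonHom i' →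
        IsClosedImmersion i'.left → (∃ f'' : X ⟶ Γ', f'' ≫ i' = f) →
        p ∈ Set.range ⇑i'.left :=
    ⟨_, fun _ => Iff.rfl⟩
  obtain ⟨E, hE⟩ : ∃ E : Set G.left, E = {p | IsSepPt G.hom p ∧ InR p} := ⟨_, rfl⟩
  obtain ⟨C, hC⟩ : ∃ C : TopologicalSpace.Closeds G.left, (C : Set G.left) = closure E :=
    ⟨⟨_, isClosed_closure⟩, rfl⟩
  obtain ⟨Z, z, hz, hred, hrange, hfac⟩ : ∃ (Z : Scheme.{u}) (z : Z ⟶ G.left),
      IsClosedImmersion z ∧ IsReduced Z ∧ Set.range ⇑z = (C : Set G.left) ∧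
      ∀ {T : Scheme.{u}} [IsReduced T] (h : T ⟶ G.left), (∀ x, h x ∈ (C : Set G.left)) →
        ∃ h' : T ⟶ Z, h' ≫ z = h :=
    ⟨_, (Scheme.IdealSheafData.vanishingIdeal C).subschemeι, inferInstance,
      SubGrpd.isReduced_vanishingIdeal_subscheme C,
      by rw [Scheme.IdealSheafData.range_subschemeι,
        Scheme.IdealSheafData.coe_support_vanishingIdeal],
      fun h hh => SubGrpd.exists_factor_red C h hh⟩
  haveI := hz
  haveI := hred
  have hrange' : Set.range ⇑z = closure E := hrange.trans hC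
  have hzC : ∀ w, z w ∈ closure E := fun w => by rw [← hrange']; exact ⟨w, rfl⟩
  -- the closure of `E` lies in every admissible subgroup
  have hclR : ∀ p ∈ closure E, InR p := by
    intro p hp
    rw [hInR]
    intro Γ' inst i' hmon hcl hf''
    haveI := hcl
    refine closure_minimal ?_ i'.left.isClosedEmbedding.isClosed_range hp
    intro q hq
    rw [hE] at hq
    exact (hInR q).mp hq.2 Γ' inst i' hmon hcl hf''
  have F1 : ∀ {W : Scheme.{u}} (g : W ⟶ Spec (CommRingCat.of k)) [GeometricallyReduced g]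
      (h : W ⟶ G.left), h ≫ G.hom = g → (∀ w, InR (h w)) → ∀ w, h w ∈ closure E := by
    intro W g _ h hh hR w
    refine forall_mem_of_isClosed_of_separable_points g (⇑h ⁻¹' closure E)
      (isClosed_closure.preimage h.continuous) ?_ w
    intro k' _ _ _ x hx t
    show h (x t) ∈ closure E
    apply subset_closure
    rw [hE]
    exact ⟨⟨k', inferInstance, inferInstance, inferInstance, x ≫ h,
      by rw [Category.assoc, hh]; exact hx, t, Scheme.Hom.comp_apply _ _ _⟩, hR _⟩
  have F4 : ∀ (Γ' : Over (Spec (CommRingCat.of k))) (inst : GrpObj Γ') (i' : Γ' ⟶ G),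
      IsMonHom i' → IsClosedImmersion i'.left → (∃ f'' : X ⟶ Γ', f'' ≫ i' = f) →
      ∃ z' : Z ⟶ Γ'.left, z' ≫ i'.left = z := by
    intro Γ' inst i' hmon hcl hf''
    haveI := hcl
    exact exists_factor_of_range_subset' i'.left z
      (fun w => (hInR _).mp (hclR _ (hzC w)) Γ' inst i' hmon hcl hf'')
  -- stability of `InR` under the group operations
  have hR1 : ∀ x, InR (η[G].left x) := by
    intro x
    rw [hInR]
    intro Γ' inst i' hmon hcl hf''
    letI := inst
    haveI := hmon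
    have h2 : η[Γ'].left ≫ i'.left = η[G].left := by
      rw [← Over.comp_left, IsMonHom.one_hom]
    rw [← h2, Scheme.Hom.comp_apply]
    exact ⟨_, rfl⟩
  have hRi : ∀ w, InR (ι[G].left (z w)) := by
    intro w
    rw [hInR]
    intro Γ' inst i' hmon hcl hf''
    letI := inst
    haveI := hmon
    obtain ⟨z', hz'⟩ := F4 Γ' inst i' hmon hcl hf''
    have h2 : ι[Γ'].left ≫ i'.left = i'.left ≫ ι[G].left := by
      rw [← Over.comp_left, ← Over.comp_left, GrpObj.inv_hom]
    refine ⟨ι[Γ'].left (z' w), ?_⟩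
    rw [← Scheme.Hom.comp_apply ι[Γ'].left i'.left (z' w), h2, Scheme.Hom.comp_apply,
      ← Scheme.Hom.comp_apply z' i'.left w, hz']
  have hRm : ∀ (m : pullback (z ≫ G.hom) (z ≫ G.hom) ⟶ pullback G.hom G.hom),
      m ≫ pullback.fst G.hom G.hom = pullback.fst (z ≫ G.hom) (z ≫ G.hom) ≫ z →
      m ≫ pullback.snd G.hom G.hom = pullback.snd (z ≫ G.hom) (z ≫ G.hom) ≫ z →
      ∀ p, InR ((m ≫ μ[G].left) p) := by
    intro m hm1 hm2 p
    rw [hInR]
    intro Γ' inst i' hmon hcl hf''
    letI := inst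
    haveI := hmon
    obtain ⟨z', hz'⟩ := F4 Γ' inst i' hmon hcl hf''
    have hΓ' : i'.left ≫ G.hom = Γ'.hom := Over.w i'
    obtain ⟨a₁, ha₁⟩ : ∃ a₁ : Over.mk (pullback.fst (z ≫ G.hom) (z ≫ G.hom) ≫ z ≫ G.hom) ⟶ Γ',
        a₁.left = pullback.fst (z ≫ G.hom) (z ≫ G.hom) ≫ z' :=
      ⟨Over.homMk (pullback.fst (z ≫ G.hom) (z ≫ G.hom) ≫ z') (by
        show (pullback.fst (z ≫ G.hom) (z ≫ G.hom) ≫ z') ≫ Γ'.hom =
          pullback.fst (z ≫ G.hom) (z ≫ G.hom) ≫ z ≫ G.hom
        rw [← hΓ', Category.assoc, ← Category.assoc z', hz']), rfl⟩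
    obtain ⟨a₂, ha₂⟩ : ∃ a₂ : Over.mk (pullback.fst (z ≫ G.hom) (z ≫ G.hom) ≫ z ≫ G.hom) ⟶ Γ',
        a₂.left = pullback.snd (z ≫ G.hom) (z ≫ G.hom) ≫ z' :=
      ⟨Over.homMk (pullback.snd (z ≫ G.hom) (z ≫ G.hom) ≫ z') (by
        show (pullback.snd (z ≫ G.hom) (z ≫ G.hom) ≫ z') ≫ Γ'.hom =
          pullback.fst (z ≫ G.hom) (z ≫ G.hom) ≫ z ≫ G.hom
        rw [← hΓ', Category.assoc, ← Category.assoc z', hz']
        exact pullback.condition.symm), rfl⟩
    have hw : (a₁.left ≫ i'.left) ≫ G.hom = (a₂.left ≫ i'.left) ≫ G.hom := by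
      have e1 := Over.w (a₁ ≫ i')
      have e2 := Over.w (a₂ ≫ i')
      exact e1.trans e2.symm
    have hfin : ((a₁ ≫ i') * (a₂ ≫ i')).left =
        pullback.lift (a₁.left ≫ i'.left) (a₂.left ≫ i'.left) hw ≫ μ[G].left := rfl
    have hl : pullback.lift (a₁.left ≫ i'.left) (a₂.left ≫ i'.left) hw = m := by
      apply pullback.hom_ext
      · rw [pullback.lift_fst, hm1, ha₁, Category.assoc, hz']
      · rw [pullback.lift_snd, hm2, ha₂, Category.assoc, hz']
    have hprod : ((a₁ * a₂) ≫ i').left = m ≫ μ[G].left := by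
      rw [MonObj.mul_comp, hfin, hl]
    refine ⟨(a₁ * a₂).left p, ?_⟩
    rw [← hprod, Over.comp_left, Scheme.Hom.comp_apply]
  -- separable points in `E` factor through `Z`
  have hgr : GeometricallyReduced (z ≫ G.hom) := by
    refine geometricallyReduced_of_dense_separable_points (z ≫ G.hom) (⇑z ⁻¹' E) ?_ ?_
    · intro σ hσ
      rw [Set.mem_preimage, hE] at hσ
      obtain ⟨⟨k', iF, iA, iG, x, hx, t, hxt⟩, -⟩ := hσ
      haveI : Subsingleton ↥(Spec (CommRingCat.of k')) :=
        inferInstanceAs (Subsingleton (PrimeSpectrum k'))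
      obtain ⟨y, hy⟩ := hfac x (fun t' => by
        rw [hC, Subsingleton.elim t' t, hxt]; exact hzC σ)
      refine ⟨k', iF, iA, iG, y, by rw [← Category.assoc, hy]; exact hx, t, ?_⟩
      apply z.isClosedEmbedding.injective
      rw [← Scheme.Hom.comp_apply, hy, hxt]
    · rw [z.isClosedEmbedding.isInducing.dense_iff]
      intro w
      have hsub : E ⊆ ⇑z '' (⇑z ⁻¹' E) := by
        intro p hp
        have hpC : p ∈ Set.range ⇑z := by rw [hrange']; exact subset_closure hp
        obtain ⟨w', rfl⟩ := hpC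
        exact ⟨w', hp, rfl⟩
      exact closure_mono hsub (hzC w)
  haveI := hgr
  haveI hP : IsReduced (pullback (z ≫ G.hom) (z ≫ G.hom)) :=
    Groth.Agent.S4628.result (z ≫ G.hom) (z ≫ G.hom)
  haveI hPgr : GeometricallyReduced
      (pullback.fst (z ≫ G.hom) (z ≫ G.hom) ≫ z ≫ G.hom) :=
    geometricallyReduced_prod (z ≫ G.hom) (z ≫ G.hom)
  haveI hkk : Algebra.IsGeometricallyReduced k k := by
    rw [Algebra.isGeometricallyReduced_field_iff]
    exact isReduced_of_injective
      (Algebra.TensorProduct.rid k k (AlgebraicClosure k)).toRingEquiv.toRingHom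
      (Algebra.TensorProduct.rid k k (AlgebraicClosure k)).injective
  have hmuw : μ[G].left ≫ G.hom = pullback.fst G.hom G.hom ≫ G.hom := Over.w μ[G]
  have hιw : ι[G].left ≫ G.hom = G.hom := GrpObjGrpd.ι_hom G
  obtain ⟨str, i, hmonI, hi0⟩ := exists_grpObj_of_reduced_closed k G z
    (fun x => by
      rw [hrange']
      apply subset_closure
      rw [hE]
      exact ⟨⟨k, inferInstance, inferInstance, hkk, η[G].left,
        (GrpObjGrpd.η_hom G).trans (Spec.map_id _).symm, x, rfl⟩, hR1 x⟩)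
    (fun w => by
      rw [hrange', ← Scheme.Hom.comp_apply]
      exact F1 (z ≫ G.hom) (z ≫ ι[G].left) (by rw [Category.assoc, hιw])
        (fun w' => by rw [Scheme.Hom.comp_apply]; exact hRi w') w)
    (fun m hm1 hm2 p => by
      rw [hrange']
      exact F1 (pullback.fst (z ≫ G.hom) (z ≫ G.hom) ≫ z ≫ G.hom) (m ≫ μ[G].left)
        (by rw [Category.assoc, hmuw, ← Category.assoc, hm1, Category.assoc])
        (hRm m hm1 hm2) p)
  -- `f` factors
  haveI hXred : IsReduced X.left :=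
    self_of_isIntegral_of_geometrically (P := IsReduced)
      (inferInstance : GeometricallyReduced X.hom).geometrically_isReduced
  have hfR : ∀ w, InR (f.left w) := by
    intro w
    rw [hInR]
    rintro Γ' inst i' hmon hcl ⟨f'', hf''⟩
    refine ⟨f''.left w, ?_⟩
    rw [← Scheme.Hom.comp_apply, ← Over.comp_left, hf'']
  obtain ⟨f₀, hf₀⟩ := hfac f.left (fun w => by
    rw [hC]; exact F1 X.hom f.left (Over.w f) hfR w)
  refine ⟨Over.mk (z ≫ G.hom), str, i, hmonI, by rw [hi0]; exact hz, ?_, hgr, ?_⟩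
  · refine ⟨Over.homMk f₀ ?_, ?_⟩
    · show f₀ ≫ z ≫ G.hom = X.hom
      rw [← Category.assoc, hf₀]; exact Over.w f
    · ext
      show f₀ ≫ i.left = f.left
      rw [hi0, hf₀]
  · intro Γ' inst i' hmon hcl hf''
    obtain ⟨z', hz'⟩ := F4 Γ' inst i' hmon hcl hf''
    refine ⟨Over.homMk z' ?_, ?_⟩
    · show z' ≫ Γ'.hom = z ≫ G.hom
      rw [← Over.w i', ← Category.assoc, hz']
    · ext
      show z' ≫ i'.left = i.left
      rw [hz', hi0]

end Group

end Groth.Agent.H37.SepPts
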