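import Groth.Agent.H37.AbIsogeny
import Groth.Agent.H37.GrpSmoothImage
import Groth.Agent.H37.GrpConn
import Groth.Agent.H37.SepPts
import Groth.Agent.H37.SepPts3
import Groth.Agent.S0346

/-!
# The maximal abelian subvariety of a commutative group scheme locally of finite type over a field

Images of abelian varieties under homomorphisms are abelian subvarieties, two abelian
subvarieties are contained in a third (their sum, for commutative `G`), and the transcendence
degree of the generic point is bounded; so there is a largest abelian subvariety, through which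
every homomorphism from an abelian variety factors.
-/

universe u

open CategoryTheory CategoryTheory.Limits MonoidalCategory CartesianMonoidalCategory MonObj GrpObj
  AlgebraicGeometry

namespace Groth.Agent.H37.MaxAbSub

open Groth.Agent.H37.GrpImage Groth.Agent.H37.SepPts Groth.Agent.H54

variable (k : Type u) [Field k]

/-- `g` is the generic point of an abelian subvariety of `G` -/
def Q (G : Over (Spec (CommRingCat.of k))) [GrpObj G] (g : G.left) : Prop :=
  ∃ (M : Over (Spec (CommRingCat.of k))) (_ : GrpObj M) (i : M ⟶ G), IsMonHom i ∧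
    IsClosedImmersion i.left ∧ IsProper M.hom ∧ GeometricallyIntegral M.hom ∧
    closure ({g} : Set G.left) = Set.range ⇑i.left

theorem isReduced_of_geometricallyReduced (A : Over (Spec (CommRingCat.of k)))
    [GeometricallyReduced A.hom] : IsReduced A.left :=
  (‹GeometricallyReduced A.hom›).geometrically_isReduced (𝟙 (Spec (CommRingCat.of k)))
    (𝟙 A.left) A.hom IsPullback.of_id_fst

theorem exists_image (G A : Over (Spec (CommRingCat.of k))) [GrpObj G]
    [LocallyOfFiniteType G.hom] [GrpObj A] [IsProper A.hom] [GeometricallyReduced A.hom]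
    [ConnectedSpace ↥A.left] (φ : A ⟶ G) [IsMonHom φ] :
    ∃ g : G.left, Q k G g ∧ closure ({g} : Set G.left) = Set.range ⇑φ.left := by
  obtain ⟨hint, hsubs⟩ :=
    integral_subsingleton_of_iso_spec_field k (Iso.refl (Spec (CommRingCat.of k)))
  haveI := hint
  haveI := hsubs
  haveI : CompactSpace ↥A.left := QuasiCompact.compactSpace_of_compactSpace (Y := Spec _) A.hom
  haveI : QuasiSeparatedSpace ↥G.left := quasiSeparatedSpace_of_grpObj_field k G
  haveI : QuasiCompact φ.left := inferInstance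
  obtain ⟨H', str, i, f', hi, hf', hfi, hcl, hker, hqc, hsurj⟩ := exists_image_grp k A G φ
  letI := str
  haveI := hi
  haveI := hf'
  haveI := hcl
  haveI := hqc
  haveI := hsurj
  haveI hAsm : Smooth A.hom := by
    letI : GrpObj (Over.mk A.hom) := inferInstanceAs (GrpObj A)
    exact smooth_of_grpObj A.hom
  haveI : IsReduced A.left := isReduced_of_geometricallyReduced k A
  haveI : IsSchemeTheoreticallyDominant f'.left := (isSchemeTheoreticallyDominant_iff _).mpr hker
  haveI : IsReduced H'.left := IsSchemeTheoreticallyDominant.isReduced f'.left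
  have hrange : Set.range ⇑i.left = Set.range ⇑φ.left := by
    rw [← hfi]
    show Set.range ⇑i.left = Set.range ⇑(f'.left ≫ i.left)
    ext x
    constructor
    · rintro ⟨y, rfl⟩
      obtain ⟨a, rfl⟩ := f'.left.surjective y
      exact ⟨a, rfl⟩
    · rintro ⟨a, rfl⟩
      exact ⟨f'.left a, rfl⟩
  haveI : QuasiCompact A.hom := inferInstance
  have hsm : Smooth (i.left ≫ G.hom) := smooth_reduced_image k A G φ H'.left i.left hrange
  haveI : Smooth H'.hom := by rw [← Over.w i]; exact hsm
  haveI : GeometricallyReduced H'.hom := AbIsogeny.geometricallyReduced_of_smooth H'.hom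
  haveI : ConnectedSpace ↥H'.left := f'.left.surjective.connectedSpace f'.left.continuous
  haveI : GeometricallyIntegral H'.hom :=
    Groth.Agent.H74.AbGI.geometricallyIntegral_of_connected k H'
  haveI : IsSeparated H'.hom := (Groth.Agent.S0346.result _ H').1.mpr inferInstance
  haveI : UniversallyClosed (f'.left ≫ H'.hom) := by rw [Over.w f']; infer_instance
  haveI : UniversallyClosed H'.hom := UniversallyClosed.of_comp_surjective f'.left H'.hom
  haveI : LocallyOfFiniteType H'.hom := by rw [← Over.w i]; infer_instance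
  haveI : IsProper H'.hom := {}
  have hint' : ∀ (q : H'.left ⟶ Spec (CommRingCat.of k)) [GeometricallyIntegral q],
      IsIntegral H'.left := fun q _ => GeometricallyIntegral.isIntegral_of_subsingleton q
  haveI : IsIntegral H'.left := hint' H'.hom
  have h1 : closure ({genericPoint ↥H'.left} : Set ↥H'.left) = Set.univ :=
    (genericPoint_spec (α := ↥H'.left)).def
  have h2 : closure ({i.left (genericPoint ↥H'.left)} : Set G.left) = Set.range ⇑i.left := by
    calc closure ({i.left (genericPoint ↥H'.left)} : Set G.left)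
        = closure (⇑i.left '' {genericPoint ↥H'.left}) := by rw [Set.image_singleton]
      _ = ⇑i.left '' closure {genericPoint ↥H'.left} :=
          i.left.isClosedEmbedding.closure_image_eq _
      _ = Set.range ⇑i.left := by rw [h1, Set.image_univ]
  exact ⟨i.left (genericPoint ↥H'.left),
    ⟨H', str, i, hi, hcl, inferInstance, inferInstance, h2⟩, h2.trans hrange⟩

theorem exists_sum (G : Over (Spec (CommRingCat.of k))) [GrpObj G] [IsCommMonObj G]
    [LocallyOfFiniteType G.hom] (g₁ g₂ : G.left) (h₁ : Q k G g₁) (h₂ : Q k G g₂) :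
    ∃ g₃ : G.left, Q k G g₃ ∧ g₃ ⤳ g₁ ∧ g₃ ⤳ g₂ := by
  obtain ⟨hint, hsubs⟩ :=
    integral_subsingleton_of_iso_spec_field k (Iso.refl (Spec (CommRingCat.of k)))
  haveI := hint
  haveI := hsubs
  obtain ⟨M₁, str₁, i₁, hi₁, hcl₁, hpr₁, hgi₁, hg₁⟩ := h₁
  obtain ⟨M₂, str₂, i₂, hi₂, hcl₂, hpr₂, hgi₂, hg₂⟩ := h₂
  letI := str₁
  letI := str₂
  haveI := hi₁
  haveI := hi₂
  haveI := hpr₁
  haveI := hpr₂
  haveI := hgi₁
  haveI := hgi₂
  haveI : IsProper (M₁ ⊗ M₂).hom := by dsimp; infer_instance
  haveI : GeometricallyReduced (M₁ ⊗ M₂).hom := by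
    show GeometricallyReduced (pullback.fst M₁.hom M₂.hom ≫ M₁.hom)
    exact geometricallyReduced_prod M₁.hom M₂.hom
  have hint' : ∀ (q : M₂.left ⟶ Spec (CommRingCat.of k)) [GeometricallyIntegral q],
      IsIntegral M₂.left := fun q _ => GeometricallyIntegral.isIntegral_of_subsingleton q
  haveI : IsIntegral M₂.left := hint' M₂.hom
  have hirr : ∀ (p₁ : M₁.left ⟶ Spec (CommRingCat.of k)) (p₂ : M₂.left ⟶ Spec (CommRingCat.of k))
      [GeometricallyIrreducible p₁], IrreducibleSpace ↥(pullback p₁ p₂) :=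
    fun p₁ p₂ _ => inferInstance
  haveI : IrreducibleSpace ↥(M₁ ⊗ M₂).left := hirr M₁.hom M₂.hom
  haveI : ConnectedSpace ↥(M₁ ⊗ M₂).left := inferInstance
  obtain ⟨m, hm⟩ : ∃ m : M₁ ⊗ M₂ ⟶ G,
      m = lift (fst M₁ M₂ ≫ i₁) (snd M₁ M₂ ≫ i₂) ≫ μ[G] := ⟨_, rfl⟩
  haveI : IsMonHom m := by rw [hm]; infer_instance
  obtain ⟨g₃, hQ₃, hg₃⟩ := exists_image k G (M₁ ⊗ M₂) m
  have hm' : m = (fst M₁ M₂ ≫ i₁) * (snd M₁ M₂ ≫ i₂) := hm
  have hj₁ : lift (𝟙 M₁) (toUnit M₁ ≫ η[M₂]) ≫ m = i₁ := by
    rw [hm', MonObj.comp_mul, ← Category.assoc, lift_fst, Category.id_comp, ← Category.assoc,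
      lift_snd, Category.assoc, IsMonHom.one_hom, ← Hom.one_def, _root_.mul_one]
  have hj₂ : lift (toUnit M₂ ≫ η[M₁]) (𝟙 M₂) ≫ m = i₂ := by
    rw [hm', MonObj.comp_mul, ← Category.assoc, lift_fst, Category.assoc, IsMonHom.one_hom,
      ← Hom.one_def, ← Category.assoc, lift_snd, Category.id_comp, _root_.one_mul]
  refine ⟨g₃, hQ₃, ?_, ?_⟩
  · rw [specializes_iff_mem_closure, hg₃]
    have hg₁' : g₁ ∈ Set.range ⇑i₁.left := hg₁ ▸ subset_closure rfl
    obtain ⟨y, rfl⟩ := hg₁'
    exact ⟨(lift (𝟙 M₁) (toUnit M₁ ≫ η[M₂])).left y,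
      congrArg (fun h : M₁ ⟶ G => h.left y) hj₁⟩
  · rw [specializes_iff_mem_closure, hg₃]
    have hg₂' : g₂ ∈ Set.range ⇑i₂.left := hg₂ ▸ subset_closure rfl
    obtain ⟨y, rfl⟩ := hg₂'
    exact ⟨(lift (toUnit M₂ ≫ η[M₁]) (𝟙 M₂)).left y,
      congrArg (fun h : M₂ ⟶ G => h.left y) hj₂⟩

section Max

variable (G : Over (Spec (CommRingCat.of k))) [GrpObj G] [LocallyOfFiniteType G.hom]

omit [LocallyOfFiniteType G.hom] in
theorem exists_bound (p : G.left ⟶ Spec (CommRingCat.of k)) [LocallyOfFiniteType p] :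
    ∃ N : ℕ, ∀ g : G.left, Q k G g → tdeg p g ≤ N := by
  obtain ⟨hint, hsubs⟩ :=
    integral_subsingleton_of_iso_spec_field k (Iso.refl (Spec (CommRingCat.of k)))
  haveI := hint
  haveI := hsubs
  obtain ⟨e, he⟩ : ∃ e : G.left, e = η[G].left (IsLocalRing.closedPoint k) := ⟨_, rfl⟩
  have hC := irreducibleComponent_mem_irreducibleComponents e
  obtain ⟨c0, hc0⟩ := QuasiSober.sober hC.1 (isClosed_of_mem_irreducibleComponents _ hC)
  refine ⟨tdeg p c0, fun g hQ => ?_⟩
  obtain ⟨M, str, i, hi, hcl, hpr, hgi, hg⟩ := hQ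
  letI := str
  haveI := hi
  haveI := hgi
  have hint' : ∀ (q : M.left ⟶ Spec (CommRingCat.of k)) [GeometricallyIntegral q],
      IsIntegral M.left := fun q _ => GeometricallyIntegral.isIntegral_of_subsingleton q
  haveI : IsIntegral M.left := hint' M.hom
  have hconn : _root_.IsPreconnected (Set.range ⇑i.left) := isPreconnected_range i.left.continuous
  have hemem : e ∈ Set.range ⇑i.left := by
    rw [he]
    exact ⟨η[M].left (IsLocalRing.closedPoint k),
      congrArg (fun h : 𝟙_ (Over (Spec (CommRingCat.of k))) ⟶ G =>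
        h.left (IsLocalRing.closedPoint k)) (IsMonHom.one_hom (f := i))⟩
  have hsub : Set.range ⇑i.left ⊆ connectedComponent e := hconn.subset_connectedComponent hemem
  have hcc : connectedComponent e = irreducibleComponent e := by
    rw [he]; exact (grp_connectedComponent_one k G).1
  have hgm : g ∈ closure ({c0} : Set G.left) := by
    rw [hc0.def, ← hcc]
    exact hsub (hg ▸ subset_closure rfl)
  exact tdeg_le_of_specializes p (specializes_iff_mem_closure.mpr hgm)

theorem exists_max (p : G.left ⟶ Spec (CommRingCat.of k)) [LocallyOfFiniteType p] :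
    ∃ g : G.left, Q k G g ∧ ∀ g' : G.left, Q k G g' → tdeg p g' ≤ tdeg p g := by
  obtain ⟨hint, hsubs⟩ :=
    integral_subsingleton_of_iso_spec_field k (Iso.refl (Spec (CommRingCat.of k)))
  haveI := hint
  haveI := hsubs
  obtain ⟨N, hN⟩ := exists_bound k G p
  obtain ⟨g₀, hQ₀⟩ : ∃ g₀ : G.left, Q k G g₀ := by
    haveI : IsProper (𝟙_ (Over (Spec (CommRingCat.of k)))).hom := by
      show IsProper (𝟙 (Spec (CommRingCat.of k))); infer_instance
    haveI : GeometricallyReduced (𝟙_ (Over (Spec (CommRingCat.of k)))).hom := by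
      show GeometricallyReduced (𝟙 (Spec (CommRingCat.of k)))
      exact AbIsogeny.geometricallyReduced_of_smooth _
    haveI : ConnectedSpace ↥(𝟙_ (Over (Spec (CommRingCat.of k)))).left := by
      show ConnectedSpace ↥(Spec (CommRingCat.of k)); infer_instance
    obtain ⟨g, hQ, -⟩ := exists_image k G (𝟙_ _) η[G]
    exact ⟨g, hQ⟩
  by_contra hcon
  push Not at hcon
  have hall : ∀ j : ℕ, ∃ g : G.left, Q k G g ∧ j ≤ tdeg p g := by
    intro j
    induction j with
    | zero => exact ⟨g₀, hQ₀, Nat.zero_le _⟩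
    | succ j ih =>
      obtain ⟨g, hQ, hj⟩ := ih
      obtain ⟨g', hQ', hlt⟩ := hcon g hQ
      exact ⟨g', hQ', by omega⟩
  obtain ⟨g, hQ, hj⟩ := hall (N + 1)
  have := hN g hQ
  omega

theorem main [IsCommMonObj G] :
    ∃ (M : Over (Spec (CommRingCat.of k))) (_ : GrpObj M) (i : M ⟶ G), IsMonHom i ∧
      IsClosedImmersion i.left ∧ IsProper M.hom ∧ GeometricallyIntegral M.hom ∧
      ∀ (A : Over (Spec (CommRingCat.of k))) [GrpObj A] [IsProper A.hom]
        [GeometricallyReduced A.hom] [ConnectedSpace ↥A.left]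
        (φ : A ⟶ G), IsMonHom φ → ∃ ψ : A ⟶ M, ψ ≫ i = φ := by
  obtain ⟨p, hp⟩ : ∃ p : G.left ⟶ Spec (CommRingCat.of k), p = G.hom := ⟨_, rfl⟩
  haveI : LocallyOfFiniteType p := by rw [hp]; infer_instance
  obtain ⟨g, hQ, hmax⟩ := exists_max k G p
  obtain ⟨M, str, i, hi, hcl, hpr, hgi, hg⟩ := id hQ
  refine ⟨M, str, i, hi, hcl, hpr, hgi, ?_⟩
  intro A _ _ _ _ φ hφ
  haveI := hφ
  obtain ⟨g', hQ', hg'⟩ := exists_image k G A φ
  obtain ⟨g₃, hQ₃, h31, h32⟩ := exists_sum k G g g' hQ hQ'
  have hle := hmax g₃ hQ₃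
  have heq : g₃ = g := by
    by_contra hne
    have := tdeg_lt_of_specializes p h31 hne
    omega
  rw [heq] at h32
  have hsub : ∀ a, φ.left a ∈ Set.range ⇑i.left := by
    intro a
    rw [← hg]
    have hmem : φ.left a ∈ closure ({g'} : Set G.left) := by rw [hg']; exact ⟨a, rfl⟩
    exact (specializes_iff_closure_subset.mp h32) hmem
  haveI : IsReduced A.left := isReduced_of_geometricallyReduced k A
  haveI := hcl
  obtain ⟨h', hh'⟩ := exists_factor_of_range_subset' i.left φ.left hsub
  refine ⟨Over.homMk h' ?_, ?_⟩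
  · show h' ≫ M.hom = A.hom
    rw [← Over.w i, ← Category.assoc, hh', Over.w φ]
  · ext
    exact hh'

end Max

end Groth.Agent.H37.MaxAbSub
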