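import Groth.Prelude.Def_W4bk6langav68Chow
import Groth.Agent.H37.MaxAbSub
import Mathlib

set_option autoImplicit false
universe u
open CategoryTheory MonoidalCategory CartesianMonoidalCategory MonObj GrpObj AlgebraicGeometry

namespace Groth.Agent.H37.ChowFormal

section general
open scoped Obj
open Functor.LaxMonoidal
universe v₁ v₂ v₃ u₁ u₂ u₃
variable {C : Type u₁} [Category.{v₁} C] [CartesianMonoidalCategory C]
  {D : Type u₂} [Category.{v₂} D] [CartesianMonoidalCategory D]
  {E : Type u₃} [Category.{v₃} E] [CartesianMonoidalCategory E]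

/-- Components of a natural transformation `F ⋙ G ⟶ H` between finite-product-preserving functors
are monoid homomorphisms, for the *nested* monoid structure on `G.obj (F.obj M)`. -/
theorem isMonHom_app_comp (F : C ⥤ D) (G : D ⥤ E) (H : C ⥤ E) [F.Monoidal] [G.Monoidal]
    [H.Monoidal] (α : F ⋙ G ⟶ H) (M : C) [MonObj M] :
    IsMonHom (M := G.obj (F.obj M)) (N := H.obj M) (α.app M) where
  one_hom := by
    have h1 : (ε G ≫ G.map (ε F)) ≫ α.app (𝟙_ C) = ε H :=
      NatTrans.IsMonoidal.unit (τ := α)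
    have h2 : G.map (F.map η[M]) ≫ α.app M = α.app (𝟙_ C) ≫ H.map η[M] := α.naturality η[M]
    calc η[G.obj (F.obj M)] ≫ α.app M
        = (ε G ≫ G.map (ε F)) ≫ (G.map (F.map η[M]) ≫ α.app M) := by
          simp only [Functor.obj.η_def, Functor.map_comp, Category.assoc]
      _ = ((ε G ≫ G.map (ε F)) ≫ α.app (𝟙_ C)) ≫ H.map η[M] := by
          rw [h2]; simp only [Category.assoc]
      _ = η[H.obj M] := by rw [h1, Functor.obj.η_def]
  mul_hom := by
    have h1 : (Functor.LaxMonoidal.μ G (F.obj M) (F.obj M) ≫ G.map (Functor.LaxMonoidal.μ F M M)) ≫ α.app (M ⊗ M) =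
        (α.app M ⊗ₘ α.app M) ≫ Functor.LaxMonoidal.μ H M M :=
      NatTrans.IsMonoidal.tensor (τ := α) M M
    have h2 : G.map (F.map μ[M]) ≫ α.app M = α.app (M ⊗ M) ≫ H.map μ[M] := α.naturality μ[M]
    calc μ[G.obj (F.obj M)] ≫ α.app M
        = (Functor.LaxMonoidal.μ G (F.obj M) (F.obj M) ≫ G.map (Functor.LaxMonoidal.μ F M M)) ≫ (G.map (F.map μ[M]) ≫ α.app M) := by
          simp only [Functor.obj.μ_def, Functor.map_comp, Category.assoc]
      _ = ((Functor.LaxMonoidal.μ G (F.obj M) (F.obj M) ≫ G.map (Functor.LaxMonoidal.μ F M M)) ≫ α.app (M ⊗ M)) ≫ H.map μ[M] := by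
          rw [h2]; simp only [Category.assoc]
      _ = (α.app M ⊗ₘ α.app M) ≫ μ[H.obj M] := by
          rw [h1, Functor.obj.μ_def, Category.assoc]

end general

section J
variable {S S' S'' : Scheme.{u}}

/-- The canonical isomorphism `(X_{S'})_{S''} ≅ X_{S''}`. -/
noncomputable def JIso (f : S'' ⟶ S') (g : S' ⟶ S) (h : S'' ⟶ S) (hc : f ≫ g = h) (X : Over S) :
    Red.bc f (Red.bc g X) ≅ Red.bc h X where
  hom := (Over.pullbackComp f g).inv.app X ≫ eqToHom (congrArg (fun φ => Red.bc φ X) hc)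
  inv := eqToHom (congrArg (fun φ => Red.bc φ X) hc.symm) ≫ (Over.pullbackComp f g).hom.app X
  hom_inv_id := by subst hc; simp
  inv_hom_id := by subst hc; simp

theorem J_isMonHom (f : S'' ⟶ S') (g : S' ⟶ S) (h : S'' ⟶ S) (hc : f ≫ g = h) (G : Over S)
    [GrpObj G] :
    IsMonHom (M := Red.bc f (Red.bc g G)) (N := Red.bc h G)
      ((Over.pullbackComp f g).inv.app G ≫ eqToHom (congrArg (fun φ => Red.bc φ G) hc)) := by
  subst hc
  simp only [eqToHom_refl, Category.comp_id]
  exact isMonHom_app_comp (Over.pullback g) (Over.pullback f) (Over.pullback (f ≫ g))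
    (Over.pullbackComp f g).inv G

instance (f : S'' ⟶ S') (g : S' ⟶ S) (h : S'' ⟶ S) (hc : f ≫ g = h) (G : Over S) [GrpObj G] :
    IsMonHom (JIso f g h hc G).hom := J_isMonHom f g h hc G

theorem J_naturality (f : S'' ⟶ S') (g : S' ⟶ S) (h : S'' ⟶ S) (hc : f ≫ g = h) {X Y : Over S}
    (a : X ⟶ Y) :
    (JIso f g h hc X).hom ≫ (Over.pullback h).map a =
      (Over.pullback f).map ((Over.pullback g).map a) ≫ (JIso f g h hc Y).hom := by
  subst hc
  simp only [JIso, eqToHom_refl, Category.comp_id]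
  exact ((Over.pullbackComp f g).inv.naturality a).symm

theorem J_inv_naturality (f : S'' ⟶ S') (g : S' ⟶ S) (h : S'' ⟶ S) (hc : f ≫ g = h)
    {X Y : Over S} (a : X ⟶ Y) :
    (Over.pullback h).map a ≫ (JIso f g h hc Y).inv =
      (JIso f g h hc X).inv ≫ (Over.pullback f).map ((Over.pullback g).map a) := by
  rw [Iso.comp_inv_eq, Category.assoc, Iso.eq_inv_comp]
  exact J_naturality f g h hc a

end J

section AV
variable (k K : Type u) [Field k] [Field K] [Algebra k K]

instance bc_isProper (B : Over (Spec (CommRingCat.of k))) [IsProper B.hom] :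
    IsProper (Red.bc (AbVar.ext k K) B).hom :=
  inferInstanceAs (IsProper (Limits.pullback.snd B.hom (AbVar.ext k K)))

instance bc_geometricallyIntegral (B : Over (Spec (CommRingCat.of k)))
    [GeometricallyIntegral B.hom] : GeometricallyIntegral (Red.bc (AbVar.ext k K) B).hom :=
  inferInstanceAs (GeometricallyIntegral (Limits.pullback.snd B.hom (AbVar.ext k K)))

end AV

end Groth.Agent.H37.ChowFormal
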