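import Groth.Agent.H37.GrpdConn
import Groth.Agent.H37.GrpObjGrpd
import Groth.Agent.H9.DimBaseField
import Groth.Agent.H9.Equidim
import Groth.Agent.H9.SchemeDimStalk
import Groth.Agent.H24.DimLift

/-!
# Dimension theory of groupoid schemes over a field

* `localDim_eq_of_isPullback_field`: the local dimension is invariant under extension of the base
  field (for an arbitrary cartesian square).
* `grpd_localDim_eq_e`: in a groupoid over a field the local dimension at any point equals the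
  local dimension at the identity.
* `grpd_exists_dim`: all local dimensions equal `dim R`, a natural number.
* `grpd_stalk_dim`: the local rings at closed points have dimension `dim R`.
-/

set_option autoImplicit false
universe u
open CategoryTheory CategoryTheory.Limits AlgebraicGeometry
open Grpd

namespace Groth.Agent.H37

/-- The local dimension is invariant under extension of the base field. -/
theorem localDim_eq_of_isPullback_field {k : Type u} [Field k]
    {R P U V : Scheme.{u}} (eU : U ≅ Spec (CommRingCat.of k)) (K : Type u) [Field K]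
    (eV : V ≅ Spec (CommRingCat.of K))
    (s : R ⟶ U) [LocallyOfFiniteType s] (v : V ⟶ U) (π : P ⟶ R) (q : P ⟶ V)
    (sq : IsPullback π q s v) (y : P) :
    FlatMor.localDim P y = FlatMor.localDim R (π y) := by
  have hdim : ∀ U' : R.Opens,
      topologicalKrullDim ↥(π ⁻¹ᵁ U') = topologicalKrullDim ↥U' := by
    intro U'
    have sq1 := (isPullback_morphismRestrict π U').paste_vert sq
    have sq2 : IsPullback (𝟙 (U' : Scheme.{u})) (U'.ι ≫ s) ((U'.ι ≫ s) ≫ eU.hom) eU.hom :=
      IsPullback.of_horiz_isIso ⟨by simp⟩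
    have sq3 := sq1.paste_horiz sq2
    have sq4 : IsPullback ((π ∣_ U') ≫ 𝟙 _) (((π ⁻¹ᵁ U').ι ≫ q) ≫ eV.hom)
        ((U'.ι ≫ s) ≫ eU.hom) (eV.inv ≫ v ≫ eU.hom) := by
      refine sq3.of_iso (Iso.refl _) (Iso.refl _) eV (Iso.refl _) ?_ ?_ ?_ ?_ <;> simp
    obtain ⟨φ, hφ⟩ := Spec.map_surjective (eV.inv ≫ v ≫ eU.hom)
    rw [← hφ] at sq4
    exact Groth.Agent.H9.DimBaseField.topologicalKrullDim_eq_of_isPullback_field _ φ _ _ sq4
  apply le_antisymm
  · unfold FlatMor.localDim
    refine le_iInf fun U' => ?_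
    obtain ⟨U', hU'⟩ := U'
    have h1 : y ∈ π ⁻¹ᵁ U' := hU'
    exact (iInf_le (fun W : {W : P.Opens // y ∈ W} => topologicalKrullDim (W.1 : Set P))
      ⟨π ⁻¹ᵁ U', h1⟩).trans (hdim U').le
  · unfold FlatMor.localDim
    refine le_iInf fun W => ?_
    obtain ⟨W, hW⟩ := W
    haveI : Flat π :=
      MorphismProperty.of_isPullback (P := @Flat) sq.flip (flat_of_iso_spec_field k eU v)
    haveI : UniversallyOpen π :=
      MorphismProperty.of_isPullback (P := @UniversallyOpen) sq.flip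
        (univOpen_of_iso_spec_field k eU v)
    have hT : IsOpen (⇑π '' (W : Set P)) := π.isOpenMap _ W.isOpen
    have hyT : π y ∈ (⟨⇑π '' (W : Set P), hT⟩ : R.Opens) := ⟨y, hW, rfl⟩
    refine (iInf_le (fun U' : {U' : R.Opens // π y ∈ U'} => topologicalKrullDim (U'.1 : Set R))
      ⟨⟨⇑π '' (W : Set P), hT⟩, hyT⟩).trans ?_
    show topologicalKrullDim ↥(⇑π '' (W : Set P)) ≤ topologicalKrullDim ↥(W : Set P)
    let f : ↥(W : Set P) → ↥(⇑π '' (W : Set P)) := fun w => ⟨π w.1, ⟨w.1, w.2, rfl⟩⟩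
    have hfc : Continuous f := (π.continuous.comp continuous_subtype_val).subtype_mk _
    have hfs : Function.Surjective f := by
      rintro ⟨_, w, hw, rfl⟩
      exact ⟨⟨w, hw⟩, rfl⟩
    have hfg : GeneralizingMap f := by
      intro a b hb
      have hb' : (b : R) ⤳ π a.1 := (subtype_specializes_iff b (f a)).mp hb
      obtain ⟨p', hp', hp'b⟩ := Flat.generalizingMap π hb'
      have hp'W : p' ∈ (W : Set P) := hp'.mem_open W.isOpen a.2
      exact ⟨⟨p', hp'W⟩, (subtype_specializes_iff _ _).mpr hp', Subtype.ext hp'b⟩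
    haveI : QuasiSober ↥(⇑π '' (W : Set P)) := hT.isOpenEmbedding_subtypeVal.quasiSober
    exact Groth.Agent.H24.topologicalKrullDim_le_of_generalizingMap f hfc hfg hfs

section Main

variable {S : Scheme.{u}} (G : Grpd.GroupoidScheme S)

/-- In a groupoid over a field, the local dimension at any point equals the local dimension at
the identity. -/
theorem grpd_localDim_eq_e (k : Type u) [Field k] (eU : G.U ≅ Spec (CommRingCat.of k))
    [LocallyOfFiniteType G.s] (u₀ : G.U) (r : G.R) :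
    FlatMor.localDim G.R r = FlatMor.localDim G.R (G.e u₀) := by
  haveI : Subsingleton G.U := (integral_subsingleton_of_iso_spec_field k eU).2
  obtain ⟨ρ, hρ⟩ : ∃ ρ, ρ = G.R.fromSpecResidueField r := ⟨_, rfl⟩
  have hρpt : ∀ z, ρ z = r := by
    intro z; rw [hρ]; exact Scheme.fromSpecResidueField_apply r z
  have SP := IsPullback.of_hasPullback (pullback.snd G.s G.t) ρ
  have S0 := IsPullback.of_hasPullback G.s G.t
  have hpb : IsPullback G.c (pullback.snd G.s G.t) G.s G.s := (Groth.Agent.S7457.result S G).2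
  have sqA := SP.paste_horiz S0
  have sqB := SP.paste_horiz hpb
  obtain ⟨πA, hπA⟩ : ∃ πA, πA = pullback.fst (pullback.snd G.s G.t) ρ ≫ pullback.fst G.s G.t :=
    ⟨_, rfl⟩
  obtain ⟨πB, hπB⟩ : ∃ πB, πB = pullback.fst (pullback.snd G.s G.t) ρ ≫ G.c := ⟨_, rfl⟩
  rw [← hπA] at sqA
  rw [← hπB] at sqB
  have hw : (ρ ≫ G.t ≫ G.e) ≫ G.s = ρ ≫ G.t := by
    rw [Category.assoc, Category.assoc, G.e_s, Category.comp_id]
  have hw' : pullback.lift (ρ ≫ G.t ≫ G.e) ρ hw ≫ pullback.snd G.s G.t = 𝟙 _ ≫ ρ := by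
    rw [pullback.lift_snd, Category.id_comp]
  obtain ⟨θ, hθ1, -⟩ : ∃ θ : Spec (G.R.residueField r) ⟶
      pullback (pullback.snd G.s G.t) ρ,
      θ ≫ pullback.fst _ _ = pullback.lift (ρ ≫ G.t ≫ G.e) ρ hw ∧
      θ ≫ pullback.snd _ _ = 𝟙 _ :=
    ⟨pullback.lift _ _ hw', pullback.lift_fst _ _ _, pullback.lift_snd _ _ _⟩
  obtain ⟨y, hy⟩ : ∃ y, y = θ (IsLocalRing.closedPoint (G.R.residueField r)) := ⟨_, rfl⟩
  have hyA : πA y = G.e u₀ := by
    rw [hπA, hy, ← Scheme.Hom.comp_apply, ← Category.assoc, hθ1, pullback.lift_fst,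
      Scheme.Hom.comp_apply, Scheme.Hom.comp_apply]
    exact congrArg _ (Subsingleton.elim _ _)
  have hyB : πB y = r := by
    rw [hπB, hy, ← Scheme.Hom.comp_apply, ← Category.assoc, hθ1, G.e_comp ρ, hρpt]
  have hA := localDim_eq_of_isPullback_field eU (G.R.residueField r) (Iso.refl _) G.s
    (ρ ≫ G.t) πA _ sqA y
  have hB := localDim_eq_of_isPullback_field eU (G.R.residueField r) (Iso.refl _) G.s
    (ρ ≫ G.s) πB _ sqB y
  rw [hyA] at hA
  rw [hyB] at hB
  exact hB.symm.trans hA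

open Groth.Agent.H54 Groth.Agent.H9.FibDim in
/-- In a groupoid over a field with `s`, `t` locally of finite type, all local dimensions are equal
to `dim R`, which is finite. -/
theorem grpd_exists_dim (k : Type u) [Field k] (eU : G.U ≅ Spec (CommRingCat.of k))
    [LocallyOfFiniteType G.s] :
    ∃ n : ℕ, (∀ r : G.R, FlatMor.localDim G.R r = (n : WithBot ℕ∞)) ∧
      topologicalKrullDim G.R = (n : WithBot ℕ∞) := by
  obtain ⟨u₀⟩ : Nonempty G.U :=
    ⟨eU.inv (IsLocalRing.closedPoint k)⟩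
  obtain ⟨b, hb⟩ := ENat.ne_top_iff_exists.mp (coheight_ne_top (G.s ≫ eU.hom) (G.e u₀))
  have h0 := localDim_eq (G.s ≫ eU.hom) (G.e u₀) b hb.symm
  have hall : ∀ r : G.R, FlatMor.localDim G.R r =
      ((tdeg (G.s ≫ eU.hom) (G.e u₀) + b : ℕ) : WithBot ℕ∞) :=
    fun r => (grpd_localDim_eq_e G k eU u₀ r).trans h0
  refine ⟨tdeg (G.s ≫ eU.hom) (G.e u₀) + b, hall, le_antisymm ?_ ?_⟩
  · rw [topologicalKrullDim_eq_iSup_stalk G.R]
    refine iSup_le fun z => ?_
    obtain ⟨c, hc⟩ := ENat.ne_top_iff_exists.mp (coheight_ne_top (G.s ≫ eU.hom) z)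
    have h1 := localDim_eq (G.s ≫ eU.hom) z c hc.symm
    rw [hall z] at h1
    have h2 : tdeg (G.s ≫ eU.hom) (G.e u₀) + b = tdeg (G.s ≫ eU.hom) z + c := by
      exact_mod_cast h1
    rw [ringKrullDim_stalk_eq_coheight z, ← hc]
    have h3 : c ≤ tdeg (G.s ≫ eU.hom) (G.e u₀) + b := by omega
    exact_mod_cast h3
  · rw [← hall (G.e u₀)]
    exact (localDim_le_of_mem G.R (G.e u₀) ⊤ trivial).trans
      (topologicalKrullDim_subspace_le _ _)

open Groth.Agent.H54 in
/-- The local rings at closed points of a groupoid over a field have dimension `dim R`. -/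
theorem grpd_stalk_dim (k : Type u) [Field k] (eU : G.U ≅ Spec (CommRingCat.of k))
    [LocallyOfFiniteType G.s] (r : G.R) (hr : IsClosed ({r} : Set G.R)) :
    ringKrullDim (G.R.presheaf.stalk r) = topologicalKrullDim G.R := by
  obtain ⟨n, hall, hdim⟩ := grpd_exists_dim G k eU
  have h0 := tdeg_eq_zero_of_isClosed (G.s ≫ eU.hom) r hr
  obtain ⟨c, hc⟩ := ENat.ne_top_iff_exists.mp (coheight_ne_top (G.s ≫ eU.hom) r)
  have h1 := localDim_eq (G.s ≫ eU.hom) r c hc.symm
  rw [hall r, h0, zero_add] at h1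
  have h2 : n = c := by exact_mod_cast h1
  rw [hdim, ringKrullDim_stalk_eq_coheight r, ← hc, h2]
  rfl

end Main

end Groth.Agent.H37
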