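import Groth.Agent.H23.GeomDescent

/-!
# Descent of `geometrically P` for properties descending along flat surjective morphisms
-/

set_option autoImplicit false
universe u

namespace Groth.Agent.H37

open AlgebraicGeometry CategoryTheory Limits

/-- Reducedness descends along flat surjective morphisms. -/
theorem isReduced_of_flat_surjective {Z' Z : Scheme.{u}} (p : Z' ⟶ Z) [Flat p] [Surjective p]
    [IsReduced Z'] : IsReduced Z := by
  have key : ∀ z : Z, _root_.IsReduced (Z.presheaf.stalk z) := by
    intro z
    obtain ⟨z', rfl⟩ := p.surjective z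
    have hinj : Function.Injective (p.stalkMap z').hom := by
      algebraize [(p.stalkMap z').hom]
      have : Module.FaithfullyFlat (Z.presheaf.stalk (p z')) (Z'.presheaf.stalk z') :=
        @Module.FaithfullyFlat.of_flat_of_isLocalHom _ _ _ _ _ _ _
          (Flat.stalkMap p z') (p.toLRSHom.prop z')
      exact FaithfulSMul.algebraMap_injective _ _
    exact isReduced_of_injective (p.stalkMap z').hom hinj
  exact isReduced_of_isReduced_stalk Z

theorem flat_to_spec_field {T : Scheme.{u}} (K : Type u) [Field K]
    (e : T ⟶ Spec (CommRingCat.of K)) : Flat e := by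
  haveI : Subsingleton ↥(Spec (CommRingCat.of K)) :=
    inferInstanceAs (Subsingleton (PrimeSpectrum K))
  infer_instance

theorem surjective_specMap_field {k K : Type u} [Field k] [Field K] [Algebra k K] :
    Surjective (Spec.map (CommRingCat.ofHom (algebraMap k K))) := by
  haveI : Subsingleton (PrimeSpectrum k) := inferInstance
  exact ⟨fun x => ⟨Classical.arbitrary (PrimeSpectrum K),
    Subsingleton.elim (α := PrimeSpectrum k) _ _⟩⟩

/-- `geometrically P` descends along a surjective base change, when `P` passes to targets of
flat surjective morphisms. -/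
theorem geometrically_descends_flat {P : ObjectProperty Scheme.{u}}
    (hP : ∀ {Z' Z : Scheme.{u}} (p : Z' ⟶ Z), Surjective p → Flat p → P Z' → P Z)
    {X Y Y' : Scheme.{u}} (f : X ⟶ Y) (g : Y' ⟶ Y) [Surjective g]
    (h : geometrically P (pullback.snd f g)) : geometrically P f := by
  intro K _ y Z fstZ sndZ hZ
  have hsurj : Surjective (pullback.fst y g) := inferInstance
  obtain ⟨t, -⟩ := (pullback.fst y g).surjective (default : ↥(Spec (CommRingCat.of K)))
  let τ := (pullback y g).fromSpecResidueField t
  let y' : Spec (CommRingCat.of ((pullback y g).residueField t)) ⟶ Y' := τ ≫ pullback.snd y g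
  let e : Spec (CommRingCat.of ((pullback y g).residueField t)) ⟶ Spec (CommRingCat.of K) :=
    τ ≫ pullback.fst y g
  have hey : e ≫ y = y' ≫ g := by
    simp only [e, y', Category.assoc, pullback.condition]
  have hPW : P (pullback (pullback.snd f g) y') := pullback_of_geometrically h _ y'
  have hbig : IsPullback (pullback.fst (pullback.snd f g) y' ≫ pullback.fst f g)
      (pullback.snd (pullback.snd f g) y') f (y' ≫ g) :=
    (IsPullback.of_hasPullback (pullback.snd f g) y').paste_horiz (IsPullback.of_hasPullback f g)
  have hw : (pullback.fst (pullback.snd f g) y' ≫ pullback.fst f g) ≫ f =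
      (pullback.snd (pullback.snd f g) y' ≫ e) ≫ y := by
    rw [Category.assoc, Category.assoc, hey]
    exact hbig.w
  let p : pullback (pullback.snd f g) y' ⟶ Z := hZ.lift _ _ hw
  have hp1 : p ≫ fstZ = pullback.fst (pullback.snd f g) y' ≫ pullback.fst f g := hZ.lift_fst _ _ _
  have hp2 : p ≫ sndZ = pullback.snd (pullback.snd f g) y' ≫ e := hZ.lift_snd _ _ _
  have hleft : IsPullback p (pullback.snd (pullback.snd f g) y') sndZ e := by
    refine IsPullback.of_right ?_ hp2 hZ
    rw [hp1, hey]
    exact hbig
  have hesurj : Surjective e :=
    ⟨fun x => ⟨default, Subsingleton.elim _ _⟩⟩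
  have heflat : Flat e := flat_to_spec_field K e
  have hpsurj : Surjective p :=
    MorphismProperty.of_isPullback (P := @Surjective) hleft.flip hesurj
  have hpflat : Flat p :=
    MorphismProperty.of_isPullback (P := @Flat) hleft.flip heflat
  exact hP p hpsurj hpflat hPW

end Groth.Agent.H37
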