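import Mathlib

/-!
# Schemes over the spectrum of a field: every morphism to the base is universally open
-/

set_option autoImplicit false
universe u
open CategoryTheory CategoryTheory.Limits AlgebraicGeometry

namespace Groth.Agent.H37

theorem integral_subsingleton_of_iso_spec_field {U : Scheme.{u}} (k : Type u) [Field k]
    (eU : U ≅ Spec (CommRingCat.of k)) : IsIntegral U ∧ Subsingleton U := by
  haveI : Nonempty U := ⟨eU.inv (⊥ : PrimeSpectrum k)⟩
  haveI : Subsingleton ↥(Spec (CommRingCat.of k)) :=
    inferInstanceAs (Subsingleton (PrimeSpectrum k))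
  exact ⟨isIntegral_of_isOpenImmersion eU.hom, eU.hom.homeomorph.subsingleton⟩

theorem univOpen_of_iso_spec_field {X U : Scheme.{u}} (k : Type u) [Field k]
    (eU : U ≅ Spec (CommRingCat.of k)) (f : X ⟶ U) : UniversallyOpen f := by
  obtain ⟨h1, h2⟩ := integral_subsingleton_of_iso_spec_field k eU
  infer_instance

/-- A base change, packaged opaquely: the commutative square and surjectivity onto compatible
pairs of points. -/
lemma exists_bc {X Y Z : Scheme.{u}} (f : X ⟶ Z) (g : Y ⟶ Z) :
    ∃ (T : Scheme.{u}) (a : T ⟶ X) (w : T ⟶ Y), a ≫ f = w ≫ g ∧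
      ∀ (x : X) (y : Y), f x = g y → ∃ τ : T, a τ = x ∧ w τ = y :=
  ⟨pullback f g, pullback.fst f g, pullback.snd f g, pullback.condition,
    fun x y h => Scheme.Pullback.exists_preimage_pullback x y h⟩

/-- In a fibre product over the spectrum of a field, the second projection of the part of an
open set lying over a fixed point of the first factor is open. -/
theorem isOpen_image_inter_fibre {P X Y U : Scheme.{u}} {pf : P ⟶ X} {ps : P ⟶ Y} {a : X ⟶ U}
    {b : Y ⟶ U} (sq : IsPullback pf ps a b) (k : Type u) [Field k]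
    (eU : U ≅ Spec (CommRingCat.of k)) (x : X) (N : Set P) (hN : IsOpen N) :
    IsOpen (⇑ps '' (N ∩ ⇑pf ⁻¹' {x})) := by
  have sq1 : IsPullback (pullback.snd (X.fromSpecResidueField x) pf)
      (pullback.fst (X.fromSpecResidueField x) pf) pf (X.fromSpecResidueField x) :=
    (IsPullback.of_hasPullback (X.fromSpecResidueField x) pf).flip
  have sq2 := (sq1.paste_horiz sq.flip).flip
  haveI : UniversallyOpen (X.fromSpecResidueField x ≫ a) := univOpen_of_iso_spec_field k eU _
  haveI hop : UniversallyOpen (pullback.snd (X.fromSpecResidueField x) pf ≫ ps) :=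
    MorphismProperty.of_isPullback (P := @UniversallyOpen) sq2 inferInstance
  have himg : ⇑ps '' (N ∩ ⇑pf ⁻¹' {x}) =
      ⇑(pullback.snd (X.fromSpecResidueField x) pf ≫ ps) ''
        (⇑(pullback.snd (X.fromSpecResidueField x) pf) ⁻¹' N) := by
    ext y
    constructor
    · rintro ⟨p', ⟨hp'N, hp'x⟩, rfl⟩
      obtain ⟨q, -, hq⟩ := Scheme.Pullback.exists_preimage_pullback
        (f := X.fromSpecResidueField x) (g := pf)
        (IsLocalRing.closedPoint (X.residueField x)) p'
        (by rw [Scheme.fromSpecResidueField_apply]; exact hp'x.symm)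
      refine ⟨q, ?_, ?_⟩
      · show pullback.snd (X.fromSpecResidueField x) pf q ∈ N
        rw [hq]
        exact hp'N
      · rw [Scheme.Hom.comp_apply, hq]
    · rintro ⟨q, hqN, rfl⟩
      refine ⟨pullback.snd (X.fromSpecResidueField x) pf q, ⟨hqN, ?_⟩, ?_⟩
      · show pf (pullback.snd (X.fromSpecResidueField x) pf q) = x
        rw [← Scheme.Hom.comp_apply, ← pullback.condition, Scheme.Hom.comp_apply,
          Scheme.fromSpecResidueField_apply]
      · rw [Scheme.Hom.comp_apply]
  rw [himg]
  exact (pullback.snd (X.fromSpecResidueField x) pf ≫ ps).isOpenMap _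
    (hN.preimage (pullback.snd (X.fromSpecResidueField x) pf).continuous)

/-- In a fibre product over the spectrum of a field, a point whose projections lie in the closures
of two sets lies in the closure of the "product" of the two sets. -/
theorem mem_closure_inter_of_field_base {P X Y U : Scheme.{u}} {pf : P ⟶ X} {ps : P ⟶ Y}
    {a : X ⟶ U} {b : Y ⟶ U} (sq : IsPullback pf ps a b) (k : Type u) [Field k]
    (eU : U ≅ Spec (CommRingCat.of k)) (A : Set X) (B : Set Y) (p : P)
    (hA : pf p ∈ closure A) (hB : ps p ∈ closure B) :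
    p ∈ closure (⇑pf ⁻¹' A ∩ ⇑ps ⁻¹' B) := by
  rw [mem_closure_iff]
  intro N hN hpN
  -- move the first projection into `A`, keeping the second projection fixed
  have h1 := isOpen_image_inter_fibre sq.flip k eU (ps p) N hN
  obtain ⟨x', ⟨p', ⟨hp'N, hp'y⟩, hp'x⟩, hx'A⟩ :=
    (mem_closure_iff.mp hA) _ h1 ⟨p, ⟨hpN, rfl⟩, rfl⟩
  -- move the second projection into `B`, keeping the first projection fixed
  have h2 := isOpen_image_inter_fibre sq k eU (pf p') N hN
  have hB' : ps p' ∈ closure B := by
    have : ps p' = ps p := hp'y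
    rw [this]
    exact hB
  obtain ⟨y'', ⟨p'', ⟨hp''N, hp''x⟩, hp''y⟩, hy''B⟩ :=
    (mem_closure_iff.mp hB') _ h2 ⟨p', ⟨hp'N, rfl⟩, rfl⟩
  refine ⟨p'', hp''N, ?_, ?_⟩
  · show pf p'' ∈ A
    have : pf p'' = pf p' := hp''x
    rw [this, hp'x]
    exact hx'A
  · show ps p'' ∈ B
    rw [hp''y]
    exact hy''B

end Groth.Agent.H37
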