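import Mathlib

/-!
# Points of a pullback square of schemes
-/

set_option autoImplicit false
universe u
open CategoryTheory CategoryTheory.Limits AlgebraicGeometry

namespace Groth.Agent.H37

/-- A pullback square of schemes is surjective onto compatible pairs of points. -/
lemma exists_of_isPullback {P X Y Z : Scheme.{u}} {a : P ⟶ X} {b : P ⟶ Y} {c : X ⟶ Z}
    {d : Y ⟶ Z} (sq : IsPullback a b c d) (x : X) (y : Y) (h : c x = d y) :
    ∃ τ : P, a τ = x ∧ b τ = y := by
  obtain ⟨z, hz1, hz2⟩ := Scheme.Pullback.exists_preimage_pullback x y h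
  refine ⟨sq.isoPullback.inv z, ?_, ?_⟩
  · rw [← Scheme.Hom.comp_apply, sq.isoPullback_inv_fst]; exact hz1
  · rw [← Scheme.Hom.comp_apply, sq.isoPullback_inv_snd]; exact hz2

end Groth.Agent.H37
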