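import Groth.Agent.H37.SN_T4
import Groth.Agent.H33.SN_T1
import Groth.Agent.H25.SN_T2
import Groth.Agent.H11.SN_T3

/-!
# (T4) for S13109, closed form (helper37, for helper13's squad)
-/

set_option autoImplicit false
universe u

namespace Groth.Agent.H37.SN_T4

/-- (T4) -/
theorem surjective_of_subintegral {A C : Type u} [CommRing A] [IsNoetherianRing A] [CommRing C]
    [IsReduced C] [Algebra A C] [Module.Finite A C]
    (hinj : Function.Injective (algebraMap A C)) (hA : HTop.IsSeminormalRing A)
    (hsub : ∀ (p : PrimeSpectrum A) (c : C), ∃ u a : A, u ∉ p.asIdeal ∧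
      ∀ q : PrimeSpectrum C, PrimeSpectrum.comap (algebraMap A C) q = p →
        algebraMap A C u * c - algebraMap A C a ∈ q.asIdeal) :
    Function.Surjective (algebraMap A C) :=
  haveI : IsNoetherianRing C := IsNoetherianRing.of_finite A C
  surjective_of_subintegral_core hinj
    (fun z h2 h3 => Groth.Agent.H33.SN_T1.mem_range_of_sq_cube hinj hA z h2 h3)
    (fun I p hp => Groth.Agent.H25.SN_T2.exists_notMem_mul_pow_le I p hp)
    (fun p n hn hu => Groth.Agent.H11.SN_T3.exists_notMem_mul_pow_mem_map p n hn hu) hsub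

end Groth.Agent.H37.SN_T4
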