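import Groth.Agent.H34.KeyRelDefs

/-!
# (T3) for the relative key formula (S1922/S1921): a nonzero rational function on the closure of
`ζ` is a unit at all but finitely many codimension one points of the closure near a given point
(helper37, for helper34's squad)
-/

set_option autoImplicit false
set_option linter.style.haveILetI false
universe u
open CategoryTheory AlgebraicGeometry TopologicalSpace Opposite

namespace Groth.Agent.H37.KeyRelT3

open Groth.Agent.H34.Key Groth.Agent.H34.KeyRel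

variable {X : Scheme.{u}}

/-- core of (T3): only needs `X` locally Noetherian and `δ` strictly decreasing along nontrivial
specializations. -/
theorem finite_not_unitAtRel_core [IsLocallyNoetherian X] (δ : X → ℤ)
    (hδ : ∀ a b : X, a ⤳ b → a ≠ b → δ b < δ a) {ζ x : X} (h : ζ ⤳ x)
    (ψ : X.residueField ζ) (hψ : ψ ≠ 0) :
    ∃ U : X.Opens, x ∈ U ∧
      {ξ : X | ξ ∈ U ∧ ∃ h' : ζ ⤳ ξ, δ ξ + 1 = δ ζ ∧ ¬ UnitAtRel h' ψ}.Finite := by
  obtain ⟨V, hV, hxV, -⟩ := exists_isAffineOpen_mem_and_subset (x := x) (U := ⊤) (by trivial)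
  have hζV : ζ ∈ V := h.mem_open V.2 hxV
  haveI : IsNoetherianRing Γ(X, V) := IsLocallyNoetherian.component_noetherian ⟨V, hV⟩
  -- units at points of `V`
  have hunit : ∀ (y : X) (hy : y ∈ V) (a : Γ(X, V)),
      IsUnit ((X.presheaf.germ V y hy).hom a) ↔ a ∉ (hV.primeIdealOf ⟨y, hy⟩).asIdeal := by
    intro y hy a
    letI : Algebra Γ(X, V) (X.presheaf.stalk y) := (X.presheaf.germ V y hy).hom.toAlgebra
    haveI : IsLocalization.AtPrime (X.presheaf.stalk y) (hV.primeIdealOf ⟨y, hy⟩).asIdeal :=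
      hV.isLocalization_stalk ⟨y, hy⟩
    exact IsLocalization.AtPrime.isUnit_to_map_iff (X.presheaf.stalk y)
      (hV.primeIdealOf ⟨y, hy⟩).asIdeal a
  have hev0 : ∀ a : Γ(X, V), (X.residue ζ).hom ((X.presheaf.germ V ζ hζV).hom a) = 0 ↔
      a ∈ (hV.primeIdealOf ⟨ζ, hζV⟩).asIdeal := by
    intro a
    rw [← not_iff_not, ← hunit ζ hζV a]
    exact IsLocalRing.residue_ne_zero_iff_isUnit _
  have hspec : ∀ (p q : PrimeSpectrum Γ(X, V)), hV.fromSpec p ⤳ hV.fromSpec q ↔ p ≤ q := by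
    intro p q
    rw [PrimeSpectrum.le_iff_specializes]
    exact hV.fromSpec.isOpenEmbedding.isInducing.specializes_iff
  -- write `ψ` as a fraction
  obtain ⟨c0, hc0⟩ : ∃ c0 : X.presheaf.stalk ζ, (X.residue ζ).hom c0 = ψ :=
    X.residue_surjective ζ ψ
  letI algζ : Algebra Γ(X, V) (X.presheaf.stalk ζ) := (X.presheaf.germ V ζ hζV).hom.toAlgebra
  haveI hlocζ : IsLocalization.AtPrime (X.presheaf.stalk ζ)
      (hV.primeIdealOf ⟨ζ, hζV⟩).asIdeal := hV.isLocalization_stalk ⟨ζ, hζV⟩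
  obtain ⟨⟨a, s⟩, has⟩ := IsLocalization.surj (hV.primeIdealOf ⟨ζ, hζV⟩).asIdeal.primeCompl c0
  have has' : c0 * (X.presheaf.germ V ζ hζV).hom s.1 = (X.presheaf.germ V ζ hζV).hom a := has
  have hs : (s : Γ(X, V)) ∉ (hV.primeIdealOf ⟨ζ, hζV⟩).asIdeal := s.2
  have hsne : (X.residue ζ).hom ((X.presheaf.germ V ζ hζV).hom s.1) ≠ 0 :=
    fun h0 => hs ((hev0 _).mp h0)
  have hψs : ψ * (X.residue ζ).hom ((X.presheaf.germ V ζ hζV).hom s.1) =
      (X.residue ζ).hom ((X.presheaf.germ V ζ hζV).hom a) := by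
    rw [← hc0, ← map_mul, has']
  have ha : a ∉ (hV.primeIdealOf ⟨ζ, hζV⟩).asIdeal := by
    intro ha
    have h0 : (X.residue ζ).hom ((X.presheaf.germ V ζ hζV).hom a) = 0 := (hev0 a).mpr ha
    rw [h0] at hψs
    exact (mul_ne_zero hψ hsne) hψs
  obtain ⟨J, hJ⟩ : ∃ J : Ideal Γ(X, V),
      J = (hV.primeIdealOf ⟨ζ, hζV⟩).asIdeal ⊔ Ideal.span {a * s.1} := ⟨_, rfl⟩
  have hfin := Ideal.finite_minimalPrimes_of_isNoetherianRing Γ(X, V) J
  refine ⟨V, hxV, ?_⟩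
  have hfin' : {p : PrimeSpectrum Γ(X, V) | p.asIdeal ∈ J.minimalPrimes}.Finite :=
    hfin.preimage (fun p _ q _ h => PrimeSpectrum.ext h)
  refine (hfin'.image (fun p => hV.fromSpec p)).subset ?_
  rintro ξ ⟨hξV, h', hδξ, hnu⟩
  refine ⟨hV.primeIdealOf ⟨ξ, hξV⟩, ?_, hV.fromSpec_primeIdealOf ⟨ξ, hξV⟩⟩
  show (hV.primeIdealOf ⟨ξ, hξV⟩).asIdeal ∈ J.minimalPrimes
  have hgs : ∀ b : Γ(X, V), Cyc.specMap ξ ζ h' ((X.presheaf.germ V ξ hξV).hom b) =
      (X.residue ζ).hom ((X.presheaf.germ V ζ hζV).hom b) := by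
    intro b
    have e : X.presheaf.germ V ξ hξV ≫ X.presheaf.stalkSpecializes h' =
        X.presheaf.germ V ζ hζV := X.presheaf.germ_stalkSpecializes hξV h'
    show (X.residue ζ).hom ((X.presheaf.stalkSpecializes h').hom
      ((X.presheaf.germ V ξ hξV).hom b)) = _
    rw [← e]
    rfl
  have hmem : a * s.1 ∈ (hV.primeIdealOf ⟨ξ, hξV⟩).asIdeal := by
    by_contra hnot
    apply hnu
    have h1 : a ∉ (hV.primeIdealOf ⟨ξ, hξV⟩).asIdeal :=
      fun h => hnot (Ideal.mul_mem_right _ _ h)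
    have h2 : s.1 ∉ (hV.primeIdealOf ⟨ξ, hξV⟩).asIdeal :=
      fun h => hnot (Ideal.mul_mem_left _ _ h)
    have u1 : IsUnit ((X.presheaf.germ V ξ hξV).hom a) := (hunit ξ hξV a).mpr h1
    have u2 : IsUnit ((X.presheaf.germ V ξ hξV).hom s.1) := (hunit ξ hξV s.1).mpr h2
    refine ⟨(X.presheaf.germ V ξ hξV).hom a * ↑(u2.unit⁻¹), u1.mul (Units.isUnit _), ?_⟩
    have key : Cyc.specMap ξ ζ h' ((X.presheaf.germ V ξ hξV).hom a * ↑(u2.unit⁻¹)) *
        (X.residue ζ).hom ((X.presheaf.germ V ζ hζV).hom s.1) =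
        ψ * (X.residue ζ).hom ((X.presheaf.germ V ζ hζV).hom s.1) := by
      rw [hψs, ← hgs s.1, ← map_mul, ← hgs a]
      congr 1
      rw [mul_assoc, IsUnit.val_inv_mul, mul_one]
    exact mul_right_cancel₀ hsne key
  have hle : hV.primeIdealOf ⟨ζ, hζV⟩ ≤ hV.primeIdealOf ⟨ξ, hξV⟩ :=
    (hspec _ _).mp (specializes_of_eq (hV.fromSpec_primeIdealOf ⟨ζ, hζV⟩) |>.trans
      (h'.trans (specializes_of_eq (hV.fromSpec_primeIdealOf ⟨ξ, hξV⟩).symm)))
  refine ⟨⟨inferInstance, ?_⟩, ?_⟩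
  · rw [hJ]
    exact sup_le ((PrimeSpectrum.asIdeal_le_asIdeal _ _).mpr hle)
      (Ideal.span_le.mpr (Set.singleton_subset_iff.mpr hmem))
  · rintro q ⟨hqp, hJq⟩ hqξ
    obtain ⟨qq, hqq⟩ : ∃ qq : PrimeSpectrum Γ(X, V), qq.asIdeal = q := ⟨⟨q, hqp⟩, rfl⟩
    have hζq : hV.primeIdealOf ⟨ζ, hζV⟩ ≤ qq := by
      rw [← PrimeSpectrum.asIdeal_le_asIdeal, hqq]
      exact le_trans (hJ ▸ le_sup_left) hJq
    have hqξ' : qq ≤ hV.primeIdealOf ⟨ξ, hξV⟩ := by
      rw [← PrimeSpectrum.asIdeal_le_asIdeal, hqq]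
      exact hqξ
    have s1 : ζ ⤳ hV.fromSpec qq :=
      (specializes_of_eq (hV.fromSpec_primeIdealOf ⟨ζ, hζV⟩).symm).trans ((hspec _ _).mpr hζq)
    have s2 : hV.fromSpec qq ⤳ ξ :=
      ((hspec _ _).mpr hqξ').trans (specializes_of_eq (hV.fromSpec_primeIdealOf ⟨ξ, hξV⟩))
    by_cases e1 : hV.fromSpec qq = ξ
    · have h3 : hV.primeIdealOf ⟨ξ, hξV⟩ ≤ qq :=
        (hspec _ _).mp (specializes_of_eq ((hV.fromSpec_primeIdealOf ⟨ξ, hξV⟩).trans e1.symm))
      rw [← hqq]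
      exact (PrimeSpectrum.asIdeal_le_asIdeal _ _).mpr h3
    · exfalso
      have d1 : δ ξ < δ (hV.fromSpec qq) := hδ _ _ s2 e1
      by_cases e2 : ζ = hV.fromSpec qq
      · have h3 : qq ≤ hV.primeIdealOf ⟨ζ, hζV⟩ :=
          (hspec _ _).mp (specializes_of_eq
            (e2.symm.trans (hV.fromSpec_primeIdealOf ⟨ζ, hζV⟩).symm))
        have hm : a * s.1 ∈ (hV.primeIdealOf ⟨ζ, hζV⟩).asIdeal := by
          apply (PrimeSpectrum.asIdeal_le_asIdeal _ _).mpr h3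
          rw [hqq]
          apply hJq
          rw [hJ]
          exact Ideal.mem_sup_right (Ideal.subset_span (Set.mem_singleton _))
        rcases (hV.primeIdealOf ⟨ζ, hζV⟩).isPrime.mem_or_mem hm with h4 | h4
        · exact ha h4
        · exact hs h4
      · have d2 : δ (hV.fromSpec qq) < δ ζ := hδ _ _ s1 e2
        omega

/-- (T3) a nonzero rational function on the closure of `ζ` is a unit at all but finitely many
codimension one points of the closure near a given point. -/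
theorem finite_not_unitAtRel (δ : X → ℤ) (hX : Cyc.IsSetup X δ) {ζ x : X} (h : ζ ⤳ x)
    (ψ : X.residueField ζ) (hψ : ψ ≠ 0) :
    ∃ U : X.Opens, x ∈ U ∧
      {ξ : X | ξ ∈ U ∧ ∃ h' : ζ ⤳ ξ, δ ξ + 1 = δ ζ ∧ ¬ UnitAtRel h' ψ}.Finite := by
  haveI : IsLocallyNoetherian X := hX.1
  exact finite_not_unitAtRel_core δ (fun a b hab hne => (hX.2.2 a b hab hne).1) h ψ hψ

end Groth.Agent.H37.KeyRelT3
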