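import Groth.Agent.H37.KeyF1Core
import Groth.Agent.H34.KeyDefs

/-!
# (F1) for S1920: exact statement with `UnitAt` (helper37)
-/

set_option autoImplicit false
universe u
open CategoryTheory AlgebraicGeometry TopologicalSpace Opposite

namespace Groth.Agent.H37.KeyF1

open Groth.Agent.H34.Key

variable {X : Scheme.{u}} [IsIntegral X]

/-- (F1) a nonzero rational function is a unit at all but finitely many codimension one points
near a given point. -/
theorem finite_not_unitAt [IsLocallyNoetherian X] (x : X) (ψ : X.functionField) (hψ : ψ ≠ 0) :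
    ∃ U : X.Opens, x ∈ U ∧ {ξ : X | ξ ∈ U ∧ ringKrullDim (X.presheaf.stalk ξ) = 1 ∧
      ¬ UnitAt ξ ψ}.Finite := finite_not_unitAt' x ψ hψ

end Groth.Agent.H37.KeyF1
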