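import Mathlib
import Groth.Prelude
import Groth.Agent.H37.PbPoints

/-!
# The Galois action on a base change is transitive on the fibres of `X_K → X`
-/

set_option autoImplicit false
universe u
open CategoryTheory CategoryTheory.Limits AlgebraicGeometry

namespace Groth.Agent.H37

/-- Normal extension: two `k`-compatible embeddings of `K` into a field differ by an
automorphism. -/
lemma exists_algEquiv_of_normal {k K Ω : Type u} [Field k] [Field K] [Field Ω] [Algebra k K]
    [Normal k K] (ι ι' : K →+* Ω)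
    (h : ι.comp (algebraMap k K) = ι'.comp (algebraMap k K)) :
    ∃ σ : K ≃ₐ[k] K, ∀ x, ι' x = ι (σ x) := by
  letI : Algebra K Ω := ι.toAlgebra
  letI : Algebra k Ω := (ι.comp (algebraMap k K)).toAlgebra
  haveI : IsScalarTower k K Ω := IsScalarTower.of_algebraMap_eq (fun x => rfl)
  let φ : K →ₐ[k] Ω :=
    { ι' with
      commutes' := fun x => by
        show ι' (algebraMap k K x) = ι (algebraMap k K x)
        exact (congrArg (fun g : k →+* Ω => g x) h).symm }
  refine ⟨φ.restrictNormal' K, fun x => ?_⟩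
  have := AlgHom.restrictNormal_commutes φ K x
  exact this.symm

lemma exists_algEquiv_specMap {k K Ω : Type u} [Field k] [Field K] [Field Ω] [Algebra k K]
    [Normal k K] (α β : Spec (CommRingCat.of Ω) ⟶ Spec (CommRingCat.of K))
    (h : α ≫ Spec.map (CommRingCat.ofHom (algebraMap k K)) =
      β ≫ Spec.map (CommRingCat.ofHom (algebraMap k K))) :
    ∃ σ : K ≃ₐ[k] K,
      β = α ≫ Spec.map (CommRingCat.ofHom (σ : K →ₐ[k] K).toRingHom) := by
  obtain ⟨φ, rfl⟩ := Spec.map_surjective α
  obtain ⟨ψ, rfl⟩ := Spec.map_surjective β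
  rw [← Spec.map_comp, ← Spec.map_comp] at h
  have h' := Spec.map_injective h
  obtain ⟨σ, hσ⟩ := exists_algEquiv_of_normal (k := k) φ.hom ψ.hom (by
    have := congrArg CommRingCat.Hom.hom h'
    exact this)
  refine ⟨σ, ?_⟩
  rw [← Spec.map_comp]
  congr 1
  ext x
  exact hσ x

/-- Transitivity of the Galois action on the fibres of `X_K → X`, `K/k` normal. -/
lemma exists_galois_conj {k K : Type u} [Field k] [Field K] [Algebra k K] [Normal k K]
    {X : Scheme.{u}} (f : X ⟶ Spec (CommRingCat.of k))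
    (y y' : ↥(pullback f (Spec.map (CommRingCat.ofHom (algebraMap k K)))))
    (h : pullback.fst f (Spec.map (CommRingCat.ofHom (algebraMap k K))) y =
      pullback.fst f (Spec.map (CommRingCat.ofHom (algebraMap k K))) y') :
    ∃ σ : K ≃ₐ[k] K, ∀ g : pullback f (Spec.map (CommRingCat.ofHom (algebraMap k K))) ⟶
        pullback f (Spec.map (CommRingCat.ofHom (algebraMap k K))),
      g ≫ pullback.fst f (Spec.map (CommRingCat.ofHom (algebraMap k K))) =
        pullback.fst f (Spec.map (CommRingCat.ofHom (algebraMap k K))) →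
      g ≫ pullback.snd f (Spec.map (CommRingCat.ofHom (algebraMap k K))) =
        pullback.snd f (Spec.map (CommRingCat.ofHom (algebraMap k K))) ≫
          Spec.map (CommRingCat.ofHom (σ : K →ₐ[k] K).toRingHom) →
      g y = y' := by
  obtain ⟨z, hz1, hz2⟩ := Scheme.Pullback.exists_preimage_pullback
    (f := pullback.fst f (Spec.map (CommRingCat.ofHom (algebraMap k K))))
    (g := pullback.fst f (Spec.map (CommRingCat.ofHom (algebraMap k K)))) y y' h
  let P := pullback (pullback.fst f (Spec.map (CommRingCat.ofHom (algebraMap k K))))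
    (pullback.fst f (Spec.map (CommRingCat.ofHom (algebraMap k K))))
  let Ω : Type u := ↑(P.residueField z)
  let t : Spec (CommRingCat.of Ω) ⟶ P := P.fromSpecResidueField z
  have ht : ∀ s : ↥(Spec (CommRingCat.of Ω)), t s = z := fun s =>
    Scheme.fromSpecResidueField_apply z s
  let a : Spec (CommRingCat.of Ω) ⟶ pullback f (Spec.map (CommRingCat.ofHom (algebraMap k K))) :=
    t ≫ pullback.fst _ _
  let b : Spec (CommRingCat.of Ω) ⟶ pullback f (Spec.map (CommRingCat.ofHom (algebraMap k K))) :=
    t ≫ pullback.snd _ _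
  have hab : a ≫ pullback.fst f (Spec.map (CommRingCat.ofHom (algebraMap k K))) =
      b ≫ pullback.fst f (Spec.map (CommRingCat.ofHom (algebraMap k K))) := by
    simp only [a, b, Category.assoc, pullback.condition]
  have hab2 : (a ≫ pullback.snd f (Spec.map (CommRingCat.ofHom (algebraMap k K)))) ≫
        Spec.map (CommRingCat.ofHom (algebraMap k K)) =
      (b ≫ pullback.snd f (Spec.map (CommRingCat.ofHom (algebraMap k K)))) ≫
        Spec.map (CommRingCat.ofHom (algebraMap k K)) := by
    calc (a ≫ pullback.snd f (Spec.map (CommRingCat.ofHom (algebraMap k K)))) ≫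
          Spec.map (CommRingCat.ofHom (algebraMap k K))
        = a ≫ (pullback.snd f (Spec.map (CommRingCat.ofHom (algebraMap k K))) ≫
          Spec.map (CommRingCat.ofHom (algebraMap k K))) := Category.assoc _ _ _
      _ = a ≫ (pullback.fst f (Spec.map (CommRingCat.ofHom (algebraMap k K))) ≫ f) := by
          rw [pullback.condition]
      _ = (a ≫ pullback.fst f (Spec.map (CommRingCat.ofHom (algebraMap k K)))) ≫ f :=
          (Category.assoc _ _ _).symm
      _ = (b ≫ pullback.fst f (Spec.map (CommRingCat.ofHom (algebraMap k K)))) ≫ f := by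
          rw [hab]
      _ = b ≫ (pullback.fst f (Spec.map (CommRingCat.ofHom (algebraMap k K))) ≫ f) :=
          Category.assoc _ _ _
      _ = b ≫ (pullback.snd f (Spec.map (CommRingCat.ofHom (algebraMap k K))) ≫
          Spec.map (CommRingCat.ofHom (algebraMap k K))) := by rw [pullback.condition]
      _ = (b ≫ pullback.snd f (Spec.map (CommRingCat.ofHom (algebraMap k K)))) ≫
          Spec.map (CommRingCat.ofHom (algebraMap k K)) := (Category.assoc _ _ _).symm
  obtain ⟨σ, hσ⟩ := exists_algEquiv_specMap (k := k) _ _ hab2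
  refine ⟨σ, fun g hg1 hg2 => ?_⟩
  have hag : a ≫ g = b := by
    apply pullback.hom_ext
    · rw [Category.assoc, hg1, hab]
    · rw [Category.assoc, hg2, ← Category.assoc, ← hσ]
  obtain ⟨s⟩ : Nonempty ↥(Spec (CommRingCat.of Ω)) :=
    (inferInstance : Nonempty (PrimeSpectrum Ω))
  have hya : a s = y := by
    show (t ≫ pullback.fst _ _) s = y
    rw [Scheme.Hom.comp_apply, ht s]; exact hz1
  have hyb : b s = y' := by
    show (t ≫ pullback.snd _ _) s = y'
    rw [Scheme.Hom.comp_apply, ht s]; exact hz2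
  rw [← hya, ← Scheme.Hom.comp_apply, hag, hyb]

section Curv2

variable (k : Type u) [Field k] (X : Scheme.{u}) [X.Over (Spec (CommRingCat.of k))]
  (K : Type u) [Field K] [Algebra k K]

lemma galAct_fst (σ : K ≃ₐ[k] K) :
    Curv2.galAct k X K σ ≫ Curv2.bcFst k X K = Curv2.bcFst k X K := by
  unfold Curv2.galAct
  exact (pullback.lift_fst _ _ _).trans (Category.comp_id _)

lemma galAct_snd (σ : K ≃ₐ[k] K) :
    Curv2.galAct k X K σ ≫ Curv2.bcSnd k X K =
      Curv2.bcSnd k X K ≫ Spec.map (CommRingCat.ofHom (σ : K →ₐ[k] K).toRingHom) := by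
  unfold Curv2.galAct
  exact pullback.lift_snd _ _ _

lemma galAct_fst_apply (σ : K ≃ₐ[k] K) (y : ↥(Curv2.bc k X K)) :
    Curv2.bcFst k X K (Curv2.galAct k X K σ y) = Curv2.bcFst k X K y := by
  rw [← Scheme.Hom.comp_apply, galAct_fst]

lemma galAct_comp (σ τ : K ≃ₐ[k] K) :
    Curv2.galAct k X K τ ≫ Curv2.galAct k X K σ = Curv2.galAct k X K (σ.trans τ) := by
  apply pullback.hom_ext
  · rw [Category.assoc]
    erw [galAct_fst k X K σ, galAct_fst k X K τ, galAct_fst k X K (σ.trans τ)]
  · rw [Category.assoc]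
    erw [galAct_snd k X K σ]
    rw [← Category.assoc]
    erw [galAct_snd k X K τ, galAct_snd k X K (σ.trans τ)]
    rw [Category.assoc, ← Spec.map_comp]
    rfl

lemma galAct_refl : Curv2.galAct k X K AlgEquiv.refl = 𝟙 _ := by
  apply pullback.hom_ext
  · erw [galAct_fst k X K AlgEquiv.refl]; rw [Category.id_comp]
  · erw [galAct_snd k X K AlgEquiv.refl]
    rw [Category.id_comp]
    have : CommRingCat.ofHom ((AlgEquiv.refl : K ≃ₐ[k] K) : K →ₐ[k] K).toRingHom =
        𝟙 (CommRingCat.of K) := rfl
    rw [this, Spec.map_id, Category.comp_id]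

lemma galAct_symm_comp (σ : K ≃ₐ[k] K) :
    Curv2.galAct k X K σ.symm ≫ Curv2.galAct k X K σ = 𝟙 _ := by
  rw [galAct_comp, ← galAct_refl]
  congr 1
  ext x
  simp

lemma galAct_comp_symm (σ : K ≃ₐ[k] K) :
    Curv2.galAct k X K σ ≫ Curv2.galAct k X K σ.symm = 𝟙 _ := by
  rw [galAct_comp, ← galAct_refl]
  congr 1
  ext x
  simp

instance galAct_isIso (σ : K ≃ₐ[k] K) : IsIso (Curv2.galAct k X K σ) :=
  ⟨⟨Curv2.galAct k X K σ.symm, galAct_comp_symm k X K σ, galAct_symm_comp k X K σ⟩⟩

/-- Transitivity for `Curv2.galAct`. -/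
lemma exists_galAct_eq [Normal k K] (y y' : ↥(Curv2.bc k X K))
    (h : Curv2.bcFst k X K y = Curv2.bcFst k X K y') :
    ∃ σ : K ≃ₐ[k] K, Curv2.galAct k X K σ y = y' := by
  obtain ⟨σ, hσ⟩ := exists_galois_conj (X ↘ Spec (CommRingCat.of k)) y y' h
  exact ⟨σ, hσ _ (galAct_fst k X K σ) (galAct_snd k X K σ)⟩

/-- The image of a set under `galAct σ` has the same image in `X`. -/
lemma image_bcFst_image_galAct (σ : K ≃ₐ[k] K) (S : Set ↥(Curv2.bc k X K)) :
    (Curv2.bcFst k X K).base '' ((Curv2.galAct k X K σ).base '' S) =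
      (Curv2.bcFst k X K).base '' S := by
  rw [Set.image_image]
  exact Set.image_congr' (fun y => galAct_fst_apply k X K σ y)

/-- A Galois-invariant set is saturated for `X_K → X`. -/
lemma preimage_image_eq_of_galois_invariant [Normal k K] (T' : Set ↥(Curv2.bc k X K))
    (hinv : ∀ σ : K ≃ₐ[k] K, (Curv2.galAct k X K σ).base '' T' = T') :
    (Curv2.bcFst k X K).base ⁻¹' ((Curv2.bcFst k X K).base '' T') = T' := by
  apply Set.Subset.antisymm
  · rintro y ⟨t, ht, hty⟩
    obtain ⟨σ, hσ⟩ := exists_galAct_eq k X K t y hty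
    rw [← hinv σ]
    exact ⟨t, ht, hσ⟩
  · exact Set.subset_preimage_image _ _

/-- Preimages of subsets of `X` are Galois invariant. -/
lemma image_galAct_preimage (σ : K ≃ₐ[k] K) (T : Set ↥X) :
    (Curv2.galAct k X K σ).base '' ((Curv2.bcFst k X K).base ⁻¹' T) =
      (Curv2.bcFst k X K).base ⁻¹' T := by
  apply Set.Subset.antisymm
  · rintro _ ⟨y, hy, rfl⟩
    show Curv2.bcFst k X K (Curv2.galAct k X K σ y) ∈ T
    rw [galAct_fst_apply]; exact hy
  · intro y hy
    refine ⟨Curv2.galAct k X K σ.symm y, ?_, ?_⟩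
    · show Curv2.bcFst k X K (Curv2.galAct k X K σ.symm y) ∈ T
      rw [galAct_fst_apply]; exact hy
    · rw [← Scheme.Hom.comp_apply, galAct_symm_comp]; rfl

/-- `galAct σ` commutes with closures. -/
lemma image_galAct_closure (σ : K ≃ₐ[k] K) (S : Set ↥(Curv2.bc k X K)) :
    (Curv2.galAct k X K σ).base '' closure S = closure ((Curv2.galAct k X K σ).base '' S) :=
  (Curv2.galAct k X K σ).homeomorph.image_closure S

/-- The projection `X_K → X` is a closed map for algebraic `K/k`. -/
lemma isClosedMap_bcFst [Algebra.IsAlgebraic k K] : IsClosedMap (Curv2.bcFst k X K).base := by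
  haveI hqint : IsIntegralHom (Spec.map (CommRingCat.ofHom (algebraMap k K))) := by
    rw [IsIntegralHom.SpecMap_iff]
    exact algebraMap_isIntegral_iff.mpr inferInstance
  haveI hpint : IsIntegralHom (pullback.fst (X ↘ Spec (CommRingCat.of k))
      (Spec.map (CommRingCat.ofHom (algebraMap k K)))) :=
    MorphismProperty.pullback_fst (P := @IsIntegralHom) _ _ hqint
  exact (pullback.fst (X ↘ Spec (CommRingCat.of k))
      (Spec.map (CommRingCat.ofHom (algebraMap k K)))).isClosedMap

end Curv2

end Groth.Agent.H37
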