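import Mathlib
import Groth.Prelude.Def_CohB1
import Groth.Prelude.Def_Coh
import Groth.Agent.H49.InjCokerOpen
import Groth.Agent.H22.QCohLimits

/-! (Q3) for helper22's S9828 squad: a binary biproduct of finitely presented modules is
finitely presented. -/

set_option autoImplicit false
universe u v w
open CategoryTheory CategoryTheory.Limits AlgebraicGeometry TopologicalSpace Opposite
open AlgebraicGeometry.Scheme.Modules

namespace Groth.Agent.H37.FPExt_Q3
variable {X : Scheme.{u}}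

lemma app_comp_apply {M N K : X.Modules} (f : M ⟶ N) (g : N ⟶ K) (V : X.Opens) (x : Γ(M, V)) :
    (f ≫ g).app V x = g.app V (f.app V x) := rfl

lemma app_id_apply (M : X.Modules) (V : X.Opens) (x : Γ(M, V)) :
    (𝟙 M : M ⟶ M).app V x = x := rfl

lemma app_add_apply {M N : X.Modules} (f g : M ⟶ N) (V : X.Opens) (x : Γ(M, V)) :
    (f + g).app V x = f.app V x + g.app V x := rfl

lemma app_zero_apply {M N : X.Modules} (V : X.Opens) (x : Γ(M, V)) :
    (0 : M ⟶ N).app V x = 0 := rfl

/-- (Q3) -/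
theorem isFP_biprod (A B : X.Modules) (hA : CohB1.IsFP A) (hB : CohB1.IsFP B) :
    CohB1.IsFP (A ⊞ B) := by
  haveI : SheafOfModules.IsFinitePresentation (R := X.ringCatSheaf) A := hA
  haveI : SheafOfModules.IsFinitePresentation (R := X.ringCatSheaf) B := hB
  haveI : A.IsQuasicoherent := inferInstance
  haveI : B.IsQuasicoherent := inferInstance
  haveI : (A ⊞ B).IsQuasicoherent := Groth.Agent.H22.QCohLimits.isQuasicoherent_biprod A B
  refine Groth.Agent.H8.isFinitePresentation_of_forall_affine_finitePresentation (A ⊞ B) ?_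
  intro W
  haveI : Module.FinitePresentation Γ(X, (W : X.Opens)) Γ(A, (W : X.Opens)) :=
    Groth.Agent.H8.finitePresentation_sections_of_isAffineOpen A W.2
  haveI : Module.FinitePresentation Γ(X, (W : X.Opens)) Γ(B, (W : X.Opens)) :=
    Groth.Agent.H8.finitePresentation_sections_of_isAffineOpen B W.2
  have htotal : ∀ x : Γ(A ⊞ B, (W : X.Opens)),
      (biprod.inl : A ⟶ A ⊞ B).app W.1 ((biprod.fst : A ⊞ B ⟶ A).app W.1 x) +
        (biprod.inr : B ⟶ A ⊞ B).app W.1 ((biprod.snd : A ⊞ B ⟶ B).app W.1 x) = x := by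
    intro x
    have h := congrArg (fun f : A ⊞ B ⟶ A ⊞ B => f.app W.1 x) (biprod.total (X := A) (Y := B))
    exact h
  have h11 : ∀ a : Γ(A, (W : X.Opens)),
      (biprod.fst : A ⊞ B ⟶ A).app W.1 ((biprod.inl : A ⟶ A ⊞ B).app W.1 a) = a := fun a =>
    congrArg (fun f : A ⟶ A => f.app W.1 a) (biprod.inl_fst (X := A) (Y := B))
  have h12 : ∀ a : Γ(A, (W : X.Opens)),
      (biprod.snd : A ⊞ B ⟶ B).app W.1 ((biprod.inl : A ⟶ A ⊞ B).app W.1 a) = 0 := fun a =>
    congrArg (fun f : A ⟶ B => f.app W.1 a) (biprod.inl_snd (X := A) (Y := B))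
  have h21 : ∀ b : Γ(B, (W : X.Opens)),
      (biprod.fst : A ⊞ B ⟶ A).app W.1 ((biprod.inr : B ⟶ A ⊞ B).app W.1 b) = 0 := fun b =>
    congrArg (fun f : B ⟶ A => f.app W.1 b) (biprod.inr_fst (X := A) (Y := B))
  have h22 : ∀ b : Γ(B, (W : X.Opens)),
      (biprod.snd : A ⊞ B ⟶ B).app W.1 ((biprod.inr : B ⟶ A ⊞ B).app W.1 b) = b := fun b =>
    congrArg (fun f : B ⟶ B => f.app W.1 b) (biprod.inr_snd (X := A) (Y := B))
  refine Module.finitePresentation_of_surjective
    ((Groth.Agent.H8.appₗ (biprod.inl : A ⟶ A ⊞ B) W.1).coprod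
      (Groth.Agent.H8.appₗ (biprod.inr : B ⟶ A ⊞ B) W.1)) ?_ ?_
  · intro x
    refine ⟨((biprod.fst : A ⊞ B ⟶ A).app W.1 x, (biprod.snd : A ⊞ B ⟶ B).app W.1 x), ?_⟩
    rw [LinearMap.coprod_apply]
    exact htotal x
  · have hker : LinearMap.ker ((Groth.Agent.H8.appₗ (biprod.inl : A ⟶ A ⊞ B) W.1).coprod
        (Groth.Agent.H8.appₗ (biprod.inr : B ⟶ A ⊞ B) W.1)) = ⊥ := by
      rw [LinearMap.ker_eq_bot']
      rintro ⟨a, b⟩ hab
      rw [LinearMap.coprod_apply] at hab
      have hab' : (biprod.inl : A ⟶ A ⊞ B).app W.1 a + (biprod.inr : B ⟶ A ⊞ B).app W.1 b = 0 :=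
        hab
      have ha : a = 0 := by
        have := congrArg (fun y => (biprod.fst : A ⊞ B ⟶ A).app W.1 y) hab'
        simp only [map_add, map_zero] at this
        rw [h11, h21, add_zero] at this
        exact this
      have hb : b = 0 := by
        have := congrArg (fun y => (biprod.snd : A ⊞ B ⟶ B).app W.1 y) hab'
        simp only [map_add, map_zero] at this
        rw [h12, h22, zero_add] at this
        exact this
      rw [ha, hb]
      rfl
    rw [hker]
    exact Submodule.fg_bot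

end Groth.Agent.H37.FPExt_Q3
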