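import Mathlib
import Groth.Prelude.Def_CohB1
import Groth.Prelude.Def_Coh
import Groth.Agent.H49.InjCokerOpen

/-! (Q5) for helper22's S9828 squad: the cokernel of a map from a finite type quasi-coherent
module to a finitely presented module is finitely presented. -/

set_option autoImplicit false
universe u v w
open CategoryTheory CategoryTheory.Limits AlgebraicGeometry TopologicalSpace Opposite
open AlgebraicGeometry.Scheme.Modules

namespace Groth.Agent.H37.FPExt_Q5
variable {X : Scheme.{u}}

/-- (Q5) -/
theorem isFP_cokernel_of_isFT {A G : X.Modules} [A.IsQuasicoherent] (hA : CohB1.IsFT A)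
    (hG : CohB1.IsFP G) (u : A ⟶ G) : CohB1.IsFP (cokernel u) := by
  haveI : SheafOfModules.IsFinitePresentation (R := X.ringCatSheaf) G := hG
  haveI : SheafOfModules.IsFiniteType (R := X.ringCatSheaf) A := hA
  haveI : G.IsQuasicoherent := inferInstance
  refine Groth.Agent.H8.isFinitePresentation_of_forall_affine_finitePresentation (cokernel u) ?_
  intro W
  haveI : Module.FinitePresentation Γ(X, (W : X.Opens)) Γ(G, (W : X.Opens)) :=
    Groth.Agent.H8.finitePresentation_sections_of_isAffineOpen G W.2
  haveI : Module.Finite Γ(X, (W : X.Opens)) Γ(A, (W : X.Opens)) :=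
    Groth.Agent.H8.finite_sections_of_isAffineOpen A W.2
  exact Groth.Agent.H49.InjCoker.finitePresentation_sections_cokernel u W.2

end Groth.Agent.H37.FPExt_Q5
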