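import Mathlib
import Groth.Prelude.Def_CohB1
import Groth.Prelude.Def_Coh
import Groth.Agent.H49.InjCokerOpen
import Groth.Agent.H22.QCohLimits
import Groth.Agent.H77.FPExt_P1

/-! (R1) for helper22's S9820 squad: the kernel of an epimorphism from a finite type module onto a
module which is finitely presented over an open `U` is of finite type over `U`. -/

set_option autoImplicit false
set_option linter.style.haveILetI false
universe u v w v' w'
open CategoryTheory CategoryTheory.Limits AlgebraicGeometry TopologicalSpace Opposite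
open AlgebraicGeometry.Scheme.Modules

namespace Groth.Agent.H37.FPExt_R1
variable {X : Scheme.{u}}

/-- Finiteness transfers along a ring isomorphism and a semilinear additive equivalence. -/
theorem finite_of_semilinear {R S : Type*} [CommRing R] [CommRing S] (σ : S ≃+* R)
    {N N' : Type*} [AddCommGroup N] [Module S N] [AddCommGroup N'] [Module R N']
    (φ : N ≃+ N') (hφ : ∀ (s : S) (n : N), φ (s • n) = σ s • φ n)
    [Module.Finite S N] : Module.Finite R N' := by
  letI : Algebra R S := σ.symm.toRingHom.toAlgebra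
  letI : Module R N := Module.compHom N σ.symm.toRingHom
  have hsm : ∀ (r : R) (n : N), r • n = σ.symm r • n := fun r n => rfl
  have halg : ∀ (r : R) (s : S), r • s = σ.symm r * s := fun r s => rfl
  haveI : IsScalarTower R S N := ⟨fun r s n => by rw [hsm, halg, mul_smul]⟩
  let e : R ≃ₗ[R] S :=
    { toFun := fun r => σ.symm r
      map_add' := fun a b => map_add _ _ _
      map_smul' := fun r a => by
        simp only [smul_eq_mul, map_mul, RingHom.id_apply]
        rw [halg]
      invFun := fun s => σ s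
      left_inv := fun r => σ.apply_symm_apply r
      right_inv := fun s => σ.symm_apply_apply s }
  haveI : Module.Finite R S := Module.Finite.equiv e
  haveI : Module.Finite R N := Module.Finite.trans S N
  let ψ : N ≃ₗ[R] N' :=
    { φ with
      map_smul' := fun r n => by
        simp only [RingHom.id_apply]
        show φ (r • n) = r • φ n
        rw [hsm, hφ, σ.apply_symm_apply] }
  exact Module.Finite.equiv ψ

/-- Sections of the kernel of an epimorphism over an affine open are a finite module as soon as the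
source has finite and the target finitely presented sections. -/
theorem finite_sections_kernel {G₀ F : X.Modules} [G₀.IsQuasicoherent] [F.IsQuasicoherent]
    (φ₀ : G₀ ⟶ F) [Epi φ₀] {O : X.Opens} (hO : IsAffineOpen O)
    [Module.Finite Γ(X, O) Γ(G₀, O)] [Module.FinitePresentation Γ(X, O) Γ(F, O)] :
    Module.Finite Γ(X, O) Γ(kernel φ₀, O) := by
  have hS : (Groth.Agent.H49.InjCoker.S0 φ₀).ShortExact :=
    { exact := Groth.Agent.H49.InjCoker.S0_exact φ₀
      mono_f := inferInstanceAs (Mono (kernel.ι φ₀))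
      epi_g := inferInstanceAs (Epi φ₀) }
  haveI : (Groth.Agent.H49.InjCoker.S0 φ₀).X₁.IsQuasicoherent :=
    inferInstanceAs (kernel φ₀).IsQuasicoherent
  have hsurj : Function.Surjective (Groth.Agent.H8.appₗ φ₀ O) :=
    Groth.Agent.H22.QCohH1.app_surjective (Groth.Agent.H49.InjCoker.S0 φ₀) hS hO
  haveI : Mono (Groth.Agent.H49.InjCoker.S0 φ₀).f := inferInstanceAs (Mono (kernel.ι φ₀))
  have hex : Function.Exact (Groth.Agent.H8.appₗ (kernel.ι φ₀) O) (Groth.Agent.H8.appₗ φ₀ O) :=
    Groth.Agent.H8.appₗ_exact (Groth.Agent.H49.InjCoker.S0 φ₀)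
      (Groth.Agent.H49.InjCoker.S0_exact φ₀) O
  have hinj : Function.Injective (Groth.Agent.H8.appₗ (kernel.ι φ₀) O) :=
    Groth.Agent.H8.appₗ_injective_of_mono (kernel.ι φ₀) O
  have hfg : (LinearMap.ker (Groth.Agent.H8.appₗ φ₀ O)).FG :=
    Module.FinitePresentation.fg_ker (Groth.Agent.H8.appₗ φ₀ O) hsurj
  rw [hex.linearMap_ker_eq] at hfg
  haveI : Module.Finite Γ(X, O) (LinearMap.range (Groth.Agent.H8.appₗ (kernel.ι φ₀) O)) :=
    Module.Finite.iff_fg.mpr hfg
  exact Module.Finite.equiv (LinearEquiv.ofInjective _ hinj).symm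

/-- (R1) -/
theorem isFT_restrict_kernel {G₀ F : X.Modules} [G₀.IsQuasicoherent] [F.IsQuasicoherent]
    (φ₀ : G₀ ⟶ F) [Epi φ₀] (hG₀ : CohB1.IsFT G₀) (U : X.Opens)
    (hFU : CohB1.IsFP (F.restrict U.ι)) : CohB1.IsFT ((kernel φ₀).restrict U.ι) := by
  haveI : SheafOfModules.IsFiniteType (R := X.ringCatSheaf) G₀ := hG₀
  haveI : SheafOfModules.IsFinitePresentation (R := (U : Scheme.{u}).ringCatSheaf)
    (F.restrict U.ι) := hFU
  haveI : (kernel φ₀).IsQuasicoherent :=
    Groth.Agent.H22.QCohLimits.isQuasicoherent_kernel φ₀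
  haveI : ((kernel φ₀).restrict U.ι).IsQuasicoherent := inferInstance
  refine Groth.Agent.H8.isFiniteType_of_forall_affine_finite ((kernel φ₀).restrict U.ι) ?_
  intro O'
  have hO : IsAffineOpen (U.ι ''ᵁ (O' : (U : Scheme.{u}).Opens)) :=
    O'.2.image_of_isOpenImmersion U.ι
  haveI : Module.Finite Γ(X, U.ι ''ᵁ (O' : (U : Scheme.{u}).Opens))
      Γ(G₀, U.ι ''ᵁ (O' : (U : Scheme.{u}).Opens)) :=
    Groth.Agent.H8.finite_sections_of_isAffineOpen G₀ hO
  haveI : Module.FinitePresentation Γ((U : Scheme.{u}), (O' : (U : Scheme.{u}).Opens))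
      Γ(F.restrict U.ι, (O' : (U : Scheme.{u}).Opens)) :=
    Groth.Agent.H8.finitePresentation_sections_of_isAffineOpen (F.restrict U.ι) O'.2
  haveI : Module.FinitePresentation Γ(X, U.ι ''ᵁ (O' : (U : Scheme.{u}).Opens))
      Γ(F, U.ι ''ᵁ (O' : (U : Scheme.{u}).Opens)) :=
    Groth.Agent.H77.FPExt_P1.fp_of_semilinear
      (S := Γ((U : Scheme.{u}), (O' : (U : Scheme.{u}).Opens)))
      (R := Γ(X, U.ι ''ᵁ (O' : (U : Scheme.{u}).Opens)))
      (N := Γ(F.restrict U.ι, (O' : (U : Scheme.{u}).Opens)))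
      (N' := Γ(F, U.ι ''ᵁ (O' : (U : Scheme.{u}).Opens)))
      (U.ι.appIso (O' : (U : Scheme.{u}).Opens)).symm.commRingCatIsoToRingEquiv
      (AddEquiv.refl _) (fun s n => rfl)
  haveI : Module.Finite Γ(X, U.ι ''ᵁ (O' : (U : Scheme.{u}).Opens))
      Γ(kernel φ₀, U.ι ''ᵁ (O' : (U : Scheme.{u}).Opens)) :=
    finite_sections_kernel φ₀ hO
  exact finite_of_semilinear
    (S := Γ(X, U.ι ''ᵁ (O' : (U : Scheme.{u}).Opens)))
    (R := Γ((U : Scheme.{u}), (O' : (U : Scheme.{u}).Opens)))
    (N := Γ(kernel φ₀, U.ι ''ᵁ (O' : (U : Scheme.{u}).Opens)))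
    (N' := Γ((kernel φ₀).restrict U.ι, (O' : (U : Scheme.{u}).Opens)))
    (U.ι.appIso (O' : (U : Scheme.{u}).Opens)).commRingCatIsoToRingEquiv (AddEquiv.refl _)
    (fun s n => by
      show s • n = ((U.ι.appIso (O' : (U : Scheme.{u}).Opens)).inv
        ((U.ι.appIso (O' : (U : Scheme.{u}).Opens)).hom s)) • n
      rw [Iso.hom_inv_id_apply])

end Groth.Agent.H37.FPExt_R1
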