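import Groth.Agent.S9623
import Groth.Agent.S9630
import Groth.Agent.H37.FieldBase

/-!
# Connected / irreducible schemes over a separably closed field are geometrically so
-/

set_option autoImplicit false
universe u
open CategoryTheory CategoryTheory.Limits AlgebraicGeometry TensorProduct

namespace Groth.Agent.H37

theorem irreducibleSpace_tensor_of_isSepClosed {k : Type u} [Field k] [IsSepClosed k]
    (K L : Type u) [Field K] [Field L] [Algebra k K] [Algebra k L] :
    IrreducibleSpace (PrimeSpectrum (K ⊗[k] L)) := by
  have h3 : IrreducibleSpace (PrimeSpectrum (SeparableClosure k ⊗[k] L)) := by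
    have hb : Function.Bijective (algebraMap k (SeparableClosure k)) :=
      IsSepClosed.algebraMap_bijective k _
    let e0 : k ≃ₐ[k] SeparableClosure k := AlgEquiv.ofBijective (Algebra.ofId k _) hb
    let e : (SeparableClosure k ⊗[k] L) ≃ₐ[k] L :=
      (Algebra.TensorProduct.congr e0.symm AlgEquiv.refl).trans (Algebra.TensorProduct.lid k L)
    haveI : IsDomain (SeparableClosure k ⊗[k] L) := MulEquiv.isDomain L e.toRingEquiv.toMulEquiv
    infer_instance
  have h := (Groth.Agent.S9630.result (k := k) (R := L)).out 2 0
  exact (h.mp h3) K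

theorem connectedSpace_field (K : Type u) [Field K] : ConnectedSpace (PrimeSpectrum K) :=
  { toPreconnectedSpace := inferInstance, toNonempty := inferInstance }

instance geomConn_specMap_of_isSepClosed {k K : Type u} [Field k] [IsSepClosed k] [Field K]
    [Algebra k K] : GeometricallyConnected (Spec.map (CommRingCat.ofHom (algebraMap k K))) := by
  refine ⟨geometrically_iff_of_commRing_of_isClosedUnderIsomorphisms.mpr fun L _ _ => ?_⟩
  refine (pullbackSpecIso k K L).hom.homeomorph.connectedSpace_iff.mpr ?_
  show ConnectedSpace (PrimeSpectrum (K ⊗[k] L))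
  haveI := connectedSpace_field K
  haveI := connectedSpace_field L
  exact Groth.Agent.S9623.result

instance geomIrr_specMap_of_isSepClosed {k K : Type u} [Field k] [IsSepClosed k] [Field K]
    [Algebra k K] : GeometricallyIrreducible (Spec.map (CommRingCat.ofHom (algebraMap k K))) := by
  refine ⟨geometrically_iff_of_commRing_of_isClosedUnderIsomorphisms.mpr fun L _ _ => ?_⟩
  refine (pullbackSpecIso k K L).hom.homeomorph.irreducibleSpace_iff.mpr ?_
  show IrreducibleSpace (PrimeSpectrum (K ⊗[k] L))
  exact irreducibleSpace_tensor_of_isSepClosed K L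

instance univOpen_specMap_field {k K : Type u} [Field k] [Field K] [Algebra k K] :
    UniversallyOpen (Spec.map (CommRingCat.ofHom (algebraMap k K))) :=
  univOpen_of_iso_spec_field k (Iso.refl _) _

theorem geomConn_of_isSepClosed {k : Type u} [Field k] [IsSepClosed k] {X : Scheme.{u}}
    (f : X ⟶ Spec (CommRingCat.of k)) [ConnectedSpace X] : GeometricallyConnected f := by
  refine ⟨geometrically_iff_of_commRing_of_isClosedUnderIsomorphisms.mpr fun K _ _ => ?_⟩
  infer_instance

theorem geomIrr_of_isSepClosed {k : Type u} [Field k] [IsSepClosed k] {X : Scheme.{u}}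
    (f : X ⟶ Spec (CommRingCat.of k)) [IrreducibleSpace X] : GeometricallyIrreducible f := by
  refine ⟨geometrically_iff_of_commRing_of_isClosedUnderIsomorphisms.mpr fun K _ _ => ?_⟩
  infer_instance

/-- Preimages of connected sets under an open map with connected fibres are connected. -/
theorem isConnected_preimage_of_isOpenMap_of_fibres {α β : Type*} [TopologicalSpace α]
    [TopologicalSpace β] {p : α → β} (hc : Continuous p) (ho : IsOpenMap p)
    (hfib : ∀ b, IsConnected (p ⁻¹' {b})) {Z : Set β} (hZ : IsConnected Z) :
    IsConnected (p ⁻¹' Z) := by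
  haveI : ConnectedSpace Z := isConnected_iff_connectedSpace.mp hZ
  have hr_c : Continuous (Z.restrictPreimage p) := hc.restrictPreimage
  have hr_o : IsOpenMap (Z.restrictPreimage p) := ho.restrictPreimage Z
  have hr_s : Function.Surjective (Z.restrictPreimage p) := by
    rintro ⟨b, hb⟩
    obtain ⟨a, ha⟩ := (hfib b).nonempty
    have ha' : p a = b := ha
    exact ⟨⟨a, by show p a ∈ Z; rw [ha']; exact hb⟩, Subtype.ext ha'⟩
  have hfib' : ∀ z : Z, IsConnected (Z.restrictPreimage p ⁻¹' {z}) := by
    intro z
    have himg : (Subtype.val : p ⁻¹' Z → α) '' (Z.restrictPreimage p ⁻¹' {z}) = p ⁻¹' {z.1} := by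
      ext a
      constructor
      · rintro ⟨⟨a', ha'⟩, h1, rfl⟩
        exact congrArg Subtype.val h1
      · intro ha
        have ha' : p a = z.1 := ha
        exact ⟨⟨a, by show p a ∈ Z; rw [ha']; exact z.2⟩, Subtype.ext ha', rfl⟩
    have h2 := hfib z.1
    rw [← himg] at h2
    exact ⟨h2.1.of_image, Topology.IsInducing.subtypeVal.isPreconnected_image.mp h2.2⟩
  have hcoind : Topology.IsCoinducing (Z.restrictPreimage p) :=
    (hr_o.isQuotientMap hr_c hr_s).isCoinducing
  have h3 := hcoind.isConnected_preimage_of_isClosed hfib' isClosed_univ isConnected_univ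
  rw [Set.preimage_univ] at h3
  exact isConnected_iff_connectedSpace.mpr (connectedSpace_iff_univ.mpr h3)

end Groth.Agent.H37
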