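import Mathlib
import Groth.Prelude.Def_FlatCA
import Groth.Prelude.Def_AlgSpModX

/-! (NOETH) for helper32's S10812 squad: the ring of sections of an affine scheme étale over a
locally Noetherian algebraic space is Noetherian. -/

set_option autoImplicit false
universe u w
open CategoryTheory Limits TensorProduct AlgebraicGeometry

namespace Groth.Agent.H37.WAFin_NOETH

section Alg

/-- A finite product of flat algebras is flat. -/
lemma flat_pi' {A : Type u} [CommRing A] {ι : Type u} [Fintype ι] [DecidableEq ι]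
    (B : ι → Type u) [∀ a, CommRing (B a)] [∀ a, Algebra A (B a)] [∀ a, Module.Flat A (B a)] :
    Module.Flat A (∀ a, B a) := by
  have e : (Π₀ a, B a) ≃ₗ[A] (∀ a, B a) := DFinsupp.linearEquivFunOnFintype
  exact Module.Flat.of_linearEquiv e.symm

/-- A finite product of flat algebras that is jointly surjective on spectra is faithfully flat. -/
lemma faithfullyFlat_pi' {A : Type u} [CommRing A] {ι : Type u} [Fintype ι] [DecidableEq ι]
    (B : ι → Type u) [∀ a, CommRing (B a)] [∀ a, Algebra A (B a)] [∀ a, Module.Flat A (B a)]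
    (hsurj : ∀ p : PrimeSpectrum A, ∃ a,
      p ∈ Set.range (PrimeSpectrum.comap (algebraMap A (B a)))) :
    Module.FaithfullyFlat A (∀ a, B a) := by
  haveI := flat_pi' (A := A) B
  apply Module.FaithfullyFlat.of_comap_surjective
  intro p
  obtain ⟨a, q, hq⟩ := hsurj p
  refine ⟨PrimeSpectrum.comap (Pi.evalRingHom B a) q, ?_⟩
  rw [← hq]
  ext x
  simp only [PrimeSpectrum.comap_asIdeal, Ideal.mem_comap]
  rfl

/-- Noetherianity descends along faithfully flat ring maps. -/
theorem isNoetherianRing_of_faithfullyFlat (A B : Type u) [CommRing A] [CommRing B] [Algebra A B]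
    [Module.FaithfullyFlat A B] [IsNoetherianRing B] : IsNoetherianRing A := by
  have h1 : IsNoetherian B (B ⊗[A] A) :=
    isNoetherian_of_linearEquiv (TensorProduct.AlgebraTensorModule.rid A B B).symm
  exact Submodule.IsNoetherian.of_isNoetherian_tensorProduct_of_faithfullyFlat (A := B) h1

end Alg

/-- If `f : Z ⟶ E` is flat, open and surjective with `Z` locally Noetherian and `E` affine, then
`Γ(E, ⊤)` is Noetherian. -/
theorem isNoetherianRing_of_flat_surjective_open {Z E : Scheme.{u}} (f : Z ⟶ E) [Flat f]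
    (hopen : IsOpenMap f) (hsurj : Function.Surjective f) [IsLocallyNoetherian Z] [IsAffine E] :
    IsNoetherianRing Γ(E, ⊤) := by
  classical
  have hE : IsAffineOpen (⊤ : E.Opens) := isAffineOpen_top E
  choose W hW hzW _ using fun z : Z =>
    TopologicalSpace.Opens.isBasis_iff_nbhd.mp Z.isBasis_affineOpens
      (TopologicalSpace.Opens.mem_top z)
  obtain ⟨t, ht⟩ := isCompact_univ.elim_finite_subcover (fun z : Z => f '' (W z : Set Z))
    (fun z => hopen _ (W z).2) (fun e _ => by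
      obtain ⟨z, rfl⟩ := hsurj e
      exact Set.mem_iUnion.mpr ⟨z, ⟨z, hzW z, rfl⟩⟩)
  have hle : ∀ z : Z, W z ≤ f ⁻¹ᵁ ⊤ := fun z => le_top
  letI : ∀ z : t, Algebra Γ(E, ⊤) Γ(Z, W z.1) :=
    fun z => (f.appLE ⊤ (W z.1) (hle z.1)).hom.toAlgebra
  haveI : ∀ z : t, Module.Flat Γ(E, ⊤) Γ(Z, W z.1) :=
    fun z => f.flat_appLE hE (hW z.1) (hle z.1)
  haveI : ∀ z : t, IsNoetherianRing Γ(Z, W z.1) :=
    fun z => IsLocallyNoetherian.component_noetherian ⟨W z.1, hW z.1⟩
  haveI hff : Module.FaithfullyFlat Γ(E, ⊤) (∀ z : t, Γ(Z, W z.1)) := by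
    refine faithfullyFlat_pi' (A := Γ(E, ⊤)) (fun z : t => Γ(Z, W z.1)) fun p => ?_
    have hx : hE.fromSpec p ∈ (⊤ : E.Opens) := TopologicalSpace.Opens.mem_top _
    have he : hE.primeIdealOf ⟨hE.fromSpec p, hx⟩ = p :=
      hE.fromSpec.isOpenEmbedding.injective (hE.fromSpec_primeIdealOf ⟨hE.fromSpec p, hx⟩)
    obtain ⟨z₀, hz₀t, z', hz'W, hz'e⟩ : ∃ z₀ ∈ t, ∃ z' ∈ W z₀, f z' = hE.fromSpec p := by
      have := ht (Set.mem_univ (hE.fromSpec p))
      obtain ⟨z₀, hz₀⟩ := Set.mem_iUnion.mp this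
      obtain ⟨hz₀t, z', hz'W, hz'e⟩ := Set.mem_iUnion.mp hz₀
      exact ⟨z₀, hz₀t, z', hz'W, hz'e⟩
    refine ⟨⟨z₀, hz₀t⟩, (hW z₀).primeIdealOf ⟨z', hz'W⟩, ?_⟩
    have h1 := IsAffineOpen.comap_primeIdealOf_appLE (f := f) ⊤ hE (W z₀) (hW z₀) (hle z₀) hz'W
    rw [← he]
    refine Eq.trans ?_ (h1.trans ?_)
    · rfl
    · congr 1
      exact Subtype.ext hz'e
  exact isNoetherianRing_of_faithfullyFlat Γ(E, ⊤) (∀ z : t, Γ(Z, W z.1))

/-- (NOETH) -/
theorem isNoetherianRing_of_isLocNoethSp {S : Scheme.{u}} (X : AlgSp.Sp S)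
    (hX : AlgSp.IsLocNoethSp X) (E : AlgSp.EtOver X) [IsAffine E.obj.left.left] :
    IsNoetherianRing Γ(E.obj.left.left, ⊤) := by
  obtain ⟨U, p, hpE, hpS, hN⟩ := hX
  obtain ⟨W, snd, fst, sq⟩ := hpE.1 E.obj.hom
  have hsndE : Etale snd.left := hpE.2 E.obj.hom fst snd sq
  have hsndS : Surjective snd.left := hpS.2 E.obj.hom fst snd sq
  obtain ⟨fst', hfst'⟩ := (AlgSp.yon S).map_surjective fst
  have hfstE : Etale fst'.left := by
    subst hfst'
    exact E.property.2 p _ fst' sq.flip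
  haveI : IsLocallyNoetherian U.left := hN
  haveI : IsLocallyNoetherian W.left := LocallyOfFiniteType.isLocallyNoetherian fst'.left
  exact isNoetherianRing_of_flat_surjective_open snd.left snd.left.isOpenMap hsndS.surj

end Groth.Agent.H37.WAFin_NOETH
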