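import Groth.Agent.H37.KeyF1

/-!
# (S7) for S1920: local finiteness of the family `gFun` (helper37)

Hypothesis-style core: (S1), (S4), (RD1) enter as explicit hypotheses.
-/

set_option autoImplicit false
set_option linter.style.haveILetI false
universe u
open CategoryTheory AlgebraicGeometry TopologicalSpace Opposite

namespace Groth.Agent.H37.KeyS7

open Groth.Agent.H34.Key
open Groth.Agent.H18.TensorGen (IsGen exists_isGen exists_isGen_pair)

variable {X : Scheme.{u}} [IsIntegral X]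

/-- the function attached to data whose `ψs`, `ψt` are units at `ξ` is `1` -/
theorem gOf_eq_one_of_unitAt (ξ : X) (hdim : ringKrullDim (X.presheaf.stalk ξ) = 1)
    (hRD1 : ∀ (c : X.presheaf.stalk ξ), IsUnit c → ∀ χ : X.functionField, χ ≠ 0 →
      tameFrac (X.presheaf.stalk ξ) X.functionField
        (algebraMap (X.presheaf.stalk ξ) X.functionField c) χ =
        (IsLocalRing.residue (X.presheaf.stalk ξ) c) ^
          (CycAlg.ordFrac (X.presheaf.stalk ξ) X.functionField χ))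
    (ψs ψt : X.functionField) (hψt0 : ψt ≠ 0) (hUs : UnitAt ξ ψs) (hUt : UnitAt ξ ψt)
    (φu φv : X.presheaf.stalk ξ) : gOf ξ ψs ψt φu φv = 1 := by
  obtain ⟨c, hc, hcs⟩ := hUs
  obtain ⟨d, hd, hdt⟩ := hUt
  have o1 : CycAlg.ordFrac (X.presheaf.stalk ξ) X.functionField ψs = 0 := by
    rw [← hcs]; exact Groth.Agent.H95.SecOrd.ordFrac_algebraMap_unit _ _ hc
  have o2 : CycAlg.ordFrac (X.presheaf.stalk ξ) X.functionField ψt = 0 := by
    rw [← hdt]; exact Groth.Agent.H95.SecOrd.ordFrac_algebraMap_unit _ _ hd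
  have t1 : tameFracX ξ ψs ψt = 1 := by
    unfold tameFracX
    rw [← hcs, hRD1 c hc ψt hψt0, o2, zpow_zero]
    rfl
  unfold gOf
  rw [t1, o1, o2, zpow_zero, zpow_zero, inv_one, mul_one, mul_one]

/-- (S7), hypothesis-style: (S1) = `hS1`, (S4) = `hS4`, (RD1) = `hRD1`. -/
theorem locallyFinite_gFun_core (δ : X → ℤ) [IsLocallyNoetherian X] {L N : X.Modules}
    (hL : PicF.IsInvertible L) (hN : PicF.IsInvertible N)
    (s : Cyc.secFibre L (genericPoint X)) (hs : s ≠ 0)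
    (t : Cyc.secFibre N (genericPoint X)) (ht : t ≠ 0)
    (u : (ξ : X) → Cyc.secFibre N ξ)
    (v : (ξ : X) → Cyc.secFibre L ξ)
    (hS1 : ∀ ξ : X, ∃ d : ℕ, ringKrullDim (X.presheaf.stalk ξ) = (d : WithBot ℕ∞) ∧
      δ (genericPoint X) = δ ξ + d)
    (hS4 : ∀ ξ : X, ringKrullDim (X.presheaf.stalk ξ) = 1 →
      ∀ D D' : GData L N s t ξ (u ξ) (v ξ), D.val = D'.val)
    (hRD1 : ∀ ξ : X, ringKrullDim (X.presheaf.stalk ξ) = 1 →
      ∀ (c : X.presheaf.stalk ξ), IsUnit c → ∀ χ : X.functionField, χ ≠ 0 →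
      tameFrac (X.presheaf.stalk ξ) X.functionField
        (algebraMap (X.presheaf.stalk ξ) X.functionField c) χ =
        (IsLocalRing.residue (X.presheaf.stalk ξ) c) ^
          (CycAlg.ordFrac (X.presheaf.stalk ξ) X.functionField χ))
    (x : X) :
    ∃ U : Set X, IsOpen U ∧ x ∈ U ∧ {ξ : X | δ ξ + 1 = δ (genericPoint X) ∧
      gFun hL hN s t u v ξ ≠ 1 ∧ (closure {ξ} ∩ U).Nonempty}.Finite := by
  obtain ⟨V, τ, ν, hxV, hτ, hν⟩ := exists_isGen_pair hL hN x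
  have hηV : genericPoint X ∈ V := (genericPoint_specializes x).mem_open V.2 hxV
  obtain ⟨ψs, hψs⟩ := Groth.Agent.H95.SecOrd.exists_eq_smul_mk hτ (genericPoint X) hηV s
  obtain ⟨ψt, hψt⟩ := Groth.Agent.H95.SecOrd.exists_eq_smul_mk hν (genericPoint X) hηV t
  have hψs0 : ψs ≠ 0 := by
    intro h0; apply hs; rw [hψs, h0, zero_smul]
  have hψt0 : ψt ≠ 0 := by
    intro h0; apply ht; rw [hψt, h0, zero_smul]
  obtain ⟨U1, hxU1, hF1⟩ := Groth.Agent.H37.KeyF1.finite_not_unitAt x ψs hψs0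
  obtain ⟨U2, hxU2, hF2⟩ := Groth.Agent.H37.KeyF1.finite_not_unitAt x ψt hψt0
  refine ⟨((V : Set X) ∩ U1) ∩ U2, (V.isOpen.inter U1.isOpen).inter U2.isOpen,
    ⟨⟨hxV, hxU1⟩, hxU2⟩, (hF1.union hF2).subset ?_⟩
  rintro ξ ⟨hδ, hg, ⟨z, hz1, hz2⟩⟩
  have hξU : ξ ∈ ((V : Set X) ∩ U1) ∩ U2 :=
    (specializes_iff_mem_closure.mpr hz1).mem_open
      ((V.isOpen.inter U1.isOpen).inter U2.isOpen) hz2
  obtain ⟨⟨hξV, hξ1⟩, hξ2⟩ := hξU
  obtain ⟨d, hd1, hd2⟩ := hS1 ξ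
  have hd : d = 1 := by omega
  have hdim : ringKrullDim (X.presheaf.stalk ξ) = 1 := by rw [hd1, hd, Nat.cast_one]
  by_contra hnot
  rw [Set.mem_union, not_or] at hnot
  have hUs : UnitAt ξ ψs := by
    by_contra h; exact hnot.1 ⟨hξ1, hdim, h⟩
  have hUt : UnitAt ξ ψt := by
    by_contra h; exact hnot.2 ⟨hξ2, hdim, h⟩
  obtain ⟨φu, hφu⟩ := Groth.Agent.H95.SecOrd.exists_eq_smul_mk hν ξ hξV (u ξ)
  obtain ⟨φv, hφv⟩ := Groth.Agent.H95.SecOrd.exists_eq_smul_mk hτ ξ hξV (v ξ)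
  apply hg
  show (Classical.choice (nonempty_gData hL hN s t ξ (u ξ) (v ξ))).val = 1
  rw [hS4 ξ hdim _
    (⟨V, hξV, hηV, τ, ν, hτ, hν, ψs, ψt, φu, φv, hψs, hψt, hφu, hφv⟩ :
      GData L N s t ξ (u ξ) (v ξ))]
  exact gOf_eq_one_of_unitAt ξ hdim (hRD1 ξ hdim) ψs ψt hψt0 hUs hUt φu φv

end Groth.Agent.H37.KeyS7
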