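import Groth.Agent.H34.KeyRelDefs
import Groth.Agent.S1851
import Groth.Agent.H95.StalkPrimes
import Groth.Agent.H95.CycZero

/-!
# (T5) for the relative key formula (S1922/S1921): the key lemma S1851 on the closure of a point
`ζ`, for elements of the local ring at `x` (helper37, for helper34's squad).

Hypothesis-style: (T2) `exists_dim_locQuot` and (T4) `skl_term_rel` are explicit hypotheses.
-/

set_option autoImplicit false
set_option linter.style.haveILetI false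
universe u
open CategoryTheory AlgebraicGeometry TopologicalSpace Opposite

namespace Groth.Agent.H37.KeyRelT5

open Groth.Agent.H34.Key Groth.Agent.H34.KeyRel

variable {X : Scheme.{u}}

/-- `𝔭_ζ ⊆ 𝔭_ξ` in `O_x` if `ζ ⤳ ξ ⤳ x`. -/
theorem ker_le_ker {ζ ξ x : X} (h₁ : ζ ⤳ ξ) (h₂ : ξ ⤳ x) (hx : ζ ⤳ x) :
    RingHom.ker (Cyc.specMap x ζ hx) ≤ RingHom.ker (Cyc.specMap x ξ h₂) := by
  intro c hc
  rw [RingHom.mem_ker] at hc ⊢
  by_contra hne
  have hne' : (X.residue ξ).hom ((X.presheaf.stalkSpecializes h₂).hom c) ≠ 0 := hne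
  have hu : IsUnit ((X.presheaf.stalkSpecializes h₂).hom c) :=
    (IsLocalRing.residue_ne_zero_iff_isUnit _).mp hne'
  have hu2 : IsUnit ((X.presheaf.stalkSpecializes h₁).hom
      ((X.presheaf.stalkSpecializes h₂).hom c)) := hu.map _
  have e : X.presheaf.stalkSpecializes h₂ ≫ X.presheaf.stalkSpecializes h₁ =
      X.presheaf.stalkSpecializes hx := X.presheaf.stalkSpecializes_comp h₁ h₂
  have e2 : (X.presheaf.stalkSpecializes h₁).hom ((X.presheaf.stalkSpecializes h₂).hom c) =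
      (X.presheaf.stalkSpecializes hx).hom c := by
    rw [← e]
    rfl
  rw [e2] at hu2
  have hc' : (X.residue ζ).hom ((X.presheaf.stalkSpecializes hx).hom c) = 0 := hc
  exact (IsLocalRing.residue_ne_zero_iff_isUnit _).mpr hu2 hc'

/-- `𝔭_ζ ⊆ 𝔭_ξ` in `O_x` implies `ζ ⤳ ξ`. -/
theorem specializes_of_ker_le {ζ ξ x : X} (hζ : ζ ⤳ x) (hξ : ξ ⤳ x)
    (hle : RingHom.ker (Cyc.specMap x ζ hζ) ≤ RingHom.ker (Cyc.specMap x ξ hξ)) : ζ ⤳ ξ := by
  obtain ⟨W, hW0, hxW, -⟩ := Opens.isBasis_iff_nbhd.mp X.isBasis_affineOpens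
    (show x ∈ (⊤ : X.Opens) from trivial)
  have hW : IsAffineOpen W := hW0
  have hζW : ζ ∈ W := hζ.mem_open W.2 hxW
  have hξW : ξ ∈ W := hξ.mem_open W.2 hxW
  have c := Groth.Agent.H95.StalkPrimes.comap_comap_eq hW hζ hxW hζW
  have c' := Groth.Agent.H95.StalkPrimes.comap_comap_eq hW hξ hxW hξW
  rw [← Groth.Agent.H95.CycZero.ker_specMap hζ] at c
  rw [← Groth.Agent.H95.CycZero.ker_specMap hξ] at c'
  have hp : hW.primeIdealOf ⟨ζ, hζW⟩ ≤ hW.primeIdealOf ⟨ξ, hξW⟩ := by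
    rw [← PrimeSpectrum.asIdeal_le_asIdeal, ← c, ← c']
    exact Ideal.comap_mono hle
  have hs : hW.fromSpec (hW.primeIdealOf ⟨ζ, hζW⟩) ⤳ hW.fromSpec (hW.primeIdealOf ⟨ξ, hξW⟩) :=
    ((PrimeSpectrum.le_iff_specializes _ _).mp hp).map hW.fromSpec.continuous
  rw [hW.fromSpec_primeIdealOf, hW.fromSpec_primeIdealOf] at hs
  exact hs

theorem ker_congr {ζ ζ' x : X} (h : ζ ⤳ x) (h' : ζ' ⤳ x) (e : ζ = ζ') :
    RingHom.ker (Cyc.specMap x ζ h) = RingHom.ker (Cyc.specMap x ζ' h') := by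
  subst e
  rfl

/-- the quotient map `O_x → O_x/𝔭_ζ` -/
noncomputable abbrev qmap {ζ x : X} (hx : ζ ⤳ x) :
    X.presheaf.stalk x →+* Cyc.LocQuot x ζ hx :=
  Ideal.Quotient.mk (RingHom.ker (Cyc.specMap x ζ hx))

theorem qmap_surjective {ζ x : X} (hx : ζ ⤳ x) : Function.Surjective (qmap hx) :=
  Ideal.Quotient.mk_surjective

theorem ker_qmap {ζ x : X} (hx : ζ ⤳ x) :
    RingHom.ker (qmap hx) = RingHom.ker (Cyc.specMap x ζ hx) :=
  Ideal.mk_ker

theorem comap_bot {ζ x : X} (hx : ζ ⤳ x) :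
    (⊥ : Ideal (Cyc.LocQuot x ζ hx)).comap (qmap hx) = RingHom.ker (Cyc.specMap x ζ hx) :=
  (RingHom.ker_eq_comap_bot (qmap hx)).symm.trans (ker_qmap hx)

theorem map_ker_self {ζ x : X} (hx : ζ ⤳ x) :
    (RingHom.ker (Cyc.specMap x ζ hx)).map (qmap hx) = ⊥ :=
  Ideal.map_quotient_self _

theorem comap_map {ζ ξ x : X} (h₁ : ζ ⤳ ξ) (h₂ : ξ ⤳ x) (hx : ζ ⤳ x) :
    ((RingHom.ker (Cyc.specMap x ξ h₂)).map (qmap hx)).comap (qmap hx) =
      RingHom.ker (Cyc.specMap x ξ h₂) := by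
  rw [Ideal.comap_map_of_surjective (qmap hx) (qmap_surjective hx), comap_bot hx]
  exact sup_eq_left.mpr (ker_le_ker h₁ h₂ hx)

theorem map_isPrime {ζ ξ x : X} (h₁ : ζ ⤳ ξ) (h₂ : ξ ⤳ x) (hx : ζ ⤳ x) :
    ((RingHom.ker (Cyc.specMap x ξ h₂)).map (qmap hx)).IsPrime :=
  Ideal.map_isPrime_of_surjective (qmap_surjective hx)
    ((ker_qmap hx).le.trans (ker_le_ker h₁ h₂ hx))

/-- height one primes of `O_x/𝔭_ζ` from codimension one points of the closure of `ζ`. -/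
theorem height_map_eq_one (δ : X → ℤ) (hdim : Cyc.IsDimFun X δ) {ζ ξ x : X} (h₁ : ζ ⤳ ξ)
    (h₂ : ξ ⤳ x) (hx : ζ ⤳ x) (hd : δ ξ + 1 = δ ζ) :
    ((RingHom.ker (Cyc.specMap x ξ h₂)).map (qmap hx)).height = 1 := by
  haveI := map_isPrime h₁ h₂ hx
  have hstrict : ∀ a b : X, a ⤳ b → a ≠ b → δ b < δ a := fun a b hab hne => (hdim a b hab hne).1
  apply le_antisymm
  · have h1 : ((RingHom.ker (Cyc.specMap x ξ h₂)).map (qmap hx)).height ≤ ((1 : ℕ) : ℕ∞) := by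
      rw [Ideal.height_le_iff]
      intro q' hq' hlt
      haveI := hq'
      have hq'bot : q' = ⊥ := by
        haveI : (q'.comap (qmap hx)).IsPrime := Ideal.comap_isPrime _ _
        obtain ⟨z, hz, hzP⟩ :=
          Groth.Agent.H95.StalkPrimes.exists_generization x (q'.comap (qmap hx))
        rw [← Groth.Agent.H95.CycZero.ker_specMap hz] at hzP
        have hζz : ζ ⤳ z := specializes_of_ker_le hx hz
          (((comap_bot hx).ge.trans (Ideal.comap_mono bot_le)).trans hzP.ge)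
        have hzξ : z ⤳ ξ := specializes_of_ker_le hz h₂
          (hzP.le.trans ((Ideal.comap_mono hlt.le).trans (comap_map h₁ h₂ hx).le))
        have hne : z ≠ ξ := by
          intro e
          exact hlt.ne ((Ideal.map_comap_of_surjective (qmap hx) (qmap_surjective hx) q').symm.trans
            (congrArg (Ideal.map (qmap hx)) (hzP.symm.trans (ker_congr hz h₂ e))))
        by_cases hzζ : ζ = z
        · exact (Ideal.map_comap_of_surjective (qmap hx) (qmap_surjective hx) q').symm.trans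
            ((congrArg (Ideal.map (qmap hx)) (hzP.symm.trans (ker_congr hz hx hzζ.symm))).trans
              (map_ker_self hx))
        · exfalso
          have d1 := hstrict ζ z hζz hzζ
          have d2 := hstrict z ξ hzξ hne
          omega
      have h0 : q'.height = 0 := Ideal.height_eq_zero_iff_eq_bot.mpr hq'bot
      rw [h0]
      first | exact_mod_cast zero_lt_one | simp
    exact h1.trans_eq Nat.cast_one
  · rw [Order.one_le_iff_ne_zero, Ne, Ideal.height_eq_zero_iff_eq_bot]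
    intro hbot
    have e1 : RingHom.ker (Cyc.specMap x ξ h₂) = RingHom.ker (Cyc.specMap x ζ hx) :=
      (comap_map h₁ h₂ hx).symm.trans ((congrArg (Ideal.comap (qmap hx)) hbot).trans (comap_bot hx))
    have e2 : ξ = ζ := Groth.Agent.H95.CycZero.eq_of_ker_specMap_eq h₂ hx e1
    rw [e2] at hd
    omega

/-- codimension one points of the closure of `ζ` from height one primes of `O_x/𝔭_ζ`. -/
theorem exists_point_of_height_one (δ : X → ℤ) (hdim : Cyc.IsDimFun X δ) {ζ x : X} (hx : ζ ⤳ x)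
    (q : Ideal (Cyc.LocQuot x ζ hx)) [q.IsPrime] (hq : q.height = 1) :
    ∃ (ξ : X) (_ : ζ ⤳ ξ) (h₂ : ξ ⤳ x), δ ξ + 1 = δ ζ ∧
      (RingHom.ker (Cyc.specMap x ξ h₂)).map (qmap hx) = q := by
  haveI : (q.comap (qmap hx)).IsPrime := Ideal.comap_isPrime _ _
  obtain ⟨ξ, h₂, hξP⟩ := Groth.Agent.H95.StalkPrimes.exists_generization x (q.comap (qmap hx))
  rw [← Groth.Agent.H95.CycZero.ker_specMap h₂] at hξP
  have h₁ : ζ ⤳ ξ := specializes_of_ker_le hx h₂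
    (((comap_bot hx).ge.trans (Ideal.comap_mono bot_le)).trans hξP.ge)
  have hmapξ : (RingHom.ker (Cyc.specMap x ξ h₂)).map (qmap hx) = q :=
    (congrArg (Ideal.map (qmap hx)) hξP).trans
      (Ideal.map_comap_of_surjective (qmap hx) (qmap_surjective hx) q)
  have hqne : q ≠ ⊥ := Ideal.ne_bot_of_height_eq_one hq
  have hζξ : ζ ≠ ξ := by
    intro e
    exact hqne (hmapξ.symm.trans ((congrArg (Ideal.map (qmap hx)) (ker_congr hx h₂ e).symm).trans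
      (map_ker_self hx)))
  have himm : ∀ z : X, ζ ⤳ z → z ⤳ ξ → z = ζ ∨ z = ξ := by
    intro z hζz hzξ
    have hz : z ⤳ x := hzξ.trans h₂
    haveI := map_isPrime hζz hz hx
    have hle : (RingHom.ker (Cyc.specMap x z hz)).map (qmap hx) ≤ q :=
      (Ideal.map_mono (ker_le_ker hzξ h₂ hz)).trans hmapξ.le
    rcases hle.eq_or_lt with heq | hlt
    · right
      apply Groth.Agent.H95.CycZero.eq_of_ker_specMap_eq hz h₂
      exact (comap_map hζz hz hx).symm.trans ((congrArg (Ideal.comap (qmap hx)) heq).trans hξP.symm)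
    · left
      have hlt1 := (Ideal.height_le_iff (p := q) (n := 1)).mp
        (hq.le.trans_eq (Nat.cast_one (R := ℕ∞)).symm) _ inferInstance hlt
      have h0 : ((RingHom.ker (Cyc.specMap x z hz)).map (qmap hx)).height = 0 :=
        Order.lt_one_iff.mp (by exact_mod_cast hlt1)
      have hbot := Ideal.height_eq_zero_iff_eq_bot.mp h0
      apply Groth.Agent.H95.CycZero.eq_of_ker_specMap_eq hz hx
      exact (comap_map hζz hz hx).symm.trans
        ((congrArg (Ideal.comap (qmap hx)) hbot).trans (comap_bot hx))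
  have hd1 : δ ζ = δ ξ + 1 := (hdim ζ ξ h₁ hζξ).2 himm
  exact ⟨ξ, h₁, h₂, hd1.symm, hmapξ⟩

open Classical in
/-- (T5), hypothesis-style. -/
theorem skl_elem_rel_core [IsLocallyNoetherian X] (δ : X → ℤ) (hdim : Cyc.IsDimFun X δ)
    (hT2 : ∀ (ζ x : X) (h : ζ ⤳ x), ∃ d : ℕ,
      ringKrullDim (Cyc.LocQuot x ζ h) = (d : WithBot ℕ∞) ∧ δ ζ = δ x + d)
    (hT4 : ∀ (ζ ξ x : X) (h₁ : ζ ⤳ ξ) (h₂ : ξ ⤳ x) (hx : ζ ⤳ x),
      ringKrullDim (Cyc.LocQuot ξ ζ h₁) = 1 → ∀ (a b : X.presheaf.stalk x),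
      Cyc.specMap x ζ hx a ≠ 0 → Cyc.specMap x ζ hx b ≠ 0 →
      ∀ (q : Ideal (Cyc.LocQuot x ζ hx)) [q.IsPrime],
      q = (RingHom.ker (Cyc.specMap x ξ h₂)).map
        (Ideal.Quotient.mk (RingHom.ker (Cyc.specMap x ζ hx))) →
      CycAlg.ordFrac (Cyc.LocQuot x ζ hx ⧸ q) q.ResidueField
        (CycAlg.tameSymbol (Localization.AtPrime q)
          (algebraMap (Cyc.LocQuot x ζ hx) (Localization.AtPrime q)
            (Ideal.Quotient.mk (RingHom.ker (Cyc.specMap x ζ hx)) a))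
          (algebraMap (Cyc.LocQuot x ζ hx) (Localization.AtPrime q)
            (Ideal.Quotient.mk (RingHom.ker (Cyc.specMap x ζ hx)) b))) =
      Cyc.ordAt x ξ h₂ (resLQEquiv h₁ (CycAlg.tameSymbol (Cyc.LocQuot ξ ζ h₁)
        (Ideal.Quotient.mk (RingHom.ker (Cyc.specMap ξ ζ h₁))
          ((X.presheaf.stalkSpecializes h₂).hom a))
        (Ideal.Quotient.mk (RingHom.ker (Cyc.specMap ξ ζ h₁))
          ((X.presheaf.stalkSpecializes h₂).hom b)))))
    {ζ x : X} (hx : ζ ⤳ x) (hδ : δ x + 2 = δ ζ) (a b : X.presheaf.stalk x)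
    (ha : Cyc.specMap x ζ hx a ≠ 0) (hb : Cyc.specMap x ζ hx b ≠ 0) :
    ∑ᶠ ξ : X, (if h : ζ ⤳ ξ ∧ ξ ⤳ x ∧ δ x + 1 = δ ξ then
      Cyc.ordAt x ξ h.2.1 (resLQEquiv h.1 (CycAlg.tameSymbol (Cyc.LocQuot ξ ζ h.1)
        (Ideal.Quotient.mk (RingHom.ker (Cyc.specMap ξ ζ h.1))
          ((X.presheaf.stalkSpecializes h.2.1).hom a))
        (Ideal.Quotient.mk (RingHom.ker (Cyc.specMap ξ ζ h.1))
          ((X.presheaf.stalkSpecializes h.2.1).hom b))))
      else 0) = 0 := by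
  have hA2 : ringKrullDim (Cyc.LocQuot x ζ hx) = 2 := by
    obtain ⟨d, hd, hd'⟩ := hT2 ζ x hx
    have hd2 : d = 2 := by omega
    rw [hd, hd2]
    first | exact Nat.cast_ofNat | rfl | simp
  have hqa : qmap hx a ≠ 0 :=
    fun h0 => ha (RingHom.mem_ker.mp (Ideal.Quotient.eq_zero_iff_mem.mp h0))
  have hqb : qmap hx b ≠ 0 :=
    fun h0 => hb (RingHom.mem_ker.mp (Ideal.Quotient.eq_zero_iff_mem.mp h0))
  have hS := Groth.Agent.S1851.result (Cyc.LocQuot x ζ hx) hA2 (qmap hx a) (qmap hx b)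
    (mem_nonZeroDivisors_of_ne_zero hqa) (mem_nonZeroDivisors_of_ne_zero hqb)
  refine Eq.trans ?_ hS
  let F : X → ℤ := fun ξ => if h : ζ ⤳ ξ ∧ ξ ⤳ x ∧ δ x + 1 = δ ξ then
      Cyc.ordAt x ξ h.2.1 (resLQEquiv h.1 (CycAlg.tameSymbol (Cyc.LocQuot ξ ζ h.1)
        (Ideal.Quotient.mk (RingHom.ker (Cyc.specMap ξ ζ h.1))
          ((X.presheaf.stalkSpecializes h.2.1).hom a))
        (Ideal.Quotient.mk (RingHom.ker (Cyc.specMap ξ ζ h.1))
          ((X.presheaf.stalkSpecializes h.2.1).hom b))))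
      else 0
  let T : PrimeSpectrum (Cyc.LocQuot x ζ hx) → ℤ := fun q =>
    CycAlg.ordFrac (Cyc.LocQuot x ζ hx ⧸ q.asIdeal) q.asIdeal.ResidueField
      (CycAlg.tameSymbol (Localization.AtPrime q.asIdeal)
        (algebraMap (Cyc.LocQuot x ζ hx) (Localization.AtPrime q.asIdeal) (qmap hx a))
        (algebraMap (Cyc.LocQuot x ζ hx) (Localization.AtPrime q.asIdeal) (qmap hx b)))
  show ∑ᶠ ξ : X, F ξ =
    ∑ᶠ (q : PrimeSpectrum (Cyc.LocQuot x ζ hx)) (_ : q.asIdeal.height = 1), T q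
  have hL : ∑ᶠ ξ : X, F ξ =
      ∑ᶠ ξ : {ξ : X // ζ ⤳ ξ ∧ ξ ⤳ x ∧ δ x + 1 = δ ξ}, F ξ.1 := by
    rw [finsum_subtype_eq_finsum_cond (fun ξ : X => ζ ⤳ ξ ∧ ξ ⤳ x ∧ δ x + 1 = δ ξ)]
    refine finsum_congr fun ξ => ?_
    rw [finsum_eq_if]
    split_ifs with hs
    · rfl
    · exact dif_neg hs
  have hR : ∑ᶠ (q : PrimeSpectrum (Cyc.LocQuot x ζ hx)) (_ : q.asIdeal.height = 1), T q =
      ∑ᶠ q : {q : PrimeSpectrum (Cyc.LocQuot x ζ hx) // q.asIdeal.height = 1}, T q.1 :=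
    (finsum_subtype_eq_finsum_cond
      (fun q : PrimeSpectrum (Cyc.LocQuot x ζ hx) => q.asIdeal.height = 1)).symm
  rw [hL, hR]
  refine finsum_eq_of_bijective
    (fun ξ : {ξ : X // ζ ⤳ ξ ∧ ξ ⤳ x ∧ δ x + 1 = δ ξ} =>
      (⟨⟨(RingHom.ker (Cyc.specMap x ξ.1 ξ.2.2.1)).map (qmap hx),
          map_isPrime ξ.2.1 ξ.2.2.1 hx⟩,
        height_map_eq_one δ hdim ξ.2.1 ξ.2.2.1 hx (by have := ξ.2.2.2; omega)⟩ :
        {q : PrimeSpectrum (Cyc.LocQuot x ζ hx) // q.asIdeal.height = 1})) ⟨?_, ?_⟩ ?_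
  · rintro ⟨ξ, hξ⟩ ⟨ξ', hξ'⟩ e
    have e1 : (RingHom.ker (Cyc.specMap x ξ hξ.2.1)).map (qmap hx) =
        (RingHom.ker (Cyc.specMap x ξ' hξ'.2.1)).map (qmap hx) :=
      congrArg (fun z : {q : PrimeSpectrum (Cyc.LocQuot x ζ hx) // q.asIdeal.height = 1} =>
        z.1.asIdeal) e
    have e2 : RingHom.ker (Cyc.specMap x ξ hξ.2.1) = RingHom.ker (Cyc.specMap x ξ' hξ'.2.1) :=
      (comap_map hξ.1 hξ.2.1 hx).symm.trans
        ((congrArg (Ideal.comap (qmap hx)) e1).trans (comap_map hξ'.1 hξ'.2.1 hx))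
    exact Subtype.ext (Groth.Agent.H95.CycZero.eq_of_ker_specMap_eq hξ.2.1 hξ'.2.1 e2)
  · rintro ⟨q, hq⟩
    obtain ⟨ξ, h₁, h₂, hd, hmap⟩ := exists_point_of_height_one δ hdim hx q.asIdeal hq
    refine ⟨⟨ξ, h₁, h₂, by omega⟩, Subtype.ext (PrimeSpectrum.ext ?_)⟩
    exact hmap
  · rintro ⟨ξ, hξ⟩
    show F ξ = _
    have hFξ : F ξ = Cyc.ordAt x ξ hξ.2.1 (resLQEquiv hξ.1
        (CycAlg.tameSymbol (Cyc.LocQuot ξ ζ hξ.1)
          (Ideal.Quotient.mk (RingHom.ker (Cyc.specMap ξ ζ hξ.1))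
            ((X.presheaf.stalkSpecializes hξ.2.1).hom a))
          (Ideal.Quotient.mk (RingHom.ker (Cyc.specMap ξ ζ hξ.1))
            ((X.presheaf.stalkSpecializes hξ.2.1).hom b)))) :=
      dif_pos hξ
    rw [hFξ]
    haveI := map_isPrime hξ.1 hξ.2.1 hx
    have hdim1 : ringKrullDim (Cyc.LocQuot ξ ζ hξ.1) = 1 := by
      obtain ⟨d, hd, hd'⟩ := hT2 ζ ξ hξ.1
      have hd1 : d = 1 := by
        have := hξ.2.2
        omega
      rw [hd, hd1]
      first | exact Nat.cast_one | rfl | simp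
    exact (hT4 ζ ξ x hξ.1 hξ.2.1 hx hdim1 a b ha hb
      ((RingHom.ker (Cyc.specMap x ξ hξ.2.1)).map (qmap hx)) rfl).symm

open Classical in
/-- (T5) with (T2), (T4) as hypotheses, in the form of the stub. -/
theorem skl_elem_rel_of (δ : X → ℤ) (hX : Cyc.IsSetup X δ)
    (hT2 : ∀ (ζ x : X) (h : ζ ⤳ x), ∃ d : ℕ,
      ringKrullDim (Cyc.LocQuot x ζ h) = (d : WithBot ℕ∞) ∧ δ ζ = δ x + d)
    (hT4 : ∀ (ζ ξ x : X) (h₁ : ζ ⤳ ξ) (h₂ : ξ ⤳ x) (hx : ζ ⤳ x),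
      ringKrullDim (Cyc.LocQuot ξ ζ h₁) = 1 → ∀ (a b : X.presheaf.stalk x),
      Cyc.specMap x ζ hx a ≠ 0 → Cyc.specMap x ζ hx b ≠ 0 →
      ∀ (q : Ideal (Cyc.LocQuot x ζ hx)) [q.IsPrime],
      q = (RingHom.ker (Cyc.specMap x ξ h₂)).map
        (Ideal.Quotient.mk (RingHom.ker (Cyc.specMap x ζ hx))) →
      CycAlg.ordFrac (Cyc.LocQuot x ζ hx ⧸ q) q.ResidueField
        (CycAlg.tameSymbol (Localization.AtPrime q)
          (algebraMap (Cyc.LocQuot x ζ hx) (Localization.AtPrime q)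
            (Ideal.Quotient.mk (RingHom.ker (Cyc.specMap x ζ hx)) a))
          (algebraMap (Cyc.LocQuot x ζ hx) (Localization.AtPrime q)
            (Ideal.Quotient.mk (RingHom.ker (Cyc.specMap x ζ hx)) b))) =
      Cyc.ordAt x ξ h₂ (resLQEquiv h₁ (CycAlg.tameSymbol (Cyc.LocQuot ξ ζ h₁)
        (Ideal.Quotient.mk (RingHom.ker (Cyc.specMap ξ ζ h₁))
          ((X.presheaf.stalkSpecializes h₂).hom a))
        (Ideal.Quotient.mk (RingHom.ker (Cyc.specMap ξ ζ h₁))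
          ((X.presheaf.stalkSpecializes h₂).hom b)))))
    {ζ x : X} (hx : ζ ⤳ x) (hδ : δ x + 2 = δ ζ) (a b : X.presheaf.stalk x)
    (ha : Cyc.specMap x ζ hx a ≠ 0) (hb : Cyc.specMap x ζ hx b ≠ 0) :
    ∑ᶠ ξ : X, (if h : ζ ⤳ ξ ∧ ξ ⤳ x ∧ δ x + 1 = δ ξ then
      Cyc.ordAt x ξ h.2.1 (resLQEquiv h.1 (CycAlg.tameSymbol (Cyc.LocQuot ξ ζ h.1)
        (Ideal.Quotient.mk (RingHom.ker (Cyc.specMap ξ ζ h.1))
          ((X.presheaf.stalkSpecializes h.2.1).hom a))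
        (Ideal.Quotient.mk (RingHom.ker (Cyc.specMap ξ ζ h.1))
          ((X.presheaf.stalkSpecializes h.2.1).hom b))))
      else 0) = 0 := by
  haveI : IsLocallyNoetherian X := hX.1
  exact skl_elem_rel_core δ hX.2.2 hT2 hT4 hx hδ a b ha hb

end Groth.Agent.H37.KeyRelT5
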