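import Mathlib
import Groth.Prelude.Def_Cyc

/-! (SA) for helper34's S1924 squad: the setup `Cyc.IsSetup` restricts to a closed subscheme. -/

set_option autoImplicit false
universe u
open CategoryTheory AlgebraicGeometry TopologicalSpace Opposite
namespace Groth.Agent.H37.StubSub_SA
variable {X Y : Scheme.{u}}

/-- Universal catenarity passes to quotients (images of surjections). -/
theorem isUniversallyCatenary_of_surjective {A B : Type u} [CommRing A] [CommRing B]
    (f : A →+* B) (hf : Function.Surjective f) (hA : CAlg.IsUniversallyCatenary A) :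
    CAlg.IsUniversallyCatenary B := by
  haveI := hA.1
  refine ⟨isNoetherianRing_of_surjective A B f hf, fun S _ _ hS => ?_⟩
  letI : Algebra A B := f.toAlgebra
  letI : Algebra A S := ((algebraMap B S).comp f).toAlgebra
  haveI : IsScalarTower A B S := IsScalarTower.of_algebraMap_eq (fun _ => rfl)
  have h1 : Algebra.FiniteType A B :=
    Algebra.FiniteType.of_surjective (Algebra.ofId A B) hf
  exact hA.2 S (Algebra.FiniteType.trans h1 hS)

/-- (SA) The setup restricts to a closed subscheme. -/
theorem isSetup_closedImmersion (ι : Y ⟶ X) [IsClosedImmersion ι] (δ : X → ℤ)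
    (hX : Cyc.IsSetup X δ) : Cyc.IsSetup Y (fun y => δ (ι y)) := by
  obtain ⟨hN, hUC, hD⟩ := hX
  refine ⟨?_, fun y => ?_, ?_⟩
  · haveI := hN
    exact LocallyOfFiniteType.isLocallyNoetherian ι
  · exact isUniversallyCatenary_of_surjective (ι.stalkMap y).hom (ι.stalkMap_surjective y)
      (hUC (ι y))
  · intro y₁ y₂ h12 hne
    have hemb : Topology.IsClosedEmbedding ι := ι.isClosedEmbedding
    have h12' : ι y₁ ⤳ ι y₂ := hemb.isInducing.specializes_iff.mpr h12
    have hne' : ι y₁ ≠ ι y₂ := fun h => hne (hemb.injective h)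
    obtain ⟨hlt, himm⟩ := hD (ι y₁) (ι y₂) h12' hne'
    refine ⟨hlt, fun hz => himm fun z' hz1 hz2 => ?_⟩
    have hmem : z' ∈ Set.range ι := by
      have h1 : z' ∈ closure ({ι y₁} : Set X) := specializes_iff_mem_closure.mp hz1
      have h2 : closure ({ι y₁} : Set X) ⊆ Set.range ι :=
        closure_minimal (Set.singleton_subset_iff.mpr ⟨y₁, rfl⟩) hemb.isClosed_range
      exact h2 h1
    obtain ⟨z, rfl⟩ := hmem
    rcases hz z (hemb.isInducing.specializes_iff.mp hz1)
      (hemb.isInducing.specializes_iff.mp hz2) with h | h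
    · exact Or.inl (by rw [h])
    · exact Or.inr (by rw [h])

end Groth.Agent.H37.StubSub_SA
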