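import Mathlib
import Groth.Prelude.Def_ARSys

/-! (L) for helper20's S13620 squad: a system mapping to a system with zero limit, with AR-null
kernel, has zero limit. -/

set_option autoImplicit false
universe u v₁ u₁
open CategoryTheory CategoryTheory.Limits Opposite

namespace Groth.Agent.H37.ARNull_L

theorem isZero_limit_of_isARNull_kernel {C : Type u₁} [Category.{v₁} C] [Abelian C]
    [HasLimitsOfShape ℕᵒᵖ C] {Y F : ARSys.PS C} (v : Y ⟶ F) (hk : ARSys.IsARNull (kernel v))
    (h0 : IsZero (limit F)) : IsZero (limit Y) := by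
  obtain ⟨r, hr⟩ := hk
  let c : (Functor.const ℕᵒᵖ).obj (limit Y) ⟶ Y := (limit.cone Y).π
  have hcv : c ≫ v = 0 := by
    ext k
    have h1 : limit.π Y k ≫ v.app k = limMap v ≫ limit.π F k := (limMap_π v k).symm
    have h2 : limMap v = 0 := h0.eq_of_tgt _ _
    change limit.π Y k ≫ v.app k = 0
    rw [h1, h2, zero_comp]
  let l : (Functor.const ℕᵒᵖ).obj (limit Y) ⟶ kernel v := kernel.lift v c hcv
  have hl : l ≫ kernel.ι v = c := kernel.lift_ι v c hcv
  have hl0 : ∀ n : ℕ, l.app (op n) = 0 := by
    intro n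
    have hnat := l.naturality (homOfLE (Nat.le_add_right n r)).op
    have hz : (kernel v).map (homOfLE (Nat.le_add_right n r)).op = 0 := hr n
    rw [hz, comp_zero] at hnat
    simpa using hnat
  have hπ : ∀ n : ℕ, limit.π Y (op n) = 0 := by
    intro n
    have h1 : limit.π Y (op n) = l.app (op n) ≫ (kernel.ι v).app (op n) := by
      have := congrArg (fun t => t.app (op n)) hl
      exact this.symm
    rw [h1, hl0 n, zero_comp]
  rw [IsZero.iff_id_eq_zero]
  apply limit.hom_ext
  intro j
  have hj : limit.π Y j = 0 := hπ j.unop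
  rw [hj, comp_zero, comp_zero]

end Groth.Agent.H37.ARNull_L
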