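import Groth.Agent.H37.ConnDescent

/-!
# The connected component of a rational point is geometrically connected
-/

set_option autoImplicit false
universe u
open CategoryTheory CategoryTheory.Limits AlgebraicGeometry

namespace Groth.Agent.H37

/-- The fibre of `F ⊗ k̄ → F` over a rational point is a single point. -/
theorem subsingleton_fibre_of_section {k : Type u} [Field k] {Ω : Type u} [Field Ω] [Algebra k Ω]
    {F : Scheme.{u}} (fF : F ⟶ Spec (CommRingCat.of k))
    (σ : Spec (CommRingCat.of k) ⟶ F) (hσ : σ ≫ fF = 𝟙 _) (t : Spec (CommRingCat.of k)) :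
    (⇑(pullback.fst fF (Spec.map (CommRingCat.ofHom (algebraMap k Ω)))) ⁻¹' {σ t}).Subsingleton := by
  obtain ⟨q, hq⟩ : ∃ q : Spec (CommRingCat.of Ω) ⟶ Spec (CommRingCat.of k),
      q = Spec.map (CommRingCat.ofHom (algebraMap k Ω)) := ⟨_, rfl⟩
  rw [← hq]
  have hw : (q ≫ σ) ≫ fF = 𝟙 _ ≫ q := by
    rw [Category.assoc, hσ, Category.comp_id, Category.id_comp]
  have h1 : pullback.lift (q ≫ σ) (𝟙 _) hw ≫ pullback.fst fF q = q ≫ σ := pullback.lift_fst _ _ _
  have h2 : pullback.lift (q ≫ σ) (𝟙 _) hw ≫ pullback.snd fF q = 𝟙 _ := pullback.lift_snd _ _ _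
  have sqσ : IsPullback (pullback.lift (q ≫ σ) (𝟙 _) hw) q (pullback.fst fF q) σ := by
    refine IsPullback.of_right ?_ h1 (IsPullback.of_hasPullback fF q).flip
    rw [h2, hσ]
    exact IsPullback.of_horiz_isIso ⟨by simp⟩
  haveI : Subsingleton ↥(Spec (CommRingCat.of Ω)) :=
    (inferInstance : Subsingleton (PrimeSpectrum Ω))
  intro t₁ ht₁ t₂ ht₂
  obtain ⟨τ₁, hτ₁, -⟩ := exists_of_isPullback sqσ t₁ t ht₁
  obtain ⟨τ₂, hτ₂, -⟩ := exists_of_isPullback sqσ t₂ t ht₂
  rw [← hτ₁, ← hτ₂, Subsingleton.elim τ₁ τ₂]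

/-- The connected component of a rational point is geometrically connected. -/
theorem isConnected_preimage_connectedComponent_of_section {k K : Type u} [Field k] [Field K]
    [Algebra k K] {F F' : Scheme.{u}} {fF : F ⟶ Spec (CommRingCat.of k)} {φ : F' ⟶ F}
    {fF' : F' ⟶ Spec (CommRingCat.of K)}
    {qK : Spec (CommRingCat.of K) ⟶ Spec (CommRingCat.of k)}
    (sq : IsPullback φ fF' fF qK) (hq : qK = Spec.map (CommRingCat.ofHom (algebraMap k K)))
    (σ : Spec (CommRingCat.of k) ⟶ F) (hσ : σ ≫ fF = 𝟙 _) (t : Spec (CommRingCat.of k)) :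
    _root_.IsConnected (⇑φ ⁻¹' connectedComponent (σ t)) := by
  subst hq
  have hsub := subsingleton_fibre_of_section (Ω := AlgebraicClosure k) fF σ hσ t
  have hconn := isConnected_preimage_connectedComponent (K := K) fF (σ t) _
    hsub.isPreconnected
    (Set.preimage_mono (Set.singleton_subset_iff.mpr mem_connectedComponent)) (le_refl _)
  have himg := hconn.image sq.isoPullback.inv sq.isoPullback.inv.continuous.continuousOn
  have heq : ⇑sq.isoPullback.inv ''
      (⇑(pullback.fst fF (Spec.map (CommRingCat.ofHom (algebraMap k K)))) ⁻¹'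
        connectedComponent (σ t)) = ⇑φ ⁻¹' connectedComponent (σ t) := by
    ext w
    constructor
    · rintro ⟨z, hz, rfl⟩
      show φ (sq.isoPullback.inv z) ∈ connectedComponent (σ t)
      rw [← Scheme.Hom.comp_apply, sq.isoPullback_inv_fst]
      exact hz
    · intro hw
      refine ⟨sq.isoPullback.hom w, ?_, ?_⟩
      · show pullback.fst fF _ (sq.isoPullback.hom w) ∈ connectedComponent (σ t)
        rw [← Scheme.Hom.comp_apply, sq.isoPullback_hom_fst]
        exact hw
      · rw [← Scheme.Hom.comp_apply, Iso.hom_inv_id]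
        rfl
  rw [heq] at himg
  exact himg

end Groth.Agent.H37
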