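import Groth.Agent.H37.Rigidity
import Groth.Agent.H37.RatPointConn
import Groth.Agent.H37.SepPts3

/-!
# Translates of the connected component of a fibre through a rational point (abelian varieties)

For a proper geometrically integral group scheme `X` over a field `k`, a morphism `f : X ⟶ Y` over
`k` into a separated `k`-scheme and rational points `a b` of `X`, translation by `b * a⁻¹` carries
the connected component of `a` in `f⁻¹(f a)` onto the connected component of `b` in `f⁻¹(f b)`.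
The proof is the rigidity lemma applied to `(x, w) ↦ f (x * a⁻¹ * w)` on `X × Z`, where `Z` is the
connected component of `a` in its fibre, with the reduced structure.
-/

set_option autoImplicit false
universe v₁ u₁ u
open CategoryTheory CategoryTheory.Limits MonoidalCategory CartesianMonoidalCategory MonObj GrpObj
  AlgebraicGeometry

namespace Groth.Agent.H37.AbTranslate

section Cat

variable {C : Type u₁} [Category.{v₁} C] [CartesianMonoidalCategory C] (X : C) [GrpObj X]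

/-- left translation by a point -/
def tr (c : 𝟙_ C ⟶ X) : X ⟶ X := lift (toUnit X ≫ c) (𝟙 X) ≫ μ[X]

lemma tr_eq (c : 𝟙_ C ⟶ X) : tr X c = (toUnit X ≫ c) * 𝟙 X := rfl

lemma comp_tr {W : C} (g : W ⟶ X) (c : 𝟙_ C ⟶ X) : g ≫ tr X c = (toUnit W ≫ c) * g := by
  rw [tr_eq, MonObj.comp_mul, ← Category.assoc, comp_toUnit, Category.comp_id]

lemma tr_tr (c d : 𝟙_ C ⟶ X) : tr X c ≫ tr X d = tr X (d * c) := by
  rw [comp_tr, tr_eq, tr_eq, ← _root_.mul_assoc, ← MonObj.comp_mul]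

lemma tr_one : tr X (1 : 𝟙_ C ⟶ X) = 𝟙 X := by
  rw [tr_eq, MonObj.comp_one, _root_.one_mul]

lemma eta_eq_one : η[X] = (1 : 𝟙_ C ⟶ X) := by
  rw [Hom.one_def, toUnit_unit, Category.id_comp]

omit [CartesianMonoidalCategory C] in
lemma isPullback_section {P A B S : C} {p : P ⟶ A} {s : P ⟶ B} {α : A ⟶ S} {β : B ⟶ S}
    (sq : IsPullback p s α β) (a : S ⟶ A) (ha : a ≫ α = 𝟙 S) (j : B ⟶ P)
    (hj1 : j ≫ p = β ≫ a) (hj2 : j ≫ s = 𝟙 B) : IsPullback j β p a := by
  refine IsPullback.of_right ?_ hj1 sq.flip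
  rw [hj2, ha]
  exact IsPullback.id_horiz β

end Cat

variable (k : Type u) [Field k]

/-- the core: rigidity applied to `(x, w) ↦ f (x * a⁻¹ * w)` -/
theorem core (X : Over (Spec (CommRingCat.of k)))
    [GrpObj X] [IsProper X.hom] [GeometricallyIntegral X.hom]
    {Y : Scheme.{u}} (q : Y ⟶ Spec (CommRingCat.of k)) [IsSeparated q] (f : X.left ⟶ Y)
    (hf : f ≫ q = X.hom) (a b : 𝟙_ (Over (Spec (CommRingCat.of k))) ⟶ X)
    (Zo : Over (Spec (CommRingCat.of k))) (zo : Zo ⟶ X) [IsClosedImmersion zo.left]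
    [IsReduced Zo.left] [ConnectedSpace Zo.left]
    (aZ : 𝟙_ (Over (Spec (CommRingCat.of k))) ⟶ Zo) (haZ : aZ ≫ zo = a)
    (y0 : Y) (hzf : ∀ w : Zo.left, f (zo.left w) = y0) :
    (zo ≫ tr X (b * a⁻¹)).left ≫ f = (toUnit Zo ≫ b).left ≫ f := by
  obtain ⟨hint, hsubs⟩ :=
    integral_subsingleton_of_iso_spec_field k (Iso.refl (Spec (CommRingCat.of k)))
  haveI := hint
  haveI := hsubs
  obtain ⟨pt⟩ : Nonempty ↥(Spec (CommRingCat.of k)) := ⟨(⊥ : PrimeSpectrum k)⟩
  have hflat : ∀ {W : Scheme.{u}} (g : W ⟶ Spec (CommRingCat.of k)), Flat g :=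
    fun g => inferInstance
  have hnoeth : ∀ {W : Scheme.{u}} (g : W ⟶ Spec (CommRingCat.of k)) [LocallyOfFiniteType g],
      IsLocallyNoetherian W := fun g _ => LocallyOfFiniteType.isLocallyNoetherian g
  have hgint : ∀ {W : Scheme.{u}} (g : W ⟶ Spec (CommRingCat.of k)) [GeometricallyIntegral g],
      IsIntegral W := fun g _ => GeometricallyIntegral.isIntegral_of_subsingleton g
  -- instances on `Zo` and `X`
  haveI hZprop : IsProper Zo.hom := by rw [← Over.w zo]; infer_instance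
  haveI hZnoeth : IsLocallyNoetherian Zo.left := hnoeth Zo.hom
  haveI hZuo : UniversallyOpen Zo.hom := univOpen_of_iso_spec_field k (Iso.refl _) Zo.hom
  haveI hZgc : GeometricallyConnected Zo.hom := by
    refine ⟨geometrically_iff_of_commRing.mpr fun K _ _ W fst' snd' sq => ?_⟩
    have hconn :=
      isConnected_preimage_connectedComponent_of_section sq rfl aZ.left (Over.w aZ) pt
    rw [PreconnectedSpace.connectedComponent_eq_univ, Set.preimage_univ] at hconn
    exact connectedSpace_iff_univ.mpr hconn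
  haveI hXflat : Flat X.hom := hflat X.hom
  haveI hXint : IsIntegral X.left := hgint X.hom
  -- the morphisms
  obtain ⟨m, hm⟩ : ∃ m : X ⊗ Zo ⟶ X,
      m = fst X Zo * (toUnit (X ⊗ Zo) ≫ a⁻¹) * (snd X Zo ≫ zo) := ⟨_, rfl⟩
  obtain ⟨σo, hσ1, hσ2⟩ : ∃ σo : X ⟶ X ⊗ Zo,
      σo ≫ fst X Zo = 𝟙 X ∧ σo ≫ snd X Zo = toUnit X ≫ aZ :=
    ⟨lift (𝟙 X) (toUnit X ≫ aZ), lift_fst _ _, lift_snd _ _⟩
  have hjex : ∀ c : 𝟙_ (Over (Spec (CommRingCat.of k))) ⟶ X, ∃ j : Zo ⟶ X ⊗ Zo,
      j ≫ fst X Zo = toUnit Zo ≫ c ∧ j ≫ snd X Zo = 𝟙 Zo := fun c =>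
    ⟨lift (toUnit Zo ≫ c) (𝟙 Zo), lift_fst _ _, lift_snd _ _⟩
  have hσm : σo ≫ m = 𝟙 X := by
    have e1 : σo ≫ (toUnit (X ⊗ Zo) ≫ a⁻¹) = (toUnit X ≫ a)⁻¹ := by
      rw [← Category.assoc, comp_toUnit, GrpObj.comp_inv]
    have e2 : σo ≫ (snd X Zo ≫ zo) = toUnit X ≫ a := by
      rw [← Category.assoc, hσ2, Category.assoc, haZ]
    rw [hm, MonObj.comp_mul, MonObj.comp_mul, hσ1, e1, e2, inv_mul_cancel_right]
  have hjm : ∀ (c : 𝟙_ (Over (Spec (CommRingCat.of k))) ⟶ X) (j : Zo ⟶ X ⊗ Zo),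
      j ≫ fst X Zo = toUnit Zo ≫ c → j ≫ snd X Zo = 𝟙 Zo →
      j ≫ m = zo ≫ tr X (c * a⁻¹) := by
    intro c j hj1 hj2
    have e1 : j ≫ (toUnit (X ⊗ Zo) ≫ a⁻¹) = (toUnit Zo ≫ a)⁻¹ := by
      rw [← Category.assoc, comp_toUnit, GrpObj.comp_inv]
    have e2 : j ≫ (snd X Zo ≫ zo) = zo := by
      rw [← Category.assoc, hj2, Category.id_comp]
    rw [hm, MonObj.comp_mul, MonObj.comp_mul, hj1, e1, e2, comp_tr, MonObj.comp_mul,
      GrpObj.comp_inv]
  obtain ⟨ja, hja1, hja2⟩ := hjex a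
  obtain ⟨jb, hjb1, hjb2⟩ := hjex b
  have hjam : ja ≫ m = zo := by
    rw [hjm a ja hja1 hja2, mul_inv_cancel, tr_one, Category.comp_id]
  have hjbm : jb ≫ m = zo ≫ tr X (b * a⁻¹) := hjm b jb hjb1 hjb2
  -- the projection
  obtain ⟨p, hp⟩ : ∃ p : (X ⊗ Zo).left ⟶ X.left, p = (fst X Zo).left := ⟨_, rfl⟩
  obtain ⟨s, hs⟩ : ∃ s : (X ⊗ Zo).left ⟶ Zo.left, s = (snd X Zo).left := ⟨_, rfl⟩
  have hsq : IsPullback p s X.hom Zo.hom := by
    rw [hp, hs]; exact IsPullback.of_hasPullback X.hom Zo.hom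
  haveI hpprop : IsProper p := by
    rw [hp]; exact (inferInstance : IsProper (pullback.fst X.hom Zo.hom))
  haveI hpgc : GeometricallyConnected p := by
    rw [hp]; exact (inferInstance : GeometricallyConnected (pullback.fst X.hom Zo.hom))
  haveI hpuo : UniversallyOpen p := by
    rw [hp]; exact (inferInstance : UniversallyOpen (pullback.fst X.hom Zo.hom))
  haveI hPred : IsReduced (X ⊗ Zo).left :=
    (inferInstance : IsReduced (pullback X.hom Zo.hom))
  have hσp : σo.left ≫ p = 𝟙 X.left := by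
    rw [hp, ← Over.comp_left, hσ1]; rfl
  have hdense : ∀ V : X.left.Opens, (V : Set X.left).Nonempty →
      Dense (⇑p ⁻¹' (V : Set X.left)) := by
    intro V hV
    exact (V.isOpen.dense hV).preimage p.isOpenMap
  have hh_q : (m.left ≫ f) ≫ q = (p ≫ σo.left ≫ m.left ≫ f) ≫ q := by
    have e0 : m.left ≫ X.hom = (X ⊗ Zo).hom := Over.w m
    have e1 : σo.left ≫ (X ⊗ Zo).hom = X.hom := Over.w σo
    have e2 : p ≫ X.hom = (X ⊗ Zo).hom := by rw [hp]; exact Over.w (fst X Zo)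
    simp only [Category.assoc, hf]
    rw [e0, e1, e2]
  -- the fibre of `p` over `a`
  have hja1' : ja.left ≫ p = Zo.hom ≫ a.left := by
    rw [hp, ← Over.comp_left, hja1]; rfl
  have hja2' : ja.left ≫ s = 𝟙 Zo.left := by
    rw [hs, ← Over.comp_left, hja2]; rfl
  have hsqa : IsPullback ja.left Zo.hom p a.left :=
    isPullback_section hsq a.left (Over.w a) ja.left hja1' hja2'
  have hjam' : ja.left ≫ m.left = zo.left := by rw [← Over.comp_left, hjam]
  have hfib : ∀ w : (X ⊗ Zo).left, p w = a.left pt → (m.left ≫ f) w = y0 := by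
    intro w hw
    obtain ⟨w', hw'1, -⟩ := exists_of_isPullback hsqa w pt hw
    have e : (m.left ≫ f) (ja.left w') = f (zo.left w') := by
      rw [← hjam']; rfl
    rw [← hw'1, e]
    exact hzf w'
  have hsub : (⇑(m.left ≫ f) '' (⇑p ⁻¹' {a.left pt})).Subsingleton := by
    rintro _ ⟨w1, hw1, rfl⟩ _ ⟨w2, hw2, rfl⟩
    rw [hfib w1 hw1, hfib w2 hw2]
  have hrig := Rigidity.rigidity p σo.left hσp hdense q (m.left ≫ f) hh_q (a.left pt) hsub
  have hσf : σo.left ≫ m.left ≫ f = f := by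
    rw [← Category.assoc, ← Over.comp_left, hσm]; exact Category.id_comp f
  rw [hσf] at hrig
  have hjb1' : jb.left ≫ p = (toUnit Zo ≫ b).left := by rw [hp, ← Over.comp_left, hjb1]
  calc (zo ≫ tr X (b * a⁻¹)).left ≫ f = (jb ≫ m).left ≫ f := by rw [hjbm]
    _ = jb.left ≫ m.left ≫ f := by rw [Over.comp_left, Category.assoc]
    _ = jb.left ≫ p ≫ f := by rw [hrig]
    _ = (toUnit Zo ≫ b).left ≫ f := by rw [← Category.assoc, hjb1']

/-- translation by `b * a⁻¹` maps the connected component of `a` in its fibre into the fibre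
of `b` -/
theorem key (X : Over (Spec (CommRingCat.of k)))
    [GrpObj X] [IsProper X.hom] [GeometricallyIntegral X.hom]
    {Y : Scheme.{u}} (q : Y ⟶ Spec (CommRingCat.of k)) [IsSeparated q] (f : X.left ⟶ Y)
    (hf : f ≫ q = X.hom) (a b : 𝟙_ (Over (Spec (CommRingCat.of k))) ⟶ X)
    (pt : ↥(Spec (CommRingCat.of k))) (w : X.left)
    (hw : w ∈ connectedComponentIn (⇑f ⁻¹' {f (a.left pt)}) (a.left pt)) :
    f ((tr X (b * a⁻¹)).left w) = f (b.left pt) := by
  obtain ⟨hint, hsubs⟩ :=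
    integral_subsingleton_of_iso_spec_field k (Iso.refl (Spec (CommRingCat.of k)))
  haveI := hint
  haveI := hsubs
  have hss : ∀ s : ↥(Spec (CommRingCat.of k)), s = pt := fun s => Subsingleton.elim s pt
  obtain ⟨A, hA⟩ : ∃ A : Spec (CommRingCat.of k) ⟶ X.left, A = a.left := ⟨_, rfl⟩
  obtain ⟨x0, hx0⟩ : ∃ x0 : X.left, x0 = A pt := ⟨_, rfl⟩
  obtain ⟨F, hF⟩ : ∃ F : Set X.left, F = ⇑f ⁻¹' {f x0} := ⟨_, rfl⟩
  have hw' : w ∈ connectedComponentIn F x0 := by rw [hF, hx0, hA]; exact hw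
  have hAq : (A ≫ f) ≫ q = 𝟙 _ := by rw [Category.assoc, hf, hA]; exact Over.w a
  haveI hcl : IsClosedImmersion (A ≫ f) := isClosedImmersion_of_comp_eq_id q (A ≫ f) hAq
  have hFcl : IsClosed F := by
    have h1 : IsClosed (Set.range ⇑(A ≫ f)) := (A ≫ f).isClosedEmbedding.isClosed_range
    have h2 : Set.range ⇑(A ≫ f) = {f x0} := by
      ext y
      constructor
      · rintro ⟨s, rfl⟩
        rw [hss s, hx0]
        exact Set.mem_singleton_iff.mpr rfl
      · intro hy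
        rw [Set.mem_singleton_iff.mp hy]
        exact ⟨pt, by rw [hx0]; rfl⟩
    rw [h2] at h1
    rw [hF]
    exact h1.preimage f.continuous
  have hx0F : x0 ∈ F := by rw [hF]; exact Set.mem_singleton (f x0)
  have hCpre : _root_.IsPreconnected (connectedComponentIn F x0) :=
    isPreconnected_connectedComponentIn
  have hCcl : IsClosed (connectedComponentIn F x0) := by
    refine closure_subset_iff_isClosed.mp ?_
    exact hCpre.closure.subset_connectedComponentIn
      (subset_closure (mem_connectedComponentIn hx0F))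
      (closure_minimal (connectedComponentIn_subset F x0) hFcl)
  obtain ⟨C, hC⟩ : ∃ C : TopologicalSpace.Closeds X.left,
      (C : Set X.left) = connectedComponentIn F x0 := ⟨⟨_, hCcl⟩, rfl⟩
  obtain ⟨Z, z, hz, hred, hrange, hfac⟩ : ∃ (Z : Scheme.{u}) (z : Z ⟶ X.left),
      IsClosedImmersion z ∧ IsReduced Z ∧ Set.range ⇑z = (C : Set X.left) ∧
      ∀ {T : Scheme.{u}} [IsReduced T] (h : T ⟶ X.left), (∀ x, h x ∈ (C : Set X.left)) →
        ∃ h' : T ⟶ Z, h' ≫ z = h :=
    ⟨_, (Scheme.IdealSheafData.vanishingIdeal C).subschemeι, inferInstance,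
      SubGrpd.isReduced_vanishingIdeal_subscheme C,
      by rw [Scheme.IdealSheafData.range_subschemeι,
        Scheme.IdealSheafData.coe_support_vanishingIdeal],
      fun h hh => SubGrpd.exists_factor_red C h hh⟩
  haveI := hz
  haveI := hred
  obtain ⟨a', ha'⟩ : ∃ a' : Spec (CommRingCat.of k) ⟶ Z, a' ≫ z = A :=
    hfac A (fun s => by rw [hC, hss s, ← hx0]; exact mem_connectedComponentIn hx0F)
  haveI hZconn : ConnectedSpace Z := by
    rw [connectedSpace_iff_univ]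
    refine ⟨⟨a' pt, trivial⟩, ?_⟩
    refine (z.isClosedEmbedding.isInducing.isPreconnected_image).mp ?_
    rw [Set.image_univ, hrange, hC]
    exact hCpre
  obtain ⟨zo, hzo⟩ : ∃ zo : Over.mk (z ≫ X.hom) ⟶ X, zo.left = z := ⟨Over.homMk z rfl, rfl⟩
  obtain ⟨aZ, haZ⟩ : ∃ aZ : 𝟙_ (Over (Spec (CommRingCat.of k))) ⟶ Over.mk (z ≫ X.hom),
      aZ.left = a' :=
    ⟨Over.homMk a' (by
      show a' ≫ z ≫ X.hom = 𝟙 _
      rw [← Category.assoc, ha', hA]; exact Over.w a), rfl⟩
  have haZzo : aZ ≫ zo = a := by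
    ext
    show aZ.left ≫ zo.left = a.left
    rw [haZ, hzo, ha', hA]
  haveI : IsClosedImmersion zo.left := by rw [hzo]; exact hz
  haveI : IsReduced (Over.mk (z ≫ X.hom)).left := hred
  haveI : ConnectedSpace (Over.mk (z ≫ X.hom)).left := hZconn
  have hzf : ∀ w' : (Over.mk (z ≫ X.hom)).left, f (zo.left w') = f x0 := by
    intro w'
    have h1 : z w' ∈ connectedComponentIn F x0 := by rw [← hC, ← hrange]; exact ⟨w', rfl⟩
    have h2 : z w' ∈ F := connectedComponentIn_subset F x0 h1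
    rw [hF] at h2
    rw [hzo]
    exact h2
  have hcore := core k X q f hf a b (Over.mk (z ≫ X.hom)) zo aZ haZzo (f x0) hzf
  obtain ⟨w', rfl⟩ : ∃ w' : Z, z w' = w := by
    have : w ∈ Set.range ⇑z := by rw [hrange, hC]; exact hw'
    exact this
  have e0 : zo.left w' = z w' := by rw [hzo]
  have e1 := congrArg (fun g : (Over.mk (z ≫ X.hom)).left ⟶ Y => g w') hcore
  have e3 : ((toUnit (Over.mk (z ≫ X.hom)) ≫ b).left ≫ f) w' = f (b.left pt) :=
    congrArg (fun s : ↥(Spec (CommRingCat.of k)) => f (b.left s))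
      (hss ((toUnit (Over.mk (z ≫ X.hom))).left w'))
  rw [← e0]
  exact e1.trans e3

theorem image_subset (X : Over (Spec (CommRingCat.of k)))
    [GrpObj X] [IsProper X.hom] [GeometricallyIntegral X.hom]
    {Y : Scheme.{u}} (q : Y ⟶ Spec (CommRingCat.of k)) [IsSeparated q] (f : X.left ⟶ Y)
    (hf : f ≫ q = X.hom) (a b : 𝟙_ (Over (Spec (CommRingCat.of k))) ⟶ X)
    (pt : ↥(Spec (CommRingCat.of k))) :
    ⇑(tr X (b * a⁻¹)).left '' connectedComponentIn (⇑f ⁻¹' {f (a.left pt)}) (a.left pt) ⊆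
      connectedComponentIn (⇑f ⁻¹' {f (b.left pt)}) (b.left pt) := by
  have hab : a ≫ tr X (b * a⁻¹) = b := by
    rw [comp_tr, toUnit_unit, Category.id_comp, inv_mul_cancel_right]
  have hpt : (tr X (b * a⁻¹)).left (a.left pt) = b.left pt :=
    congrArg (fun g : 𝟙_ (Over (Spec (CommRingCat.of k))) ⟶ X => g.left pt) hab
  refine IsPreconnected.subset_connectedComponentIn ?_ ?_ ?_
  · exact isPreconnected_connectedComponentIn.image _
      (tr X (b * a⁻¹)).left.continuous.continuousOn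
  · exact ⟨a.left pt, mem_connectedComponentIn (Set.mem_singleton _), hpt⟩
  · rintro _ ⟨w, hw, rfl⟩
    exact key k X q f hf a b pt w hw

/-- translation by `b * a⁻¹` carries the connected component of `a` in its fibre onto that of
`b`. -/
theorem image_eq (X : Over (Spec (CommRingCat.of k)))
    [GrpObj X] [IsProper X.hom] [GeometricallyIntegral X.hom]
    {Y : Scheme.{u}} (q : Y ⟶ Spec (CommRingCat.of k)) [IsSeparated q] (f : X.left ⟶ Y)
    (hf : f ≫ q = X.hom) (a b : 𝟙_ (Over (Spec (CommRingCat.of k))) ⟶ X)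
    (pt : ↥(Spec (CommRingCat.of k))) :
    ⇑(tr X (b * a⁻¹)).left '' connectedComponentIn (⇑f ⁻¹' {f (a.left pt)}) (a.left pt) =
      connectedComponentIn (⇑f ⁻¹' {f (b.left pt)}) (b.left pt) := by
  refine Set.Subset.antisymm (image_subset k X q f hf a b pt) ?_
  intro y hy
  have h1 := image_subset k X q f hf b a pt ⟨y, hy, rfl⟩
  refine ⟨(tr X (a * b⁻¹)).left y, h1, ?_⟩
  have hcomp : tr X (a * b⁻¹) ≫ tr X (b * a⁻¹) = 𝟙 X := by
    rw [tr_tr, ← _root_.mul_assoc, inv_mul_cancel_right, _root_.mul_inv_cancel, tr_one]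
  exact congrArg (fun g : X ⟶ X => g.left y) hcomp

/-- the case `a = η` -/
theorem image_eq_unit (X : Over (Spec (CommRingCat.of k)))
    [GrpObj X] [IsProper X.hom] [GeometricallyIntegral X.hom]
    {Y : Scheme.{u}} (q : Y ⟶ Spec (CommRingCat.of k)) [IsSeparated q] (f : X.left ⟶ Y)
    (hf : f ≫ q = X.hom) (x : 𝟙_ (Over (Spec (CommRingCat.of k))) ⟶ X)
    (pt : ↥(Spec (CommRingCat.of k))) :
    ⇑(tr X x).left '' connectedComponentIn (⇑f ⁻¹' {f (η[X].left pt)}) (η[X].left pt) =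
      connectedComponentIn (⇑f ⁻¹' {f (x.left pt)}) (x.left pt) := by
  have h := image_eq k X q f hf η[X] x pt
  have e : x * η[X]⁻¹ = x := by rw [eta_eq_one, inv_one, _root_.mul_one]
  rw [e] at h
  exact h

end Groth.Agent.H37.AbTranslate
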