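import Groth.Agent.H37.GrpdCalc
import Mathlib

/-!
# Groupoid schemes: `c` is a base change of `t` (along `t`, through the first projection)
-/

set_option autoImplicit false
universe u
open CategoryTheory CategoryTheory.Limits AlgebraicGeometry
open Grpd

namespace Groth.Agent.H37.GrpdCalc

variable {S : Scheme.{u}} (G : Grpd.GroupoidScheme S)

lemma c_t : G.c ≫ G.t = pullback.fst G.s G.t ≫ G.t := by
  rw [c_eq_mul]; exact mul_t pullback.condition

lemma c_s : G.c ≫ G.s = pullback.snd G.s G.t ≫ G.s := by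
  rw [c_eq_mul]; exact mul_s pullback.condition

/-- `(α, β) ↦ (α β, α)` identifies `R ×_{s,t} R` with `R ×_{t,t} R` -/
theorem isPullback_c_fst : IsPullback G.c (pullback.fst G.s G.t) G.t G.t := by
  refine isPullback_of_existsUnique (c_t G) ?_ ?_
  · intro T x y hxy
    have h0 : (y ≫ G.i) ≫ G.s = x ≫ G.t := by rw [Category.assoc, G.i_s, hxy]
    have hℓ : y ≫ G.s = mul G (y ≫ G.i) x ≫ G.t := by
      rw [mul_t h0, Category.assoc, G.i_t]
    refine ⟨pullback.lift y (mul G (y ≫ G.i) x) hℓ, ?_, pullback.lift_fst _ _ _⟩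
    rw [lift_c]
    exact mul_i_mul' hxy.symm rfl
  · intro T m m' h1 h2
    have key : ∀ n : T ⟶ pullback G.s G.t,
        n ≫ pullback.snd G.s G.t = mul G ((n ≫ pullback.fst G.s G.t) ≫ G.i) (n ≫ G.c) := by
      intro n
      rw [comp_c n]
      exact (i_mul_mul (by rw [Category.assoc, Category.assoc, pullback.condition]) rfl).symm
    refine pullback.hom_ext h2 ?_
    rw [key m, key m', h1, h2]

end Groth.Agent.H37.GrpdCalc
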