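import Mathlib
import Groth.Agent.H37.AbTranslate
import Groth.Agent.H37.GeomSepClosed
import Groth.Agent.H37.PbPoints
import Groth.Agent.S5331
import Groth.Agent.S0348
import Groth.Agent.H51.Reduced

/-!
# Abelian subvarieties of a connected smooth group over an algebraically closed field are central
-/

set_option autoImplicit false
universe u
open CategoryTheory CategoryTheory.Limits MonoidalCategory CartesianMonoidalCategory MonObj GrpObj
  AlgebraicGeometry

namespace Groth.Agent.H37.AbCentral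

open Groth.Agent.H37.AbTranslate

theorem central (k : Type u) [Field k] [IsAlgClosed k]
    (G A : Over (Spec (CommRingCat.of k))) [GrpObj G] [GrpObj A]
    [Smooth G.hom] [ConnectedSpace ↥G.left]
    [Smooth A.hom] [ConnectedSpace ↥A.left] [IsProper A.hom]
    (j : A ⟶ G) [IsMonHom j] :
    fst G A * (snd G A ≫ j) = (snd G A ≫ j) * fst G A := by
  obtain ⟨hint, hsubs⟩ :=
    integral_subsingleton_of_iso_spec_field k (Iso.refl (Spec (CommRingCat.of k)))
  haveI := hint
  haveI := hsubs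
  obtain ⟨pt⟩ : Nonempty ↥(Spec (CommRingCat.of k)) := ⟨(⊥ : PrimeSpectrum k)⟩
  haveI : IsSeparated G.hom := Groth.Agent.S5331.result (Spec (CommRingCat.of k)) G
  haveI : IrreducibleSpace ↥G.left := Groth.Agent.S0348.result k G
  haveI : GeometricallyConnected A.hom := geomConn_of_isSepClosed A.hom
  haveI : UniversallyOpen A.hom := univOpen_of_iso_spec_field k (Iso.refl _) A.hom
  obtain ⟨c, hc⟩ : ∃ c : G ⊗ A ⟶ G,
      c = fst G A * (snd G A ≫ j) * (fst G A)⁻¹ * (snd G A ≫ j)⁻¹ := ⟨_, rfl⟩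
  obtain ⟨σo, hσ1, hσ2⟩ : ∃ σo : G ⟶ G ⊗ A,
      σo ≫ fst G A = 𝟙 G ∧ σo ≫ snd G A = toUnit G ≫ η[A] :=
    ⟨lift (𝟙 G) (toUnit G ≫ η[A]), lift_fst _ _, lift_snd _ _⟩
  obtain ⟨je, hje1, hje2⟩ : ∃ je : A ⟶ G ⊗ A,
      je ≫ fst G A = toUnit A ≫ η[G] ∧ je ≫ snd G A = 𝟙 A :=
    ⟨lift (toUnit A ≫ η[G]) (𝟙 A), lift_fst _ _, lift_snd _ _⟩
  have hσc : σo ≫ c = 1 := by
    have e1 : σo ≫ (snd G A ≫ j) = 1 := by
      rw [← Category.assoc, hσ2, Category.assoc, IsMonHom.one_hom, ← Hom.one_def]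
    rw [hc, comp_mul, comp_mul, comp_mul, GrpObj.comp_inv, GrpObj.comp_inv, hσ1, e1]
    group
  have hjec : je ≫ c = 1 := by
    have e2 : je ≫ fst G A = 1 := by rw [hje1, ← Hom.one_def]
    have e3 : je ≫ (snd G A ≫ j) = j := by rw [← Category.assoc, hje2, Category.id_comp]
    rw [hc, comp_mul, comp_mul, comp_mul, GrpObj.comp_inv, GrpObj.comp_inv, e2, e3]
    group
  obtain ⟨p, hp⟩ : ∃ p : (G ⊗ A).left ⟶ G.left, p = (fst G A).left := ⟨_, rfl⟩
  obtain ⟨s, hs⟩ : ∃ s : (G ⊗ A).left ⟶ A.left, s = (snd G A).left := ⟨_, rfl⟩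
  have hsq : IsPullback p s G.hom A.hom := by
    rw [hp, hs]; exact IsPullback.of_hasPullback G.hom A.hom
  haveI hpuc : UniversallyClosed p := by
    rw [hp]; exact (inferInstance : UniversallyClosed (pullback.fst G.hom A.hom))
  haveI hpgc : GeometricallyConnected p := by
    rw [hp]; exact (inferInstance : GeometricallyConnected (pullback.fst G.hom A.hom))
  haveI hpuo : UniversallyOpen p := by
    rw [hp]; exact (inferInstance : UniversallyOpen (pullback.fst G.hom A.hom))
  haveI hsm : Smooth (G ⊗ A).hom :=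
    (inferInstance : Smooth (pullback.fst G.hom A.hom ≫ G.hom))
  haveI hPred : IsReduced (G ⊗ A).left := Groth.Agent.H51.isReduced_of_smooth (G ⊗ A).hom
  have hσp : σo.left ≫ p = 𝟙 G.left := by
    rw [hp, ← Over.comp_left, hσ1]; rfl
  have hdense : ∀ V : G.left.Opens, (V : Set G.left).Nonempty →
      Dense (⇑p ⁻¹' (V : Set G.left)) := by
    intro V hV
    exact (V.isOpen.dense hV).preimage p.isOpenMap
  have hh_q : c.left ≫ G.hom = (p ≫ σo.left ≫ c.left) ≫ G.hom := by
    have e0 : c.left ≫ G.hom = (G ⊗ A).hom := Over.w c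
    have e1 : σo.left ≫ (G ⊗ A).hom = G.hom := Over.w σo
    have e2 : p ≫ G.hom = (G ⊗ A).hom := by rw [hp]; exact Over.w (fst G A)
    simp only [Category.assoc]
    rw [e0, e1, e2]
  have hje1' : je.left ≫ p = A.hom ≫ η[G].left := by
    rw [hp, ← Over.comp_left, hje1]; rfl
  have hje2' : je.left ≫ s = 𝟙 A.left := by
    rw [hs, ← Over.comp_left, hje2]; rfl
  have hsqa : IsPullback je.left A.hom p η[G].left :=
    isPullback_section hsq η[G].left (Over.w η[G]) je.left hje1' hje2'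
  have hfib : ∀ w : (G ⊗ A).left, p w = η[G].left pt → c.left w = η[G].left pt := by
    intro w hw
    obtain ⟨w', hw'1, -⟩ := exists_of_isPullback hsqa w pt hw
    have e : c.left (je.left w') = (je ≫ c).left w' := rfl
    rw [← hw'1, e, hjec]
    have e' : (1 : A ⟶ G).left w' = η[G].left ((toUnit A).left w') := by
      rw [Hom.one_def]; rfl
    rw [e']
    exact congrArg _ (Subsingleton.elim (α := ↥(Spec (CommRingCat.of k))) _ _)
  have hsub : (⇑c.left '' (⇑p ⁻¹' {η[G].left pt})).Subsingleton := by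
    rintro _ ⟨w1, hw1, rfl⟩ _ ⟨w2, hw2, rfl⟩
    rw [hfib w1 hw1, hfib w2 hw2]
  have hrig := Rigidity.rigidity p σo.left hσp hdense G.hom c.left hh_q (η[G].left pt) hsub
  have hc1 : c = 1 := by
    have e : c = fst G A ≫ σo ≫ c := by
      apply Over.OverMorphism.ext
      rw [Over.comp_left, Over.comp_left, ← hp]
      exact hrig
    rw [e, hσc, comp_one]
  calc fst G A * (snd G A ≫ j)
      = (fst G A * (snd G A ≫ j) * (fst G A)⁻¹ * (snd G A ≫ j)⁻¹) *
          ((snd G A ≫ j) * fst G A) := by group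
    _ = (snd G A ≫ j) * fst G A := by rw [← hc, hc1, _root_.one_mul]

/-- pointwise form of centrality -/
theorem central_pts (k : Type u) [Field k] [IsAlgClosed k]
    (G A : Over (Spec (CommRingCat.of k))) [GrpObj G] [GrpObj A]
    [Smooth G.hom] [ConnectedSpace ↥G.left]
    [Smooth A.hom] [ConnectedSpace ↥A.left] [IsProper A.hom]
    (j : A ⟶ G) [IsMonHom j] {T : Over (Spec (CommRingCat.of k))} (g : T ⟶ G) (a : T ⟶ A) :
    g * (a ≫ j) = (a ≫ j) * g := by
  have h := congrArg (fun t => lift g a ≫ t) (central k G A j)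
  simp only [comp_mul] at h
  rw [lift_fst, ← Category.assoc, lift_snd] at h
  exact h

end Groth.Agent.H37.AbCentral
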