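import Mathlib

/-!
# Homogeneous connected closed subsets of Noetherian Jacobson spaces are irreducible

If `C` is a closed connected subset of a Noetherian Jacobson space and the self-homeomorphisms
of the ambient space preserving `C` act transitively on the closed points of `C`, then `C` is
irreducible.
-/

open TopologicalSpace Topology

namespace Groth.Agent.H37.HomogIrr

theorem isClosed_connectedComponentIn {T : Type*} [TopologicalSpace T] {F : Set T}
    (hF : IsClosed F) (x : T) : IsClosed (connectedComponentIn F x) := by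
  by_cases hx : x ∈ F
  · rw [connectedComponentIn_eq_image hx]
    exact hF.isClosedEmbedding_subtypeVal.isClosedMap _ isClosed_connectedComponent
  · rw [connectedComponentIn_eq_empty hx]
    exact isClosed_empty

theorem isIrreducible_univ_of_homogeneous {T : Type*} [TopologicalSpace T] [NoetherianSpace T]
    [JacobsonSpace T] [ConnectedSpace T]
    (hhom : ∀ a b : T, IsClosed ({a} : Set T) → IsClosed ({b} : Set T) →
      ∃ φ ψ : T → T, Continuous φ ∧ Continuous ψ ∧ (∀ x, ψ (φ x) = x) ∧ (∀ x, φ (ψ x) = x) ∧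
        φ a = b) :
    IsIrreducible (Set.univ : Set T) := by
  classical
  have hfin : (irreducibleComponents T).Finite := NoetherianSpace.finite_irreducibleComponents
  have htrans : ∀ (φ ψ : T → T), Continuous φ → Continuous ψ → (∀ x, ψ (φ x) = x) →
      (∀ x, φ (ψ x) = x) → ∀ Z ∈ irreducibleComponents T,
        ψ '' Z ∈ irreducibleComponents T := by
    intro φ ψ hφ hψ h1 h2 Z hZ
    refine ⟨hZ.1.image ψ hψ.continuousOn, fun W hW hsub => ?_⟩
    have hZW : Z ⊆ φ '' W := fun z hz => ⟨ψ z, hsub ⟨z, hz, rfl⟩, h2 z⟩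
    have hWZ : φ '' W ⊆ Z := hZ.2 (hW.image φ hφ.continuousOn) hZW
    intro w hw
    exact ⟨φ w, hWZ ⟨w, hw, rfl⟩, h1 w⟩
  obtain ⟨t0⟩ : Nonempty T := inferInstance
  obtain ⟨Z₁, hZ₁def⟩ : ∃ Z₁ : Set T, Z₁ = irreducibleComponent t0 := ⟨_, rfl⟩
  have hZ₁ : Z₁ ∈ irreducibleComponents T :=
    hZ₁def ▸ irreducibleComponent_mem_irreducibleComponents t0
  obtain ⟨O, hOdef⟩ : ∃ O : Set T, O = (⋃₀ (irreducibleComponents T \ {Z₁}))ᶜ := ⟨_, rfl⟩
  have hOopen : IsOpen O := by
    rw [hOdef, Set.sUnion_eq_biUnion, isOpen_compl_iff]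
    exact hfin.sdiff.isClosed_biUnion fun W hW => isClosed_of_mem_irreducibleComponents W hW.1
  have hcl : closure O = Z₁ :=
    hOdef ▸ closure_sUnion_irreducibleComponents_sdiff_singleton hfin Z₁ hZ₁
  have hOne : O.Nonempty := by
    by_contra hne
    rw [Set.not_nonempty_iff_eq_empty] at hne
    rw [hne, closure_empty] at hcl
    exact hZ₁.1.nonempty.ne_empty hcl.symm
  obtain ⟨x₀, hx₀O, hx₀c⟩ := nonempty_inter_closedPoints hOne hOopen.isLocallyClosed
  have hx₀c' : IsClosed ({x₀} : Set T) := hx₀c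
  have huniq₀ : ∀ Z ∈ irreducibleComponents T, x₀ ∈ Z → Z = Z₁ := by
    intro Z hZ hxZ
    by_contra hne
    rw [hOdef] at hx₀O
    exact hx₀O ⟨Z, ⟨hZ, fun h => hne (Set.mem_singleton_iff.mp h)⟩, hxZ⟩
  have huniq : ∀ p : T, IsClosed ({p} : Set T) → ∀ Za ∈ irreducibleComponents T,
      ∀ Zb ∈ irreducibleComponents T, p ∈ Za → p ∈ Zb → Za = Zb := by
    intro p hp Za hZa Zb hZb hpa hpb
    obtain ⟨φ, ψ, hφ, hψ, h1, h2, hφx⟩ := hhom x₀ p hx₀c' hp
    have hψp : ψ p = x₀ := by rw [← hφx, h1]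
    have ha : ψ '' Za = Z₁ := huniq₀ _ (htrans φ ψ hφ hψ h1 h2 Za hZa) ⟨p, hpa, hψp⟩
    have hb : ψ '' Zb = Z₁ := huniq₀ _ (htrans φ ψ hφ hψ h1 h2 Zb hZb) ⟨p, hpb, hψp⟩
    have hback : ∀ Z : Set T, φ '' (ψ '' Z) = Z := by
      intro Z
      rw [Set.image_image]
      simp only [h2, Set.image_id']
    rw [← hback Za, ← hback Zb, ha, hb]
  have hdisj : ∀ Za ∈ irreducibleComponents T, ∀ Zb ∈ irreducibleComponents T,
      (Za ∩ Zb).Nonempty → Za = Zb := by
    intro Za hZa Zb hZb hne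
    have hclosed : IsClosed (Za ∩ Zb) :=
      (isClosed_of_mem_irreducibleComponents Za hZa).inter
        (isClosed_of_mem_irreducibleComponents Zb hZb)
    obtain ⟨p, ⟨hpa, hpb⟩, hpc⟩ := nonempty_inter_closedPoints hne hclosed.isLocallyClosed
    exact huniq p hpc Za hZa Zb hZb hpa hpb
  have hZO : Z₁ = O := by
    apply Set.Subset.antisymm
    · intro x hx
      rw [hOdef]
      rintro ⟨Z, ⟨hZ, hne⟩, hxZ⟩
      exact hne (Set.mem_singleton_iff.mpr (hdisj Z hZ Z₁ hZ₁ ⟨x, hxZ, hx⟩))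
    · rw [← hcl]; exact subset_closure
  have hclopen : IsClopen Z₁ :=
    ⟨isClosed_of_mem_irreducibleComponents Z₁ hZ₁, by rw [hZO]; exact hOopen⟩
  have huniv : Z₁ = Set.univ := hclopen.eq_univ hZ₁.1.nonempty
  rw [← huniv]
  exact hZ₁.1

theorem isIrreducible_of_homogeneous {T : Type*} [TopologicalSpace T] [NoetherianSpace T]
    [JacobsonSpace T] (C : Set T) (hCcl : IsClosed C) (hCconn : IsConnected C)
    (hhom : ∀ a ∈ C, ∀ b ∈ C, IsClosed ({a} : Set T) → IsClosed ({b} : Set T) →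
      ∃ φ ψ : T → T, Continuous φ ∧ Continuous ψ ∧ (∀ x, ψ (φ x) = x) ∧ (∀ x, φ (ψ x) = x) ∧
        φ '' C ⊆ C ∧ ψ '' C ⊆ C ∧ φ a = b) :
    IsIrreducible C := by
  haveI : ConnectedSpace ↥C := isConnected_iff_connectedSpace.mp hCconn
  haveI : JacobsonSpace ↥C := JacobsonSpace.of_isClosedEmbedding hCcl.isClosedEmbedding_subtypeVal
  have h : IsIrreducible (Set.univ : Set ↥C) := by
    refine isIrreducible_univ_of_homogeneous ?_
    intro a b ha hb
    have ha' : IsClosed ({a.1} : Set T) := by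
      have := hCcl.isClosedEmbedding_subtypeVal.isClosedMap _ ha
      rwa [Set.image_singleton] at this
    have hb' : IsClosed ({b.1} : Set T) := by
      have := hCcl.isClosedEmbedding_subtypeVal.isClosedMap _ hb
      rwa [Set.image_singleton] at this
    obtain ⟨φ, ψ, hφ, hψ, h1, h2, hφC, hψC, hab⟩ := hhom a.1 a.2 b.1 b.2 ha' hb'
    refine ⟨fun c => ⟨φ c.1, hφC ⟨c.1, c.2, rfl⟩⟩, fun c => ⟨ψ c.1, hψC ⟨c.1, c.2, rfl⟩⟩,
      ?_, ?_, ?_, ?_, ?_⟩
    · exact (hφ.comp continuous_subtype_val).subtype_mk _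
    · exact (hψ.comp continuous_subtype_val).subtype_mk _
    · intro x; exact Subtype.ext (h1 x.1)
    · intro x; exact Subtype.ext (h2 x.1)
    · exact Subtype.ext hab
  have h2 := h.image Subtype.val continuous_subtype_val.continuousOn
  rwa [Set.image_univ, Subtype.range_coe] at h2

end Groth.Agent.H37.HomogIrr
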