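import Groth.Agent.H37.AbTranslate
import Groth.Agent.H37.HomogIrr

/-!
# Fibres of a morphism from an abelian variety over an algebraically closed field

Over an algebraically closed field `K`, for an abelian variety `X`, a separated `K`-scheme `Y` and
a `K`-morphism `f : X ⟶ Y`: the connected component of a rational point in its fibre is
irreducible, every irreducible component of a fibre over a closed point is such a connected
component, and any two of them are translates of each other, hence have the same dimension.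
-/

universe u

open CategoryTheory CategoryTheory.Limits MonoidalCategory CartesianMonoidalCategory MonObj GrpObj
  AlgebraicGeometry

namespace Groth.Agent.H37.AbFibreDim

open Groth.Agent.H37.AbTranslate Groth.Agent.H37.HomogIrr

variable (K : Type u) [Field K]

section Basic

variable (X : Over (Spec (CommRingCat.of K))) [GrpObj X]

lemma tr_comp_tr_cancel (a b : 𝟙_ (Over (Spec (CommRingCat.of K))) ⟶ X) :
    tr X (a * b⁻¹) ≫ tr X (b * a⁻¹) = 𝟙 X := by
  rw [tr_tr, ← _root_.mul_assoc, inv_mul_cancel_right, _root_.mul_inv_cancel, tr_one]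

lemma comp_tr_eq (a b : 𝟙_ (Over (Spec (CommRingCat.of K))) ⟶ X) :
    a ≫ tr X (b * a⁻¹) = b := by
  rw [comp_tr, toUnit_unit, Category.id_comp, inv_mul_cancel_right]

end Basic

section Point

variable [IsAlgClosed K]

theorem exists_point (X : Over (Spec (CommRingCat.of K))) [LocallyOfFiniteType X.hom]
    (x₀ : X.left) (hx₀ : IsClosed ({x₀} : Set X.left)) (pt : ↥(Spec (CommRingCat.of K))) :
    ∃ x : 𝟙_ (Over (Spec (CommRingCat.of K))) ⟶ X, x.left pt = x₀ := by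
  obtain ⟨p, hp⟩ : ∃ p : X.left ⟶ Spec (CommRingCat.of K), p = X.hom := ⟨_, rfl⟩
  haveI : LocallyOfFiniteType p := by rw [hp]; infer_instance
  refine ⟨Over.homMk (pointOfClosedPoint p x₀ hx₀) ?_, pointOfClosedPoint_apply p x₀ hx₀ pt⟩
  show pointOfClosedPoint p x₀ hx₀ ≫ X.hom = 𝟙 _
  rw [← hp]
  exact pointOfClosedPoint_comp p x₀ hx₀

end Point

section Main

variable [IsAlgClosed K] (X : Over (Spec (CommRingCat.of K)))
  [GrpObj X] [IsProper X.hom] [GeometricallyIntegral X.hom]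
  {Y : Scheme.{u}} (q : Y ⟶ Spec (CommRingCat.of K)) [IsSeparated q] (f : X.left ⟶ Y)
  (hf : f ≫ q = X.hom)

include hf

omit [IsAlgClosed K] [GrpObj X] [IsProper X.hom] [GeometricallyIntegral X.hom] [IsSeparated q] in
theorem isClosed_fibre (x : 𝟙_ (Over (Spec (CommRingCat.of K))) ⟶ X)
    (pt : ↥(Spec (CommRingCat.of K))) : IsClosed (⇑f ⁻¹' {f (x.left pt)}) := by
  obtain ⟨hint, hsubs⟩ :=
    integral_subsingleton_of_iso_spec_field K (Iso.refl (Spec (CommRingCat.of K)))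
  haveI := hsubs
  obtain ⟨A, hA⟩ : ∃ A : Spec (CommRingCat.of K) ⟶ X.left, A = x.left := ⟨_, rfl⟩
  have hAq : (A ≫ f) ≫ q = 𝟙 _ := by rw [Category.assoc, hf, hA]; exact Over.w x
  haveI hcl : IsClosedImmersion (A ≫ f) := isClosedImmersion_of_comp_eq_id q (A ≫ f) hAq
  have hr : Set.range ⇑(A ≫ f) = {f (A pt)} := by
    ext y
    constructor
    · rintro ⟨s, rfl⟩
      have hs : s = pt := Subsingleton.elim _ _
      rw [hs]
      exact Set.mem_singleton_iff.mpr rfl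
    · intro h
      exact ⟨pt, (Set.mem_singleton_iff.mp h).symm⟩
  have hc : IsClosed ({f (A pt)} : Set Y) := hr ▸ (A ≫ f).isClosedEmbedding.isClosed_range
  rw [← hA]
  exact hc.preimage f.continuous

theorem isIrreducible_component (x : 𝟙_ (Over (Spec (CommRingCat.of K))) ⟶ X)
    (pt : ↥(Spec (CommRingCat.of K))) :
    IsIrreducible (connectedComponentIn (⇑f ⁻¹' {f (x.left pt)}) (x.left pt)) := by
  haveI : JacobsonSpace ↥X.left := LocallyOfFiniteType.jacobsonSpace (Y := Spec _) X.hom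
  haveI : IsLocallyNoetherian X.left :=
    LocallyOfFiniteType.isLocallyNoetherian (Y := Spec _) X.hom
  haveI : CompactSpace ↥X.left := QuasiCompact.compactSpace_of_compactSpace (Y := Spec _) X.hom
  haveI : IsNoetherian X.left := {}
  have hF : IsClosed (⇑f ⁻¹' {f (x.left pt)}) := isClosed_fibre K X q f hf x pt
  obtain ⟨x₀, hx₀⟩ : ∃ x₀ : X.left, x₀ = x.left pt := ⟨_, rfl⟩
  rw [← hx₀] at hF ⊢
  have hx₀F : x₀ ∈ ⇑f ⁻¹' {f x₀} := Set.mem_singleton_iff.mpr rfl
  have hC_of : ∀ c : 𝟙_ (Over (Spec (CommRingCat.of K))) ⟶ X,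
      c.left pt ∈ connectedComponentIn (⇑f ⁻¹' {f x₀}) x₀ →
      connectedComponentIn (⇑f ⁻¹' {f (c.left pt)}) (c.left pt) =
        connectedComponentIn (⇑f ⁻¹' {f x₀}) x₀ := by
    intro c hc
    have hcF : c.left pt ∈ ⇑f ⁻¹' {f x₀} := connectedComponentIn_subset _ _ hc
    have hfc : f (c.left pt) = f x₀ := Set.mem_singleton_iff.mp hcF
    rw [hfc]
    exact (connectedComponentIn_eq hc).symm
  refine isIrreducible_of_homogeneous _ (isClosed_connectedComponentIn hF x₀)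
    (isConnected_connectedComponentIn_iff.mpr hx₀F) ?_
  intro a ha b hb hac hbc
  obtain ⟨a', ha'⟩ := exists_point K X a hac pt
  obtain ⟨b', hb'⟩ := exists_point K X b hbc pt
  have h1 := image_eq K X q f hf a' b' pt
  have h2 := image_eq K X q f hf b' a' pt
  rw [hC_of a' (by rw [ha']; exact ha), hC_of b' (by rw [hb']; exact hb)] at h1 h2
  refine ⟨⇑(tr X (b' * a'⁻¹)).left, ⇑(tr X (a' * b'⁻¹)).left,
    (tr X (b' * a'⁻¹)).left.continuous, (tr X (a' * b'⁻¹)).left.continuous,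
    fun w => congrArg (fun g : X ⟶ X => g.left w) (tr_comp_tr_cancel K X b' a'),
    fun w => congrArg (fun g : X ⟶ X => g.left w) (tr_comp_tr_cancel K X a' b'),
    h1.le, h2.le, ?_⟩
  have h3 : (tr X (b' * a'⁻¹)).left (a'.left pt) = b'.left pt :=
    congrArg (fun g : 𝟙_ (Over (Spec (CommRingCat.of K))) ⟶ X => g.left pt) (comp_tr_eq K X a' b')
  rw [ha', hb'] at h3
  exact h3

theorem component_eq (y : Y) (hy : IsClosed ({y} : Set Y)) (W : Set X.left)
    (hW : IsIrreducible W) (hWy : W ⊆ ⇑f ⁻¹' {y})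
    (hmax : ∀ W' : Set X.left, IsIrreducible W' → W' ⊆ ⇑f ⁻¹' {y} → W ⊆ W' → W' ⊆ W)
    (pt : ↥(Spec (CommRingCat.of K))) :
    ∃ x : 𝟙_ (Over (Spec (CommRingCat.of K))) ⟶ X,
      W = connectedComponentIn (⇑f ⁻¹' {f (x.left pt)}) (x.left pt) := by
  haveI : JacobsonSpace ↥X.left := LocallyOfFiniteType.jacobsonSpace (Y := Spec _) X.hom
  have hFcl : IsClosed (⇑f ⁻¹' {y}) := hy.preimage f.continuous
  have hWcl : IsClosed W := by
    have h1 : closure W ⊆ W :=
      hmax _ hW.closure (hFcl.closure_subset_iff.mpr hWy) subset_closure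
    exact closure_subset_iff_isClosed.mp h1
  obtain ⟨x₀, hx₀W, hx₀c⟩ := nonempty_inter_closedPoints hW.nonempty hWcl.isLocallyClosed
  obtain ⟨x, hx⟩ := exists_point K X x₀ hx₀c pt
  refine ⟨x, ?_⟩
  have hirr := isIrreducible_component K X q f hf x pt
  rw [hx] at hirr ⊢
  have hfx : f x₀ = y := Set.mem_singleton_iff.mp (hWy hx₀W)
  rw [hfx] at hirr ⊢
  have hsub : W ⊆ connectedComponentIn (⇑f ⁻¹' {y}) x₀ :=
    hW.isConnected.isPreconnected.subset_connectedComponentIn hx₀W hWy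
  exact Set.Subset.antisymm hsub
    (hmax _ hirr (connectedComponentIn_subset _ _) hsub)

theorem dim_eq (y₁ y₂ : Y) (hy₁ : IsClosed ({y₁} : Set Y)) (hy₂ : IsClosed ({y₂} : Set Y))
    (W₁ W₂ : Set X.left) (hW₁ : IsIrreducible W₁) (hW₂ : IsIrreducible W₂)
    (hWy₁ : W₁ ⊆ ⇑f ⁻¹' {y₁}) (hWy₂ : W₂ ⊆ ⇑f ⁻¹' {y₂})
    (hmax₁ : ∀ W' : Set X.left, IsIrreducible W' → W' ⊆ ⇑f ⁻¹' {y₁} → W₁ ⊆ W' → W' ⊆ W₁)
    (hmax₂ : ∀ W' : Set X.left, IsIrreducible W' → W' ⊆ ⇑f ⁻¹' {y₂} → W₂ ⊆ W' → W' ⊆ W₂) :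
    topologicalKrullDim ↥W₁ = topologicalKrullDim ↥W₂ := by
  obtain ⟨pt, -⟩ : ∃ pt : ↥(Spec (CommRingCat.of K)), pt = IsLocalRing.closedPoint K := ⟨_, rfl⟩
  obtain ⟨x₁, h₁⟩ := component_eq K X q f hf y₁ hy₁ W₁ hW₁ hWy₁ hmax₁ pt
  obtain ⟨x₂, h₂⟩ := component_eq K X q f hf y₂ hy₂ W₂ hW₂ hWy₂ hmax₂ pt
  have h := image_eq K X q f hf x₁ x₂ pt
  rw [← h₁, ← h₂] at h
  have hemb : Topology.IsEmbedding ⇑(tr X (x₂ * x₁⁻¹)).left :=
    Function.LeftInverse.isEmbedding (f := ⇑(tr X (x₁ * x₂⁻¹)).left)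
      (fun w => congrArg (fun g : X ⟶ X => g.left w) (tr_comp_tr_cancel K X x₂ x₁))
      (tr X (x₁ * x₂⁻¹)).left.continuous (tr X (x₂ * x₁⁻¹)).left.continuous
  rw [← h]
  exact IsHomeomorph.topologicalKrullDim_eq _ (hemb.homeomorphImage W₁).isHomeomorph

end Main

end Groth.Agent.H37.AbFibreDim
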