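import Groth.Agent.H37.AbFibreMain
import Groth.Agent.H54.FibreDimTdeg
import Groth.Agent.H54.IrredFibres
import Groth.Agent.H38.DimZero
import Groth.Agent.H63.GrpHomFlat
import Groth.Agent.H74.AbGI
import Groth.Agent.H51.Reduced

/-!
# Homomorphisms of abelian varieties of equal dimension

A surjective homomorphism of abelian varieties of the same dimension is finite and flat; for
homomorphisms between abelian varieties of the same dimension, flat `↔` finite.
-/

universe u

open CategoryTheory CategoryTheory.Limits MonoidalCategory CartesianMonoidalCategory MonObj GrpObj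
  AlgebraicGeometry

namespace Groth.Agent.H37.AbIsogeny

open Groth.Agent.H54

theorem geometricallyReduced_of_smooth {X Y : Scheme.{u}} (f : X ⟶ Y) [Smooth f] :
    GeometricallyReduced f :=
  ⟨fun K _ y Z fst snd h => by
    haveI : Smooth snd := MorphismProperty.of_isPullback (P := @Smooth) h inferInstance
    exact Groth.Agent.H51.isReduced_of_smooth snd⟩

/-- a quasi-compact morphism locally of finite type all of whose fibres have only
zero-dimensional irreducible components is locally quasi-finite -/
theorem locallyQuasiFinite_of_components_dim_zero {X Y : Scheme.{u}} (φ : X ⟶ Y)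
    [LocallyOfFiniteType φ] [QuasiCompact φ]
    (h : ∀ (y : Y) (Z : Set ↥(φ.fiber y)), Z ∈ irreducibleComponents ↥(φ.fiber y) →
      topologicalKrullDim ↥Z = 0) :
    LocallyQuasiFinite φ := by
  rw [locallyQuasiFinite_iff_isFinite_fiber]
  intro y
  haveI : LocallyOfFiniteType (fiberQ φ y) := inferInstance
  haveI : QuasiCompact (fiberQ φ y) := by
    show QuasiCompact (pullback.snd φ (Y.fromSpecResidueField y)); infer_instance
  have hdim : topologicalKrullDim ↥(φ.fiber y) ≤ 0 := by
    have hle := topologicalKrullDim_le_of_forall_tdeg_le (fiberQ φ y) 0 ?_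
    · exact_mod_cast hle
    intro z
    have hZ := irreducibleComponent_mem_irreducibleComponents z
    obtain ⟨g, hg⟩ := QuasiSober.sober hZ.1 (isClosed_of_mem_irreducibleComponents _ hZ)
    have hgz : g ⤳ z := by
      rw [specializes_iff_mem_closure, hg.def]; exact mem_irreducibleComponent
    have h0 := h y _ hZ
    rw [← hg.def, topologicalKrullDim_closure_singleton (fiberQ φ y) g] at h0
    have h0' : tdeg (fiberQ φ y) g = 0 := by exact_mod_cast h0
    exact (tdeg_le_of_specializes _ hgz).trans h0'.le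
  exact Groth.Agent.H38.DimZero.isFinite_of_dim_le_zero (fiberQ φ y) hdim

theorem finite_flat_of_surjective (k : Type u) [Field k]
    (X Y : Over (Spec (CommRingCat.of k)))
    [GrpObj X] [IsProper X.hom] [GeometricallyIntegral X.hom]
    [GrpObj Y] [IsProper Y.hom] [GeometricallyIntegral Y.hom]
    (f : X ⟶ Y) [IsMonHom f] [Surjective f.left]
    (hdim : topologicalKrullDim X.left = topologicalKrullDim Y.left) :
    IsFinite f.left ∧ Flat f.left := by
  obtain ⟨hint, hsubs⟩ :=
    integral_subsingleton_of_iso_spec_field k (Iso.refl (Spec (CommRingCat.of k)))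
  haveI := hint
  haveI := hsubs
  obtain ⟨p, hp⟩ : ∃ p : X.left ⟶ Spec (CommRingCat.of k), p = X.hom := ⟨_, rfl⟩
  obtain ⟨q, hq⟩ : ∃ q : Y.left ⟶ Spec (CommRingCat.of k), q = Y.hom := ⟨_, rfl⟩
  obtain ⟨φ, hφ⟩ : ∃ φ : X.left ⟶ Y.left, φ = f.left := ⟨_, rfl⟩
  haveI : IsProper p := by rw [hp]; infer_instance
  haveI : IsProper q := by rw [hq]; infer_instance
  haveI : GeometricallyIntegral p := by rw [hp]; infer_instance
  haveI : GeometricallyIntegral q := by rw [hq]; infer_instance
  haveI : Surjective φ := by rw [hφ]; infer_instance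
  have hφq : φ ≫ q = p := by rw [hφ, hq, hp]; exact Over.w f
  haveI : IsIntegral X.left := GeometricallyIntegral.isIntegral_of_subsingleton p
  haveI : IsIntegral Y.left := GeometricallyIntegral.isIntegral_of_subsingleton q
  haveI : IsProper (φ ≫ q) := by rw [hφq]; infer_instance
  haveI : IsProper φ := IsProper.of_comp φ q
  haveI : LocallyOfFiniteType φ := inferInstance
  have hflat : Flat f.left := Groth.Agent.H63.GrpHomFlat.flat_left_of_isReduced f
  refine ⟨?_, hflat⟩
  obtain ⟨d, hd⟩ := Groth.Agent.H37.AbFibreMain.main k X q φ (by rw [hφq, hp])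
  obtain ⟨ξ, hξ⟩ : ∃ ξ : X.left, ξ = genericPoint X.left := ⟨_, rfl⟩
  have hξgen : ∀ x : X.left, ξ ⤳ x := fun x => by rw [hξ]; exact genericPoint_specializes x
  have hηgen : ∀ y : Y.left, φ ξ ⤳ y := by
    intro y
    obtain ⟨x, rfl⟩ := φ.surjective y
    exact (hξgen x).map φ.continuous
  have h1 := topologicalKrullDim_eq_tdeg_of_generic p ξ hξgen
  have h2 := topologicalKrullDim_eq_tdeg_of_generic q (φ ξ) hηgen
  have h3 : tdeg p ξ = tdeg q (φ ξ) := by
    rw [h1, h2] at hdim; exact_mod_cast hdim
  have h4 := tdeg_fibre_add p q φ hφq (φ ξ) (φ.asFiber ξ)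
  rw [φ.fiberι_asFiber ξ] at h4
  have h4' : tdeg p ξ = tdeg q (φ ξ) + tdeg (fiberQ φ (φ ξ)) (φ.asFiber ξ) := h4
  have h5 : tdeg (fiberQ φ (φ ξ)) (φ.asFiber ξ) = 0 := by omega
  have hcomp : closure ({φ.asFiber ξ} : Set ↥(φ.fiber (φ ξ))) ∈
      irreducibleComponents ↥(φ.fiber (φ ξ)) := by
    apply closure_mem_irreducibleComponents_of_forall
    intro z'' hz''
    have hsp : (φ.fiberι (φ ξ)) z'' ⤳ (φ.fiberι (φ ξ)) (φ.asFiber ξ) :=
      hz''.map (φ.fiberι (φ ξ)).continuous
    rw [φ.fiberι_asFiber ξ] at hsp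
    have heq : (φ.fiberι (φ ξ)) z'' = ξ := (hsp.antisymm (hξgen _)).eq
    apply (φ.fiberι (φ ξ)).isEmbedding.injective
    rw [heq, φ.fiberι_asFiber ξ]
  have h6 := hd (φ ξ) _ hcomp
  rw [topologicalKrullDim_closure_singleton (fiberQ φ (φ ξ)) (φ.asFiber ξ), h5] at h6
  have hd0 : d = 0 := by exact_mod_cast h6.symm
  subst hd0
  haveI : LocallyQuasiFinite φ :=
    locallyQuasiFinite_of_components_dim_zero φ (fun y Z hZ => by simpa using hd y Z hZ)
  rw [← hφ]
  exact IsFinite.of_isProper_of_locallyQuasiFinite φ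

theorem flat_iff_finite (k : Type u) [Field k]
    (A B : Over (Spec (CommRingCat.of k)))
    [GrpObj A] [Smooth A.hom] [IsProper A.hom] [GeometricallyConnected A.hom]
    [GrpObj B] [Smooth B.hom] [IsProper B.hom] [GeometricallyConnected B.hom]
    (f : A ⟶ B) [IsMonHom f] (hdim : topologicalKrullDim A.left = topologicalKrullDim B.left) :
    Flat f.left ↔ IsFinite f.left := by
  obtain ⟨hint, hsubs⟩ :=
    integral_subsingleton_of_iso_spec_field k (Iso.refl (Spec (CommRingCat.of k)))
  haveI := hint
  haveI := hsubs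
  haveI : Nonempty ↥(Spec (CommRingCat.of k)) := ⟨IsLocalRing.closedPoint k⟩
  obtain ⟨p, hp⟩ : ∃ p : A.left ⟶ Spec (CommRingCat.of k), p = A.hom := ⟨_, rfl⟩
  obtain ⟨q, hq⟩ : ∃ q : B.left ⟶ Spec (CommRingCat.of k), q = B.hom := ⟨_, rfl⟩
  obtain ⟨φ, hφ⟩ : ∃ φ : A.left ⟶ B.left, φ = f.left := ⟨_, rfl⟩
  haveI : IsProper p := by rw [hp]; infer_instance
  haveI : IsProper q := by rw [hq]; infer_instance
  haveI : GeometricallyConnected p := by rw [hp]; infer_instance
  haveI : GeometricallyConnected q := by rw [hq]; infer_instance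
  haveI : ConnectedSpace ↥A.left := GeometricallyConnected.connectedSpace_of_subsingleton p
  haveI : ConnectedSpace ↥B.left := GeometricallyConnected.connectedSpace_of_subsingleton q
  haveI : GeometricallyReduced A.hom := geometricallyReduced_of_smooth A.hom
  haveI : GeometricallyReduced B.hom := geometricallyReduced_of_smooth B.hom
  haveI : GeometricallyIntegral A.hom :=
    Groth.Agent.H74.AbGI.geometricallyIntegral_of_connected k A
  haveI : GeometricallyIntegral B.hom :=
    Groth.Agent.H74.AbGI.geometricallyIntegral_of_connected k B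
  haveI : GeometricallyIntegral p := by rw [hp]; infer_instance
  haveI : GeometricallyIntegral q := by rw [hq]; infer_instance
  have hφq : φ ≫ q = p := by rw [hφ, hq, hp]; exact Over.w f
  haveI : IsIntegral A.left := GeometricallyIntegral.isIntegral_of_subsingleton p
  haveI : IsIntegral B.left := GeometricallyIntegral.isIntegral_of_subsingleton q
  haveI : IsProper (φ ≫ q) := by rw [hφq]; infer_instance
  haveI : IsProper φ := IsProper.of_comp φ q
  haveI : LocallyOfFiniteType φ := inferInstance
  haveI : IsLocallyNoetherian B.left := LocallyOfFiniteType.isLocallyNoetherian q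
  have hclosed : IsClosed (Set.range ⇑φ) := φ.isClosedMap.isClosed_range
  constructor
  · intro hflat
    haveI : Flat φ := by rw [hφ]; exact hflat
    haveI : LocallyOfFinitePresentation φ := inferInstance
    have hopen : IsOpen (Set.range ⇑φ) := φ.isOpenMap.isOpen_range
    haveI : Nonempty ↥A.left := ⟨η[A].left (IsLocalRing.closedPoint k)⟩
    have huniv : Set.range ⇑φ = Set.univ :=
      IsClopen.eq_univ ⟨hclosed, hopen⟩ (Set.range_nonempty _)
    haveI : Surjective f.left := by
      rw [← hφ]; exact ⟨Set.range_eq_univ.mp huniv⟩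
    exact (finite_flat_of_surjective k A B f hdim).1
  · intro hfin
    haveI : IsFinite φ := by rw [hφ]; exact hfin
    haveI : LocallyQuasiFinite φ := inferInstance
    obtain ⟨ξ, hξ⟩ : ∃ ξ : A.left, ξ = genericPoint A.left := ⟨_, rfl⟩
    have hξgen : ∀ x : A.left, ξ ⤳ x := fun x => by rw [hξ]; exact genericPoint_specializes x
    have h1 := topologicalKrullDim_eq_tdeg_of_generic p ξ hξgen
    have h2 := topologicalKrullDim_eq_tdeg_of_generic q (genericPoint B.left)
      genericPoint_specializes
    have h3 : tdeg p ξ = tdeg q (genericPoint B.left) := by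
      rw [h1, h2] at hdim; exact_mod_cast hdim
    have h4 := tdeg_fibre_add p q φ hφq (φ ξ) (φ.asFiber ξ)
    rw [φ.fiberι_asFiber ξ] at h4
    have h4' : tdeg p ξ = tdeg q (φ ξ) + tdeg (fiberQ φ (φ ξ)) (φ.asFiber ξ) := h4
    have h5 : tdeg (fiberQ φ (φ ξ)) (φ.asFiber ξ) = 0 := by
      have ha := topologicalKrullDim_closure_singleton (fiberQ φ (φ ξ)) (φ.asFiber ξ)
      have hb := topologicalKrullDim_subspace_le ↥(φ.fiber (φ ξ))
        (closure ({φ.asFiber ξ} : Set ↥(φ.fiber (φ ξ))))
      have hc := topologicalKrullDim_zero_of_discreteTopology ↥(φ.fiber (φ ξ))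
      rw [ha] at hb
      have hd : ((tdeg (fiberQ φ (φ ξ)) (φ.asFiber ξ) : ℕ) : WithBot ℕ∞) ≤ 0 := hb.trans hc
      have hd' : tdeg (fiberQ φ (φ ξ)) (φ.asFiber ξ) ≤ 0 := by exact_mod_cast hd
      omega
    have h6 : φ ξ = genericPoint B.left := by
      by_contra hne
      have := tdeg_lt_of_specializes q (genericPoint_specializes (φ ξ)) (Ne.symm hne)
      omega
    haveI : Surjective f.left := by
      rw [← hφ]
      refine ⟨fun y => ?_⟩
      have hy : y ∈ closure ({genericPoint B.left} : Set ↥B.left) :=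
        specializes_iff_mem_closure.mp (genericPoint_specializes y)
      exact hclosed.closure_subset_iff.mpr (Set.singleton_subset_iff.mpr ⟨ξ, h6⟩) hy
    exact (finite_flat_of_surjective k A B f hdim).2

end Groth.Agent.H37.AbIsogeny
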