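import Groth.Agent.H37.AbTranslate
import Groth.Agent.H37.AbIsogeny
import Groth.Agent.H74.AbGI

set_option autoImplicit false
universe u
open CategoryTheory CategoryTheory.Limits MonoidalCategory CartesianMonoidalCategory MonObj GrpObj
  AlgebraicGeometry

namespace Groth.Agent.H37.AbFibreGrp

open Groth.Agent.H37.AbTranslate

theorem main (k : Type u) [Field k]
    (A : Over (Spec (CommRingCat.of k))) [GrpObj A] [IsProper A.hom] [GeometricallyIntegral A.hom]
    {Y : Scheme.{u}} (q : Y ⟶ Spec (CommRingCat.of k)) [IsSeparated q] (f : A.left ⟶ Y)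
    (hf : f ≫ q = A.hom) (pt : ↥(Spec (CommRingCat.of k)))
    (x y : 𝟙_ (Over (Spec (CommRingCat.of k))) ⟶ A)
    (hx : x.left pt ∈ connectedComponentIn (f ⁻¹' {f (η[A].left pt)}) (η[A].left pt))
    (hy : y.left pt ∈ connectedComponentIn (f ⁻¹' {f (η[A].left pt)}) (η[A].left pt)) :
    (lift x y ≫ μ[A]).left pt ∈
        connectedComponentIn (f ⁻¹' {f (η[A].left pt)}) (η[A].left pt) ∧
      (x ≫ ι[A]).left pt ∈
        connectedComponentIn (f ⁻¹' {f (η[A].left pt)}) (η[A].left pt) := by
  have hfx : f (x.left pt) = f (η[A].left pt) := by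
    have h0 : x.left pt ∈ f ⁻¹' {f (η[A].left pt)} := connectedComponentIn_subset _ _ hx
    exact h0
  have hcc : connectedComponentIn (f ⁻¹' {f (x.left pt)}) (x.left pt) =
      connectedComponentIn (f ⁻¹' {f (η[A].left pt)}) (η[A].left pt) := by
    rw [hfx]
    exact (connectedComponentIn_eq hx).symm
  constructor
  · have h1 := image_subset k A q f hf η[A] x pt
    rw [hcc] at h1
    have e : x * η[A]⁻¹ = x := by rw [eta_eq_one, inv_one, _root_.mul_one]
    rw [e] at h1
    have e2 : lift x y ≫ μ[A] = y ≫ tr A x := by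
      rw [comp_tr, toUnit_unit, Category.id_comp, Hom.mul_def]
    rw [e2]
    exact h1 ⟨y.left pt, hy, rfl⟩
  · have h1 := image_subset k A q f hf x η[A] pt
    rw [hcc] at h1
    have e2 : x ≫ ι[A] = η[A] ≫ tr A (η[A] * x⁻¹) := by
      rw [comp_tr, toUnit_unit, Category.id_comp, eta_eq_one, _root_.one_mul, _root_.mul_one,
        Hom.inv_def]
    rw [e2]
    exact h1 ⟨η[A].left pt, mem_connectedComponentIn (Set.mem_singleton _), rfl⟩

end Groth.Agent.H37.AbFibreGrp
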