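import Groth.Agent.H38.DimBCComp2
import Groth.Agent.H37.PbPoints

/-!
# Irreducible components of a fibre after a field extension

Let `f : X ⟶ Y` be a morphism of `k`-schemes with `X` locally of finite type, `t : Spec L ⟶ Y` a
field-valued point and `K` a common extension of `k` and `L`.  The base change to `K` of the fibre
`X ×_Y Spec L` embeds as the closed subset `f_K ⁻¹ {y'}` of `X_K`, where `y'` is the closed
point of `Y_K` defined by `t`.  Hence every irreducible component of `X ×_Y Spec L` has the same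
dimension as some maximal irreducible subset of `f_K ⁻¹ {y'}`.
-/

universe u

open CategoryTheory CategoryTheory.Limits AlgebraicGeometry

namespace Groth.Agent.H37.FibreBC

theorem isIrreducible_preimage_of_subset_range {A B : Type*} [TopologicalSpace A]
    [TopologicalSpace B] {j : A → B} (hj : Topology.IsInducing j) {S : Set B}
    (hS : IsIrreducible S) (hSr : S ⊆ Set.range j) : IsIrreducible (j ⁻¹' S) := by
  refine ⟨?_, ?_⟩
  · obtain ⟨s, hs⟩ := hS.nonempty
    obtain ⟨a, rfl⟩ := hSr hs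
    exact ⟨a, hs⟩
  · rintro U V hU hV ⟨a, haS, haU⟩ ⟨b, hbS, hbV⟩
    obtain ⟨U', hU', rfl⟩ := hj.isOpen_iff.mp hU
    obtain ⟨V', hV', rfl⟩ := hj.isOpen_iff.mp hV
    obtain ⟨s, hsS, hsU, hsV⟩ := hS.2 U' V' hU' hV' ⟨j a, haS, haU⟩ ⟨j b, hbS, hbV⟩
    obtain ⟨c, rfl⟩ := hSr hsS
    exact ⟨c, hsS, hsU, hsV⟩

variable {k K L : Type u} [Field k] [Field K] [Field L] [Algebra k K] [Algebra L K]
  {X Y : Scheme.{u}}

local notation "gk" => Spec.map (CommRingCat.ofHom (algebraMap k K))
local notation "j₀" => Spec.map (CommRingCat.ofHom (algebraMap L K))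

theorem exists_component_bc (p : X ⟶ Spec (CommRingCat.of k)) [LocallyOfFiniteType p]
    (q : Y ⟶ Spec (CommRingCat.of k)) (f : X ⟶ Y) (hf : f ≫ q = p)
    (t : Spec (CommRingCat.of L) ⟶ Y) (ht : j₀ ≫ t ≫ q = gk)
    (fK : pullback p gk ⟶ pullback q gk)
    (hfK1 : fK ≫ pullback.fst q gk = pullback.fst p gk ≫ f)
    (hfK2 : fK ≫ pullback.snd q gk = pullback.snd p gk)
    (Z : Set ↥(pullback f t)) (hZ : Z ∈ irreducibleComponents ↥(pullback f t)) :
    ∃ (y' : ↥(pullback q gk)) (W : Set ↥(pullback p gk)), IsClosed ({y'} : Set ↥(pullback q gk)) ∧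
      IsIrreducible W ∧ W ⊆ ⇑fK ⁻¹' {y'} ∧
      (∀ W' : Set ↥(pullback p gk), IsIrreducible W' → W' ⊆ ⇑fK ⁻¹' {y'} → W ⊆ W' → W' ⊆ W) ∧
      topologicalKrullDim ↥W = topologicalKrullDim ↥Z := by
  haveI : LocallyOfFiniteType (f ≫ q) := by rw [hf]; infer_instance
  haveI : LocallyOfFiniteType f := locallyOfFiniteType_of_comp f q
  obtain ⟨sF, hsF⟩ : ∃ sF : pullback f t ⟶ Spec (CommRingCat.of L), sF = pullback.snd f t :=
    ⟨_, rfl⟩
  haveI : LocallyOfFiniteType sF := by rw [hsF]; infer_instance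
  -- a component of the base change with the same dimension
  have himg := Groth.Agent.H38.DimBCComp.image_dim_irreducibleComponents (K := K) sF
  have hmem : topologicalKrullDim ↥Z ∈ (fun Z : Set ↥(pullback f t) => topologicalKrullDim ↥Z) ''
      irreducibleComponents ↥(pullback f t) := ⟨Z, hZ, rfl⟩
  rw [← himg] at hmem
  obtain ⟨Z', hZ', hdim⟩ := hmem
  have hdim' : topologicalKrullDim ↥Z' = topologicalKrullDim ↥Z := hdim
  -- the maps
  have hcF : FBase.bcπ sF K ≫ sF = FBase.bcStr sF K ≫ j₀ := pullback.condition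
  have hcond4 : pullback.fst f t ≫ f = sF ≫ t := by rw [hsF]; exact pullback.condition
  have hcond : (FBase.bcπ sF K ≫ pullback.fst f t) ≫ p = FBase.bcStr sF K ≫ gk := by
    calc (FBase.bcπ sF K ≫ pullback.fst f t) ≫ p
        = FBase.bcπ sF K ≫ (pullback.fst f t ≫ f) ≫ q := by
          rw [← hf, Category.assoc, Category.assoc]
      _ = (FBase.bcπ sF K ≫ sF) ≫ t ≫ q := by
          rw [hcond4, Category.assoc, Category.assoc]
      _ = FBase.bcStr sF K ≫ gk := by
          rw [hcF, Category.assoc, ht]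
  obtain ⟨jF, hjF1, hjF2⟩ : ∃ jF : FBase.bc sF K ⟶ pullback p gk,
      jF ≫ pullback.fst p gk = FBase.bcπ sF K ≫ pullback.fst f t ∧
      jF ≫ pullback.snd p gk = FBase.bcStr sF K :=
    ⟨pullback.lift _ _ hcond, pullback.lift_fst _ _ _, pullback.lift_snd _ _ _⟩
  obtain ⟨yK, hyK1, hyK2⟩ : ∃ yK : Spec (CommRingCat.of K) ⟶ pullback q gk,
      yK ≫ pullback.fst q gk = j₀ ≫ t ∧ yK ≫ pullback.snd q gk = 𝟙 _ :=
    ⟨pullback.lift (j₀ ≫ t) (𝟙 _) (by rw [Category.assoc, ht, Category.id_comp]),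
      pullback.lift_fst _ _ _, pullback.lift_snd _ _ _⟩
  have hcomm : jF ≫ fK = FBase.bcStr sF K ≫ yK := by
    apply pullback.hom_ext
    · calc (jF ≫ fK) ≫ pullback.fst q gk
          = jF ≫ pullback.fst p gk ≫ f := by rw [Category.assoc jF fK, hfK1]
        _ = FBase.bcπ sF K ≫ pullback.fst f t ≫ f := by
            rw [← Category.assoc jF, hjF1, Category.assoc]
        _ = FBase.bcπ sF K ≫ sF ≫ t := by rw [hcond4]
        _ = FBase.bcStr sF K ≫ j₀ ≫ t := by
            rw [← Category.assoc (FBase.bcπ sF K), hcF, Category.assoc]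
        _ = (FBase.bcStr sF K ≫ yK) ≫ pullback.fst q gk := by
            rw [Category.assoc (FBase.bcStr sF K) yK, hyK1]
    · rw [Category.assoc jF fK, hfK2, hjF2, Category.assoc (FBase.bcStr sF K) yK, hyK2,
        Category.comp_id]
  -- the squares
  have sq1 : IsPullback (pullback.fst p gk) fK f (pullback.fst q gk) := by
    have big : IsPullback (pullback.fst p gk) (fK ≫ pullback.snd q gk) (f ≫ q) gk := by
      rw [hfK2, hf]; exact IsPullback.of_hasPullback p gk
    exact IsPullback.of_bot big hfK1.symm (IsPullback.of_hasPullback q gk)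
  have sq4 : IsPullback (pullback.fst f t) sF f t := by
    rw [hsF]; exact IsPullback.of_hasPullback f t
  have sq5 : IsPullback (FBase.bcπ sF K) (FBase.bcStr sF K) sF j₀ :=
    IsPullback.of_hasPullback sF j₀
  have sq6 := sq5.paste_horiz sq4
  have sq7 : IsPullback jF (FBase.bcStr sF K) fK yK := by
    refine IsPullback.of_right ?_ hcomm sq1
    rw [hjF1, hyK1]
    exact sq6
  -- closed immersions
  haveI : Subsingleton ↥(Spec (CommRingCat.of K)) :=
    inferInstanceAs (Subsingleton (PrimeSpectrum K))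
  haveI hyKcl : IsClosedImmersion yK :=
    isClosedImmersion_of_comp_eq_id (pullback.snd q gk) yK hyK2
  haveI hjFcl : IsClosedImmersion jF :=
    MorphismProperty.of_isPullback (P := @IsClosedImmersion) sq7.flip hyKcl
  obtain ⟨pt, -⟩ : ∃ pt : ↥(Spec (CommRingCat.of K)), pt = IsLocalRing.closedPoint K := ⟨_, rfl⟩
  have hr : Set.range ⇑yK = {yK pt} := by
    ext y
    constructor
    · rintro ⟨s, rfl⟩
      have hs : s = pt := Subsingleton.elim _ _
      rw [hs]
      exact Set.mem_singleton_iff.mpr rfl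
    · intro h
      exact ⟨pt, (Set.mem_singleton_iff.mp h).symm⟩
  have hy'cl : IsClosed ({yK pt} : Set ↥(pullback q gk)) :=
    hr ▸ yK.isClosedEmbedding.isClosed_range
  have hrange : Set.range ⇑jF = ⇑fK ⁻¹' {yK pt} := by
    ext w
    constructor
    · rintro ⟨z, rfl⟩
      have h1 : fK (jF z) = yK ((FBase.bcStr sF K) z) :=
        congrArg (fun φ : FBase.bc sF K ⟶ pullback q gk => φ z) hcomm
      have h2 : (FBase.bcStr sF K) z = pt := Subsingleton.elim _ _
      rw [h2] at h1
      exact Set.mem_singleton_iff.mpr h1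
    · intro hw
      obtain ⟨τ, hτ1, -⟩ := exists_of_isPullback sq7 w pt (Set.mem_singleton_iff.mp hw)
      exact ⟨τ, hτ1⟩
  refine ⟨yK pt, ⇑jF '' Z', hy'cl, hZ'.1.image _ jF.continuous.continuousOn,
    (Set.image_subset_range _ _).trans hrange.le, ?_, ?_⟩
  · intro W' hW' hW'sub hWW'
    have hW'r : W' ⊆ Set.range ⇑jF := by rw [hrange]; exact hW'sub
    have hpre : IsIrreducible (⇑jF ⁻¹' W') :=
      isIrreducible_preimage_of_subset_range jF.isClosedEmbedding.isInducing hW' hW'r
    have hZ'sub : Z' ⊆ ⇑jF ⁻¹' W' := fun z hz => hWW' ⟨z, hz, rfl⟩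
    have hle : ⇑jF ⁻¹' W' ⊆ Z' := hZ'.2 hpre hZ'sub
    intro w hw
    obtain ⟨z, rfl⟩ := hW'r hw
    exact ⟨z, hle hw, rfl⟩
  · rw [← hdim']
    exact (IsHomeomorph.topologicalKrullDim_eq _
      (jF.isClosedEmbedding.isEmbedding.homeomorphImage Z').isHomeomorph).symm

end Groth.Agent.H37.FibreBC
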