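import Groth.Prelude.Def_Red
import Groth.Agent.H37.AbFibreDim
import Groth.Agent.H37.FibreBC
import Groth.Agent.H54.FibreTdeg

/-!
# Fibres of a morphism from an abelian variety are equidimensional of one dimension

For an abelian variety `X` over a field `k`, a separated `k`-scheme `Y` and a `k`-morphism
`f : X ⟶ Y`, all irreducible components of all fibres of `f` have the same dimension.  The proof
compares any fibre with the fibre over the rational point `f(e)` after base change to an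
algebraically closed field, where components of fibres over closed points are translates of each
other.
-/

universe u

open CategoryTheory CategoryTheory.Limits MonoidalCategory CartesianMonoidalCategory MonObj GrpObj
  AlgebraicGeometry

namespace Groth.Agent.H37.AbFibreMain

local notation "gk[" k ", " K "]" => Spec.map (CommRingCat.ofHom (algebraMap k K))

theorem main_aux {k K L : Type u} [Field k] [Field K] [Field L] [IsAlgClosed K] [Algebra k K]
    [Algebra L K] (X : Over (Spec (CommRingCat.of k))) [GrpObj X] [IsProper X.hom]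
    [GeometricallyIntegral X.hom] {Y : Scheme.{u}} (q : Y ⟶ Spec (CommRingCat.of k))
    [IsSeparated q] (f : X.left ⟶ Y) (hf : f ≫ q = X.hom)
    (t : Spec (CommRingCat.of L) ⟶ Y) (ht : gk[L, K] ≫ t ≫ q = gk[k, K])
    (s₀ : Spec (CommRingCat.of k) ⟶ Y) (hs₀ : s₀ ≫ q = 𝟙 _)
    (Z : Set ↥(pullback f t)) (hZ : Z ∈ irreducibleComponents ↥(pullback f t))
    (Z₀ : Set ↥(pullback f s₀)) (hZ₀ : Z₀ ∈ irreducibleComponents ↥(pullback f s₀)) :
    topologicalKrullDim ↥Z = topologicalKrullDim ↥Z₀ := by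
  obtain ⟨p, hp⟩ : ∃ p : X.left ⟶ Spec (CommRingCat.of k), p = X.hom := ⟨_, rfl⟩
  haveI : LocallyOfFiniteType p := by rw [hp]; infer_instance
  have hfp : f ≫ q = p := by rw [hp]; exact hf
  obtain ⟨fK, hfK1, hfK2⟩ : ∃ fK : pullback p gk[k, K] ⟶ pullback q gk[k, K],
      fK ≫ pullback.fst q gk[k, K] = pullback.fst p gk[k, K] ≫ f ∧
      fK ≫ pullback.snd q gk[k, K] = pullback.snd p gk[k, K] :=
    ⟨pullback.lift (pullback.fst p gk[k, K] ≫ f) (pullback.snd p gk[k, K])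
      (by rw [Category.assoc, hfp, pullback.condition]),
      pullback.lift_fst _ _ _, pullback.lift_snd _ _ _⟩
  obtain ⟨y₁, W₁, hy₁, hW₁, hWy₁, hmax₁, hdim₁⟩ :=
    FibreBC.exists_component_bc (K := K) p q f hfp t ht fK hfK1 hfK2 Z hZ
  have ht₀ : gk[k, K] ≫ s₀ ≫ q = gk[k, K] := by rw [hs₀, Category.comp_id]
  obtain ⟨y₂, W₂, hy₂, hW₂, hWy₂, hmax₂, hdim₂⟩ :=
    FibreBC.exists_component_bc (K := K) (L := k) p q f hfp s₀ ht₀ fK hfK1 hfK2 Z₀ hZ₀
  subst hp
  haveI : IsProper (Red.bc gk[k, K] X).hom := by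
    show IsProper (pullback.snd X.hom gk[k, K]); infer_instance
  haveI : GeometricallyIntegral (Red.bc gk[k, K] X).hom := by
    show GeometricallyIntegral (pullback.snd X.hom gk[k, K]); infer_instance
  have hmain := AbFibreDim.dim_eq K (Red.bc gk[k, K] X) (pullback.snd q gk[k, K]) fK hfK2
    y₁ y₂ hy₁ hy₂ W₁ W₂ hW₁ hW₂ hWy₁ hWy₂ hmax₁ hmax₂
  rw [← hdim₁, ← hdim₂]
  exact hmain

theorem main_aux2 {k : Type u} [Field k] (X : Over (Spec (CommRingCat.of k))) [GrpObj X]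
    [IsProper X.hom] [GeometricallyIntegral X.hom] {Y : Scheme.{u}}
    (q : Y ⟶ Spec (CommRingCat.of k)) [IsSeparated q] (f : X.left ⟶ Y) (hf : f ≫ q = X.hom)
    (L : Type u) [Field L] (t : Spec (CommRingCat.of L) ⟶ Y) (φ : k →+* L)
    (hφ : Spec.map (CommRingCat.ofHom φ) = t ≫ q)
    (s₀ : Spec (CommRingCat.of k) ⟶ Y) (hs₀ : s₀ ≫ q = 𝟙 _)
    (Z : Set ↥(pullback f t)) (hZ : Z ∈ irreducibleComponents ↥(pullback f t))
    (Z₀ : Set ↥(pullback f s₀)) (hZ₀ : Z₀ ∈ irreducibleComponents ↥(pullback f s₀)) :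
    topologicalKrullDim ↥Z = topologicalKrullDim ↥Z₀ := by
  letI : Algebra k (AlgebraicClosure L) :=
    ((algebraMap L (AlgebraicClosure L)).comp φ).toAlgebra
  have ht : gk[L, AlgebraicClosure L] ≫ t ≫ q = gk[k, AlgebraicClosure L] := by
    rw [← hφ, ← Spec.map_comp, ← CommRingCat.ofHom_comp]
  exact main_aux (K := AlgebraicClosure L) X q f hf t ht s₀ hs₀ Z hZ Z₀ hZ₀

theorem main (k : Type u) [Field k] (X : Over (Spec (CommRingCat.of k)))
    [GrpObj X] [IsProper X.hom] [GeometricallyIntegral X.hom]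
    {Y : Scheme.{u}} (q : Y ⟶ Spec (CommRingCat.of k)) [IsSeparated q] (f : X.left ⟶ Y)
    (hf : f ≫ q = X.hom) :
    ∃ d : ℕ, ∀ (y : Y) (Z : Set ↥(f.fiber y)), Z ∈ irreducibleComponents ↥(f.fiber y) →
      topologicalKrullDim ↥Z = d := by
  obtain ⟨p, hp⟩ : ∃ p : X.left ⟶ Spec (CommRingCat.of k), p = X.hom := ⟨_, rfl⟩
  haveI : LocallyOfFiniteType p := by rw [hp]; infer_instance
  have hfp : f ≫ q = p := by rw [hp]; exact hf
  haveI : LocallyOfFiniteType (f ≫ q) := by rw [hfp]; infer_instance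
  haveI : LocallyOfFiniteType f := locallyOfFiniteType_of_comp f q
  obtain ⟨e, he⟩ : ∃ e : Spec (CommRingCat.of k) ⟶ X.left, e = η[X].left := ⟨_, rfl⟩
  have hep : e ≫ p = 𝟙 _ := by rw [he, hp]; exact Over.w η[X]
  obtain ⟨s₀, hs₀⟩ : ∃ s₀ : Spec (CommRingCat.of k) ⟶ Y, s₀ = e ≫ f := ⟨_, rfl⟩
  have hs₀q : s₀ ≫ q = 𝟙 _ := by rw [hs₀, Category.assoc, hfp]; exact hep
  obtain ⟨z₀⟩ : Nonempty ↥(pullback f s₀) :=
    ⟨(pullback.lift e (𝟙 _) (by rw [Category.id_comp, hs₀]) :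
      Spec (CommRingCat.of k) ⟶ pullback f s₀) (IsLocalRing.closedPoint k)⟩
  obtain ⟨Z₀, hZ₀def⟩ : ∃ Z₀ : Set ↥(pullback f s₀), Z₀ = irreducibleComponent z₀ := ⟨_, rfl⟩
  have hZ₀ : Z₀ ∈ irreducibleComponents ↥(pullback f s₀) :=
    hZ₀def ▸ irreducibleComponent_mem_irreducibleComponents z₀
  obtain ⟨zg, hzg⟩ := QuasiSober.sober hZ₀.1 (isClosed_of_mem_irreducibleComponents Z₀ hZ₀)
  have hd : topologicalKrullDim ↥Z₀ =
      ((Groth.Agent.H54.tdeg (pullback.snd f s₀) zg : ℕ) : WithBot ℕ∞) := by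
    rw [← hzg.def]
    exact Groth.Agent.H54.topologicalKrullDim_closure_singleton (pullback.snd f s₀) zg
  refine ⟨Groth.Agent.H54.tdeg (pullback.snd f s₀) zg, fun y Z hZ => ?_⟩
  rw [← hd]
  exact main_aux2 X q f hf ↑(Y.residueField y) (Y.fromSpecResidueField y)
    (Groth.Agent.H54.resMapOf q y) (Groth.Agent.H54.specMap_resMapOf q y) s₀ hs₀q Z hZ Z₀ hZ₀

end Groth.Agent.H37.AbFibreMain
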