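import Mathlib
import Groth.Prelude
import Groth.Agent.H37.PbPoints
import Groth.Agent.H37.GeomSepClosed
import Groth.Agent.H37.GeomDescentFlat
import Groth.Agent.S4625
import Groth.Agent.S4664

/-!
# Closed subsets of a scheme over a field and their base changes
-/

set_option autoImplicit false
universe u
open CategoryTheory CategoryTheory.Limits AlgebraicGeometry

namespace Groth.Agent.H37

/-- For closed `T ⊆ X`, a closed immersion `ι : Y ⟶ X` with range `T`. -/
lemma exists_closedImmersion_range {X : Scheme.{u}} (T : Set X) (hT : IsClosed T) :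
    ∃ (Y : Scheme.{u}) (ι : Y ⟶ X), IsClosedImmersion ι ∧ Set.range ι = T := by
  refine ⟨_, (Scheme.IdealSheafData.vanishingIdeal ⟨T, hT⟩).subschemeι, inferInstance, ?_⟩
  rw [Scheme.IdealSheafData.range_subschemeι, Scheme.IdealSheafData.coe_support_vanishingIdeal]
  rfl

/-- Base change of a closed immersion `ι : Y → X` over `S` along `q : S' → S`. -/
lemma exists_bc_closedImmersion {X Y S S' : Scheme.{u}} (f : X ⟶ S) (ι : Y ⟶ X)
    [IsClosedImmersion ι] (q : S' ⟶ S) :
    ∃ e : pullback (ι ≫ f) q ⟶ pullback f q,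
      e ≫ pullback.fst f q = pullback.fst (ι ≫ f) q ≫ ι ∧
      e ≫ pullback.snd f q = pullback.snd (ι ≫ f) q ∧
      IsClosedImmersion e ∧
      Set.range e = (pullback.fst f q) ⁻¹' (Set.range ι) := by
  have hw : (pullback.fst (ι ≫ f) q ≫ ι) ≫ f = pullback.snd (ι ≫ f) q ≫ q := by
    rw [Category.assoc]; exact pullback.condition
  obtain ⟨e, he1, he2⟩ : ∃ e : pullback (ι ≫ f) q ⟶ pullback f q,
      e ≫ pullback.fst f q = pullback.fst (ι ≫ f) q ≫ ι ∧
      e ≫ pullback.snd f q = pullback.snd (ι ≫ f) q :=
    ⟨pullback.lift _ _ hw, pullback.lift_fst _ _ _, pullback.lift_snd _ _ _⟩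
  have sqe : IsPullback e (pullback.fst (ι ≫ f) q) (pullback.fst f q) ι := by
    refine IsPullback.of_right ?_ he1 (IsPullback.of_hasPullback f q).flip
    rw [he2]
    exact (IsPullback.of_hasPullback (ι ≫ f) q).flip
  refine ⟨e, he1, he2,
    MorphismProperty.of_isPullback (P := @IsClosedImmersion) sqe.flip inferInstance, ?_⟩
  ext y
  constructor
  · rintro ⟨w, rfl⟩
    refine ⟨pullback.fst (ι ≫ f) q w, ?_⟩
    rw [← Scheme.Hom.comp_apply, ← he1, Scheme.Hom.comp_apply]
  · rintro ⟨c, hc⟩
    obtain ⟨τ, hτ1, -⟩ := exists_of_isPullback sqe y c hc.symm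
    exact ⟨τ, hτ1⟩

lemma irreducibleSpace_iff_of_range {A B : Type*} [TopologicalSpace A] [TopologicalSpace B]
    {e : A → B} (he : Topology.IsEmbedding e) {S : Set B} (hS : Set.range e = S) :
    IrreducibleSpace A ↔ IsIrreducible S := by
  subst hS
  rw [isIrreducible_iff_irreducibleSpace]
  exact he.toHomeomorph.irreducibleSpace_iff

lemma connectedSpace_iff_of_range {A B : Type*} [TopologicalSpace A] [TopologicalSpace B]
    {e : A → B} (he : Topology.IsEmbedding e) {S : Set B} (hS : Set.range e = S) :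
    ConnectedSpace A ↔ _root_.IsConnected S := by
  subst hS
  constructor
  · intro h; exact isConnected_range he.continuous
  · intro h
    rw [connectedSpace_iff_univ]
    refine ⟨?_, ?_⟩
    · obtain ⟨_, a, rfl⟩ := h.nonempty; exact ⟨a, Set.mem_univ _⟩
    · exact (he.isInducing.isPreconnected_image).mp
        (by rw [Set.image_univ]; exact h.isPreconnected)

section

variable {k : Type u} [Field k] {X : Scheme.{u}} (f : X ⟶ Spec (CommRingCat.of k))

/-- If the preimage of a closed `T` in `X_Ω` (`Ω` separably closed) is irreducible, so is the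
preimage in any `X_K`. -/
theorem isIrreducible_preimage_of_isSepClosed (T : Set X) (hT : IsClosed T)
    (Ω : Type u) [Field Ω] [Algebra k Ω] [IsSepClosed Ω]
    (h : IsIrreducible
      ((pullback.fst f (Spec.map (CommRingCat.ofHom (algebraMap k Ω)))) ⁻¹' T))
    (K : Type u) [Field K] [Algebra k K] :
    IsIrreducible ((pullback.fst f (Spec.map (CommRingCat.ofHom (algebraMap k K)))) ⁻¹' T) := by
  obtain ⟨Y, ι, hι, hr⟩ := exists_closedImmersion_range T hT
  obtain ⟨e, -, -, hecl, her⟩ :=
    exists_bc_closedImmersion f ι (Spec.map (CommRingCat.ofHom (algebraMap k Ω)))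
  rw [hr] at her
  haveI : IrreducibleSpace
      ↥(pullback (ι ≫ f) (Spec.map (CommRingCat.ofHom (algebraMap k Ω)))) :=
    (irreducibleSpace_iff_of_range e.isEmbedding her).mpr h
  haveI h1 : GeometricallyIrreducible
      (pullback.snd (ι ≫ f) (Spec.map (CommRingCat.ofHom (algebraMap k Ω)))) :=
    geomIrr_of_isSepClosed _
  haveI : Surjective (Spec.map (CommRingCat.ofHom (algebraMap k Ω))) :=
    surjective_specMap_field
  haveI : GeometricallyIrreducible (ι ≫ f) :=
    Groth.Agent.S4664.result (ι ≫ f) (Spec.map (CommRingCat.ofHom (algebraMap k Ω)))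
  obtain ⟨e', -, -, hecl', her'⟩ :=
    exists_bc_closedImmersion f ι (Spec.map (CommRingCat.ofHom (algebraMap k K)))
  rw [hr] at her'
  haveI : Subsingleton ↥(Spec (CommRingCat.of K)) :=
    (inferInstance : Subsingleton (PrimeSpectrum K))
  haveI : Nonempty ↥(Spec (CommRingCat.of K)) :=
    (inferInstance : Nonempty (PrimeSpectrum K))
  haveI : IrreducibleSpace
      ↥(pullback (ι ≫ f) (Spec.map (CommRingCat.ofHom (algebraMap k K)))) :=
    GeometricallyIrreducible.irreducibleSpace_of_subsingleton
      (f := pullback.snd (ι ≫ f) (Spec.map (CommRingCat.ofHom (algebraMap k K))))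
  exact (irreducibleSpace_iff_of_range e'.isEmbedding her').mp inferInstance

/-- If the preimage of a closed `T` in `X_Ω` (`Ω` separably closed) is connected, so is the
preimage in any `X_K`. -/
theorem isConnected_preimage_of_isSepClosed (T : Set X) (hT : IsClosed T)
    (Ω : Type u) [Field Ω] [Algebra k Ω] [IsSepClosed Ω]
    (h : _root_.IsConnected
      ((pullback.fst f (Spec.map (CommRingCat.ofHom (algebraMap k Ω)))) ⁻¹' T))
    (K : Type u) [Field K] [Algebra k K] :
    _root_.IsConnected
      ((pullback.fst f (Spec.map (CommRingCat.ofHom (algebraMap k K)))) ⁻¹' T) := by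
  obtain ⟨Y, ι, hι, hr⟩ := exists_closedImmersion_range T hT
  obtain ⟨e, -, -, hecl, her⟩ :=
    exists_bc_closedImmersion f ι (Spec.map (CommRingCat.ofHom (algebraMap k Ω)))
  rw [hr] at her
  haveI : ConnectedSpace
      ↥(pullback (ι ≫ f) (Spec.map (CommRingCat.ofHom (algebraMap k Ω)))) :=
    (connectedSpace_iff_of_range e.isEmbedding her).mpr h
  have h1 : GeometricallyConnected
      (pullback.snd (ι ≫ f) (Spec.map (CommRingCat.ofHom (algebraMap k Ω)))) :=
    geomConn_of_isSepClosed _
  haveI : GeometricallyConnected (ι ≫ f) :=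
    (Groth.Agent.S4625.result (K := Ω) (ι ≫ f)).mpr h1
  obtain ⟨e', -, -, hecl', her'⟩ :=
    exists_bc_closedImmersion f ι (Spec.map (CommRingCat.ofHom (algebraMap k K)))
  rw [hr] at her'
  haveI : Subsingleton ↥(Spec (CommRingCat.of K)) :=
    (inferInstance : Subsingleton (PrimeSpectrum K))
  haveI : Nonempty ↥(Spec (CommRingCat.of K)) :=
    (inferInstance : Nonempty (PrimeSpectrum K))
  haveI : ConnectedSpace
      ↥(pullback (ι ≫ f) (Spec.map (CommRingCat.ofHom (algebraMap k K)))) :=
    GeometricallyConnected.connectedSpace_of_subsingleton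
      (f := pullback.snd (ι ≫ f) (Spec.map (CommRingCat.ofHom (algebraMap k K))))
  exact (connectedSpace_iff_of_range e'.isEmbedding her').mp inferInstance

end

end Groth.Agent.H37
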