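import Groth.Agent.H37.GrpdHom2
import Mathlib

/-!
# Groupoid schemes over a base all of whose schemes are universally open over it

Generalisations of the "over a field" results (S1889, S7462, S1891, S1892) to a base `U` such that
every morphism `X ⟶ U` is universally open; this covers spectra of fields and of local artinian
rings.
-/

set_option autoImplicit false
universe u
open CategoryTheory CategoryTheory.Limits AlgebraicGeometry
open Grpd

namespace Groth.Agent.H37.GrpdCalc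

/-- In a fibre product over the spectrum of a field, the second projection of the part of an
open set lying over a fixed point of the first factor is open. -/
theorem isOpen_image_inter_fibre' {P X Y U : Scheme.{u}} {pf : P ⟶ X} {ps : P ⟶ Y} {a : X ⟶ U}
    {b : Y ⟶ U} (sq : IsPullback pf ps a b) (hUO : ∀ {X : Scheme.{u}} (f : X ⟶ U), UniversallyOpen f) (x : X) (N : Set P) (hN : IsOpen N) :
    IsOpen (⇑ps '' (N ∩ ⇑pf ⁻¹' {x})) := by
  have sq1 : IsPullback (pullback.snd (X.fromSpecResidueField x) pf)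
      (pullback.fst (X.fromSpecResidueField x) pf) pf (X.fromSpecResidueField x) :=
    (IsPullback.of_hasPullback (X.fromSpecResidueField x) pf).flip
  have sq2 := (sq1.paste_horiz sq.flip).flip
  haveI : UniversallyOpen (X.fromSpecResidueField x ≫ a) := hUO _
  haveI hop : UniversallyOpen (pullback.snd (X.fromSpecResidueField x) pf ≫ ps) :=
    MorphismProperty.of_isPullback (P := @UniversallyOpen) sq2 inferInstance
  have himg : ⇑ps '' (N ∩ ⇑pf ⁻¹' {x}) =
      ⇑(pullback.snd (X.fromSpecResidueField x) pf ≫ ps) ''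
        (⇑(pullback.snd (X.fromSpecResidueField x) pf) ⁻¹' N) := by
    ext y
    constructor
    · rintro ⟨p', ⟨hp'N, hp'x⟩, rfl⟩
      obtain ⟨q, -, hq⟩ := Scheme.Pullback.exists_preimage_pullback
        (f := X.fromSpecResidueField x) (g := pf)
        (IsLocalRing.closedPoint (X.residueField x)) p'
        (by rw [Scheme.fromSpecResidueField_apply]; exact hp'x.symm)
      refine ⟨q, ?_, ?_⟩
      · show pullback.snd (X.fromSpecResidueField x) pf q ∈ N
        rw [hq]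
        exact hp'N
      · rw [Scheme.Hom.comp_apply, hq]
    · rintro ⟨q, hqN, rfl⟩
      refine ⟨pullback.snd (X.fromSpecResidueField x) pf q, ⟨hqN, ?_⟩, ?_⟩
      · show pf (pullback.snd (X.fromSpecResidueField x) pf q) = x
        rw [← Scheme.Hom.comp_apply, ← pullback.condition, Scheme.Hom.comp_apply,
          Scheme.fromSpecResidueField_apply]
      · rw [Scheme.Hom.comp_apply]
  rw [himg]
  exact (pullback.snd (X.fromSpecResidueField x) pf ≫ ps).isOpenMap _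
    (hN.preimage (pullback.snd (X.fromSpecResidueField x) pf).continuous)

/-- In a fibre product over the spectrum of a field, a point whose projections lie in the closures
of two sets lies in the closure of the "product" of the two sets. -/
theorem mem_closure_inter' {P X Y U : Scheme.{u}} {pf : P ⟶ X} {ps : P ⟶ Y}
    {a : X ⟶ U} {b : Y ⟶ U} (sq : IsPullback pf ps a b) (hUO : ∀ {X : Scheme.{u}} (f : X ⟶ U), UniversallyOpen f) (A : Set X) (B : Set Y) (p : P)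
    (hA : pf p ∈ closure A) (hB : ps p ∈ closure B) :
    p ∈ closure (⇑pf ⁻¹' A ∩ ⇑ps ⁻¹' B) := by
  rw [mem_closure_iff]
  intro N hN hpN
  -- move the first projection into `A`, keeping the second projection fixed
  have h1 := isOpen_image_inter_fibre' sq.flip hUO (ps p) N hN
  obtain ⟨x', ⟨p', ⟨hp'N, hp'y⟩, hp'x⟩, hx'A⟩ :=
    (mem_closure_iff.mp hA) _ h1 ⟨p, ⟨hpN, rfl⟩, rfl⟩
  -- move the second projection into `B`, keeping the first projection fixed
  have h2 := isOpen_image_inter_fibre' sq hUO (pf p') N hN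
  have hB' : ps p' ∈ closure B := by
    have : ps p' = ps p := hp'y
    rw [this]
    exact hB
  obtain ⟨y'', ⟨p'', ⟨hp''N, hp''x⟩, hp''y⟩, hy''B⟩ :=
    (mem_closure_iff.mp hB') _ h2 ⟨p', ⟨hp'N, rfl⟩, rfl⟩
  refine ⟨p'', hp''N, ?_, ?_⟩
  · show pf p'' ∈ A
    have : pf p'' = pf p' := hp''x
    rw [this, hp'x]
    exact hx'A
  · show ps p'' ∈ B
    rw [hp''y]
    exact hy''B


theorem translate_open {S : Scheme.{u}} (G : Grpd.GroupoidScheme S)
    (hUO : ∀ {X : Scheme.{u}} (f : X ⟶ G.U), UniversallyOpen f) (W : G.R.Opens) (Z : Scheme.{u}) (a : Z ⟶ G.R) : IsOpen (Set.range ⇑(pullback.lift (pullback.fst (a ≫ G.s) (W.ι ≫ G.t) ≫ a) (pullback.snd (a ≫ G.s) (W.ι ≫ G.t) ≫ W.ι) ((Category.assoc _ _ _).trans (pullback.condition.trans (Category.assoc _ _ _).symm)) ≫ G.c)) := by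
  haveI : UniversallyOpen (a ≫ G.t) := hUO _
  obtain ⟨ã, hã1, hã2⟩ : ∃ ã : pullback (a ≫ G.s) G.t ⟶ pullback G.s G.t,
      ã ≫ pullback.fst G.s G.t = pullback.fst (a ≫ G.s) G.t ≫ a ∧
      ã ≫ pullback.snd G.s G.t = pullback.snd (a ≫ G.s) G.t :=
    ⟨pullback.lift _ _ (by rw [Category.assoc]; exact pullback.condition),
      pullback.lift_fst _ _ _, pullback.lift_snd _ _ _⟩
  have sqL : IsPullback ã (pullback.fst (a ≫ G.s) G.t) (pullback.fst G.s G.t) a := by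
    refine IsPullback.of_right ?_ hã1 (IsPullback.of_hasPullback G.s G.t).flip
    rw [hã2]; exact (IsPullback.of_hasPullback (a ≫ G.s) G.t).flip
  have big : IsPullback (ã ≫ G.c) (pullback.fst (a ≫ G.s) G.t) G.t (a ≫ G.t) :=
    sqL.paste_horiz (isPullback_c_fst G)
  haveI : UniversallyOpen (ã ≫ G.c) :=
    MorphismProperty.of_isPullback (P := @UniversallyOpen) big.flip inferInstance
  have hopen : IsOpenMap ⇑(ã ≫ G.c) := (ã ≫ G.c).isOpenMap
  -- the open immersion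
  obtain ⟨o, ho, ho1, ho2⟩ : ∃ o : pullback (a ≫ G.s) (W.ι ≫ G.t) ⟶ pullback (a ≫ G.s) G.t,
      IsOpenImmersion o ∧
      o ≫ pullback.fst (a ≫ G.s) G.t = pullback.fst (a ≫ G.s) (W.ι ≫ G.t) ∧
      o ≫ pullback.snd (a ≫ G.s) G.t = pullback.snd (a ≫ G.s) (W.ι ≫ G.t) ≫ W.ι :=
    ⟨pullback.map (a ≫ G.s) (W.ι ≫ G.t) (a ≫ G.s) G.t (𝟙 Z) W.ι (𝟙 G.U) (by simp) (by simp),
      inferInstance, (pullback.lift_fst _ _ _).trans (Category.comp_id _), pullback.lift_snd _ _ _⟩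
  have hlift : ∀ w, pullback.lift (pullback.fst (a ≫ G.s) (W.ι ≫ G.t) ≫ a)
      (pullback.snd (a ≫ G.s) (W.ι ≫ G.t) ≫ W.ι) w = o ≫ ã := by
    intro w
    apply pullback.hom_ext
    · rw [pullback.lift_fst, Category.assoc, hã1, ← Category.assoc, ho1]
    · rw [pullback.lift_snd, Category.assoc, hã2, ho2]
  rw [hlift, Category.assoc]
  have hr : Set.range ⇑(o ≫ (ã ≫ G.c)) = ⇑(ã ≫ G.c) '' Set.range ⇑o := by
    ext y; constructor
    · rintro ⟨x, rfl⟩; exact ⟨o x, ⟨x, rfl⟩, (Scheme.Hom.comp_apply _ _ _).symm⟩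
    · rintro ⟨_, ⟨x, rfl⟩, rfl⟩; exact ⟨x, Scheme.Hom.comp_apply _ _ _⟩
  rw [hr]
  exact hopen _ o.isOpenEmbedding.isOpen_range


theorem comp_mem_closure_range {S : Scheme.{u}} {G₁ G₂ : Grpd.GroupoidScheme S} (f : Grpd.GroupoidScheme.Hom G₁ G₂) [IsIso f.fU]
    (hUO : ∀ {X : Scheme.{u}} (f : X ⟶ G₂.U), UniversallyOpen f) (p : ↑(pullback G₂.s G₂.t)) (h₁ : pullback.fst G₂.s G₂.t p ∈ closure (Set.range ⇑f.fR)) (h₂ : pullback.snd G₂.s G₂.t p ∈ closure (Set.range ⇑f.fR)) : G₂.c p ∈ closure (Set.range ⇑f.fR) := by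
  have hp := mem_closure_inter'
    (IsPullback.of_hasPullback G₂.s G₂.t) hUO (Set.range ⇑f.fR) (Set.range ⇑f.fR) p h₁ h₂
  have hsub : ⇑G₂.c '' (⇑(pullback.fst G₂.s G₂.t) ⁻¹' Set.range ⇑f.fR ∩
      ⇑(pullback.snd G₂.s G₂.t) ⁻¹' Set.range ⇑f.fR) ⊆ Set.range ⇑f.fR := by
    rintro _ ⟨q, ⟨⟨x1, hx1⟩, ⟨x2, hx2⟩⟩, rfl⟩
    obtain ⟨T1, a1, w1, e1, hs1⟩ := Groth.Agent.H37.exists_bc f.fR (pullback.fst G₂.s G₂.t)
    obtain ⟨τ1, hτ1a, hτ1b⟩ := hs1 x1 q hx1
    obtain ⟨T2, a2, w2, e2, hs2⟩ :=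
      Groth.Agent.H37.exists_bc f.fR (w1 ≫ pullback.snd G₂.s G₂.t)
    obtain ⟨τ2, hτ2a, hτ2b⟩ := hs2 x2 τ1 (by rw [Scheme.Hom.comp_apply, hτ1b]; exact hx2)
    have hαf : (w2 ≫ a1) ≫ f.fR = (w2 ≫ w1) ≫ pullback.fst G₂.s G₂.t := by
      simp only [Category.assoc, e1]
    have hβf : a2 ≫ f.fR = (w2 ≫ w1) ≫ pullback.snd G₂.s G₂.t := by
      rw [e2]
      simp only [Category.assoc]
    have hst : (w2 ≫ a1) ≫ G₁.s = a2 ≫ G₁.t := by
      rw [← cancel_mono f.fU]
      calc ((w2 ≫ a1) ≫ G₁.s) ≫ f.fU = ((w2 ≫ a1) ≫ f.fR) ≫ G₂.s := by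
            simp only [Category.assoc, f.comm_s]
        _ = ((w2 ≫ w1) ≫ pullback.fst G₂.s G₂.t) ≫ G₂.s := by rw [hαf]
        _ = ((w2 ≫ w1) ≫ pullback.snd G₂.s G₂.t) ≫ G₂.t := by
            simp only [Category.assoc, pullback.condition]
        _ = (a2 ≫ f.fR) ≫ G₂.t := by rw [hβf]
        _ = (a2 ≫ G₁.t) ≫ f.fU := by simp only [Category.assoc, f.comm_t]
    have hcc := f.comm_c (w2 ≫ a1) a2 hst
    have hlift : ∀ h, pullback.lift ((w2 ≫ a1) ≫ f.fR) (a2 ≫ f.fR) h = w2 ≫ w1 := by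
      intro h
      apply pullback.hom_ext
      · rw [pullback.lift_fst, hαf]
      · rw [pullback.lift_snd, hβf]
    rw [hlift] at hcc
    refine ⟨(pullback.lift (w2 ≫ a1) a2 hst ≫ G₁.c) τ2, ?_⟩
    rw [← Scheme.Hom.comp_apply, hcc, Scheme.Hom.comp_apply, Scheme.Hom.comp_apply, hτ2b, hτ1b]
  exact closure_mono hsub (image_closure_subset_closure_image G₂.c.continuous ⟨p, hp, rfl⟩)


/-- over a field: if `r'` is adherent to `A` and `O` is an open set containing the identities,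
then some `o ∈ O` composable with `r'` has `r' ∘ o ∈ A` -/
theorem exists_point_translate' {S : Scheme.{u}} (G : Grpd.GroupoidScheme S)
    (hUO : ∀ {X : Scheme.{u}} (f : X ⟶ G.U), UniversallyOpen f) (O : G.R.Opens) (hO : ∀ u : G.U, G.e u ∈ O)
    (r' : G.R) (A : Set G.R) (hr' : r' ∈ closure A) :
    ∃ q : ↑(pullback G.s G.t), pullback.fst G.s G.t q = r' ∧
      pullback.snd G.s G.t q ∈ O ∧ G.c q ∈ A := by
  obtain ⟨ρ, hρ⟩ : ∃ ρ, ρ = G.R.fromSpecResidueField r' := ⟨_, rfl⟩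
  have hρpt : ∀ z, ρ z = r' := by
    intro z; rw [hρ]; exact Scheme.fromSpecResidueField_apply r' z
  have hmopen := translate_open G hUO O _ ρ
  obtain ⟨m', hm'1, hm'2⟩ : ∃ m' : pullback (ρ ≫ G.s) (O.ι ≫ G.t) ⟶ pullback G.s G.t,
      m' ≫ pullback.fst G.s G.t = pullback.fst (ρ ≫ G.s) (O.ι ≫ G.t) ≫ ρ ∧
      m' ≫ pullback.snd G.s G.t = pullback.snd (ρ ≫ G.s) (O.ι ≫ G.t) ≫ O.ι :=
    ⟨pullback.lift _ _ ((Category.assoc _ _ _).trans
      (pullback.condition.trans (Category.assoc _ _ _).symm)),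
      pullback.lift_fst _ _ _, pullback.lift_snd _ _ _⟩
  have hm'eq : ∀ w, pullback.lift (pullback.fst (ρ ≫ G.s) (O.ι ≫ G.t) ≫ ρ)
      (pullback.snd (ρ ≫ G.s) (O.ι ≫ G.t) ≫ O.ι) w = m' := by
    intro w
    apply pullback.hom_ext
    · rw [pullback.lift_fst, hm'1]
    · rw [pullback.lift_snd, hm'2]
  rw [hm'eq] at hmopen
  have hε₀ : Set.range ⇑(ρ ≫ G.s ≫ G.e) ⊆ Set.range ⇑O.ι := by
    rw [Scheme.Opens.range_ι]
    rintro _ ⟨z, rfl⟩
    rw [Scheme.Hom.comp_apply, Scheme.Hom.comp_apply]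
    exact hO _
  obtain ⟨ε₁, hε₁⟩ : ∃ ε₁, ε₁ ≫ O.ι = ρ ≫ G.s ≫ G.e :=
    ⟨IsOpenImmersion.lift O.ι _ hε₀, IsOpenImmersion.lift_fac _ _ _⟩
  have hw : 𝟙 _ ≫ ρ ≫ G.s = ε₁ ≫ O.ι ≫ G.t := by
    rw [← Category.assoc ε₁, hε₁, Category.id_comp, Category.assoc, Category.assoc, G.e_t,
      Category.comp_id]
  have hr'mem : r' ∈ Set.range ⇑(m' ≫ G.c) := by
    have hcomp : pullback.lift (𝟙 _) ε₁ hw ≫ m' ≫ G.c = ρ := by
      rw [← Category.assoc, comp_c, Category.assoc, Category.assoc, hm'1, hm'2,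
        pullback.lift_fst_assoc, pullback.lift_snd_assoc, Category.id_comp, hε₁]
      exact mul_e rfl
    refine ⟨(pullback.lift (𝟙 _) ε₁ hw) default, ?_⟩
    rw [← Scheme.Hom.comp_apply, hcomp]
    exact hρpt _
  obtain ⟨y, ⟨ζ, hζ⟩, hyA⟩ := mem_closure_iff.mp hr' _ hmopen hr'mem
  refine ⟨m' ζ, ?_, ?_, ?_⟩
  · rw [← Scheme.Hom.comp_apply, hm'1, Scheme.Hom.comp_apply]
    exact hρpt _
  · rw [← Scheme.Hom.comp_apply, hm'2, Scheme.Hom.comp_apply]
    have := Set.mem_range_self (f := ⇑O.ι) (pullback.snd (ρ ≫ G.s) (O.ι ≫ G.t) ζ)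
    rwa [Scheme.Opens.range_ι] at this
  · rw [← Scheme.Hom.comp_apply, hζ]
    exact hyA


theorem isClosed_range_of_isLocallyClosed {S : Scheme.{u}} {G₁ G₂ : Grpd.GroupoidScheme S}
    (hUO : ∀ {X : Scheme.{u}} (f : X ⟶ G₂.U), UniversallyOpen f)
    (a : Grpd.GroupoidScheme.Hom G₁ G₂) [IsIso a.fU] (hlc : IsLocallyClosed (Set.range ⇑a.fR)) : IsClosed (Set.range ⇑a.fR) := by
  obtain ⟨O, C, hOo, hCc, hWOC⟩ := hlc
  rw [← closure_subset_iff_isClosed]
  intro r' hr'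
  -- `W = O ∩ closure W`
  have hWZ : ∀ x, x ∈ O → x ∈ closure (Set.range ⇑a.fR) → x ∈ Set.range ⇑a.fR := by
    intro x hxO hxZ
    rw [hWOC]
    refine ⟨hxO, ?_⟩
    have : closure (Set.range ⇑a.fR) ⊆ C := by
      rw [hWOC]; exact closure_minimal Set.inter_subset_right hCc
    exact this hxZ
  have hWO : Set.range ⇑a.fR ⊆ O := by rw [hWOC]; exact Set.inter_subset_left
  obtain ⟨q, hq1, hq2, hq3⟩ := exists_point_translate' G₂ hUO ⟨O, hOo⟩
    (fun u => hWO (e_mem_range a u)) r' _ hr'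
  -- the point `(r'⁻¹, r' o)`
  have hψw : (pullback.fst G₂.s G₂.t ≫ G₂.i) ≫ G₂.s = G₂.c ≫ G₂.t := by
    rw [Category.assoc, G₂.i_s, c_t]
  have hψc : pullback.lift (pullback.fst G₂.s G₂.t ≫ G₂.i) G₂.c hψw ≫ G₂.c =
      pullback.snd G₂.s G₂.t := by
    rw [lift_c, c_eq_mul]
    exact i_mul_mul pullback.condition rfl
  have h1 : pullback.fst G₂.s G₂.t (pullback.lift (pullback.fst G₂.s G₂.t ≫ G₂.i) G₂.c hψw q) ∈
      closure (Set.range ⇑a.fR) := by
    rw [← Scheme.Hom.comp_apply, pullback.lift_fst, Scheme.Hom.comp_apply, hq1]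
    exact i_mem_closure_range a r' hr'
  have h2 : pullback.snd G₂.s G₂.t (pullback.lift (pullback.fst G₂.s G₂.t ≫ G₂.i) G₂.c hψw q) ∈
      closure (Set.range ⇑a.fR) := by
    rw [← Scheme.Hom.comp_apply, pullback.lift_snd]
    exact subset_closure hq3
  have h3 := comp_mem_closure_range a hUO _ h1 h2
  rw [← Scheme.Hom.comp_apply, hψc] at h3
  have ho : pullback.snd G₂.s G₂.t q ∈ Set.range ⇑a.fR := hWZ _ hq2 h3
  rw [← hq1]
  exact fst_mem_range a q ho hq3


/-- every morphism to the spectrum of a local artinian ring is universally open -/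
theorem univOpen_of_artinian_local (A : Type u) [CommRing A] [IsArtinianRing A] [IsLocalRing A]
    {X : Scheme.{u}} (f : X ⟶ Spec (CommRingCat.of A)) : UniversallyOpen f := by
  obtain ⟨ι₀, hι₀⟩ : ∃ ι₀ : Spec (CommRingCat.of (IsLocalRing.ResidueField A)) ⟶
      Spec (CommRingCat.of A), ι₀ = Spec.map (CommRingCat.ofHom (IsLocalRing.residue A)) :=
    ⟨_, rfl⟩
  haveI hsub : Subsingleton ↥(Spec (CommRingCat.of A)) := ⟨fun x y => PrimeSpectrum.ext (by
    haveI := x.isPrime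
    haveI := y.isPrime
    rw [IsLocalRing.eq_maximalIdeal (IsArtinianRing.isMaximal_of_isPrime x.asIdeal),
      IsLocalRing.eq_maximalIdeal (IsArtinianRing.isMaximal_of_isPrime y.asIdeal)])⟩
  haveI : Nonempty ↥(Spec (CommRingCat.of (IsLocalRing.ResidueField A))) :=
    inferInstanceAs (Nonempty (PrimeSpectrum (IsLocalRing.ResidueField A)))
  haveI : Surjective ι₀ := ⟨fun y => ⟨Classical.arbitrary _, Subsingleton.elim _ _⟩⟩
  haveI : IsClosedImmersion ι₀ := by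
    rw [hι₀]
    exact IsClosedImmersion.spec_of_surjective _ IsLocalRing.residue_surjective
  haveI : UniversallyOpen (pullback.snd f ι₀) :=
    Groth.Agent.H37.univOpen_of_iso_spec_field (IsLocalRing.ResidueField A) (Iso.refl _) _
  refine ⟨fun X' T i₁ i₂ f' sq => ?_⟩
  haveI : Surjective (pullback.fst i₂ ι₀) :=
    MorphismProperty.pullback_fst (P := @Surjective) i₂ ι₀ inferInstance
  haveI : IsClosedImmersion (pullback.fst i₂ ι₀) :=
    MorphismProperty.pullback_fst (P := @IsClosedImmersion) i₂ ι₀ inferInstance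
  have hτopen : IsOpenMap ⇑(pullback.fst i₂ ι₀) :=
    ((isHomeomorph_iff_isEmbedding_surjective).2
      ⟨(pullback.fst i₂ ι₀).isClosedEmbedding.isEmbedding,
        (pullback.fst i₂ ι₀).surjective⟩).isOpenMap
  haveI : Surjective (pullback.fst f' (pullback.fst i₂ ι₀)) :=
    MorphismProperty.pullback_fst (P := @Surjective) f' _ inferInstance
  have big : IsPullback (pullback.fst f' (pullback.fst i₂ ι₀) ≫ i₁)
      (pullback.snd f' (pullback.fst i₂ ι₀)) f (pullback.fst i₂ ι₀ ≫ i₂) :=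
    (IsPullback.of_hasPullback f' (pullback.fst i₂ ι₀)).paste_horiz sq.flip
  have hcond : pullback.fst i₂ ι₀ ≫ i₂ = pullback.snd i₂ ι₀ ≫ ι₀ := pullback.condition
  rw [hcond] at big
  have base : IsPullback (pullback.fst f ι₀) (pullback.snd f ι₀) f ι₀ :=
    IsPullback.of_hasPullback f ι₀
  have hw : (pullback.fst f' (pullback.fst i₂ ι₀) ≫ i₁) ≫ f =
      (pullback.snd f' (pullback.fst i₂ ι₀) ≫ pullback.snd i₂ ι₀) ≫ ι₀ := by
    rw [big.w, Category.assoc]
  have sqψ : IsPullback (base.lift _ _ hw) (pullback.snd f' (pullback.fst i₂ ι₀))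
      (pullback.snd f ι₀) (pullback.snd i₂ ι₀) := by
    refine IsPullback.of_right ?_ (base.lift_snd _ _ hw) base
    rw [base.lift_fst]
    exact big
  haveI : UniversallyOpen (pullback.snd f' (pullback.fst i₂ ι₀)) :=
    MorphismProperty.of_isPullback (P := @UniversallyOpen) sqψ inferInstance
  intro O hO
  have himg : ⇑f' '' O = ⇑(pullback.fst i₂ ι₀) '' (⇑(pullback.snd f' (pullback.fst i₂ ι₀)) ''
      (⇑(pullback.fst f' (pullback.fst i₂ ι₀)) ⁻¹' O)) := by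
    have hc : ∀ x₀, (pullback.fst i₂ ι₀) ((pullback.snd f' (pullback.fst i₂ ι₀)) x₀) =
        f' ((pullback.fst f' (pullback.fst i₂ ι₀)) x₀) := by
      intro x₀
      rw [← Scheme.Hom.comp_apply, ← Scheme.Hom.comp_apply, pullback.condition]
    ext y
    constructor
    · rintro ⟨x, hx, rfl⟩
      obtain ⟨x₀, rfl⟩ := (pullback.fst f' (pullback.fst i₂ ι₀)).surjective x
      exact ⟨_, ⟨x₀, hx, rfl⟩, hc x₀⟩
    · rintro ⟨_, ⟨x₀, hx₀, rfl⟩, rfl⟩
      exact ⟨_, hx₀, (hc x₀).symm⟩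
  rw [himg]
  exact hτopen _ ((pullback.snd f' (pullback.fst i₂ ι₀)).isOpenMap _
    (hO.preimage (pullback.fst f' (pullback.fst i₂ ι₀)).continuous))

end Groth.Agent.H37.GrpdCalc
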