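import Groth.Agent.H37.SubGrpd2
import Groth.Agent.H37.PointBase
import Groth.Agent.H38.GeomRedField
import Mathlib

/-!
# Sub-groupoid schemes III: the reduced closure of the image of a morphism of groupoid schemes over
a perfect field.
-/

set_option autoImplicit false
set_option linter.unusedSimpArgs false
universe u
open CategoryTheory CategoryTheory.Limits AlgebraicGeometry
open Grpd

namespace Groth.Agent.H37.SubGrpd

open Groth.Agent.H37.GrpdCalc

theorem isReduced_vanishingIdeal_subscheme {X : Scheme.{u}} (C : TopologicalSpace.Closeds X) :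
    IsReduced (Scheme.IdealSheafData.vanishingIdeal C).subscheme := by
  have : ∀ U, IsReduced ((Scheme.IdealSheafData.vanishingIdeal C).subschemeCover.openCover.X U) := by
    intro U
    show IsReduced (Spec (CommRingCat.of
      (Γ(X, U.1) ⧸ (Scheme.IdealSheafData.vanishingIdeal C).ideal U)))
    have hrad : ((Scheme.IdealSheafData.vanishingIdeal C).ideal U).IsRadical := by
      rw [Scheme.IdealSheafData.vanishingIdeal_ideal]
      exact PrimeSpectrum.isRadical_vanishingIdeal _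
    have : _root_.IsReduced (Γ(X, U.1) ⧸ (Scheme.IdealSheafData.vanishingIdeal C).ideal U) :=
      (Ideal.isRadical_iff_quotient_reduced _).mp hrad
    infer_instance
  exact IsReduced.of_openCover _ (Scheme.IdealSheafData.vanishingIdeal C).subschemeCover.openCover

theorem vanishingIdeal_le_ker {W Y : Scheme.{u}} [IsReduced W] (g : W ⟶ Y)
    (C : TopologicalSpace.Closeds Y) (h : Set.range g ⊆ (C : Set Y)) :
    Scheme.IdealSheafData.vanishingIdeal C ≤ g.ker := by
  have h1 : g.ker = Scheme.IdealSheafData.vanishingIdeal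
      (.closure (g '' ((⊤ : TopologicalSpace.Closeds W) : Set W))) := by
    rw [← Scheme.IdealSheafData.map_vanishingIdeal, Scheme.IdealSheafData.vanishingIdeal_top,
      Scheme.nilradical_eq_bot, Scheme.IdealSheafData.map_bot]
  rw [h1]
  apply Scheme.IdealSheafData.vanishingIdeal_antimono
  rw [TopologicalSpace.Closeds.closure_le]
  rintro _ ⟨w, -, rfl⟩
  exact h ⟨w, rfl⟩

lemma exists_factor_red {T Y : Scheme.{u}} [IsReduced T] (C : TopologicalSpace.Closeds Y)
    (h : T ⟶ Y) (hC : ∀ x, h x ∈ (C : Set Y)) :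
    ∃ h' : T ⟶ (Scheme.IdealSheafData.vanishingIdeal C).subscheme,
      h' ≫ (Scheme.IdealSheafData.vanishingIdeal C).subschemeι = h := by
  have H : (Scheme.IdealSheafData.vanishingIdeal C).subschemeι.ker ≤ h.ker := by
    rw [Scheme.IdealSheafData.ker_subschemeι]
    exact vanishingIdeal_le_ker h C (by rintro _ ⟨x, rfl⟩; exact hC x)
  exact ⟨IsClosedImmersion.lift _ h H, IsClosedImmersion.lift_fac _ h H⟩

/-- the reduced closed subscheme on the closure of the image of a morphism of groupoid schemes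
over a perfect field is stable under the groupoid structure -/
theorem exists_sub_closure {S : Scheme.{u}} {G₁ G₂ : Grpd.GroupoidScheme S}
    (f : Grpd.GroupoidScheme.Hom G₁ G₂) [IsIso f.fU] (k : Type u) [Field k] [PerfectField k]
    (eU : G₂.U ≅ Spec (CommRingCat.of k)) :
    ∃ (Z : Scheme.{u}) (ι : Z ⟶ G₂.R) (_ : IsClosedImmersion ι)
      (c' : pullback (ι ≫ G₂.s) (ι ≫ G₂.t) ⟶ Z)
      (_ : c' ≫ ι = mul G₂ (pullback.fst (ι ≫ G₂.s) (ι ≫ G₂.t) ≫ ι)
        (pullback.snd (ι ≫ G₂.s) (ι ≫ G₂.t) ≫ ι))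
      (e' : G₂.U ⟶ Z) (_ : e' ≫ ι = G₂.e) (i' : Z ⟶ Z) (_ : i' ≫ ι = ι ≫ G₂.i),
      IsReduced Z ∧ Set.range ⇑ι = closure (Set.range ⇑f.fR) := by
  have hUO : ∀ {X : Scheme.{u}} (g : X ⟶ G₂.U), UniversallyOpen g :=
    fun g => univOpen_of_iso_spec_field k eU g
  obtain ⟨C, hC⟩ : ∃ C : TopologicalSpace.Closeds G₂.R,
      (C : Set G₂.R) = closure (Set.range ⇑f.fR) := ⟨⟨_, isClosed_closure⟩, rfl⟩
  obtain ⟨Z, ι, hι, hred, hrange, hfac⟩ : ∃ (Z : Scheme.{u}) (ι : Z ⟶ G₂.R),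
      IsClosedImmersion ι ∧ IsReduced Z ∧ Set.range ⇑ι = (C : Set G₂.R) ∧
      ∀ {T : Scheme.{u}} [IsReduced T] (h : T ⟶ G₂.R), (∀ x, h x ∈ (C : Set G₂.R)) →
        ∃ h' : T ⟶ Z, h' ≫ ι = h :=
    ⟨_, (Scheme.IdealSheafData.vanishingIdeal C).subschemeι, inferInstance,
      isReduced_vanishingIdeal_subscheme C,
      by rw [Scheme.IdealSheafData.range_subschemeι,
        Scheme.IdealSheafData.coe_support_vanishingIdeal],
      fun h hh => exists_factor_red C h hh⟩
  haveI := hι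
  haveI := hred
  haveI : IsReduced G₂.U := by
    obtain ⟨h1, h2⟩ := integral_subsingleton_of_iso_spec_field k eU
    infer_instance
  have hιC : ∀ z, ι z ∈ closure (Set.range ⇑f.fR) := fun z => by
    rw [← hC, ← hrange]; exact ⟨z, rfl⟩
  obtain ⟨e', he⟩ := hfac G₂.e (fun u => by rw [hC]; exact subset_closure (e_mem_range f u))
  obtain ⟨i', hi'⟩ := hfac (ι ≫ G₂.i) (fun z => by
    rw [Scheme.Hom.comp_apply, hC]
    exact i_mem_closure_range f _ (hιC z))
  haveI hP : IsReduced (pullback (ι ≫ G₂.s) (ι ≫ G₂.t)) := by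
    haveI : GeometricallyReduced ((ι ≫ G₂.s) ≫ eU.hom) :=
      Groth.Agent.H38.GeomRedField.geomReduced_of_perfectField _
    haveI : IsReduced (pullback ((ι ≫ G₂.s) ≫ eU.hom) ((ι ≫ G₂.t) ≫ eU.hom)) :=
      Groth.Agent.S4628.result _ _
    exact isReduced_of_isOpenImmersion (pullback.map (ι ≫ G₂.s) (ι ≫ G₂.t)
      ((ι ≫ G₂.s) ≫ eU.hom) ((ι ≫ G₂.t) ≫ eU.hom) (𝟙 _) (𝟙 _) eU.hom (by simp) (by simp))
  have hcond : (pullback.fst (ι ≫ G₂.s) (ι ≫ G₂.t) ≫ ι) ≫ G₂.s =
      (pullback.snd (ι ≫ G₂.s) (ι ≫ G₂.t) ≫ ι) ≫ G₂.t := by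
    simp only [Category.assoc]; exact pullback.condition
  obtain ⟨c', hc'⟩ := hfac (pullback.lift (pullback.fst (ι ≫ G₂.s) (ι ≫ G₂.t) ≫ ι)
      (pullback.snd (ι ≫ G₂.s) (ι ≫ G₂.t) ≫ ι) hcond ≫ G₂.c) (fun p => by
    rw [Scheme.Hom.comp_apply, hC]
    refine comp_mem_closure_range f hUO _ ?_ ?_
    · rw [← Scheme.Hom.comp_apply, pullback.lift_fst, Scheme.Hom.comp_apply]; exact hιC _
    · rw [← Scheme.Hom.comp_apply, pullback.lift_snd, Scheme.Hom.comp_apply]; exact hιC _)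
  rw [lift_c hcond] at hc'
  exact ⟨Z, ι, hι, c', hc', e', he, i', hi', hred, by rw [hrange, hC]⟩

/-- Stacks: the reduced closure of the image of a morphism of groupoids over a perfect field -/
theorem exists_sub_closure_grpd {S : Scheme.{u}} {G₁ G₂ : Grpd.GroupoidScheme S}
    (f : Grpd.GroupoidScheme.Hom G₁ G₂) [IsIso f.fU] (k : Type u) [Field k] [PerfectField k]
    (eU : G₂.U ≅ Spec (CommRingCat.of k)) :
    ∃ (G' : Grpd.GroupoidScheme S) (ψ : Grpd.GroupoidScheme.Hom G' G₂), IsIso ψ.fU ∧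
      IsClosedImmersion ψ.fR ∧ IsReduced G'.R ∧
      Set.range ⇑ψ.fR = closure (Set.range ⇑f.fR) := by
  obtain ⟨Z, ι, hι, c', hc', e', he, i', hi', hred, hrange⟩ := exists_sub_closure f k eU
  haveI : Mono ι := inferInstance
  exact ⟨sub G₂ ι c' hc' e' he i' hi', subHom G₂ ι c' hc' e' he i' hi',
    by show IsIso (𝟙 G₂.U); infer_instance, hι, hred, hrange⟩

/-- Stacks: the reduced closure of the image of `j` for a groupoid over a perfect field -/
theorem exists_closure_j {S : Scheme.{u}} (G : Grpd.GroupoidScheme S) (k : Type u) [Field k]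
    [PerfectField k] (eU : G.U ≅ Spec (CommRingCat.of k)) :
    ∃ (G' : Grpd.GroupoidScheme S) (ψ : G'.U ≅ G.U) (hψ : ψ.hom ≫ G.pU = G'.pU),
      IsReduced G'.R ∧ IsClosedImmersion G'.j ∧
      Set.range ⇑(G'.j ≫ pullback.map G'.pU G'.pU G.pU G.pU ψ.hom ψ.hom (𝟙 S)
        ((Category.comp_id _).trans hψ.symm) ((Category.comp_id _).trans hψ.symm)) =
        closure (Set.range ⇑G.j) := by
  haveI : IsIso (jHom G).fU := by
    show IsIso (𝟙 G.U)
    infer_instance
  obtain ⟨Z, ι, hι, c', hc', e', he, i', hi', hred, hrange⟩ := exists_sub_closure (jHom G) k eU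
  haveI : Mono ι := inferInstance
  have hmap : ∀ (h1 : G.pU ≫ 𝟙 S = 𝟙 G.U ≫ G.pU) (h2 : G.pU ≫ 𝟙 S = 𝟙 G.U ≫ G.pU),
      pullback.map G.pU G.pU G.pU G.pU (𝟙 G.U) (𝟙 G.U) (𝟙 S) h1 h2 = 𝟙 _ := fun h1 h2 => by
    apply pullback.hom_ext <;>
    simp only [pullback.map, Category.assoc, pullback.lift_fst, pullback.lift_snd,
      Category.id_comp, Category.comp_id]
  have hj : (sub (pair G.pU) ι c' hc' e' he i' hi').j = ι := by
    apply pullback.hom_ext
    · exact pullback.lift_fst _ _ _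
    · exact pullback.lift_snd _ _ _
  refine ⟨sub (pair G.pU) ι c' hc' e' he i' hi', Iso.refl _, Category.id_comp _, hred,
    by rw [hj]; exact hι, ?_⟩
  rw [hj]
  show Set.range ⇑(ι ≫ pullback.map G.pU G.pU G.pU G.pU (𝟙 G.U) (𝟙 G.U) (𝟙 S) _ _) = _
  rw [hmap]
  exact Eq.trans (congrArg (fun φ : Z ⟶ (pair G.pU).R => Set.range ⇑φ) (Category.comp_id ι)) hrange

end Groth.Agent.H37.SubGrpd
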