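import Groth.Agent.H37.MaxAbSub
import Groth.Agent.H37.AbFibreDim
import Groth.Agent.H37.SubGrpd3
import Groth.Agent.H37.GeomSepClosed
import Groth.Agent.H37.ClosedSubBC

/-!
# The abelian subvariety generated by an irreducible closed subset through the origin

Over an algebraically closed field `k`, let `A` be an abelian variety, `f : A(k) → G` a
homomorphism to an abstract group and `V ⊆ A` an irreducible closed subset through the origin all
of whose rational points are in the kernel of `f`.  Then there is an abelian subvariety containing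
`V` all of whose rational points are in the kernel of `f`: take an irreducible closed subset `W`
with these properties of maximal dimension; then `W + W = W` and `W - W = W`.
-/

universe u

open CategoryTheory CategoryTheory.Limits MonoidalCategory CartesianMonoidalCategory MonObj GrpObj
  AlgebraicGeometry

namespace Groth.Agent.H37.AbGenSub

open Groth.Agent.H37.SepPts Groth.Agent.H54

variable (k : Type u) [Field k] [IsAlgClosed k]
  (A : Over (Spec (CommRingCat.of k))) [GrpObj A]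
  {G : Type*} [Group G] (f : (𝟙_ (Over (Spec (CommRingCat.of k))) ⟶ A) →* G)

/-- `W` contains the origin and its rational points lie in the kernel of `f`. -/
def Good (W : Set A.left) : Prop :=
  (∀ x, η[A].left x ∈ W) ∧
    ∀ a : 𝟙_ (Over (Spec (CommRingCat.of k))) ⟶ A, (∀ x, a.left x ∈ W) → f a = 1

/-- the sum of two good irreducible closed subsets is a good irreducible closed subset -/
theorem sum [IsProper A.hom] (M₁ M₂ : Over (Spec (CommRingCat.of k))) (i₁ : M₁ ⟶ A) (i₂ : M₂ ⟶ A)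
    [IsClosedImmersion i₁.left] [IsClosedImmersion i₂.left]
    [IrreducibleSpace ↥M₁.left] [IrreducibleSpace ↥M₂.left]
    (h₁ : Good k A f (Set.range ⇑i₁.left)) (h₂ : Good k A f (Set.range ⇑i₂.left))
    (h : M₁ ⊗ M₂ ⟶ A) (hh : h = (fst M₁ M₂ ≫ i₁) * (snd M₁ M₂ ≫ i₂)) :
    IsClosed (Set.range ⇑h.left) ∧ IsIrreducible (Set.range ⇑h.left) ∧
      Good k A f (Set.range ⇑h.left) ∧ Set.range ⇑i₁.left ⊆ Set.range ⇑h.left ∧
      Set.range ⇑i₂.left ⊆ Set.range ⇑h.left := by
  obtain ⟨hint, hsubs⟩ :=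
    integral_subsingleton_of_iso_spec_field k (Iso.refl (Spec (CommRingCat.of k)))
  haveI := hint
  haveI := hsubs
  obtain ⟨pt⟩ : Nonempty ↥(Spec (CommRingCat.of k)) := inferInstance
  haveI hp₁ : IsProper M₁.hom := by rw [← Over.w i₁]; infer_instance
  haveI hp₂ : IsProper M₂.hom := by rw [← Over.w i₂]; infer_instance
  haveI : IsProper (M₁ ⊗ M₂).hom := by dsimp; infer_instance
  haveI : IsProper (h.left ≫ A.hom) := by rw [Over.w h]; infer_instance
  haveI hhp : IsProper h.left := IsProper.of_comp h.left A.hom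
  haveI : GeometricallyIrreducible M₁.hom := geomIrr_of_isSepClosed _
  haveI : UniversallyOpen M₁.hom := univOpen_of_iso_spec_field k (Iso.refl _) _
  have hirr : ∀ (p₁ : M₁.left ⟶ Spec (CommRingCat.of k)) (p₂ : M₂.left ⟶ Spec (CommRingCat.of k))
      [GeometricallyIrreducible p₁] [UniversallyOpen p₁], IrreducibleSpace ↥(pullback p₁ p₂) :=
    fun p₁ p₂ _ _ => inferInstance
  haveI : IrreducibleSpace ↥(M₁ ⊗ M₂).left := hirr M₁.hom M₂.hom
  haveI : IsReduced (𝟙_ (Over (Spec (CommRingCat.of k)))).left := by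
    show IsReduced (Spec (CommRingCat.of k)); infer_instance
  obtain ⟨e₁', he₁'⟩ := exists_factor_of_range_subset' i₁.left η[A].left (fun x => h₁.1 x)
  obtain ⟨e₂', he₂'⟩ := exists_factor_of_range_subset' i₂.left η[A].left (fun x => h₂.1 x)
  obtain ⟨e₁, he₁⟩ : ∃ e₁ : 𝟙_ (Over (Spec (CommRingCat.of k))) ⟶ M₁, e₁ ≫ i₁ = η[A] := by
    refine ⟨Over.homMk e₁' ?_, ?_⟩
    · show e₁' ≫ M₁.hom = 𝟙 _
      rw [← Over.w i₁, ← Category.assoc, he₁']
      exact Over.w η[A]
    · ext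
      exact he₁'
  obtain ⟨e₂, he₂⟩ : ∃ e₂ : 𝟙_ (Over (Spec (CommRingCat.of k))) ⟶ M₂, e₂ ≫ i₂ = η[A] := by
    refine ⟨Over.homMk e₂' ?_, ?_⟩
    · show e₂' ≫ M₂.hom = 𝟙 _
      rw [← Over.w i₂, ← Category.assoc, he₂']
      exact Over.w η[A]
    · ext
      exact he₂'
  have hs₁ : lift (𝟙 M₁) (toUnit M₁ ≫ e₂) ≫ h = i₁ := by
    rw [hh, MonObj.comp_mul, ← Category.assoc, lift_fst, Category.id_comp, ← Category.assoc,
      lift_snd, Category.assoc, he₂, ← Hom.one_def, _root_.mul_one]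
  have hs₂ : lift (toUnit M₂ ≫ e₁) (𝟙 M₂) ≫ h = i₂ := by
    rw [hh, MonObj.comp_mul, ← Category.assoc, lift_fst, Category.assoc, he₁,
      ← Hom.one_def, ← Category.assoc, lift_snd, Category.id_comp, _root_.one_mul]
  have hsub₁ : Set.range ⇑i₁.left ⊆ Set.range ⇑h.left := by
    rintro _ ⟨y, rfl⟩
    exact ⟨(lift (𝟙 M₁) (toUnit M₁ ≫ e₂)).left y, congrArg (fun t : M₁ ⟶ A => t.left y) hs₁⟩
  have hsub₂ : Set.range ⇑i₂.left ⊆ Set.range ⇑h.left := by
    rintro _ ⟨y, rfl⟩
    exact ⟨(lift (toUnit M₂ ≫ e₁) (𝟙 M₂)).left y, congrArg (fun t : M₂ ⟶ A => t.left y) hs₂⟩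
  refine ⟨h.left.isClosedMap.isClosed_range, ?_, ⟨fun x => hsub₁ (h₁.1 x), ?_⟩, hsub₁, hsub₂⟩
  · have h0 := (IrreducibleSpace.isIrreducible_univ ↥(M₁ ⊗ M₂).left).image ⇑h.left
      h.left.continuous.continuousOn
    rwa [Set.image_univ] at h0
  · intro a ha
    obtain ⟨p0, hp0⟩ := ha pt
    obtain ⟨q0, -, -⟩ := Scheme.Pullback.exists_preimage_pullback (f := a.left) (g := h.left)
      pt p0 hp0.symm
    haveI : CompactSpace ↥(pullback a.left h.left) :=
      QuasiCompact.compactSpace_of_compactSpace (Y := Spec _) (pullback.fst a.left h.left)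
    obtain ⟨x₀, -, hx₀⟩ := IsClosed.exists_closed_singleton
      (isClosed_univ (X := ↥(pullback a.left h.left))) ⟨q0, trivial⟩
    haveI : LocallyOfFiniteType (Over.mk (pullback.fst a.left h.left)).hom := by
      show LocallyOfFiniteType (pullback.fst a.left h.left)
      infer_instance
    obtain ⟨x, -⟩ := AbFibreDim.exists_point k (Over.mk (pullback.fst a.left h.left)) x₀ hx₀ pt
    have hx1 : x.left ≫ pullback.fst a.left h.left = 𝟙 _ := Over.w x
    have e1 : (x.left ≫ pullback.snd a.left h.left) ≫ h.left = a.left := by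
      rw [Category.assoc, ← pullback.condition, ← Category.assoc, hx1, Category.id_comp]
    obtain ⟨y, hy⟩ : ∃ y : 𝟙_ (Over (Spec (CommRingCat.of k))) ⟶ M₁ ⊗ M₂, y ≫ h = a := by
      refine ⟨Over.homMk (x.left ≫ pullback.snd a.left h.left) ?_, ?_⟩
      · show (x.left ≫ pullback.snd a.left h.left) ≫ (M₁ ⊗ M₂).hom = 𝟙 _
        rw [← Over.w h, ← Category.assoc, e1]
        exact Over.w a
      · ext
        exact e1
    have hy' : a = (y ≫ fst M₁ M₂ ≫ i₁) * (y ≫ snd M₁ M₂ ≫ i₂) := by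
      rw [← hy, hh, MonObj.comp_mul]
    have ha1 : f (y ≫ fst M₁ M₂ ≫ i₁) = 1 :=
      h₁.2 _ (fun x' => ⟨(y ≫ fst M₁ M₂).left x', rfl⟩)
    have ha2 : f (y ≫ snd M₁ M₂ ≫ i₂) = 1 :=
      h₂.2 _ (fun x' => ⟨(y ≫ snd M₁ M₂).left x', rfl⟩)
    rw [hy', map_mul, ha1, ha2, _root_.mul_one]

/-- the good irreducible closed subset of maximal dimension containing `V` is an abelian
subvariety -/
theorem main [IsProper A.hom] [IsIntegral A.left] (V : Set ↥A.left) (hVcl : IsClosed V)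
    (hVirr : IsIrreducible V) (hV : Good k A f V) :
    ∃ (B : Over (Spec (CommRingCat.of k))) (_ : GrpObj B) (incl : B ⟶ A), IsMonHom incl ∧
      IsClosedImmersion incl.left ∧ IsIntegral B.left ∧ V ⊆ Set.range ⇑incl.left ∧
      Good k A f (Set.range ⇑incl.left) := by
  obtain ⟨hint, hsubs⟩ :=
    integral_subsingleton_of_iso_spec_field k (Iso.refl (Spec (CommRingCat.of k)))
  haveI := hint
  haveI := hsubs
  obtain ⟨p, hp⟩ : ∃ p : A.left ⟶ Spec (CommRingCat.of k), p = A.hom := ⟨_, rfl⟩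
  haveI : LocallyOfFiniteType p := by rw [hp]; infer_instance
  obtain ⟨S, hS⟩ : ∃ S : A.left → Prop, ∀ g, S g ↔
      (V ⊆ closure ({g} : Set A.left) ∧ Good k A f (closure ({g} : Set A.left))) :=
    ⟨_, fun _ => Iff.rfl⟩
  obtain ⟨g₀, hg₀⟩ := QuasiSober.sober hVirr hVcl
  have hS₀ : S g₀ := by
    rw [hS, hg₀.def]
    exact ⟨subset_rfl, hV⟩
  have hbound : ∀ g : A.left, tdeg p g ≤ tdeg p (genericPoint ↥A.left) := fun g =>
    tdeg_le_of_specializes p (genericPoint_specializes g)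
  obtain ⟨g, hSg, hmax⟩ : ∃ g, S g ∧ ∀ g', S g' → tdeg p g' ≤ tdeg p g := by
    by_contra hcon
    have hcon' : ∀ g, S g → ∃ g', S g' ∧ tdeg p g < tdeg p g' := by
      intro g hg
      by_contra hno
      exact hcon ⟨g, hg, fun g' hg' => by
        by_contra hlt
        exact hno ⟨g', hg', by omega⟩⟩
    have hall : ∀ j : ℕ, ∃ g, S g ∧ j ≤ tdeg p g := by
      intro j
      induction j with
      | zero => exact ⟨g₀, hS₀, Nat.zero_le _⟩
      | succ j ih =>
        obtain ⟨g, hQ, hj⟩ := ih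
        obtain ⟨g', hQ', hlt⟩ := hcon' g hQ
        exact ⟨g', hQ', by omega⟩
    obtain ⟨g, -, hj⟩ := hall (tdeg p (genericPoint ↥A.left) + 1)
    have := hbound g
    omega
  obtain ⟨hVW, hGW⟩ := (hS g).mp hSg
  obtain ⟨C, hC⟩ : ∃ C : TopologicalSpace.Closeds A.left,
      (C : Set A.left) = closure ({g} : Set A.left) := ⟨⟨_, isClosed_closure⟩, rfl⟩
  obtain ⟨Z, z, hz, hred, hrange⟩ : ∃ (Z : Scheme.{u}) (z : Z ⟶ A.left),
      IsClosedImmersion z ∧ IsReduced Z ∧ Set.range ⇑z = closure ({g} : Set A.left) :=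
    ⟨_, (Scheme.IdealSheafData.vanishingIdeal C).subschemeι, inferInstance,
      SubGrpd.isReduced_vanishingIdeal_subscheme C,
      by rw [Scheme.IdealSheafData.range_subschemeι,
        Scheme.IdealSheafData.coe_support_vanishingIdeal, hC]⟩
  haveI := hz
  haveI := hred
  haveI hZirr : IrreducibleSpace ↥Z :=
    (irreducibleSpace_iff_of_range z.isClosedEmbedding.isEmbedding hrange).mpr
      isIrreducible_singleton.closure
  obtain ⟨i, hi0⟩ : ∃ i : Over.mk (z ≫ A.hom) ⟶ A, i.left = z := ⟨Over.homMk z rfl, rfl⟩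
  haveI hicl : IsClosedImmersion i.left := by rw [hi0]; exact hz
  haveI hMirr : IrreducibleSpace ↥(Over.mk (z ≫ A.hom)).left := hZirr
  have hGi : Good k A f (Set.range ⇑i.left) := by rw [hi0, hrange]; exact hGW
  have hri : Set.range ⇑i.left = closure ({g} : Set A.left) := by rw [hi0, hrange]
  -- the key consequence of maximality
  have key : ∀ (M₂ : Over (Spec (CommRingCat.of k))) (i₂ : M₂ ⟶ A) [IsClosedImmersion i₂.left]
      [IrreducibleSpace ↥M₂.left], Good k A f (Set.range ⇑i₂.left) →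
      ∀ h : Over.mk (z ≫ A.hom) ⊗ M₂ ⟶ A, h = (fst (Over.mk (z ≫ A.hom)) M₂ ≫ i) *
        (snd (Over.mk (z ≫ A.hom)) M₂ ≫ i₂) →
      Set.range ⇑h.left = closure ({g} : Set A.left) ∧
        Set.range ⇑i₂.left ⊆ closure ({g} : Set A.left) := by
    intro M₂ i₂ _ _ hG₂ h hh
    obtain ⟨hcl, hirr, hgood, hsub1, hsub2⟩ := sum k A f (Over.mk (z ≫ A.hom)) M₂ i i₂ hGi hG₂ h hh
    obtain ⟨g₃, hg₃⟩ := QuasiSober.sober hirr hcl
    have hS₃ : S g₃ := by
      rw [hS, hg₃.def]
      exact ⟨fun v hv => hsub1 (hri ▸ hVW hv), hgood⟩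
    have hsp : g₃ ⤳ g := by
      rw [specializes_iff_mem_closure, hg₃.def]
      exact hsub1 (hri ▸ subset_closure rfl)
    have heq : g₃ = g := by
      by_contra hne
      have h1 := tdeg_lt_of_specializes p hsp hne
      have h2 := hmax g₃ hS₃
      omega
    have hr : Set.range ⇑h.left = closure ({g} : Set A.left) := by rw [← hg₃.def, heq]
    exact ⟨hr, hr ▸ hsub2⟩
  -- stability under the inverse
  haveI hιiso : IsIso ι[A].left := inferInstanceAs (IsIso ((Over.forget _).map ι[A]))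
  have hηι : η[A] ≫ ι[A] = η[A] := by
    have h := (inv_one : (1 : 𝟙_ (Over (Spec (CommRingCat.of k))) ⟶ A)⁻¹ = 1)
    rw [Hom.inv_def, Hom.one_def, toUnit_unit, Category.id_comp] at h
    exact h
  have hinv : ∀ w, ι[A].left (z w) ∈ Set.range ⇑z := by
    obtain ⟨i₂, hi₂0⟩ : ∃ i₂ : Over.mk ((z ≫ ι[A].left) ≫ A.hom) ⟶ A, i₂.left = z ≫ ι[A].left :=
      ⟨Over.homMk (z ≫ ι[A].left) rfl, rfl⟩
    haveI : IsClosedImmersion i₂.left := by rw [hi₂0]; infer_instance
    haveI : IrreducibleSpace ↥(Over.mk ((z ≫ ι[A].left) ≫ A.hom)).left := hZirr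
    have hG₂ : Good k A f (Set.range ⇑i₂.left) := by
      rw [hi₂0]
      refine ⟨fun x => ?_, fun a ha => ?_⟩
      · obtain ⟨w, hw⟩ : η[A].left x ∈ Set.range ⇑z := by rw [hrange]; exact hGW.1 x
        refine ⟨w, ?_⟩
        have h1 : (η[A] ≫ ι[A]).left x = η[A].left x :=
          congrArg (fun t : 𝟙_ (Over (Spec (CommRingCat.of k))) ⟶ A => t.left x) hηι
        rw [Scheme.Hom.comp_apply, hw]
        exact h1
      · have h1 : f a⁻¹ = 1 := by
          refine hGW.2 _ (fun x => ?_)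
          obtain ⟨w, hw⟩ := ha x
          rw [← hrange]
          refine ⟨w, ?_⟩
          have h2 : (a⁻¹).left x = ι[A].left (a.left x) := by rw [Hom.inv_def]; rfl
          have h3 : (ι[A] ≫ ι[A]).left (z w) = z w := by rw [GrpObj.inv_comp_inv]; rfl
          rw [h2, ← hw, Scheme.Hom.comp_apply]
          exact h3.symm
        rw [map_inv, inv_eq_one] at h1
        exact h1
    obtain ⟨-, hsub⟩ := key _ i₂ hG₂ _ rfl
    intro w
    rw [hrange]
    refine hsub ⟨w, ?_⟩
    rw [hi₂0]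
    rfl
  -- stability under multiplication
  have hcond : ((fst (Over.mk (z ≫ A.hom)) (Over.mk (z ≫ A.hom))).left ≫ i.left) ≫ A.hom =
      ((snd (Over.mk (z ≫ A.hom)) (Over.mk (z ≫ A.hom))).left ≫ i.left) ≫ A.hom := by
    rw [Category.assoc, Category.assoc, Over.w i, Over.w (fst _ _), Over.w (snd _ _)]
  have hmul : ∀ (m : pullback (z ≫ A.hom) (z ≫ A.hom) ⟶ pullback A.hom A.hom),
      m ≫ pullback.fst A.hom A.hom = pullback.fst (z ≫ A.hom) (z ≫ A.hom) ≫ z →
      m ≫ pullback.snd A.hom A.hom = pullback.snd (z ≫ A.hom) (z ≫ A.hom) ≫ z →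
      ∀ p, (m ≫ μ[A].left) p ∈ Set.range ⇑z := by
    intro m hm1 hm2 p
    obtain ⟨hr, -⟩ := key _ i hGi _ rfl
    have hfin : ((fst (Over.mk (z ≫ A.hom)) (Over.mk (z ≫ A.hom)) ≫ i) *
        (snd (Over.mk (z ≫ A.hom)) (Over.mk (z ≫ A.hom)) ≫ i)).left =
        pullback.lift ((fst (Over.mk (z ≫ A.hom)) (Over.mk (z ≫ A.hom))).left ≫ i.left)
          ((snd (Over.mk (z ≫ A.hom)) (Over.mk (z ≫ A.hom))).left ≫ i.left) hcond ≫
          μ[A].left := rfl
    have hmm : m = pullback.lift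
        ((fst (Over.mk (z ≫ A.hom)) (Over.mk (z ≫ A.hom))).left ≫ i.left)
        ((snd (Over.mk (z ≫ A.hom)) (Over.mk (z ≫ A.hom))).left ≫ i.left) hcond := by
      apply pullback.hom_ext
      · rw [pullback.lift_fst, hm1, hi0]; rfl
      · rw [pullback.lift_snd, hm2, hi0]; rfl
    rw [hrange, ← hr, hfin, ← hmm]
    exact ⟨p, rfl⟩
  have hprod : GeometricallyReduced (z ≫ A.hom) :=
    Groth.Agent.H38.GeomRedField.geomReduced_of_perfectField _
  haveI := hprod
  haveI hgr : GeometricallyReduced (pullback.fst (z ≫ A.hom) (z ≫ A.hom) ≫ z ≫ A.hom) :=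
    geometricallyReduced_prod (z ≫ A.hom) (z ≫ A.hom)
  haveI : IsReduced (pullback (z ≫ A.hom) (z ≫ A.hom)) :=
    hgr.geometrically_isReduced (𝟙 (Spec (CommRingCat.of k)))
      (𝟙 (pullback (z ≫ A.hom) (z ≫ A.hom))) _ IsPullback.of_id_fst
  obtain ⟨str, i', hmon, hi'0⟩ := exists_grpObj_of_reduced_closed k A z
    (fun x => by rw [hrange]; exact hGW.1 x) hinv hmul
  refine ⟨Over.mk (z ≫ A.hom), str, i', hmon, by rw [hi'0]; exact hz, ?_, ?_, ?_⟩
  · show IsIntegral Z
    exact isIntegral_of_irreducibleSpace_of_isReduced Z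
  · rw [hi'0, hrange]; exact hVW
  · rw [hi'0, hrange]; exact hGW

end Groth.Agent.H37.AbGenSub
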