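import Mathlib
import Groth.Prelude.Def_AlgGrp
import Groth.Prelude.Def_SGA7IX
import Groth.Agent.H37.AbCentral
import Groth.Agent.H63.Rigid2
import Groth.Agent.H40.FlatDesc

/-!
# `A × N ⟶ G` is an isogeny when `A · N = G` (`A` abelian subvariety, `N` affine kernel)
-/

set_option autoImplicit false
universe u
open CategoryTheory CategoryTheory.Limits MonoidalCategory CartesianMonoidalCategory MonObj GrpObj
  AlgebraicGeometry

namespace Groth.Agent.H37.AbMulIsog

open Groth.Agent.H37.AbTranslate Groth.Agent.H37.AbCentral Groth.Agent.H63.Rigid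

/-- a `k`-scheme closed in a proper one and in an affine one is finite -/
theorem isFinite_of_closed {k : Type u} [Field k] (K A N : Over (Spec (CommRingCat.of k)))
    [IsProper A.hom] [IsAffine N.left]
    (κA : K ⟶ A) (κN : K ⟶ N) [IsClosedImmersion κA.left] [IsClosedImmersion κN.left] :
    IsFinite K.hom := by
  haveI : IsProper K.hom := by rw [← Over.w κA]; infer_instance
  haveI : IsAffine K.left := isAffine_of_isAffineHom κN.left
  exact IsFinite.iff_isProper_and_isAffineHom.mpr ⟨inferInstance, inferInstance⟩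

theorem main (k : Type u) [Field k] [IsAlgClosed k]
    (G N A Q : Over (Spec (CommRingCat.of k))) [GrpObj G] [GrpObj N] [GrpObj A] [GrpObj Q]
    [Smooth G.hom] [ConnectedSpace ↥G.left]
    (i : N ⟶ G) [IsMonHom i] [IsClosedImmersion i.left] [IsAffine N.left]
    (π : G ⟶ Q) [IsMonHom π] [Surjective π.left] (hker : AlgGrp.IsKernel i π)
    (j : A ⟶ G) [IsMonHom j] [IsClosedImmersion j.left] [Smooth A.hom] [ConnectedSpace ↥A.left]
    [IsProper A.hom]
    (hsurj : Surjective ((j ⊗ₘ i) ≫ μ[G]).left) :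
    IsMonHom ((j ⊗ₘ i) ≫ μ[G]) ∧ SGA7.IsIsogenyOver ((j ⊗ₘ i) ≫ μ[G]) ∧
      SGA7.IsIsogenyOver (j ≫ π) := by
  have hker' : IsPullback i (toUnit N) π η[Q] := hker
  obtain ⟨m, hm⟩ : ∃ m : A ⊗ N ⟶ G, m = (j ⊗ₘ i) ≫ μ[G] := ⟨_, rfl⟩
  rw [← hm] at hsurj ⊢
  have hm' : m = (fst A N ≫ j) * (snd A N ≫ i) := by
    rw [hm, Hom.mul_def]
    congr 1
  have hpts : ∀ {T : Over (Spec (CommRingCat.of k))} (x : T ⟶ A ⊗ N),
      x ≫ m = (x ≫ fst A N ≫ j) * (x ≫ snd A N ≫ i) := by
    intro T x; rw [hm', comp_mul]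
  have hmul : ∀ {T : Over (Spec (CommRingCat.of k))} (x y : T ⟶ A ⊗ N),
      (x * y) ≫ m = (x ≫ m) * (y ≫ m) := by
    intro T x y
    rw [hpts, hpts x, hpts y, MonObj.mul_comp x y (fst A N ≫ j),
      MonObj.mul_comp x y (snd A N ≫ i)]
    have hcomm : (x ≫ snd A N ≫ i) * (y ≫ fst A N ≫ j) =
        (y ≫ fst A N ≫ j) * (x ≫ snd A N ≫ i) := by
      have := central_pts k G A j (x ≫ snd A N ≫ i) (y ≫ fst A N)
      simpa only [Category.assoc] using this
    have key : ∀ (a a' n n' : T ⟶ G), n * a' = a' * n →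
        (a * a') * (n * n') = (a * n) * (a' * n') := by
      intro a a' n n' h
      calc (a * a') * (n * n') = a * (a' * n) * n' := by group
        _ = a * (n * a') * n' := by rw [h]
        _ = (a * n) * (a' * n') := by group
    exact key _ _ _ _ hcomm
  have hmon : IsMonHom m := by
    refine { one_hom := ?_, mul_hom := ?_ }
    · rw [hpts, IsMonHom.one_hom (f := fst A N ≫ j), IsMonHom.one_hom (f := snd A N ≫ i),
        eta_eq_one, _root_.one_mul]
    · have hμ : μ[A ⊗ N] = fst (A ⊗ N) (A ⊗ N) * snd (A ⊗ N) (A ⊗ N) := by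
        rw [Hom.mul_def, lift_fst_snd, Category.id_comp]
      have h1 : (m ⊗ₘ m) ≫ μ[G] = (fst (A ⊗ N) (A ⊗ N) ≫ m) * (snd (A ⊗ N) (A ⊗ N) ≫ m) := by
        rw [Hom.mul_def]
        congr 1
      rw [h1, hμ, hmul]
  have hmπ : m ≫ π = fst A N ≫ j ≫ π := by
    rw [hm', MonObj.mul_comp, Category.assoc, Category.assoc, hker'.w, ← Category.assoc (snd A N),
      toUnit_unique (snd A N ≫ toUnit N) (toUnit _), ← Hom.one_def, _root_.mul_one]
  haveI hιiso : IsIso ι[G].left := inferInstanceAs (IsIso ((Over.forget _).map ι[G]))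
  haveI hrcl : IsClosedImmersion (i ≫ ι[G]).left :=
    (inferInstance : IsClosedImmersion (i.left ≫ ι[G].left))
  haveI : Mono i := Groth.Agent.H40.FlatDesc.mono_of_isClosedImmersion_left i
  refine ⟨hmon, ⟨hsurj, ?_⟩, ⟨?_, ?_⟩⟩
  · intro K ik hK
    have hK' : IsPullback ik (toUnit K) m η[G] := hK
    obtain ⟨κA, hκA⟩ : ∃ κA : K ⟶ A, κA = ik ≫ fst A N := ⟨_, rfl⟩
    obtain ⟨κN, hκN⟩ : ∃ κN : K ⟶ N, κN = ik ≫ snd A N := ⟨_, rfl⟩
    have hrel : (κA ≫ j) * (κN ≫ i) = 1 := by
      rw [hκA, hκN, Category.assoc, Category.assoc, ← hpts, hK'.w, ← Hom.one_def]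
    have sq : IsPullback κA κN j (i ≫ ι[G]) := by
      refine isPullback_of_pts ?_ ?_
      · rw [← Category.assoc, ← Hom.inv_def]
        exact eq_inv_of_mul_eq_one_left hrel
      · intro T a n han
        have h1 : lift a n ≫ m = toUnit T ≫ η[G] := by
          rw [hpts, lift_fst_assoc, lift_snd_assoc, han, ← Category.assoc n i, ← Hom.inv_def,
            _root_.inv_mul_cancel, Hom.one_def]
        refine ⟨hK'.lift (lift a n) (toUnit T) h1, ⟨?_, ?_⟩, ?_⟩
        · rw [hκA, ← Category.assoc, hK'.lift_fst, lift_fst]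
        · rw [hκN, ← Category.assoc, hK'.lift_fst, lift_snd]
        · rintro t' ⟨ht1, ht2⟩
          apply hK'.hom_ext
          · rw [hK'.lift_fst]
            apply CartesianMonoidalCategory.hom_ext
            · rw [Category.assoc, ← hκA, ht1, lift_fst]
            · rw [Category.assoc, ← hκN, ht2, lift_snd]
          · exact toUnit_unique _ _
    have sqS : IsPullback κA.left κN.left j.left (i ≫ ι[G]).left := sq.map (Over.forget _)
    haveI : IsClosedImmersion κN.left :=
      MorphismProperty.of_isPullback (P := @IsClosedImmersion) sqS inferInstance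
    haveI : IsClosedImmersion κA.left :=
      MorphismProperty.of_isPullback (P := @IsClosedImmersion) sqS.flip inferInstance
    exact isFinite_of_closed K A N κA κN
  · refine ⟨fun q' => ?_⟩
    obtain ⟨g, hg⟩ := π.left.surjective q'
    obtain ⟨z, hz⟩ := m.left.surjective g
    refine ⟨(fst A N).left z, ?_⟩
    have h2 : (m ≫ π).left z = (fst A N ≫ j ≫ π).left z := by rw [hmπ]
    have h3 : (m ≫ π).left z = π.left (m.left z) := rfl
    have h4 : (fst A N ≫ j ≫ π).left z = (j ≫ π).left ((fst A N).left z) := rfl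
    rw [← h4, ← h2, h3, hz, hg]
  · intro K ik hK
    have hK' : IsPullback ik (toUnit K) (j ≫ π) η[Q] := hK
    have h0 : (ik ≫ j) ≫ π = toUnit K ≫ η[Q] := by rw [Category.assoc]; exact hK'.w
    obtain ⟨ν, hν⟩ : ∃ ν : K ⟶ N, ν ≫ i = ik ≫ j :=
      ⟨hker'.lift (ik ≫ j) (toUnit K) h0, hker'.lift_fst _ _ _⟩
    have sq : IsPullback ik ν j i := by
      refine isPullback_of_pts hν.symm ?_
      intro T a n han
      have h1 : a ≫ (j ≫ π) = toUnit T ≫ η[Q] := by
        rw [← Category.assoc, han, Category.assoc, hker'.w, ← Category.assoc,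
          toUnit_unique (n ≫ toUnit N) (toUnit T)]
      refine ⟨hK'.lift a (toUnit T) h1, ⟨hK'.lift_fst _ _ _, ?_⟩, ?_⟩
      · rw [← cancel_mono i, Category.assoc, hν, ← Category.assoc, hK'.lift_fst, han]
      · rintro t' ⟨ht1, -⟩
        apply hK'.hom_ext
        · rw [hK'.lift_fst, ht1]
        · exact toUnit_unique _ _
    have sqS : IsPullback ik.left ν.left j.left i.left := sq.map (Over.forget _)
    haveI : IsClosedImmersion ν.left :=
      MorphismProperty.of_isPullback (P := @IsClosedImmersion) sqS inferInstance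
    haveI : IsClosedImmersion ik.left :=
      MorphismProperty.of_isPullback (P := @IsClosedImmersion) sqS.flip inferInstance
    exact isFinite_of_closed K A N ik ν

end Groth.Agent.H37.AbMulIsog
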