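import Mathlib
import Groth.Prelude.Def_AlgGrp
import Groth.Agent.H63.Rigid5
import Groth.Agent.H40.GrpQC

set_option autoImplicit false
universe u
open CategoryTheory MonoidalCategory CartesianMonoidalCategory MonObj GrpObj AlgebraicGeometry

namespace Groth.Agent.H37.AntiAffConst

/-- every morphism from a qcqs `k`-scheme with `O(X) = k` to an affine `k`-scheme is constant -/
theorem const_of_affine (k : Type u) [Field k] (X N : Over (Spec (CommRingCat.of k)))
    [QuasiCompact X.hom] [QuasiSeparated X.hom]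
    (hX : Function.Bijective ((Scheme.ΓSpecIso (CommRingCat.of k)).inv ≫ X.hom.appTop).hom)
    (x₀ : 𝟙_ (Over (Spec (CommRingCat.of k))) ⟶ X) [IsAffine N.left] (d : X ⟶ N) :
    d = toUnit X ≫ x₀ ≫ d := by
  haveI : IsAffine (𝟙_ (Over (Spec (CommRingCat.of k)))).left :=
    inferInstanceAs (IsAffine (Spec (CommRingCat.of k)))
  have h := Groth.Agent.H63.Rigid.eq_of_range_subset_affine X hX x₀
    (T := 𝟙_ (Over (Spec (CommRingCat.of k)))) (fst X (𝟙_ _) ≫ d) ⊤ (isAffineOpen_top N.left)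
    (fun p => trivial)
  have e1 : lift (𝟙 X) (toUnit X) ≫ fst X (𝟙_ _) ≫ d = d := by
    rw [lift_fst_assoc, Category.id_comp]
  have e2 : lift (𝟙 X) (toUnit X) ≫ snd X (𝟙_ _) ≫
      Groth.Agent.H63.Rigid.sec x₀ (𝟙_ _) ≫ fst X (𝟙_ _) ≫ d = toUnit X ≫ x₀ ≫ d := by
    rw [lift_snd_assoc, lift_fst_assoc]
    simp only [Category.assoc]
    rw [← Category.assoc (toUnit X) (toUnit (𝟙_ _)),
      toUnit_unique (toUnit X ≫ toUnit (𝟙_ _)) (toUnit X)]
  rw [← e2, ← h, e1]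

theorem main (k : Type u) [Field k]
    (G H : Over (Spec (CommRingCat.of k))) [GrpObj G] [QuasiCompact G.hom]
    (hG : Function.Bijective ((Scheme.ΓSpecIso (CommRingCat.of k)).inv ≫ G.hom.appTop).hom)
    [GrpObj H]
    (N : Over (Spec (CommRingCat.of k))) (i : N ⟶ H) [IsAffine N.left]
    (A : Over (Spec (CommRingCat.of k))) [GrpObj A] (α : H ⟶ A) [IsMonHom α]
    (hker : AlgGrp.IsKernel i α)
    (f f' : G ⟶ H) (hf : η[G] ≫ f = η[H]) (hf' : η[G] ≫ f' = η[H]) (hα : f ≫ α = f' ≫ α) :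
    f = f' := by
  haveI : QuasiSeparated G.hom := Groth.Agent.H40.GrpQC.quasiSeparated_of_grpObj G
  obtain ⟨D, hD⟩ : ∃ D : G ⟶ H, D = f * f'⁻¹ := ⟨_, rfl⟩
  have hDα : D ≫ α = toUnit G ≫ η[A] := by
    rw [hD, MonObj.mul_comp, GrpObj.inv_comp, hα, _root_.mul_inv_cancel, Hom.one_def]
  obtain ⟨d, hd⟩ : ∃ d : G ⟶ N, d ≫ i = D :=
    ⟨IsPullback.lift hker D (toUnit G) hDα, IsPullback.lift_fst hker _ _ _⟩
  have hc := const_of_affine k G N hG η[G] d
  have hD1 : D = 1 := by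
    rw [← hd, hc, Category.assoc, Category.assoc, hd, hD, comp_mul, GrpObj.comp_inv, hf, hf',
      _root_.mul_inv_cancel, comp_one]
  rw [hD] at hD1
  exact mul_inv_eq_one.mp hD1

end Groth.Agent.H37.AntiAffConst
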