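import Mathlib
import Groth.Agent.H63.Rigid5
import Groth.Agent.S14578

set_option autoImplicit false
universe u
open CategoryTheory MonoidalCategory CartesianMonoidalCategory MonObj GrpObj AlgebraicGeometry

namespace Groth.Agent.H37.AntiAffFam

theorem main (k : Type u) [Field k] [IsAlgClosed k]
    (G H S : Over (Spec (CommRingCat.of k))) [GrpObj G] [Smooth G.hom] [QuasiCompact G.hom]
    (hG : Function.Bijective ((Scheme.ΓSpecIso (CommRingCat.of k)).inv ≫ G.hom.appTop).hom)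
    [GrpObj H] [Smooth H.hom] [QuasiCompact H.hom]
    [LocallyOfFiniteType S.hom] [ConnectedSpace ↥S.left]
    (f : G ⊗ S ⟶ H) :
    ∃ (φ : S ⟶ H) (ψ : G ⟶ H), IsMonHom ψ ∧ f = (snd G S ≫ φ) * (fst G S ≫ ψ) ∧
      ∀ (φ' : S ⟶ H) (ψ' : G ⟶ H), IsMonHom ψ' → f = (snd G S ≫ φ') * (fst G S ≫ ψ') →
        φ' = φ ∧ ψ' = ψ := by
  haveI : Subsingleton ↥(Spec (CommRingCat.of k)) :=
    inferInstanceAs (Subsingleton (PrimeSpectrum k))
  haveI : LocallyOfFiniteType G.hom := inferInstance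
  haveI : LocallyOfFiniteType H.hom := inferInstance
  haveI : QuasiSeparated G.hom := Groth.Agent.H40.GrpQC.quasiSeparated_of_grpObj G
  haveI : IsSeparated H.hom := Groth.Agent.S5331.result (Spec (CommRingCat.of k)) H
  haveI : IsLocallyNoetherian S.left := LocallyOfFiniteType.isLocallyNoetherian S.hom
  obtain ⟨s₀⟩ := Groth.Agent.H63.Rigid.nonempty_unit_hom S
  obtain ⟨sc, hsc⟩ : ∃ sc : S ⟶ G ⊗ S, sc = Groth.Agent.H63.Rigid.sec η[G] S := ⟨_, rfl⟩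
  obtain ⟨i₀, hi₀⟩ : ∃ i₀ : G ⟶ G ⊗ S, i₀ = lift (𝟙 G) (toUnit G ≫ s₀) := ⟨_, rfl⟩
  obtain ⟨φ, hφ⟩ : ∃ φ : S ⟶ H, φ = sc ≫ f := ⟨_, rfl⟩
  obtain ⟨ψ, hψ⟩ : ∃ ψ : G ⟶ H, ψ = (toUnit G ≫ s₀ ≫ φ)⁻¹ * (i₀ ≫ f) := ⟨_, rfl⟩
  obtain ⟨D, hD⟩ : ∃ D : G ⊗ S ⟶ H, D = ((snd G S ≫ φ)⁻¹ * f) * (fst G S ≫ ψ)⁻¹ := ⟨_, rfl⟩
  have sc_fst : sc ≫ fst G S = toUnit S ≫ η[G] := by rw [hsc]; exact lift_fst _ _
  have sc_snd : sc ≫ snd G S = 𝟙 S := by rw [hsc]; exact lift_snd _ _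
  have i_fst : i₀ ≫ fst G S = 𝟙 G := by rw [hi₀]; exact lift_fst _ _
  have i_snd : i₀ ≫ snd G S = toUnit G ≫ s₀ := by rw [hi₀]; exact lift_snd _ _
  have e_i : η[G] ≫ i₀ = s₀ ≫ sc := by
    apply CartesianMonoidalCategory.hom_ext
    · rw [Category.assoc, i_fst, Category.comp_id, Category.assoc, sc_fst, ← Category.assoc,
        toUnit_unique (s₀ ≫ toUnit S) (𝟙 _), Category.id_comp]
    · rw [Category.assoc, i_snd, Category.assoc, sc_snd, Category.comp_id, ← Category.assoc,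
        toUnit_unique (η[G] ≫ toUnit G) (𝟙 _), Category.id_comp]
  have hψ1 : η[G] ≫ ψ = 1 := by
    rw [hψ, comp_mul, GrpObj.comp_inv, ← Category.assoc η[G] i₀ f, e_i, Category.assoc, ← hφ,
      ← Category.assoc η[G] (toUnit G), toUnit_unique (η[G] ≫ toUnit G) (𝟙 _), Category.id_comp,
      _root_.inv_mul_cancel]
  have hψ1' : η[G] ≫ ψ = η[H] := by
    rw [hψ1, Hom.one_def, toUnit_unique (toUnit (𝟙_ _)) (𝟙 _), Category.id_comp]
  have hsecD : sc ≫ D = 1 := by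
    rw [hD, comp_mul, comp_mul, GrpObj.comp_inv, GrpObj.comp_inv,
      ← Category.assoc sc (snd G S) φ, sc_snd, Category.id_comp,
      ← Category.assoc sc (fst G S) ψ, sc_fst, Category.assoc, hψ1, comp_one, ← hφ,
      _root_.inv_mul_cancel, _root_.one_mul, inv_one]
  have wl : G ◁ s₀ = fst G (𝟙_ _) ≫ i₀ := by
    apply CartesianMonoidalCategory.hom_ext
    · rw [whiskerLeft_fst, Category.assoc, i_fst, Category.comp_id]
    · rw [whiskerLeft_snd, Category.assoc, i_snd, ← Category.assoc,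
        toUnit_unique (fst G (𝟙_ _) ≫ toUnit G) (snd G (𝟙_ _))]
  have hp : fst G (𝟙_ _) ≫ ψ = (snd G (𝟙_ _) ≫ s₀ ≫ φ)⁻¹ * ((G ◁ s₀) ≫ f) := by
    rw [hψ, comp_mul, GrpObj.comp_inv, ← Category.assoc (fst G (𝟙_ _)) (toUnit G),
      toUnit_unique (fst G (𝟙_ _) ≫ toUnit G) (snd G (𝟙_ _)),
      ← Category.assoc (fst G (𝟙_ _)) i₀ f, ← wl]
  have hwD : (G ◁ s₀) ≫ D = 1 := by
    rw [hD, comp_mul, comp_mul, GrpObj.comp_inv, GrpObj.comp_inv,
      whiskerLeft_snd_assoc, whiskerLeft_fst_assoc, hp, _root_.mul_inv_cancel]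
  have hgood : Groth.Agent.H63.Rigid.Good η[G] D s₀ := by
    unfold Groth.Agent.H63.Rigid.Good
    rw [hwD, ← hsc, hsecD, comp_one, comp_one]
  have key := Groth.Agent.H63.Rigid.rigidity η[G] D hG s₀ hgood
  rw [← hsc, hsecD, comp_one] at key
  have hfac : f = (snd G S ≫ φ) * (fst G S ≫ ψ) := by
    have h1 : f = (snd G S ≫ φ) * (((snd G S ≫ φ)⁻¹ * f) * (fst G S ≫ ψ)⁻¹) *
        (fst G S ≫ ψ) := by group
    rw [← hD, key, _root_.mul_one] at h1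
    exact h1
  have hmon : IsMonHom ψ := Groth.Agent.S14578.result k G H hG ψ hψ1'
  refine ⟨φ, ψ, hmon, hfac, ?_⟩
  intro φ' ψ' hψ' hf'
  have hφ' : φ' = φ := by
    have h1 : sc ≫ f = sc ≫ ((snd G S ≫ φ') * (fst G S ≫ ψ')) := congrArg (fun t => sc ≫ t) hf'
    rw [comp_mul, ← Category.assoc sc (snd G S) φ', sc_snd, Category.id_comp,
      ← Category.assoc sc (fst G S) ψ', sc_fst, Category.assoc, IsMonHom.one_hom,
      ← Hom.one_def, _root_.mul_one] at h1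
    rw [hφ]; exact h1.symm
  refine ⟨hφ', ?_⟩
  have h2 : i₀ ≫ f = i₀ ≫ ((snd G S ≫ φ') * (fst G S ≫ ψ')) := congrArg (fun t => i₀ ≫ t) hf'
  rw [comp_mul, ← Category.assoc i₀ (snd G S) φ', i_snd, ← Category.assoc i₀ (fst G S) ψ', i_fst,
    Category.id_comp, Category.assoc, hφ'] at h2
  rw [hψ, h2]
  group

end Groth.Agent.H37.AntiAffFam
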