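import Groth.Agent.H37.GrpdSurj
import Groth.Agent.H37.GrpObjGrpd
import Groth.Agent.H30.ShQuot2
import Mathlib

/-!
# The scheme theoretic image of a quasi-compact homomorphism of group schemes over a field
-/

set_option autoImplicit false
set_option linter.unusedSimpArgs false
universe u
open CategoryTheory MonoidalCategory CartesianMonoidalCategory MonObj AlgebraicGeometry
open Groth.Agent.H37

namespace Groth.Agent.H37.GrpImage

/-- closure properties of a factorisation `f = g ≫ i` of a quasi-compact homomorphism of group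
schemes over a field, `i` a closed immersion and `g` scheme theoretically dominant -/
theorem closed_under (k : Type u) [Field k]
    (H G K : Over (Spec (CommRingCat.of k))) [GrpObj H] [GrpObj G]
    (f : H ⟶ G) [IsMonHom f] [QuasiCompact f.left]
    (i : K ⟶ G) [IsClosedImmersion i.left] (g : H ⟶ K) (hgi : g ≫ i = f)
    [IsSchemeTheoreticallyDominant g.left] :
    ((∃ e : 𝟙_ (Over (Spec (CommRingCat.of k))) ⟶ K, e ≫ i = η[G]) ∧
      ∀ (T : Over (Spec (CommRingCat.of k))) (k₁ k₂ : T ⟶ K),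
        ∃ k₃ : T ⟶ K, k₃ ≫ i = (k₁ ≫ i)⁻¹ * (k₂ ≫ i)) ∧
    Surjective g.left := by
  have hq : g.left ≫ i.left = f.left := by rw [← Over.comp_left, hgi]
  haveI : QuasiCompact (g.left ≫ i.left) := hq ▸ ‹_›
  haveI : QuasiCompact g.left := QuasiCompact.of_comp g.left i.left
  haveI : IsIso (GrpObjGrpd.homOfMonHom f).fU := by
    show IsIso (𝟙 (Spec (CommRingCat.of k)))
    infer_instance
  haveI hcl : @IsClosedImmersion K.left (GrpObjGrpd.ofGrpObj G).R i.left :=
    ‹IsClosedImmersion i.left›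
  haveI hdom : @IsSchemeTheoreticallyDominant (GrpObjGrpd.ofGrpObj H).R K.left g.left :=
    ‹IsSchemeTheoreticallyDominant g.left›
  haveI hqc : @QuasiCompact (GrpObjGrpd.ofGrpObj H).R K.left g.left := ‹QuasiCompact g.left›
  obtain ⟨c', hc', e'', he'', i', hi''⟩ := SubGrpd.exists_sub_data_of_factor
    (GrpObjGrpd.homOfMonHom f) k (Iso.refl (Spec (CommRingCat.of k)))
    (i.left : K.left ⟶ (GrpObjGrpd.ofGrpObj G).R) (g.left : (GrpObjGrpd.ofGrpObj H).R ⟶ K.left) hq
  have hKhom : i.left ≫ G.hom = K.hom := Over.w i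
  haveI : Mono i.left := inferInstance
  obtain ⟨e', he⟩ : ∃ e' : Spec (CommRingCat.of k) ⟶ K.left, e' ≫ i.left = η[G].left :=
    ⟨e'', he''⟩
  have hi' : i' ≫ i.left = i.left ≫ ι[G].left := hi''
  have hιi : ι[G].left ≫ G.hom = G.hom := GrpObjGrpd.ι_hom G
  have hC : ∀ {T : Scheme.{u}} (α β : T ⟶ K.left)
      (h : α ≫ i.left ≫ G.hom = β ≫ i.left ≫ G.hom)
      (h2 : (α ≫ i.left) ≫ G.hom = (β ≫ i.left) ≫ G.hom),
      ∃ gam : T ⟶ K.left, gam ≫ i.left =
        Limits.pullback.lift (α ≫ i.left) (β ≫ i.left) h2 ≫ μ[G].left := fun α β h h2 =>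
    ⟨Limits.pullback.lift α β h ≫ c',
      (SubGrpd.key (GrpObjGrpd.ofGrpObj G) i.left c' hc' α β h).trans (GrpdCalc.mul_eq h2)⟩
  refine ⟨⟨⟨Over.homMk e' ?_, ?_⟩, ?_⟩, ?_⟩
  · show e' ≫ K.hom = 𝟙 _
    rw [← hKhom, ← Category.assoc, he]
    exact GrpObjGrpd.η_hom G
  · ext
    exact he
  · intro T k₁ k₂
    have hα : k₁.left ≫ i.left ≫ G.hom = T.hom := by rw [hKhom]; exact Over.w k₁
    have hβ : k₂.left ≫ i.left ≫ G.hom = T.hom := by rw [hKhom]; exact Over.w k₂
    have h1 : (k₁.left ≫ i') ≫ i.left = (k₁.left ≫ i.left) ≫ ι[G].left := by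
      rw [Category.assoc, hi', ← Category.assoc]
    have h : (k₁.left ≫ i') ≫ i.left ≫ G.hom = k₂.left ≫ i.left ≫ G.hom := by
      rw [← Category.assoc, h1, Category.assoc, hιi, Category.assoc, hα, hβ]
    have h2 : ((k₁.left ≫ i') ≫ i.left) ≫ G.hom = (k₂.left ≫ i.left) ≫ G.hom := by
      simpa only [Category.assoc] using h
    have h'' : ((k₁.left ≫ i.left) ≫ ι[G].left) ≫ G.hom = (k₂.left ≫ i.left) ≫ G.hom := by
      rw [← h1]; exact h2
    obtain ⟨gam, hgam⟩ := hC (k₁.left ≫ i') k₂.left h h2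
    have hAB : Limits.pullback.lift ((k₁.left ≫ i') ≫ i.left) (k₂.left ≫ i.left) h2 =
        Limits.pullback.lift ((k₁.left ≫ i.left) ≫ ι[G].left) (k₂.left ≫ i.left) h'' := by
      apply Limits.pullback.hom_ext
      · rw [Limits.pullback.lift_fst, Limits.pullback.lift_fst, h1]
      · rw [Limits.pullback.lift_snd, Limits.pullback.lift_snd]
    have hfin : ((k₁ ≫ i)⁻¹ * (k₂ ≫ i)).left =
        Limits.pullback.lift ((k₁.left ≫ i.left) ≫ ι[G].left) (k₂.left ≫ i.left) h'' ≫
          μ[G].left := rfl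
    have w : gam ≫ K.hom = T.hom := by
      rw [← hKhom, ← Category.assoc, hgam, hAB, ← hfin]
      exact Over.w _
    refine ⟨Over.homMk gam w, ?_⟩
    ext
    show gam ≫ i.left = _
    rw [hgam, hAB, hfin]
  · haveI : IsIso (SubGrpd.toSubHom (GrpObjGrpd.homOfMonHom f) i.left c' hc' e'' he'' i' hi''
        g.left hq).fU := by
      show IsIso (𝟙 (Spec (CommRingCat.of k)))
      infer_instance
    haveI : QuasiCompact (SubGrpd.toSubHom (GrpObjGrpd.homOfMonHom f) i.left c' hc' e'' he''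
        i' hi'' g.left hq).fR := by
      show QuasiCompact g.left
      infer_instance
    have := SubGrpd.surjective_of_denseRange
      (SubGrpd.toSubHom (GrpObjGrpd.homOfMonHom f) i.left c' hc' e'' he'' i' hi'' g.left hq) k
      (Iso.refl (Spec (CommRingCat.of k))) (by
        show DenseRange ⇑g.left
        exact g.left.denseRange)
    exact ⟨this⟩

/-- SGA3 VI_B 1.2: the scheme theoretic image of a quasi-compact homomorphism of group schemes over
a field is a closed subgroup scheme onto which the homomorphism is surjective -/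
theorem exists_image_grp (k : Type u) [Field k] (H G : Over (Spec (CommRingCat.of k))) [GrpObj H]
    [GrpObj G] (f : H ⟶ G) [IsMonHom f] [QuasiCompact f.left] :
    ∃ (H' : Over (Spec (CommRingCat.of k))) (_ : GrpObj H') (i : H' ⟶ G) (f' : H ⟶ H'),
      IsMonHom i ∧ IsMonHom f' ∧ f' ≫ i = f ∧ IsClosedImmersion i.left ∧
      f'.left.ker = ⊥ ∧ QuasiCompact f'.left ∧ Surjective f'.left := by
  obtain ⟨i, hi⟩ : ∃ i : Over.mk (f.left.imageι ≫ G.hom) ⟶ G, i.left = f.left.imageι :=
    ⟨Over.homMk f.left.imageι rfl, rfl⟩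
  obtain ⟨f', hf'⟩ : ∃ f' : H ⟶ Over.mk (f.left.imageι ≫ G.hom), f'.left = f.left.toImage :=
    ⟨Over.homMk f.left.toImage (by
      show f.left.toImage ≫ f.left.imageι ≫ G.hom = H.hom
      rw [← Category.assoc, f.left.toImage_imageι]; exact Over.w f), rfl⟩
  have hfi : f' ≫ i = f := by
    ext
    show f'.left ≫ i.left = f.left
    rw [hi, hf', f.left.toImage_imageι]
  haveI : IsClosedImmersion i.left := by rw [hi]; infer_instance
  haveI : IsSchemeTheoreticallyDominant f'.left := by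
    rw [hf']; exact ⟨SubGrpd.ker_toImage_eq_bot _⟩
  haveI : Mono i := by
    haveI : Mono i.left := inferInstance
    exact Over.mono_of_mono_left i
  obtain ⟨⟨⟨e, he⟩, hdiv⟩, hsurj⟩ := closed_under k H G _ f i f' hfi
  have hinv : ∀ {T : Over (Spec (CommRingCat.of k))}
      (x : T ⟶ Over.mk (f.left.imageι ≫ G.hom)), ∃ z : T ⟶ Over.mk (f.left.imageι ≫ G.hom),
        z ≫ i = (x ≫ i)⁻¹ := by
    intro T x
    obtain ⟨z, hz⟩ := hdiv T x (toUnit T ≫ e)
    refine ⟨z, ?_⟩
    rw [hz, Category.assoc, he, ← Hom.one_def, _root_.mul_one]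
  have hmul : ∀ {T : Over (Spec (CommRingCat.of k))}
      (x y : T ⟶ Over.mk (f.left.imageι ≫ G.hom)), ∃ z : T ⟶ Over.mk (f.left.imageι ≫ G.hom),
        z ≫ i = (x ≫ i) * (y ≫ i) := by
    intro T x y
    obtain ⟨x', hx'⟩ := hinv x
    obtain ⟨z, hz⟩ := hdiv T x' y
    exact ⟨z, by rw [hz, hx', _root_.inv_inv]⟩
  obtain ⟨str, hstr⟩ := Groth.Agent.H30.ShQuot.exists_grpObj_of_closed i hmul hinv ⟨e, he⟩
  letI := str
  haveI := hstr
  have hf'mon : IsMonHom f' := by
    refine ⟨?_, ?_⟩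
    · rw [← cancel_mono i, Category.assoc, hfi, IsMonHom.one_hom f, IsMonHom.one_hom i]
    · rw [← cancel_mono i, Category.assoc, hfi, Category.assoc, IsMonHom.mul_hom f,
        IsMonHom.mul_hom i, tensorHom_comp_tensorHom_assoc, hfi]
  refine ⟨_, str, i, f', hstr, hf'mon, hfi, inferInstance, ?_, ?_, hsurj⟩
  · rw [hf']; exact SubGrpd.ker_toImage_eq_bot _
  · rw [hf']; infer_instance

end Groth.Agent.H37.GrpImage
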