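import Mathlib
import Groth.Agent.H63.Rigid5
import Groth.Agent.S14578
import Groth.Agent.H37.GrpImage

set_option autoImplicit false
universe u
open CategoryTheory MonoidalCategory CartesianMonoidalCategory MonObj GrpObj AlgebraicGeometry

namespace Groth.Agent.H37.AntiAffImg

/-- anti-affineness passes to a schematically dominant quasi-compact image -/
theorem bijective_of_dominant (k : Type u) [Field k] (G I : Over (Spec (CommRingCat.of k)))
    (f' : G ⟶ I) [IsSchemeTheoreticallyDominant f'.left] [QuasiCompact f'.left]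
    (hG : Function.Bijective ((Scheme.ΓSpecIso (CommRingCat.of k)).inv ≫ G.hom.appTop).hom) :
    Function.Bijective ((Scheme.ΓSpecIso (CommRingCat.of k)).inv ≫ I.hom.appTop).hom := by
  have hinj : Function.Injective ⇑(f'.left.appTop).hom := f'.left.app_injective ⊤
  have e : (Scheme.ΓSpecIso (CommRingCat.of k)).inv ≫ G.hom.appTop =
      ((Scheme.ΓSpecIso (CommRingCat.of k)).inv ≫ I.hom.appTop) ≫ f'.left.appTop := by
    rw [Category.assoc, ← Scheme.Hom.comp_appTop, Over.w f']
  rw [e] at hG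
  have hcomp : ∀ x, (((Scheme.ΓSpecIso (CommRingCat.of k)).inv ≫ I.hom.appTop) ≫
      f'.left.appTop).hom x = (f'.left.appTop).hom
        (((Scheme.ΓSpecIso (CommRingCat.of k)).inv ≫ I.hom.appTop).hom x) := fun x => rfl
  constructor
  · intro a b hab
    apply hG.1
    rw [hcomp, hcomp, hab]
  · intro y
    obtain ⟨x, hx⟩ := hG.2 ((f'.left.appTop).hom y)
    rw [hcomp] at hx
    exact ⟨x, hinj hx⟩

theorem main (k : Type u) [Field k]
    (G H : Over (Spec (CommRingCat.of k))) [GrpObj G] [Smooth G.hom] [QuasiCompact G.hom]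
    (hG : Function.Bijective ((Scheme.ΓSpecIso (CommRingCat.of k)).inv ≫ G.hom.appTop).hom)
    [GrpObj H] [LocallyOfFiniteType H.hom] [QuasiCompact H.hom]
    (M : Over (Spec (CommRingCat.of k))) (j : M ⟶ H)
    (hMmax : ∀ (M₁ : Over (Spec (CommRingCat.of k))) [GrpObj M₁] [LocallyOfFiniteType M₁.hom]
      [QuasiCompact M₁.hom] (j₁ : M₁ ⟶ H) [IsMonHom j₁] [IsClosedImmersion j₁.left],
      Function.Bijective ((Scheme.ΓSpecIso (CommRingCat.of k)).inv ≫ M₁.hom.appTop).hom →
        ∃ g : M₁ ⟶ M, g ≫ j = j₁)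
    (f : G ⟶ H) (hf : η[G] ≫ f = η[H]) :
    ∃ g : G ⟶ M, g ≫ j = f := by
  haveI : LocallyOfFiniteType G.hom := inferInstance
  haveI : IsMonHom f := Groth.Agent.S14578.result k G H hG f hf
  haveI : QuasiCompact f.left := Groth.Agent.H40.GrpQC.quasiCompact_left f
  obtain ⟨I, hI, i, f', hi, hf', hfac, hcl, hker, hqc, hsurj⟩ :=
    Groth.Agent.H37.GrpImage.exists_image_grp k G H f
  letI := hI
  haveI := hi
  haveI := hcl
  haveI := hqc
  haveI : LocallyOfFiniteType I.hom := by rw [← Over.w i]; infer_instance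
  haveI : QuasiCompact I.hom := by rw [← Over.w i]; infer_instance
  haveI : IsSchemeTheoreticallyDominant f'.left := (isSchemeTheoreticallyDominant_iff _).mpr hker
  obtain ⟨g, hg⟩ := hMmax I i (bijective_of_dominant k G I f' hG)
  exact ⟨f' ≫ g, by rw [Category.assoc, hg, hfac]⟩

end Groth.Agent.H37.AntiAffImg
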