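import Groth.Agent.H37.BddFibLib2
import Mathlib

/-!
# Étale schemes over an algebraically closed field with finitely many points
-/

set_option autoImplicit false
universe u
open CategoryTheory CategoryTheory.Limits AlgebraicGeometry BddFib

namespace Groth.Agent.H37.BddFibLib

theorem locallyQuasiFinite_of_etale {X Y : Scheme.{u}} (f : X ⟶ Y) [Etale f] :
    LocallyQuasiFinite f := by
  refine ⟨fun {U} hU {V} hV e => ?_⟩
  have h : (f.appLE U V e).hom.Etale := f.etale_appLE hU hV e
  algebraize [(f.appLE U V e).hom]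
  show @Algebra.QuasiFinite _ _ _ _ (f.appLE U V e).hom.toAlgebra
  infer_instance

theorem finiteOfDegLE_of_etale_algClosed (Ω : Type u) [Field Ω] [IsAlgClosed Ω] {T : Scheme.{u}}
    (p : T ⟶ Spec (CommRingCat.of Ω)) [Etale p] [Finite T] (n : ℕ) (hn : Nat.card T ≤ n) :
    FiniteOfDegLE (CommRingCat.of Ω) p n := by
  haveI : LocallyQuasiFinite p := locallyQuasiFinite_of_etale p
  haveI : IsLocallyArtinian T := IsLocallyArtinian.of_locallyQuasiFinite p
  haveI : DiscreteTopology T := inferInstance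
  haveI : IsAffine T := inferInstance
  letI alg : Algebra (CommRingCat.of Ω) Γ(T, ⊤) := secAlgebra (CommRingCat.of Ω) p
  have hét : ((Scheme.ΓSpecIso (CommRingCat.of Ω)).inv ≫ p.appTop).hom.Etale := by
    have h1 : p.appTop.hom.Etale := HasRingHomProperty.appTop (P := @Etale) p inferInstance
    have h2 : (Scheme.ΓSpecIso (CommRingCat.of Ω)).inv.hom.Etale :=
      RingHom.Etale.of_bijective (ConcreteCategory.bijective_of_isIso _)
    exact RingHom.Etale.stableUnderComposition _ _ h2 h1
  haveI : Algebra.Etale (CommRingCat.of Ω) Γ(T, ⊤) := hét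
  haveI : Module.Finite (CommRingCat.of Ω) Γ(T, ⊤) :=
    Algebra.FormallyUnramified.finite_of_free _ _
  refine ⟨inferInstance, inferInstance, ?_⟩
  have e := Algebra.FormallyEtale.equivPiOfIsSepClosed (CommRingCat.of Ω) Γ(T, ⊤)
  haveI : Finite (PrimeSpectrum Γ(T, ⊤)) :=
    Finite.of_equiv T T.isoSpec.hom.homeomorph.toEquiv
  haveI : Fintype (PrimeSpectrum Γ(T, ⊤)) := Fintype.ofFinite _
  have hc : Nat.card (PrimeSpectrum Γ(T, ⊤)) = Nat.card T :=
    (Nat.card_congr T.isoSpec.hom.homeomorph.toEquiv).symm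
  show Module.finrank (CommRingCat.of Ω) Γ(T, ⊤) ≤ n
  rw [e.toLinearEquiv.finrank_eq, Module.finrank_fintype_fun_eq_card, ← Nat.card_eq_fintype_card,
    hc]
  exact hn

end Groth.Agent.H37.BddFibLib
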