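import Groth.Prelude.Def_W4stkschemesremainderFib
import Mathlib

/-!
# Degrees of fibres: base change along field extensions
-/

set_option autoImplicit false
universe u
open CategoryTheory CategoryTheory.Limits AlgebraicGeometry BddFib TensorProduct

namespace Groth.Agent.H37.BddFibLib

/-- Algebraic base change of "finite of rank ≤ n" along a pushout square over a field. -/
lemma alg_bc {R S T P : CommRingCat.{u}} {f : R ⟶ S} {g : R ⟶ T} {inl : S ⟶ P} {inr : T ⟶ P}
    (h : IsPushout f g inl inr) (hR : IsField R) [Nontrivial T] (n : ℕ)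
    (hfin : @Module.Finite R S _ _ f.hom.toAlgebra.toModule)
    (hrank : @Module.finrank R S _ _ f.hom.toAlgebra.toModule ≤ n) :
    @Module.Finite T P _ _ inr.hom.toAlgebra.toModule ∧
      @Module.finrank T P _ _ inr.hom.toAlgebra.toModule ≤ n := by
  algebraize [f.hom, g.hom, inl.hom, inr.hom, inl.hom.comp f.hom]
  have : IsScalarTower R T P := .of_algebraMap_eq' <| congr($(h.1.1).hom)
  have hpo : Algebra.IsPushout R S T P := CommRingCat.isPushout_iff_isPushout.mp h
  have hpo' : Algebra.IsPushout R T S P := Algebra.IsPushout.symm hpo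
  let e : T ⊗[R] S ≃ₐ[T] P := Algebra.IsPushout.equiv R T S P
  haveI : Module.Free R S := by
    letI := hR.toField
    exact Module.Free.of_divisionRing R S
  haveI : Module.Finite R S := hfin
  haveI : Nontrivial R := hR.nontrivial
  refine ⟨Module.Finite.equiv e.toLinearEquiv, ?_⟩
  rw [← LinearEquiv.finrank_eq e.toLinearEquiv, Module.finrank_baseChange]
  exact hrank

/-- Base change of `FiniteOfDegLE` along a field extension, for an arbitrary pullback square. -/
theorem finiteOfDegLE_of_isPullback {K L : CommRingCat.{u}} (hK : IsField K) [Nontrivial L]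
    (ψ : K ⟶ L) {T T' : Scheme.{u}} {p : T ⟶ Spec K} {p' : T' ⟶ Spec L} {a : T' ⟶ T}
    (h : IsPullback a p' p (Spec.map ψ)) (n : ℕ) (hp : FiniteOfDegLE K p n) :
    FiniteOfDegLE L p' n := by
  obtain ⟨hT, hfin, hrank⟩ := hp
  haveI := hT
  haveI : IsAffine T' := IsAffine.of_isPullback h
  have hpo := isPushout_appTop_of_isPullback h
  have hpo' : IsPushout ((Scheme.ΓSpecIso K).inv ≫ p.appTop) ψ a.appTop
      ((Scheme.ΓSpecIso L).inv ≫ p'.appTop) := by
    refine hpo.of_iso (Scheme.ΓSpecIso K) (Iso.refl _) (Scheme.ΓSpecIso L) (Iso.refl _) ?_ ?_ ?_ ?_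
    · simp
    · exact Scheme.ΓSpecIso_naturality ψ
    · simp
    · simp
  obtain ⟨h1, h2⟩ := alg_bc hpo' hK n hfin hrank
  exact ⟨inferInstance, h1, h2⟩

/-- The base change of `f` to a field-valued point is finite of degree `≤ n` when the fibres are. -/
theorem finiteOfDegLE_pullback_snd {X Y : Scheme.{u}} (f : X ⟶ Y) (n : ℕ) (hf : FibreDegLE f n)
    (k : Type u) [Field k] (g : Spec (CommRingCat.of k) ⟶ Y) :
    FiniteOfDegLE (CommRingCat.of k) (pullback.snd f g) n := by
  obtain ⟨y, hy⟩ : ∃ y : Y, y = g (IsLocalRing.closedPoint k) := ⟨_, rfl⟩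
  obtain ⟨ψ, hg⟩ : ∃ ψ : Y.residueField y ⟶ CommRingCat.of k,
      Spec.map ψ ≫ Y.fromSpecResidueField y = g := by
    subst hy
    exact ⟨Y.descResidueField (Scheme.stalkClosedPointTo g),
      Scheme.descResidueField_stalkClosedPointTo_fromSpecResidueField k Y g⟩
  let a : pullback f g ⟶ f.fiber y :=
    pullback.lift (pullback.fst f g) (pullback.snd f g ≫ Spec.map ψ)
      (by rw [Category.assoc, hg, pullback.condition])
  have ha1 : a ≫ f.fiberι y = pullback.fst f g := pullback.lift_fst _ _ _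
  have ha2 : a ≫ f.fiberToSpecResidueField y = pullback.snd f g ≫ Spec.map ψ :=
    pullback.lift_snd _ _ _
  have hsq : IsPullback a (pullback.snd f g) (f.fiberToSpecResidueField y) (Spec.map ψ) := by
    refine IsPullback.of_right (h₁₂ := f.fiberι y) (h₂₂ := Y.fromSpecResidueField y) (v₁₃ := f)
      ?_ ha2 (IsPullback.of_hasPullback f (Y.fromSpecResidueField y))
    rw [ha1, hg]
    exact IsPullback.of_hasPullback f g
  exact finiteOfDegLE_of_isPullback (Field.toIsField _) ψ hsq n (hf y)

/-- Base change of a bound on fibre degrees. -/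
theorem fibreDegLE_of_isPullback {X Y X' Y' : Scheme.{u}} (f : X ⟶ Y) (g : Y' ⟶ Y)
    (f' : X' ⟶ Y') (g' : X' ⟶ X) (h : IsPullback g' f' f g) (n : ℕ) (hf : FibreDegLE f n) :
    FibreDegLE f' n := by
  intro y'
  exact finiteOfDegLE_of_isPullback (Field.toIsField _) (g.residueFieldMap y')
    (isPullback_fiberToSpecResidueField_of_isPullback h y') n (hf (g y'))

lemma card_maximalSpectrum_le (k B : Type*) [Field k] [CommRing B] [Algebra k B]
    [Module.Finite k B] [Fintype (MaximalSpectrum B)] :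
    Fintype.card (MaximalSpectrum B) ≤ Module.finrank k B := by
  have hsurj := Ideal.pi_mkQ_surjective (R := B) (I := fun m : MaximalSpectrum B => m.asIdeal)
    (fun m m' h => MaximalSpectrum.isCoprime_of_ne h)
  let φ : B →ₗ[k] (∀ m : MaximalSpectrum B, B ⧸ m.asIdeal) :=
    (LinearMap.pi fun m : MaximalSpectrum B => (m.asIdeal).mkQ).restrictScalars k
  have h1 : Module.finrank k (∀ m : MaximalSpectrum B, B ⧸ m.asIdeal) ≤ Module.finrank k B :=
    LinearMap.finrank_le_finrank_of_surjective (f := φ) hsurj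
  rw [Module.finrank_pi_fintype] at h1
  have h2 : ∀ m : MaximalSpectrum B, 1 ≤ Module.finrank k (B ⧸ m.asIdeal) := by
    intro m
    haveI : Nontrivial (B ⧸ m.asIdeal) := Ideal.Quotient.nontrivial_iff.mpr m.isMaximal.ne_top
    exact Module.finrank_pos
  calc Fintype.card (MaximalSpectrum B) = ∑ _m : MaximalSpectrum B, 1 := by simp
    _ ≤ ∑ m : MaximalSpectrum B, Module.finrank k (B ⧸ m.asIdeal) :=
        Finset.sum_le_sum (fun m _ => h2 m)
    _ ≤ _ := h1

theorem card_le_of_finiteOfDegLE {k : Type u} [Field k] {T : Scheme.{u}}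
    (p : T ⟶ Spec (CommRingCat.of k)) (n : ℕ) (hp : FiniteOfDegLE (CommRingCat.of k) p n) :
    Finite ↥T ∧ Nat.card ↥T ≤ n := by
  obtain ⟨hT, hfin, hrank⟩ := hp
  haveI := hT
  letI : Algebra k Γ(T, ⊤) := secAlgebra (CommRingCat.of k) p
  haveI : Module.Finite k Γ(T, ⊤) := hfin
  haveI : IsArtinianRing Γ(T, ⊤) := IsArtinianRing.of_finite k _
  let e : ↥T ≃ₜ PrimeSpectrum Γ(T, ⊤) := T.isoSpec.hom.homeomorph
  haveI : Finite (PrimeSpectrum Γ(T, ⊤)) := inferInstance
  haveI : Fintype (MaximalSpectrum Γ(T, ⊤)) := Fintype.ofFinite _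
  refine ⟨Finite.of_equiv _ e.symm.toEquiv, ?_⟩
  rw [Nat.card_congr e.toEquiv, Nat.card_congr IsArtinianRing.primeSpectrumEquivMaximalSpectrum,
    Nat.card_eq_fintype_card]
  exact (card_maximalSpectrum_le k Γ(T, ⊤)).trans hrank

end Groth.Agent.H37.BddFibLib
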