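import Groth.Agent.H37.BddFibLib
import Mathlib

/-!
# Degrees of fibres: descent along field extensions and flat surjective morphisms
-/

set_option autoImplicit false
universe u
open CategoryTheory CategoryTheory.Limits AlgebraicGeometry BddFib TensorProduct

namespace Groth.Agent.H37.BddFibLib

/-- Algebraic descent of "finite of rank ≤ n" along a pushout square over a field. -/
lemma alg_desc {R S T P : CommRingCat.{u}} {f : R ⟶ S} {g : R ⟶ T} {inl : S ⟶ P} {inr : T ⟶ P}
    (h : IsPushout f g inl inr) (hR : IsField R) [Nontrivial T] (n : ℕ)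
    (hfin : @Module.Finite T P _ _ inr.hom.toAlgebra.toModule)
    (hrank : @Module.finrank T P _ _ inr.hom.toAlgebra.toModule ≤ n) :
    @Module.Finite R S _ _ f.hom.toAlgebra.toModule ∧
      @Module.finrank R S _ _ f.hom.toAlgebra.toModule ≤ n := by
  algebraize [f.hom, g.hom, inl.hom, inr.hom, inl.hom.comp f.hom]
  have : IsScalarTower R T P := .of_algebraMap_eq' <| congr($(h.1.1).hom)
  have hpo : Algebra.IsPushout R S T P := CommRingCat.isPushout_iff_isPushout.mp h
  have hpo' : Algebra.IsPushout R T S P := Algebra.IsPushout.symm hpo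
  let e : T ⊗[R] S ≃ₐ[T] P := Algebra.IsPushout.equiv R T S P
  haveI : Module.Free R S := by
    letI := hR.toField
    exact Module.Free.of_divisionRing R S
  haveI : Nontrivial R := hR.nontrivial
  haveI : Module.Finite T P := hfin
  haveI : Module.Finite T (T ⊗[R] S) := Module.Finite.equiv e.symm.toLinearEquiv
  have hr : Module.rank T (T ⊗[R] S) = Cardinal.lift.{u} (Module.rank R S) :=
    Module.rank_baseChange
  have hfinS : Module.Finite R S := by
    rw [← Module.rank_lt_aleph0_iff]
    have h1 : Module.rank T (T ⊗[R] S) < Cardinal.aleph0 := Module.rank_lt_aleph0 T _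
    rw [hr] at h1
    simpa using h1
  refine ⟨hfinS, ?_⟩
  rw [← Module.finrank_baseChange (R := T) (S := R) (M' := S),
    LinearEquiv.finrank_eq e.toLinearEquiv]
  exact hrank

/-- A scheme finite over a field is a finite discrete space. -/
theorem finite_discrete_of_finiteOfDegLE {K : CommRingCat.{u}} (hK : IsField K) {T : Scheme.{u}}
    (p : T ⟶ Spec K) (n : ℕ) (hp : FiniteOfDegLE K p n) : Finite ↥T ∧ DiscreteTopology ↥T := by
  obtain ⟨hT, hfin, hrank⟩ := hp
  haveI := hT
  letI : Algebra K Γ(T, ⊤) := secAlgebra K p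
  haveI : Module.Finite K Γ(T, ⊤) := hfin
  haveI : IsArtinianRing K := by
    letI := hK.toField
    exact (inferInstance : IsArtinianRing K)
  haveI : IsArtinianRing Γ(T, ⊤) := IsArtinianRing.of_finite K _
  let e : ↥T ≃ₜ PrimeSpectrum Γ(T, ⊤) := T.isoSpec.hom.homeomorph
  haveI : Finite (PrimeSpectrum Γ(T, ⊤)) := inferInstance
  haveI : DiscreteTopology (PrimeSpectrum Γ(T, ⊤)) := inferInstance
  exact ⟨Finite.of_equiv _ e.symm.toEquiv, e.symm.discreteTopology⟩

/-- The target of a flat surjective morphism from a finite discrete scheme is finite discrete. -/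
theorem finite_discrete_of_flat_surjective {X' Y' : Scheme.{u}} (q : X' ⟶ Y') [Flat q]
    [Surjective q] [Finite X'] [DiscreteTopology X'] : Finite ↥Y' ∧ DiscreteTopology ↥Y' := by
  have hfin : Finite ↥Y' := Finite.of_surjective q q.surjective
  haveI : T1Space ↥Y' := by
    rw [t1Space_iff_specializes_imp_eq]
    intro y1 y2 h12
    obtain ⟨x2, rfl⟩ := q.surjective y2
    obtain ⟨x1, hx, rfl⟩ := Flat.generalizingMap q h12
    rw [hx.eq]
  exact ⟨hfin, inferInstance⟩

/-- Descent of `FiniteOfDegLE` along a field extension. -/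
theorem finiteOfDegLE_desc {K L : CommRingCat.{u}} (hK : IsField K) (hL : IsField L)
    (ψ : K ⟶ L) {T T' : Scheme.{u}} {p : T ⟶ Spec K} {p' : T' ⟶ Spec L} {a : T' ⟶ T}
    (h : IsPullback a p' p (Spec.map ψ)) (n : ℕ) (hp' : FiniteOfDegLE L p' n) :
    FiniteOfDegLE K p n := by
  haveI : Nontrivial L := hL.nontrivial
  obtain ⟨hfT', hdT'⟩ := finite_discrete_of_finiteOfDegLE hL p' n hp'
  obtain ⟨hT', hfin, hrank⟩ := hp'
  haveI := hT'
  have hflat : Flat (Spec.map ψ) := by
    rw [Flat.SpecMap_iff]
    show @Module.Flat K L _ _ ψ.hom.toAlgebra.toModule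
    letI := hK.toField
    letI : Algebra K L := ψ.hom.toAlgebra
    exact (inferInstance : Module.Flat K L)
  have hsurj : Surjective (Spec.map ψ) := by
    haveI : Subsingleton (PrimeSpectrum K) := by
      letI := hK.toField
      exact (inferInstance : Subsingleton (PrimeSpectrum K))
    haveI : Nonempty (PrimeSpectrum L) := inferInstance
    exact ⟨fun x => ⟨Classical.arbitrary (PrimeSpectrum L), Subsingleton.elim (α := PrimeSpectrum K) _ _⟩⟩
  haveI : Flat a := MorphismProperty.of_isPullback (P := @Flat) h.flip hflat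
  haveI : Surjective a := MorphismProperty.of_isPullback (P := @Surjective) h.flip hsurj
  obtain ⟨hfT, hdT⟩ := finite_discrete_of_flat_surjective a
  haveI : IsAffine T := inferInstance
  have hpo := isPushout_appTop_of_isPullback h
  have hpo' : IsPushout ((Scheme.ΓSpecIso K).inv ≫ p.appTop) ψ a.appTop
      ((Scheme.ΓSpecIso L).inv ≫ p'.appTop) := by
    refine hpo.of_iso (Scheme.ΓSpecIso K) (Iso.refl _) (Scheme.ΓSpecIso L) (Iso.refl _) ?_ ?_ ?_ ?_
    · simp
    · exact Scheme.ΓSpecIso_naturality ψ
    · simp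
    · simp
  obtain ⟨h1, h2⟩ := alg_desc hpo' hK n hfin hrank
  exact ⟨inferInstance, h1, h2⟩

/-- If `q ≫ p` is finite of degree `≤ n` over a field and `q` is injective on global sections,
then so is `p` (for affine source). -/
theorem finiteOfDegLE_of_comp_injective {K : CommRingCat.{u}} {T T' : Scheme.{u}}
    (p : T ⟶ Spec K) (q : T' ⟶ T) [IsAffine T] (hK : IsField K)
    (hinj : Function.Injective q.appTop.hom) (n : ℕ) (h : FiniteOfDegLE K (q ≫ p) n) :
    FiniteOfDegLE K p n := by
  obtain ⟨hT', hfin, hrank⟩ := h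
  letI a1 : Algebra K Γ(T, ⊤) := secAlgebra K p
  letI a2 : Algebra K Γ(T', ⊤) := secAlgebra K (q ≫ p)
  haveI : Module.Finite K Γ(T', ⊤) := hfin
  haveI : Nontrivial K := hK.nontrivial
  have hcomm : ∀ c : K, q.appTop.hom (algebraMap K Γ(T, ⊤) c) = algebraMap K Γ(T', ⊤) c := by
    intro c
    show q.appTop.hom (((Scheme.ΓSpecIso K).inv ≫ p.appTop).hom c) =
      ((Scheme.ΓSpecIso K).inv ≫ (q ≫ p).appTop).hom c
    rw [Scheme.Hom.comp_appTop]
    rfl
  let φ : Γ(T, ⊤) →ₗ[K] Γ(T', ⊤) :=
    { toFun := q.appTop.hom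
      map_add' := map_add _
      map_smul' := fun c y => by
        simp only [Algebra.smul_def, RingHom.id_apply, map_mul, hcomm] }
  have hφ : Function.Injective φ := hinj
  haveI : IsNoetherianRing K := by
    letI := hK.toField
    exact (inferInstance : IsNoetherianRing K)
  haveI : IsNoetherian K Γ(T', ⊤) := isNoetherian_of_isNoetherianRing_of_finite K _
  refine ⟨inferInstance, Module.Finite.of_injective φ hφ, ?_⟩
  exact (LinearMap.finrank_le_finrank_of_injective hφ).trans hrank

/-- Descent of a bound on fibre degrees along a surjective base change. -/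
theorem fibreDegLE_of_isPullback_surjective {X Y X' Y' : Scheme.{u}} (f : X ⟶ Y) (g : Y' ⟶ Y)
    [Surjective g] (f' : X' ⟶ Y') (g' : X' ⟶ X) (h : IsPullback g' f' f g) (n : ℕ)
    (hf' : FibreDegLE f' n) : FibreDegLE f n := by
  intro y
  obtain ⟨y', rfl⟩ := g.surjective y
  exact finiteOfDegLE_desc (Field.toIsField _) (Field.toIsField _) (g.residueFieldMap y')
    (isPullback_fiberToSpecResidueField_of_isPullback h y') n (hf' y')

/-- A bound on the fibre degrees of `f ≫ h` with `f` flat surjective bounds those of `h`. -/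
theorem fibreDegLE_of_comp_flat_surjective {X Y Z : Scheme.{u}} (f : X ⟶ Y) (h : Y ⟶ Z)
    [Flat f] [Surjective f] (n : ℕ) (hg : FibreDegLE (f ≫ h) n) : FibreDegLE h n := by
  intro z
  let q : (f ≫ h).fiber z ⟶ h.fiber z :=
    pullback.lift ((f ≫ h).fiberι z ≫ f) ((f ≫ h).fiberToSpecResidueField z)
      (by rw [Category.assoc]; exact (f ≫ h).fiber_fac z)
  have hq1 : q ≫ h.fiberι z = (f ≫ h).fiberι z ≫ f := pullback.lift_fst _ _ _
  have hq2 : q ≫ h.fiberToSpecResidueField z = (f ≫ h).fiberToSpecResidueField z :=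
    pullback.lift_snd _ _ _
  have hsq : IsPullback ((f ≫ h).fiberι z) q f (h.fiberι z) := by
    refine IsPullback.of_bot (v₂₁ := h.fiberToSpecResidueField z) (v₂₂ := h)
      (h₃₁ := Z.fromSpecResidueField z) ?_ hq1.symm
      (IsPullback.of_hasPullback h (Z.fromSpecResidueField z))
    rw [hq2]
    exact IsPullback.of_hasPullback (f ≫ h) (Z.fromSpecResidueField z)
  haveI : Flat q := MorphismProperty.of_isPullback (P := @Flat) hsq inferInstance
  haveI : Surjective q := MorphismProperty.of_isPullback (P := @Surjective) hsq inferInstance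
  have hX := hg z
  obtain ⟨hfX, hdX⟩ := finite_discrete_of_finiteOfDegLE (Field.toIsField _) _ n hX
  haveI := hfX
  haveI := hdX
  obtain ⟨hfY, hdY⟩ := finite_discrete_of_flat_surjective q
  haveI := hfY
  haveI := hdY
  haveI : IsAffine (h.fiber z) := inferInstance
  haveI : IsAffine ((f ≫ h).fiber z) := hX.1
  have hinj : Function.Injective q.appTop.hom :=
    ((Flat.flat_and_surjective_iff_faithfullyFlat_of_isAffine q).mp
      ⟨inferInstance, inferInstance⟩).injective
  rw [← hq2] at hX
  exact finiteOfDegLE_of_comp_injective (h.fiberToSpecResidueField z) q (Field.toIsField _)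
    hinj n hX

end Groth.Agent.H37.BddFibLib
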