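import Groth.Agent.H37.BddFibLib2

set_option autoImplicit false
universe u
open CategoryTheory AlgebraicGeometry Limits
open BddFib

namespace Groth.Agent.H37.BddFibLib

/-- A finite flat morphism to the spectrum of a field, of rank `d`, is finite of degree `≤ d`
(in fact `= d`). -/
theorem finrank_eq_of_finrank {K : CommRingCat.{u}} (hK : IsField K) {T : Scheme.{u}}
    (p : T ⟶ Spec K) [IsFinite p] [Flat p] (d : ℕ) (x : Spec K) (h : p.finrank x = d) :
    letI : Algebra K Γ(T, ⊤) := secAlgebra K p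
    IsAffine T ∧ Module.Finite K Γ(T, ⊤) ∧ Module.finrank K Γ(T, ⊤) = d := by
  haveI hT : IsAffine T := isAffine_of_isAffineHom p
  obtain ⟨φ, hφ⟩ : ∃ φ : K ⟶ Γ(T, ⊤), φ = (Scheme.ΓSpecIso K).inv ≫ p.appTop := ⟨_, rfl⟩
  have e : p = T.isoSpec.hom ≫ Spec.map φ := by
    have h1 := Scheme.isoSpec_hom_naturality p
    rw [Scheme.isoSpec_Spec_hom] at h1
    rw [hφ, Spec.map_comp, ← Category.assoc, h1, Category.assoc, ← Spec.map_comp,
      Iso.inv_hom_id, Spec.map_id, Category.comp_id]
  have e' : Spec.map φ = T.isoSpec.inv ≫ p := by rw [e, Iso.inv_hom_id_assoc]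
  haveI : IsFinite (Spec.map φ) := by rw [e']; infer_instance
  haveI : Flat (Spec.map φ) := by rw [e']; infer_instance
  have hφfin : φ.hom.Finite := (IsFinite.SpecMap_iff φ).1 inferInstance
  have hφflat : φ.hom.Flat := Flat.SpecMap_iff.1 inferInstance
  have hr : φ.hom.finrank x = d := by
    rw [← Scheme.Hom.finrank_SpecMap_eq_finrank hφfin hφflat, ← h]
    conv_rhs => rw [e]
    rw [Scheme.Hom.finrank_comp_left_of_isIso]
  subst hφ
  refine ⟨hT, hφfin, ?_⟩
  letI : Algebra K Γ(T, ⊤) := secAlgebra K p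
  haveI : Module.Free K Γ(T, ⊤) := by
    letI := hK.toField
    exact Module.Free.of_divisionRing K Γ(T, ⊤)
  have h2 := congrFun (Module.rankAtStalk_eq_finrank_of_free (R := K) (M := Γ(T, ⊤))) x
  rw [← hr]
  exact h2.symm

theorem finiteOfDegLE_of_finrank {K : CommRingCat.{u}} (hK : IsField K) {T : Scheme.{u}}
    (p : T ⟶ Spec K) [IsFinite p] [Flat p] (d : ℕ) (x : Spec K) (h : p.finrank x = d) :
    FiniteOfDegLE K p d := by
  obtain ⟨h1, h2, h3⟩ := finrank_eq_of_finrank hK p d x h
  exact ⟨h1, h2, h3.le⟩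

/-- The degree of a fibre of a finite flat morphism is its rank. -/
theorem fibre_finrank_eq {X Y : Scheme.{u}} (f : X ⟶ Y) [IsFinite f] [Flat f] (y : Y) :
    letI : Algebra (Y.residueField y) Γ(f.fiber y, ⊤) :=
      secAlgebra (Y.residueField y) (f.fiberToSpecResidueField y)
    IsAffine (f.fiber y) ∧ Module.Finite (Y.residueField y) Γ(f.fiber y, ⊤) ∧
      Module.finrank (Y.residueField y) Γ(f.fiber y, ⊤) = f.finrank y := by
  have hp : f.fiberToSpecResidueField y = pullback.snd f (Y.fromSpecResidueField y) := rfl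
  have : IsFinite (f.fiberToSpecResidueField y) := by
    rw [hp]; exact MorphismProperty.pullback_snd _ _ inferInstance
  have : Flat (f.fiberToSpecResidueField y) := by
    rw [hp]; exact MorphismProperty.pullback_snd _ _ inferInstance
  refine finrank_eq_of_finrank (Field.toIsField _) (f.fiberToSpecResidueField y) _
    (IsLocalRing.closedPoint (Y.residueField y)) ?_
  have h1 := Scheme.Hom.finrank_pullback_snd f (Y.fromSpecResidueField y)
    (IsLocalRing.closedPoint (Y.residueField y))
  rw [Scheme.fromSpecResidueField_apply] at h1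
  exact h1

end Groth.Agent.H37.BddFibLib
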