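import Groth.Agent.H37.NumType

/-!
More helper lemmas on numerical types: embeddings from distinct indices, classification of edges
between `(-2)`-indices.
-/

set_option autoImplicit false

namespace Groth.Agent.H37

open Finset Models

variable {n : ℕ} (T : Models.NumericalType n)

/-- The embedding `Fin 2 ↪ Fin n` with values `i ≠ j`. -/
def emb2 (i j : Fin n) (hij : i ≠ j) : Fin 2 ↪ Fin n :=
  ⟨![i, j], by
    intro p q h
    fin_cases p <;> fin_cases q <;> simp_all⟩

@[simp] theorem emb2_zero (i j : Fin n) (hij : i ≠ j) : emb2 i j hij 0 = i := rfl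
@[simp] theorem emb2_one (i j : Fin n) (hij : i ≠ j) : emb2 i j hij 1 = j := rfl

/-- The embedding `Fin 3 ↪ Fin n` with pairwise distinct values `i, j, k`. -/
def emb3 (i j k : Fin n) (hij : i ≠ j) (hik : i ≠ k) (hjk : j ≠ k) : Fin 3 ↪ Fin n :=
  ⟨![i, j, k], by
    intro p q h
    fin_cases p <;> fin_cases q <;> simp_all [eq_comm]⟩

@[simp] theorem emb3_zero (i j k : Fin n) (hij : i ≠ j) (hik : i ≠ k) (hjk : j ≠ k) :
    emb3 i j k hij hik hjk 0 = i := rfl
@[simp] theorem emb3_one (i j k : Fin n) (hij : i ≠ j) (hik : i ≠ k) (hjk : j ≠ k) :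
    emb3 i j k hij hik hjk 1 = j := rfl
@[simp] theorem emb3_two (i j k : Fin n) (hij : i ≠ j) (hik : i ≠ k) (hjk : j ≠ k) :
    emb3 i j k hij hik hjk 2 = k := rfl

/-- Negative definiteness on a pair of `(-2)`-indices. -/
theorem pair_neg (hn : 2 < n) (i j : Fin n) (hij : i ≠ j) (hi : T.IsMinusTwo i) (hj : T.IsMinusTwo j)
    (x y : ℤ) (hxy : x ≠ 0 ∨ y ≠ 0) :
    -2 * T.w i * (x * x) + 2 * T.a i j * (x * y) - 2 * T.w j * (y * y) < 0 := by
  have h := qform_sub_neg T (emb2 i j hij) hn ![x, y]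
    (by rcases hxy with h | h
        · exact ⟨0, by simpa using h⟩
        · exact ⟨1, by simpa using h⟩)
  simp [Fin.sum_univ_succ] at h
  rw [hi.2, hj.2, a_symm T j i] at h
  linarith

/-- Classification of edges between `(-2)`-indices when there are more than two indices. -/
theorem edge_types (hn : 2 < n) (i j : Fin n) (hij : i ≠ j) (hi : T.IsMinusTwo i)
    (hj : T.IsMinusTwo j) (h : T.a i j ≠ 0) :
    (T.w j = T.w i ∧ T.a i j = T.w i) ∨ (T.w j = 2 * T.w i ∧ T.a i j = 2 * T.w i) ∨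
      (T.w i = 2 * T.w j ∧ T.a i j = 2 * T.w j) ∨ (T.w j = 3 * T.w i ∧ T.a i j = 3 * T.w i) ∨
      (T.w i = 3 * T.w j ∧ T.a i j = 3 * T.w j) := by
  have hApos : 0 < T.a i j := lt_of_le_of_ne (T.offDiag_nonneg i j hij) (Ne.symm h)
  have hwi := T.w_pos i
  have hwj := T.w_pos j
  obtain ⟨p, hp⟩ := T.w_dvd i j
  obtain ⟨q, hq⟩ := w_dvd' T i j
  have hQ := pair_neg T hn i j hij hi hj p 2 (Or.inr (by norm_num))
  have hppos : 0 < p := by
    by_contra hcon
    push Not at hcon
    have := mul_nonpos_of_nonneg_of_nonpos hwi.le hcon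
    omega
  have hqpos : 0 < q := by
    by_contra hcon
    push Not at hcon
    have := mul_nonpos_of_nonneg_of_nonpos hwj.le hcon
    omega
  -- Q(p, 2) = 2 w_j (p q - 4)
  have h1 : T.w i * (p * p) = T.a i j * p := by rw [hp]; ring
  have h2 : 2 * T.w j * (p * q - 4) < 0 := by
    have : 2 * T.w j * (p * q - 4) = -2 * T.w i * (p * p) + 2 * T.a i j * (p * 2) - 2 * T.w j * (2 * 2) := by
      have h3 : T.a i j * p = T.w j * q * p := by rw [← hq]
      linear_combination (2 : ℤ) * h1 - 2 * h3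
    rw [this]; exact hQ
  have h3 : p * q - 4 < 0 := by
    by_contra hcon
    push Not at hcon
    have := mul_nonneg (by linarith : (0 : ℤ) ≤ 2 * T.w j) hcon
    omega
  have hp3 : p ≤ 3 := by nlinarith
  have hq3 : q ≤ 3 := by nlinarith
  have hwij : T.w i * p = T.w j * q := by rw [← hp, ← hq]
  interval_cases p <;> interval_cases q <;> simp at h3 hwij hp hq <;> omega

end Groth.Agent.H37
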