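import Groth.Agent.H37.NumType
import Groth.Agent.H37.FiveCore

/-!
Tools for chains of `(-2)`-indices of arbitrary length in a numerical type:
`no_rows_nonneg`, `no_cycle`, `path_chords`, `path_normal_form`.
-/

set_option autoImplicit false

namespace Groth.Agent.H37

open Finset Models

variable {n : ℕ} (T : Models.NumericalType n)

/-- A proper subfamily carries no nonzero nonnegative vector all of whose (partial) rows are
nonnegative. -/
theorem no_rows_nonneg {k : ℕ} (v : Fin k ↪ Fin n) (hk : k < n) (y : Fin k → ℤ)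
    (hy0 : ∀ p, 0 ≤ y p) (hy : ∃ p, y p ≠ 0)
    (hrow : ∀ p, ∃ s : Finset (Fin k), p ∉ s ∧
      0 ≤ T.a (v p) (v p) * y p + ∑ q ∈ s, T.a (v p) (v q) * y q) : False := by
  classical
  have hQ := qform_sub_neg T v hk y hy
  have hnn : 0 ≤ ∑ p, ∑ q, T.a (v p) (v q) * y p * y q := by
    apply Finset.sum_nonneg
    intro p _
    obtain ⟨s, hps, hs⟩ := hrow p
    have h1 : ∑ q, T.a (v p) (v q) * y q =
        T.a (v p) (v p) * y p + ∑ q ∈ Finset.univ.erase p, T.a (v p) (v q) * y q :=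
      (Finset.add_sum_erase Finset.univ (fun q => T.a (v p) (v q) * y q) (Finset.mem_univ p)).symm
    have h2 : ∑ q ∈ s, T.a (v p) (v q) * y q ≤
        ∑ q ∈ Finset.univ.erase p, T.a (v p) (v q) * y q := by
      apply Finset.sum_le_sum_of_subset_of_nonneg
      · intro q hq
        exact Finset.mem_erase.2 ⟨fun h => hps (h ▸ hq), Finset.mem_univ _⟩
      · intro q hq _
        have hne : v p ≠ v q := fun h => (Finset.mem_erase.1 hq).1 (v.injective h).symm
        exact mul_nonneg (T.offDiag_nonneg _ _ hne) (hy0 q)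
    have h3 : ∑ q, T.a (v p) (v q) * y p * y q = y p * ∑ q, T.a (v p) (v q) * y q := by
      rw [Finset.mul_sum]
      apply Finset.sum_congr rfl
      intro q _
      ring
    rw [h3]
    apply mul_nonneg (hy0 p)
    rw [h1]
    linarith
  linarith

/-- There is no cycle of `(-2)`-indices forming a proper subfamily. -/
theorem no_cycle (r : ℕ) (hr : 3 ≤ r) (hrn : r < n) (c : ℕ → Fin n)
    (hinj : ∀ a b, a < r → b < r → c a = c b → a = b)
    (hm2 : ∀ i, i < r → T.IsMinusTwo (c i))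
    (hedge : ∀ i, i + 1 < r → T.a (c i) (c (i + 1)) ≠ 0)
    (hclose : T.a (c (r - 1)) (c 0) ≠ 0) : False := by
  classical
  obtain ⟨v, hv⟩ : ∃ v : Fin r ↪ Fin n, ∀ p, v p = c p.val :=
    ⟨⟨fun p => c p.val, fun a b h => Fin.ext (hinj _ _ a.2 b.2 h)⟩, fun _ => rfl⟩
  obtain ⟨adj, hadjdef⟩ : ∃ adj : Fin r → Fin r → Prop, ∀ p q, adj p q ↔
      (q.val = p.val + 1 ∨ p.val = q.val + 1 ∨ (p.val = 0 ∧ q.val = r - 1) ∨
        (p.val = r - 1 ∧ q.val = 0)) := ⟨_, fun _ _ => Iff.rfl⟩
  refine no_superharmonic T v hrn (fun p => by rw [hv]; exact hm2 _ p.2) adj ?_ (fun _ => 1)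
    (fun _ => by norm_num) ⟨⟨0, by omega⟩, by norm_num⟩ ?_
  · intro p q hpq
    rw [hadjdef] at hpq
    have hp := p.2
    have hq := q.2
    refine ⟨?_, ?_⟩
    · intro h
      subst h
      omega
    · rw [hv, hv]
      rcases hpq with h | h | ⟨h1, h2⟩ | ⟨h1, h2⟩
      · rw [h]
        exact hedge _ (by omega)
      · rw [h, a_symm T]
        exact hedge _ (by omega)
      · rw [h1, h2, a_symm T]
        exact hclose
      · rw [h1, h2]
        exact hclose
  · intro p
    have hp := p.2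
    have key : ∃ q1 q2 : Fin r, q1 ≠ q2 ∧ adj p q1 ∧ adj p q2 := by
      rcases (by omega : p.val = 0 ∨ p.val + 1 = r ∨ (0 < p.val ∧ p.val + 1 < r)) with h | h | h
      · refine ⟨⟨1, by omega⟩, ⟨r - 1, by omega⟩, ?_, ?_, ?_⟩
        · intro e
          simp only [Fin.mk.injEq] at e
          omega
        · rw [hadjdef]
          dsimp only
          omega
        · rw [hadjdef]
          dsimp only
          omega
      · refine ⟨⟨r - 2, by omega⟩, ⟨0, by omega⟩, ?_, ?_, ?_⟩
        · intro e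
          simp only [Fin.mk.injEq] at e
          omega
        · rw [hadjdef]
          dsimp only
          omega
        · rw [hadjdef]
          dsimp only
          omega
      · refine ⟨⟨p.val - 1, by omega⟩, ⟨p.val + 1, by omega⟩, ?_, ?_, ?_⟩
        · intro e
          simp only [Fin.mk.injEq] at e
          omega
        · rw [hadjdef]
          dsimp only
          omega
        · rw [hadjdef]
          dsimp only
          omega
    obtain ⟨q1, q2, hne, h1, h2⟩ := key
    have hsum := sum_ge_two (fun q => if adj p q then (1 : ℤ) else 0)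
      (fun q => by split_ifs <;> norm_num) q1 q2 hne
    simp only [if_pos h1, if_pos h2] at hsum
    show 2 * (1 : ℤ) ≤ ∑ q, if adj p q then (1 : ℤ) else 0
    linarith

/-- A path of `(-2)`-indices (a proper subfamily) has no chords. -/
theorem path_chords (t : ℕ) (htn : t < n) (x : ℕ → Fin n)
    (hinj : ∀ a b, a < t → b < t → x a = x b → a = b)
    (hm2 : ∀ i, i < t → T.IsMinusTwo (x i))
    (hedge : ∀ i, i + 1 < t → T.a (x i) (x (i + 1)) ≠ 0) :
    ∀ j k, j + 1 < k → k < t → T.a (x j) (x k) = 0 := by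
  intro j k hjk hkt
  by_contra hne
  refine no_cycle T (k - j + 1) (by omega) (by omega) (fun i => x (j + i)) ?_ ?_ ?_ ?_
  · intro a b ha hb h
    have := hinj _ _ (by omega) (by omega) h
    omega
  · intro i hi
    exact hm2 _ (by omega)
  · intro i hi
    show T.a (x (j + i)) (x (j + (i + 1))) ≠ 0
    rw [← Nat.add_assoc]
    exact hedge _ (by omega)
  · show T.a (x (j + (k - j + 1 - 1))) (x (j + 0)) ≠ 0
    have e : j + (k - j + 1 - 1) = k := by omega
    rw [e, Nat.add_zero, a_symm T]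
    exact hne

/-- Normal form of a path `x 0, …, x (m+4)` of `(-2)`-indices in a proper subfamily: all interior
weights and interior edges equal `w (x 1)`; the first and last edge have one of three types. -/
theorem path_normal_form (m : ℕ) (hn : m + 5 < n) (x : ℕ → Fin n)
    (hinj : ∀ a b, a < m + 5 → b < m + 5 → x a = x b → a = b)
    (hm2 : ∀ i, i < m + 5 → T.IsMinusTwo (x i))
    (hedge : ∀ i, i + 1 < m + 5 → T.a (x i) (x (i + 1)) ≠ 0)
    (l1 l : ℕ) (hl1 : l1 = m + 3) (hl : l = m + 4) :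
    (∀ k, 1 ≤ k → k ≤ m + 3 → T.w (x k) = T.w (x 1)) ∧
    (∀ k, 1 ≤ k → k ≤ m + 2 → T.a (x k) (x (k + 1)) = T.w (x 1)) ∧
    ((T.w (x 0) = T.w (x 1) ∧ T.a (x 0) (x 1) = T.w (x 1)) ∨
      (T.w (x 0) = 2 * T.w (x 1) ∧ T.a (x 0) (x 1) = 2 * T.w (x 1)) ∨
      (T.w (x 1) = 2 * T.w (x 0) ∧ T.a (x 0) (x 1) = T.w (x 1))) ∧
    ((T.w (x l) = T.w (x 1) ∧ T.a (x l1) (x l) = T.w (x 1)) ∨
      (T.w (x l) = 2 * T.w (x 1) ∧ T.a (x l1) (x l) = 2 * T.w (x 1)) ∨
      (T.w (x 1) = 2 * T.w (x l) ∧ T.a (x l1) (x l) = T.w (x 1))) := by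
  subst hl1 hl
  have hwin : ∀ s, s ≤ m →
      T.w (x (s + 2)) = T.w (x (s + 1)) ∧ T.w (x (s + 3)) = T.w (x (s + 1)) ∧
      T.a (x (s + 1)) (x (s + 2)) = T.w (x (s + 1)) ∧
      T.a (x (s + 2)) (x (s + 3)) = T.w (x (s + 1)) ∧
      ((T.w (x s) = T.w (x (s + 1)) ∧ T.a (x s) (x (s + 1)) = T.w (x (s + 1))) ∨
        (T.w (x s) = 2 * T.w (x (s + 1)) ∧ T.a (x s) (x (s + 1)) = 2 * T.w (x (s + 1))) ∨
        (T.w (x (s + 1)) = 2 * T.w (x s) ∧ T.a (x s) (x (s + 1)) = T.w (x (s + 1)))) ∧
      ((T.w (x (s + 4)) = T.w (x (s + 1)) ∧ T.a (x (s + 3)) (x (s + 4)) = T.w (x (s + 1))) ∨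
        (T.w (x (s + 4)) = 2 * T.w (x (s + 1)) ∧
          T.a (x (s + 3)) (x (s + 4)) = 2 * T.w (x (s + 1))) ∨
        (T.w (x (s + 1)) = 2 * T.w (x (s + 4)) ∧
          T.a (x (s + 3)) (x (s + 4)) = T.w (x (s + 1)))) := by
    intro s hs
    let v5 : Fin 5 ↪ Fin n := ⟨fun i => x (s + i.val), fun a b h => Fin.ext (by
      have ha := a.2
      have hb := b.2
      have := hinj _ _ (by omega) (by omega) h
      omega)⟩
    have e01 : T.a (x (s + 0)) (x (s + 1)) ≠ 0 := hedge s (by omega)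
    have e12 : T.a (x (s + 1)) (x (s + 2)) ≠ 0 := hedge (s + 1) (by omega)
    have e23 : T.a (x (s + 2)) (x (s + 3)) ≠ 0 := hedge (s + 2) (by omega)
    have e34 : T.a (x (s + 3)) (x (s + 4)) ≠ 0 := hedge (s + 3) (by omega)
    have h := five_core_v T (by omega) v5 (fun j => hm2 _ (by have := j.2; omega)) e01 e12 e23 e34
    exact h
  have claim1 : ∀ s, s ≤ m → T.w (x (s + 1)) = T.w (x 1) := by
    intro s
    induction s with
    | zero => intro _; rfl
    | succ s ih =>
      intro hs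
      have := (hwin s (by omega)).1
      rw [this]
      exact ih (by omega)
  refine ⟨?_, ?_, ?_, ?_⟩
  · intro k hk1 hk2
    rcases (by omega : k ≤ m + 1 ∨ k = m + 2 ∨ k = m + 3) with h | h | h
    · obtain ⟨s, rfl⟩ : ∃ s, k = s + 1 := ⟨k - 1, by omega⟩
      exact claim1 s (by omega)
    · subst h
      rw [(hwin m le_rfl).1]
      exact claim1 m le_rfl
    · subst h
      rw [(hwin m le_rfl).2.1]
      exact claim1 m le_rfl
  · intro k hk1 hk2
    rcases (by omega : k ≤ m + 1 ∨ k = m + 2) with h | h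
    · obtain ⟨s, rfl⟩ : ∃ s, k = s + 1 := ⟨k - 1, by omega⟩
      have := (hwin s (by omega)).2.2.1
      rw [claim1 s (by omega)] at this
      exact this
    · subst h
      have := (hwin m le_rfl).2.2.2.1
      rw [claim1 m le_rfl] at this
      exact this
  · exact (hwin 0 (by omega)).2.2.2.2.1
  · have := (hwin m le_rfl).2.2.2.2.2
    rw [claim1 m le_rfl] at this
    exact this

end Groth.Agent.H37
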