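import Mathlib

/-!
# A characteristic polynomial for endomorphisms of finite projective algebras, and base change

For a finite projective `R`-algebra `S` presented as a retract `σ : S → Rⁿ`, `π : Rⁿ → S`,
`π ∘ σ = id`, the polynomial `(σ ∘ lmul x ∘ π).charpoly` is monic, kills `x`
(Cayley–Hamilton), commutes with base change along pushout squares and does not depend on the
presentation.
-/

set_option autoImplicit false
universe u
open CategoryTheory TensorProduct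

namespace Groth.Agent.H37.CharpolyBC

/-- Independence of the presentation. -/
theorem lchar {T : Type*} [CommRing T] {M : Type*} [AddCommGroup M] [Module T M] {n : ℕ}
    (π₁ π₂ : (Fin n → T) →ₗ[T] M) (σ₁ σ₂ : M →ₗ[T] (Fin n → T))
    (h₁ : π₁ ∘ₗ σ₁ = LinearMap.id) (h₂ : π₂ ∘ₗ σ₂ = LinearMap.id) (φ : M →ₗ[T] M) :
    (σ₁ ∘ₗ φ ∘ₗ π₁).charpoly = (σ₂ ∘ₗ φ ∘ₗ π₂).charpoly := by
  have hX : σ₁ ∘ₗ φ ∘ₗ π₁ = (σ₁ ∘ₗ φ ∘ₗ π₂) ∘ₗ (σ₂ ∘ₗ π₁) := by
    have h : (σ₁ ∘ₗ φ ∘ₗ π₂) ∘ₗ (σ₂ ∘ₗ π₁) = σ₁ ∘ₗ φ ∘ₗ (π₂ ∘ₗ σ₂) ∘ₗ π₁ := by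
      simp only [LinearMap.comp_assoc]
    rw [h, h₂, LinearMap.id_comp]
  have hY : σ₂ ∘ₗ φ ∘ₗ π₂ = (σ₂ ∘ₗ π₁) ∘ₗ (σ₁ ∘ₗ φ ∘ₗ π₂) := by
    have h : (σ₂ ∘ₗ π₁) ∘ₗ (σ₁ ∘ₗ φ ∘ₗ π₂) = σ₂ ∘ₗ (π₁ ∘ₗ σ₁) ∘ₗ φ ∘ₗ π₂ := by
      simp only [LinearMap.comp_assoc]
    rw [h, h₁, LinearMap.id_comp]
  let b := Pi.basisFun T (Fin n)
  calc (σ₁ ∘ₗ φ ∘ₗ π₁).charpoly
      = ((σ₁ ∘ₗ φ ∘ₗ π₂) ∘ₗ (σ₂ ∘ₗ π₁)).charpoly := by rw [← hX]
    _ = (LinearMap.toMatrix b b ((σ₁ ∘ₗ φ ∘ₗ π₂) ∘ₗ (σ₂ ∘ₗ π₁))).charpoly :=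
        (LinearMap.charpoly_toMatrix _ b).symm
    _ = (LinearMap.toMatrix b b (σ₁ ∘ₗ φ ∘ₗ π₂) * LinearMap.toMatrix b b (σ₂ ∘ₗ π₁)).charpoly := by
        rw [LinearMap.toMatrix_comp b b b]
    _ = (LinearMap.toMatrix b b (σ₂ ∘ₗ π₁) * LinearMap.toMatrix b b (σ₁ ∘ₗ φ ∘ₗ π₂)).charpoly :=
        Matrix.charpoly_mul_comm _ _
    _ = (LinearMap.toMatrix b b ((σ₂ ∘ₗ π₁) ∘ₗ (σ₁ ∘ₗ φ ∘ₗ π₂))).charpoly := by
        rw [LinearMap.toMatrix_comp b b b]
    _ = ((σ₂ ∘ₗ π₁) ∘ₗ (σ₁ ∘ₗ φ ∘ₗ π₂)).charpoly := LinearMap.charpoly_toMatrix _ b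
    _ = (σ₂ ∘ₗ φ ∘ₗ π₂).charpoly := by rw [← hY]

/-- Cayley–Hamilton for the presentation polynomial. -/
theorem ch_lemma {R S : Type*} [CommRing R] [CommRing S] [Algebra R S] {n : ℕ}
    (π : (Fin n → R) →ₗ[R] S) (σ : S →ₗ[R] (Fin n → R)) (hπσ : π ∘ₗ σ = LinearMap.id) (x : S) :
    Polynomial.aeval x (σ ∘ₗ Algebra.lmul R S x ∘ₗ π).charpoly = 0 := by
  obtain ⟨ψ, hψ⟩ : ∃ ψ : Module.End R (Fin n → R), ψ = σ ∘ₗ Algebra.lmul R S x ∘ₗ π := ⟨_, rfl⟩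
  rw [← hψ]
  have hint : (Algebra.lmul R S x).comp π = π.comp ψ := by
    rw [hψ]
    show (Algebra.lmul R S x).comp π = π.comp (σ.comp ((Algebra.lmul R S x).comp π))
    rw [← LinearMap.comp_assoc ((Algebra.lmul R S x).comp π) σ π, hπσ, LinearMap.id_comp]
  have hpow : ∀ k, ((Algebra.lmul R S x) ^ k).comp π = π.comp (ψ ^ k) :=
    Module.End.commute_pow_left_of_commute hint
  have hpoly : ∀ Q : Polynomial R,
      (Polynomial.aeval (Algebra.lmul R S x) Q).comp π = π.comp (Polynomial.aeval ψ Q) := by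
    intro Q
    refine LinearMap.ext fun w => ?_
    rw [LinearMap.comp_apply, LinearMap.comp_apply, Polynomial.aeval_eq_sum_range,
      Polynomial.aeval_eq_sum_range, LinearMap.sum_apply, LinearMap.sum_apply, map_sum]
    refine Finset.sum_congr rfl fun k _ => ?_
    rw [LinearMap.smul_apply, LinearMap.smul_apply, map_smul]
    exact congrArg _ (LinearMap.congr_fun (hpow k) w)
  have h0 : (Polynomial.aeval (Algebra.lmul R S x) ψ.charpoly).comp π = 0 := by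
    rw [hpoly, LinearMap.aeval_self_charpoly, LinearMap.comp_zero]
  have hsurj : Function.Surjective π := fun y =>
    ⟨σ y, by rw [← LinearMap.comp_apply, hπσ, LinearMap.id_apply]⟩
  have h1 : Polynomial.aeval (Algebra.lmul R S x) ψ.charpoly = 0 := by
    refine LinearMap.ext fun y => ?_
    obtain ⟨w, rfl⟩ := hsurj y
    exact LinearMap.congr_fun h0 w
  rw [Polynomial.aeval_algHom_apply] at h1
  have h2 := LinearMap.congr_fun h1 1
  simpa using h2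

/-- Base change of the presentation polynomial, typeclass form. -/
theorem charpoly_pushout {R S T P : Type u} [CommRing R] [CommRing S] [CommRing T] [CommRing P]
    [Algebra R S] [Algebra R T] [Algebra S P] [Algebra T P] [Algebra R P]
    [IsScalarTower R S P] [IsScalarTower R T P] [Algebra.IsPushout R T S P]
    (n : ℕ) (π : (Fin n → R) →ₗ[R] S) (σ : S →ₗ[R] (Fin n → R))
    (hπσ : π ∘ₗ σ = LinearMap.id) (x : S) :
    ∃ (π' : (Fin n → T) →ₗ[T] P) (σ' : P →ₗ[T] (Fin n → T)), π' ∘ₗ σ' = LinearMap.id ∧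
      (σ' ∘ₗ Algebra.lmul T P (algebraMap S P x) ∘ₗ π').charpoly =
        (σ ∘ₗ Algebra.lmul R S x ∘ₗ π).charpoly.map (algebraMap R T) := by
  obtain ⟨El, hEl⟩ : ∃ El : T ⊗[R] S ≃ₗ[T] P, ∀ (τ : T) (y : S),
      El (τ ⊗ₜ y) = algebraMap T P τ * algebraMap S P y :=
    ⟨(Algebra.IsPushout.equiv R T S P).toLinearEquiv,
      fun τ y => Algebra.IsPushout.equiv_tmul R T S P τ y⟩
  have hK : ∀ z : T ⊗[R] S,
      algebraMap S P x * El z = El ((Algebra.lmul R S x).baseChange T z) := by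
    intro z
    induction z using TensorProduct.induction_on with
    | zero => simp
    | tmul τ y =>
      rw [LinearMap.baseChange_tmul, hEl, hEl]
      show _ = algebraMap T P τ * algebraMap S P (x * y)
      rw [map_mul]; ring
    | add a b ha hb => rw [map_add, mul_add, ha, hb, map_add, map_add]
  obtain ⟨ι, -⟩ : ∃ ι : T ⊗[R] (Fin n → R) ≃ₗ[T] (Fin n → T), True :=
    ⟨((Pi.basisFun R (Fin n)).baseChange T).equivFun, trivial⟩
  have h1 : ∀ z, π.baseChange T (σ.baseChange T z) = z := fun z => by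
    rw [← LinearMap.comp_apply, ← LinearMap.baseChange_comp, hπσ, LinearMap.baseChange_id,
      LinearMap.id_apply]
  refine ⟨El.toLinearMap ∘ₗ π.baseChange T ∘ₗ ι.symm.toLinearMap,
    ι.toLinearMap ∘ₗ σ.baseChange T ∘ₗ El.symm.toLinearMap, ?_, ?_⟩
  · refine LinearMap.ext fun p => ?_
    show El (π.baseChange T (ι.symm (ι (σ.baseChange T (El.symm p))))) = p
    rw [ι.symm_apply_apply, h1, El.apply_symm_apply]
  · have h2 : (ι.toLinearMap ∘ₗ σ.baseChange T ∘ₗ El.symm.toLinearMap) ∘ₗ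
        Algebra.lmul T P (algebraMap S P x) ∘ₗ
          (El.toLinearMap ∘ₗ π.baseChange T ∘ₗ ι.symm.toLinearMap) =
        ι.conj ((σ ∘ₗ Algebra.lmul R S x ∘ₗ π).baseChange T) := by
      refine LinearMap.ext fun w => ?_
      show ι (σ.baseChange T (El.symm (algebraMap S P x * El (π.baseChange T (ι.symm w))))) =
        ι ((σ ∘ₗ Algebra.lmul R S x ∘ₗ π).baseChange T (ι.symm w))
      rw [hK, El.symm_apply_apply, LinearMap.baseChange_comp, LinearMap.baseChange_comp]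
      rfl
    rw [h2, LinearEquiv.charpoly_conj, LinearMap.charpoly_baseChange]

/-- Base change of the presentation polynomial along a pushout square of commutative rings. -/
theorem charpoly_of_isPushout {R S T P : CommRingCat.{u}} {f : R ⟶ S} {g : R ⟶ T}
    {inl : S ⟶ P} {inr : T ⟶ P} (h : CategoryTheory.IsPushout f g inl inr) (n : ℕ)
    (π : letI := f.hom.toAlgebra; (Fin n → R) →ₗ[R] S)
    (σ : letI := f.hom.toAlgebra; S →ₗ[R] (Fin n → R))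
    (hπσ : letI := f.hom.toAlgebra; π ∘ₗ σ = LinearMap.id) (x : S) :
    letI := f.hom.toAlgebra
    letI := inr.hom.toAlgebra
    ∃ (π' : (Fin n → T) →ₗ[T] P) (σ' : P →ₗ[T] (Fin n → T)), π' ∘ₗ σ' = LinearMap.id ∧
      (σ' ∘ₗ Algebra.lmul T P (inl.hom x) ∘ₗ π').charpoly =
        (σ ∘ₗ Algebra.lmul R S x ∘ₗ π).charpoly.map g.hom := by
  algebraize [f.hom, g.hom, inl.hom, inr.hom, inl.hom.comp f.hom]
  have : IsScalarTower R T P := .of_algebraMap_eq' <| congr($(h.1.1).hom)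
  have h1 : Algebra.IsPushout R S T P := CommRingCat.isPushout_iff_isPushout.mp h
  haveI h2 : Algebra.IsPushout R T S P := h1.symm
  exact charpoly_pushout n π σ hπσ x

/-- Ring-level form of: functions on `U` are integral over the invariants of a finite locally
free groupoid in affine schemes. -/
theorem integral_main {A B B₂ : Type u} [CommRing A] [CommRing B] [CommRing B₂]
    (s t : A →+* B) (e : B →+* A) (p₀ p₁ c : B →+* B₂)
    (hes : ∀ a, e (s a) = a) (het : ∀ a, e (t a) = a)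
    (hct : ∀ a, c (t a) = p₀ (t a))
    (n : ℕ) (π : letI := s.toAlgebra; (Fin n → A) →ₗ[A] B)
    (σ : letI := s.toAlgebra; B →ₗ[A] (Fin n → A))
    (hπσ : letI := s.toAlgebra; π ∘ₗ σ = LinearMap.id)
    (H1 : letI := s.toAlgebra; letI := p₁.toAlgebra;
      ∀ x : B, ∃ (π' : (Fin n → B) →ₗ[B] B₂) (σ' : B₂ →ₗ[B] (Fin n → B)),
        π' ∘ₗ σ' = LinearMap.id ∧
        (σ' ∘ₗ Algebra.lmul B B₂ (c x) ∘ₗ π').charpoly =
          (σ ∘ₗ Algebra.lmul A B x ∘ₗ π).charpoly.map s)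
    (H2 : letI := s.toAlgebra; letI := p₁.toAlgebra;
      ∀ x : B, ∃ (π' : (Fin n → B) →ₗ[B] B₂) (σ' : B₂ →ₗ[B] (Fin n → B)),
        π' ∘ₗ σ' = LinearMap.id ∧
        (σ' ∘ₗ Algebra.lmul B B₂ (p₀ x) ∘ₗ π').charpoly =
          (σ ∘ₗ Algebra.lmul A B x ∘ₗ π).charpoly.map t)
    (f : A) : IsIntegral (RingHom.eqLocus s t) f := by
  letI := s.toAlgebra
  letI := p₁.toAlgebra
  obtain ⟨π₁, σ₁, h₁, e₁⟩ := H1 (t f)
  obtain ⟨π₂, σ₂, h₂, e₂⟩ := H2 (t f)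
  have hCH : Polynomial.aeval (t f) (σ ∘ₗ Algebra.lmul A B (t f) ∘ₗ π).charpoly = 0 :=
    ch_lemma π σ hπσ (t f)
  have hmonic : (σ ∘ₗ Algebra.lmul A B (t f) ∘ₗ π).charpoly.Monic := LinearMap.charpoly_monic _
  obtain ⟨Pol, hPol⟩ : ∃ Pol, Pol = (σ ∘ₗ Algebra.lmul A B (t f) ∘ₗ π).charpoly := ⟨_, rfl⟩
  rw [← hPol] at e₁ e₂ hCH hmonic
  have hst : Pol.map s = Pol.map t := by
    rw [← e₁, ← e₂, hct]
    exact lchar π₁ π₂ σ₁ σ₂ h₁ h₂ _
  have hcoeff : ∀ k, Pol.coeff k ∈ RingHom.eqLocus s t := by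
    intro k
    have h3 := congrArg (fun q => q.coeff k) hst
    simpa [Polynomial.coeff_map] using h3
  have hev : Pol.eval f = 0 := by
    have h3 := congrArg e hCH
    rw [map_zero, Polynomial.aeval_def, Polynomial.hom_eval₂, het] at h3
    have h4 : e.comp (algebraMap A B) = RingHom.id A := RingHom.ext hes
    rw [h4] at h3
    exact h3
  have hsub : (↑Pol.coeffs : Set A) ⊆ ↑(RingHom.eqLocus s t) := by
    intro a ha
    obtain ⟨k, -, rfl⟩ := Polynomial.mem_coeffs_iff.mp ha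
    exact hcoeff k
  refine ⟨Pol.toSubring _ hsub, (Polynomial.monic_toSubring _ _ _).mpr hmonic, ?_⟩
  rw [Polynomial.eval₂_eq_eval_map]
  have h5 : (Pol.toSubring _ hsub).map (algebraMap (RingHom.eqLocus s t) A) = Pol :=
    Polynomial.map_toSubring _ _ _
  rw [h5, hev]

end Groth.Agent.H37.CharpolyBC
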