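import Groth.Agent.H37.ConnCompImage

/-!
# Connectedness and irreducibility of a base change to an algebraic extension, from the finite
levels
-/

set_option autoImplicit false
universe u
open CategoryTheory CategoryTheory.Limits AlgebraicGeometry Opposite

namespace Groth.Agent.H37

section Top

open Set

/-- An inverse limit of preconnected spaces with open, closed projections having compact fibres
is preconnected. -/
theorem preconnectedSpace_of_limit {Z : Type*} [TopologicalSpace Z] {ι : Type*} [Preorder ι]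
    [IsDirectedOrder ι] [hι : Nonempty ι]
    {Y : ι → Type*} [∀ i, TopologicalSpace (Y i)] [∀ i, PreconnectedSpace (Y i)]
    (π : ∀ i, Z → Y i) (τ : ∀ i j, i ≤ j → Y j → Y i)
    (hτ : ∀ i j (h : i ≤ j) z, τ i j h (π j z) = π i z)
    (hπ_c : ∀ i, Continuous (π i)) (hπ_o : ∀ i, IsOpenMap (π i))
    (hπ_cl : ∀ i, IsClosedMap (π i))
    (hπ_cpt : ∀ i y, IsCompact (π i ⁻¹' {y}))
    (hbasis : ∀ (z : Z) (W : Set Z), IsOpen W → z ∈ W →
      ∃ i, ∃ O : Set (Y i), IsOpen O ∧ z ∈ π i ⁻¹' O ∧ π i ⁻¹' O ⊆ W) :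
    PreconnectedSpace Z := by
  classical
  rw [preconnectedSpace_iff_clopen]
  intro T hT
  by_contra hcon
  have hne : T ≠ ∅ := fun h => hcon (Or.inl h)
  have hnu : T ≠ univ := fun h => hcon (Or.inr h)
  obtain ⟨t, ht⟩ := Set.nonempty_iff_ne_empty.mpr hne
  obtain ⟨w, hw⟩ : ∃ w, w ∉ T := by
    by_contra h
    exact hnu (Set.eq_univ_of_forall fun x => by_contra fun hx => h ⟨x, hx⟩)
  have himg : ∀ i, π i '' Tᶜ = univ := by
    intro i
    have hclopen : IsClopen (π i '' Tᶜ) := ⟨hπ_cl i _ hT.compl.1, hπ_o i _ hT.compl.2⟩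
    rcases isClopen_iff.mp hclopen with h | h
    · exact absurd (Set.mem_image_of_mem (π i) (show w ∈ Tᶜ from hw))
        (by rw [h]; exact Set.notMem_empty _)
    · exact h
  have i₀ : ι := Classical.choice hι
  have hF : IsCompact (π i₀ ⁻¹' {π i₀ t}) := hπ_cpt i₀ _
  obtain ⟨G, hG⟩ : ∃ G : ι → Set Z, G = fun i => Tᶜ ∩ π i ⁻¹' closure {π i t} := ⟨_, rfl⟩
  have hGc : ∀ i, IsClosed (G i) := fun i => by
    rw [hG]; exact hT.compl.1.inter (isClosed_closure.preimage (hπ_c i))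
  have hfin : ∀ u : Finset ι, ((π i₀ ⁻¹' {π i₀ t}) ∩ ⋂ i ∈ u, G i).Nonempty := by
    intro u
    obtain ⟨j, hj⟩ := Finset.exists_le (insert i₀ u)
    have hj0 : i₀ ≤ j := hj i₀ (Finset.mem_insert_self _ _)
    obtain ⟨t', ht'T, ht'⟩ : π j t ∈ π j '' Tᶜ := by rw [himg j]; exact Set.mem_univ _
    refine ⟨t', ?_, ?_⟩
    · show π i₀ t' = π i₀ t
      rw [← hτ i₀ j hj0 t', ht', hτ i₀ j hj0 t]
    · refine Set.mem_iInter₂.mpr fun i hi => ?_
      have hij : i ≤ j := hj i (Finset.mem_insert_of_mem hi)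
      rw [hG]
      refine ⟨ht'T, ?_⟩
      show π i t' ∈ closure {π i t}
      rw [← hτ i j hij t', ht', hτ i j hij t]
      exact subset_closure (Set.mem_singleton _)
  obtain ⟨z₀, hz₀F, hz₀G⟩ := hF.inter_iInter_nonempty G hGc hfin
  have hz₀G' : ∀ i, z₀ ∈ Tᶜ ∩ π i ⁻¹' closure {π i t} := fun i => by
    have := Set.mem_iInter.mp hz₀G i
    rw [hG] at this
    exact this
  have hz₀T : z₀ ∈ Tᶜ := (hz₀G' i₀).1
  have hspec : t ⤳ z₀ := by
    rw [specializes_iff_forall_open]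
    intro W hW hz₀W
    obtain ⟨i, O, hO, hzO, hOW⟩ := hbasis z₀ W hW hz₀W
    apply hOW
    show π i t ∈ O
    have h1 : π i z₀ ∈ closure {π i t} := (hz₀G' i).2
    have h2 : π i t ⤳ π i z₀ := specializes_iff_mem_closure.mpr h1
    exact h2.mem_open hO hzO
  exact (hspec.mem_open hT.compl.2 hz₀T) ht

/-- An inverse limit of preirreducible spaces with surjective projections is preirreducible. -/
theorem preirreducibleSpace_of_limit {Z : Type*} [TopologicalSpace Z] {ι : Type*} [Preorder ι]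
    [IsDirectedOrder ι]
    {Y : ι → Type*} [∀ i, TopologicalSpace (Y i)] [∀ i, PreirreducibleSpace (Y i)]
    (π : ∀ i, Z → Y i) (τ : ∀ i j, i ≤ j → Y j → Y i)
    (hτ : ∀ i j (h : i ≤ j) z, τ i j h (π j z) = π i z)
    (hτc : ∀ i j (h : i ≤ j), Continuous (τ i j h))
    (hπ_s : ∀ i, Function.Surjective (π i))
    (hbasis : ∀ (z : Z) (W : Set Z), IsOpen W → z ∈ W →
      ∃ i, ∃ O : Set (Y i), IsOpen O ∧ z ∈ π i ⁻¹' O ∧ π i ⁻¹' O ⊆ W) :
    PreirreducibleSpace Z := by
  refine PreirreducibleSpace.of_forall_nonempty_inter ?_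
  rintro U V hU hV ⟨u, hu⟩ ⟨v, hv⟩
  obtain ⟨i, O, hO, huO, hOU⟩ := hbasis u U hU hu
  obtain ⟨j, O', hO', hvO', hO'V⟩ := hbasis v V hV hv
  obtain ⟨l, hil, hjl⟩ := exists_ge_ge i j
  have h1 : (τ i l hil ⁻¹' O).Nonempty :=
    ⟨π l u, by show τ i l hil (π l u) ∈ O; rw [hτ]; exact huO⟩
  have h2 : (τ j l hjl ⁻¹' O').Nonempty :=
    ⟨π l v, by show τ j l hjl (π l v) ∈ O'; rw [hτ]; exact hvO'⟩
  obtain ⟨y, hy1, hy2⟩ := nonempty_preirreducible_inter (hO.preimage (hτc i l hil))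
    (hO'.preimage (hτc j l hjl)) h1 h2
  obtain ⟨z, rfl⟩ := hπ_s l y
  refine ⟨z, hOU ?_, hO'V ?_⟩
  · show π i z ∈ O
    rw [← hτ i l hil z]; exact hy1
  · show π j z ∈ O'
    rw [← hτ j l hjl z]; exact hy2

end Top

section Algebraic

variable {k : Type u} (Ω : Type u) [Field k] [Field Ω] [Algebra k Ω]
  {X : Scheme.{u}} (f : X ⟶ Spec (CommRingCat.of k)) [Algebra.IsAlgebraic k Ω]

/-- The projection from the base change to `Ω` to the base change to a finite subextension. -/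
noncomputable abbrev fsLeg (E : FinSub k Ω) :
    pullback f (Spec.map (CommRingCat.ofHom (algebraMap k Ω))) ⟶ (fsDiagram Ω f).obj (op E) :=
  pbConeLeg f (specDiagram k Ω) (specDiagramβ k Ω) (specCone k Ω)
    (Spec.map (CommRingCat.ofHom (algebraMap k Ω))) (specCone_π_β k Ω) (op E)

theorem fsLeg_props (E : FinSub k Ω) :
    Surjective (fsLeg Ω f E) ∧ UniversallyOpen (fsLeg Ω f E) ∧ IsIntegralHom (fsLeg Ω f E) := by
  have sq := pbCone_isPullback f (specDiagram k Ω) (specDiagramβ k Ω) (specCone k Ω)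
    (Spec.map (CommRingCat.ofHom (algebraMap k Ω))) (specCone_π_β k Ω) (op E)
  haveI : Algebra.IsAlgebraic ↥E.1 Ω := Algebra.IsAlgebraic.tower_top (K := k) (L := ↥E.1) (A := Ω)
  have h1 : Surjective ((specCone k Ω).π.app (op E)) := by
    rw [specCone_π]; exact surjective_specMap_field
  have h2 : UniversallyOpen ((specCone k Ω).π.app (op E)) := by
    rw [specCone_π]; exact univOpen_specMap_field
  have h3' : IsIntegralHom (Spec.map (CommRingCat.ofHom (algebraMap ↥E.1 Ω))) := by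
    rw [IsIntegralHom.SpecMap_iff]
    exact algebraMap_isIntegral_iff.mpr inferInstance
  have h3 : IsIntegralHom ((specCone k Ω).π.app (op E)) := h3'
  exact ⟨MorphismProperty.of_isPullback (P := @Surjective) sq.flip h1,
    MorphismProperty.of_isPullback (P := @UniversallyOpen) sq.flip h2,
    MorphismProperty.of_isPullback (P := @IsIntegralHom) sq.flip h3⟩

theorem fs_basis (w : ↥(pullback f (Spec.map (CommRingCat.ofHom (algebraMap k Ω)))))
    (W : Set ↥(pullback f (Spec.map (CommRingCat.ofHom (algebraMap k Ω))))) (hW : IsOpen W)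
    (hwW : w ∈ W) :
    ∃ E : FinSub k Ω, ∃ O : Set ↥((fsDiagram Ω f).obj (op E)), IsOpen O ∧
      w ∈ ⇑(fsLeg Ω f E) ⁻¹' O ∧ ⇑(fsLeg Ω f E) ⁻¹' O ⊆ W := by
  haveI hAff : ∀ {i j : (FinSub k Ω)ᵒᵖ} (φ : i ⟶ j), IsAffineHom ((fsDiagram Ω f).map φ) :=
    fun φ => fsDiagram_isAffineHom Ω f φ
  have hbasis := isBasis_preimage_isAffineOpen (fsDiagram Ω f) (fsCone Ω f) (fsConeIsLimit Ω f)
  obtain ⟨U', ⟨i, V, hV, rfl⟩, hwU', hU'W⟩ :=
    TopologicalSpace.Opens.isBasis_iff_nbhd.mp hbasis (U := ⟨W, hW⟩) hwW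
  refine ⟨i.unop, (V : Set ↥((fsDiagram Ω f).obj i)), V.isOpen, ?_, ?_⟩
  · exact hwU'
  · intro x hx
    exact hU'W hx

theorem fsLeg_map {E E' : FinSub k Ω} (h : E ≤ E')
    (w : ↥(pullback f (Spec.map (CommRingCat.ofHom (algebraMap k Ω))))) :
    ((fsDiagram Ω f).map (homOfLE h).op) (fsLeg Ω f E' w) = fsLeg Ω f E w := by
  have key : fsLeg Ω f E' ≫ (fsDiagram Ω f).map (homOfLE h).op = fsLeg Ω f E :=
    pbConeLeg_map f (specDiagram k Ω) (specDiagramβ k Ω) (specCone k Ω)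
      (Spec.map (CommRingCat.ofHom (algebraMap k Ω))) (specCone_π_β k Ω) (homOfLE h).op
  rw [← Scheme.Hom.comp_apply, key]

/-- If all base changes to finite subextensions are connected, so is the base change to `Ω`. -/
theorem connectedSpace_of_forall_finSub
    (h : ∀ E : FinSub k Ω, ConnectedSpace ↥((fsDiagram Ω f).obj (op E))) :
    ConnectedSpace ↥(pullback f (Spec.map (CommRingCat.ofHom (algebraMap k Ω)))) := by
  haveI hpre : ∀ E : FinSub k Ω, PreconnectedSpace ↥((fsDiagram Ω f).obj (op E)) :=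
    fun E => (h E).toPreconnectedSpace
  haveI : PreconnectedSpace ↥(pullback f (Spec.map (CommRingCat.ofHom (algebraMap k Ω)))) := by
    refine preconnectedSpace_of_limit (ι := FinSub k Ω)
      (Y := fun E => ↥((fsDiagram Ω f).obj (op E)))
      (fun E => ⇑(fsLeg Ω f E))
      (fun E E' h => ⇑((fsDiagram Ω f).map (homOfLE h).op))
      ?_ ?_ ?_ ?_ ?_ ?_
    · intro E E' h w
      exact fsLeg_map Ω f h w
    · intro E
      exact Scheme.Hom.continuous _
    · intro E
      haveI := (fsLeg_props Ω f E).2.1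
      exact Scheme.Hom.isOpenMap _
    · intro E
      haveI := (fsLeg_props Ω f E).2.2
      exact Scheme.Hom.isClosedMap _
    · intro E y
      haveI := (fsLeg_props Ω f E).2.2
      exact Scheme.Hom.isCompact_preimage_singleton _ y
    · intro w W hW hwW
      exact fs_basis Ω f w W hW hwW
  obtain ⟨E₀⟩ := (inferInstance : Nonempty (FinSub k Ω))
  obtain ⟨y₀⟩ := (h E₀).toNonempty
  obtain ⟨z, -⟩ := (fsLeg_props Ω f E₀).1.surj y₀
  exact { toNonempty := ⟨z⟩ }

/-- If all base changes to finite subextensions are irreducible, so is the base change to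
`Ω`. -/
theorem irreducibleSpace_of_forall_finSub
    (h : ∀ E : FinSub k Ω, IrreducibleSpace ↥((fsDiagram Ω f).obj (op E))) :
    IrreducibleSpace ↥(pullback f (Spec.map (CommRingCat.ofHom (algebraMap k Ω)))) := by
  haveI hpre : ∀ E : FinSub k Ω, PreirreducibleSpace ↥((fsDiagram Ω f).obj (op E)) :=
    fun E => (h E).toPreirreducibleSpace
  haveI : PreirreducibleSpace ↥(pullback f (Spec.map (CommRingCat.ofHom (algebraMap k Ω)))) := by
    refine preirreducibleSpace_of_limit (ι := FinSub k Ω)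
      (Y := fun E => ↥((fsDiagram Ω f).obj (op E)))
      (fun E => ⇑(fsLeg Ω f E))
      (fun E E' h => ⇑((fsDiagram Ω f).map (homOfLE h).op))
      ?_ ?_ ?_ ?_
    · intro E E' h w
      exact fsLeg_map Ω f h w
    · intro E E' h
      exact Scheme.Hom.continuous _
    · intro E
      exact (fsLeg_props Ω f E).1.surj
    · intro w W hW hwW
      exact fs_basis Ω f w W hW hwW
  obtain ⟨E₀⟩ := (inferInstance : Nonempty (FinSub k Ω))
  obtain ⟨y₀⟩ := (h E₀).toNonempty
  obtain ⟨z, -⟩ := (fsLeg_props Ω f E₀).1.surj y₀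
  exact { toNonempty := ⟨z⟩ }

end Algebraic

end Groth.Agent.H37
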