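import Groth.Agent.H37.GalTrans
import Groth.Agent.H37.ConnLimit2

/-!
# Automorphisms fixing a finite subextension commute with the projection to that level
-/

set_option autoImplicit false
universe u
open CategoryTheory CategoryTheory.Limits AlgebraicGeometry Opposite

namespace Groth.Agent.H37

/-- An automorphism fixing the finite subextension `E` commutes with the projection to `X_E`. -/
theorem galAct_fsLeg (k : Type u) [Field k] (X : Scheme.{u}) [X.Over (Spec (CommRingCat.of k))]
    (K : Type u) [Field K] [Algebra k K] [Algebra.IsAlgebraic k K]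
    (E : FinSub k K) (σ : K ≃ₐ[k] K) (hσ : ∀ a : K, a ∈ E.1 → σ a = a) :
    Curv2.galAct k X K σ ≫ fsLeg K (X ↘ Spec (CommRingCat.of k)) E =
      fsLeg K (X ↘ Spec (CommRingCat.of k)) E := by
  have h1 : fsLeg K (X ↘ Spec (CommRingCat.of k)) E ≫
      pbFst (X ↘ Spec (CommRingCat.of k)) (specDiagram k K) (specDiagramβ k K) (op E) =
      pullback.fst (X ↘ Spec (CommRingCat.of k))
        (Spec.map (CommRingCat.ofHom (algebraMap k K))) :=
    pbConeLeg_fst (X ↘ Spec (CommRingCat.of k)) (specDiagram k K) (specDiagramβ k K)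
      (specCone k K) (Spec.map (CommRingCat.ofHom (algebraMap k K))) (specCone_π_β k K) (op E)
  have h2 : fsLeg K (X ↘ Spec (CommRingCat.of k)) E ≫
      pbSnd (X ↘ Spec (CommRingCat.of k)) (specDiagram k K) (specDiagramβ k K) (op E) =
      pullback.snd (X ↘ Spec (CommRingCat.of k))
        (Spec.map (CommRingCat.ofHom (algebraMap k K))) ≫ (specCone k K).π.app (op E) :=
    pbConeLeg_snd (X ↘ Spec (CommRingCat.of k)) (specDiagram k K) (specDiagramβ k K)
      (specCone k K) (Spec.map (CommRingCat.ofHom (algebraMap k K))) (specCone_π_β k K) (op E)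
  have key : Spec.map (CommRingCat.ofHom (σ : K →ₐ[k] K).toRingHom) ≫
      (specCone k K).π.app (op E) = (specCone k K).π.app (op E) := by
    have e : CommRingCat.ofHom (algebraMap ↥E.1 K) ≫
        CommRingCat.ofHom (σ : K →ₐ[k] K).toRingHom = CommRingCat.ofHom (algebraMap ↥E.1 K) := by
      ext a
      exact hσ a a.2
    exact (Spec.map_comp _ _).symm.trans (congrArg Spec.map e)
  apply pb_hom_ext
  · calc (Curv2.galAct k X K σ ≫ fsLeg K (X ↘ Spec (CommRingCat.of k)) E) ≫
          pbFst (X ↘ Spec (CommRingCat.of k)) (specDiagram k K) (specDiagramβ k K) (op E)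
        = Curv2.galAct k X K σ ≫ (fsLeg K (X ↘ Spec (CommRingCat.of k)) E ≫
          pbFst (X ↘ Spec (CommRingCat.of k)) (specDiagram k K) (specDiagramβ k K) (op E)) :=
          Category.assoc _ _ _
      _ = Curv2.galAct k X K σ ≫ pullback.fst (X ↘ Spec (CommRingCat.of k))
          (Spec.map (CommRingCat.ofHom (algebraMap k K))) :=
          congrArg (fun m => Curv2.galAct k X K σ ≫ m) h1
      _ = pullback.fst (X ↘ Spec (CommRingCat.of k))
          (Spec.map (CommRingCat.ofHom (algebraMap k K))) := galAct_fst k X K σ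
      _ = _ := h1.symm
  · calc (Curv2.galAct k X K σ ≫ fsLeg K (X ↘ Spec (CommRingCat.of k)) E) ≫
          pbSnd (X ↘ Spec (CommRingCat.of k)) (specDiagram k K) (specDiagramβ k K) (op E)
        = Curv2.galAct k X K σ ≫ (fsLeg K (X ↘ Spec (CommRingCat.of k)) E ≫
          pbSnd (X ↘ Spec (CommRingCat.of k)) (specDiagram k K) (specDiagramβ k K) (op E)) :=
          Category.assoc _ _ _
      _ = Curv2.galAct k X K σ ≫ (pullback.snd (X ↘ Spec (CommRingCat.of k))
          (Spec.map (CommRingCat.ofHom (algebraMap k K))) ≫ (specCone k K).π.app (op E)) :=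
          congrArg (fun m => Curv2.galAct k X K σ ≫ m) h2
      _ = (Curv2.galAct k X K σ ≫ pullback.snd (X ↘ Spec (CommRingCat.of k))
          (Spec.map (CommRingCat.ofHom (algebraMap k K)))) ≫ (specCone k K).π.app (op E) :=
          (Category.assoc _ _ _).symm
      _ = (pullback.snd (X ↘ Spec (CommRingCat.of k))
          (Spec.map (CommRingCat.ofHom (algebraMap k K))) ≫
          Spec.map (CommRingCat.ofHom (σ : K →ₐ[k] K).toRingHom)) ≫
          (specCone k K).π.app (op E) :=
          congrArg (fun m => m ≫ (specCone k K).π.app (op E)) (galAct_snd k X K σ)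
      _ = pullback.snd (X ↘ Spec (CommRingCat.of k))
          (Spec.map (CommRingCat.ofHom (algebraMap k K))) ≫
          (Spec.map (CommRingCat.ofHom (σ : K →ₐ[k] K).toRingHom) ≫
          (specCone k K).π.app (op E)) := Category.assoc _ _ _
      _ = pullback.snd (X ↘ Spec (CommRingCat.of k))
          (Spec.map (CommRingCat.ofHom (algebraMap k K))) ≫ (specCone k K).π.app (op E) := by
          rw [key]
      _ = _ := h2.symm

/-- A quasi-compact open of `X_K` (`K/k` algebraic) is stabilised by the automorphisms fixing a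
suitable finite subextension. -/
theorem exists_finSub_stabilizing (k : Type u) [Field k] (X : Scheme.{u})
    [X.Over (Spec (CommRingCat.of k))]
    (K : Type u) [Field K] [Algebra k K] [Algebra.IsAlgebraic k K]
    (V : Set ↥(Curv2.bc k X K)) (hV : IsOpen V) (hVc : IsCompact V) :
    ∃ E : FinSub k K, ∀ σ : K ≃ₐ[k] K, (∀ a : K, a ∈ E.1 → σ a = a) →
      (Curv2.galAct k X K σ).base '' V = V := by
  haveI hAff : ∀ {i j : (FinSub k K)ᵒᵖ} (φ : i ⟶ j),
      IsAffineHom ((fsDiagram K (X ↘ Spec (CommRingCat.of k))).map φ) :=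
    fun φ => fsDiagram_isAffineHom K _ φ
  obtain ⟨i, VE, -, hVE⟩ := exists_preimage_eq (fsDiagram K (X ↘ Spec (CommRingCat.of k)))
    (fsCone K (X ↘ Spec (CommRingCat.of k))) (fsConeIsLimit K (X ↘ Spec (CommRingCat.of k)))
    ⟨V, hV⟩ hVc
  obtain ⟨E⟩ := i
  refine ⟨E, ?_⟩
  have hmem : ∀ y, y ∈ V ↔ fsLeg K (X ↘ Spec (CommRingCat.of k)) E y ∈ VE := fun y => by
    have h1 : (y ∈ ((fsCone K (X ↘ Spec (CommRingCat.of k))).π.app (op E) ⁻¹ᵁ VE)) =
        (y ∈ (⟨V, hV⟩ : TopologicalSpace.Opens _)) :=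
      congrArg (fun U : TopologicalSpace.Opens _ => y ∈ U) hVE
    exact (Iff.of_eq h1).symm
  have key : ∀ τ : K ≃ₐ[k] K, (∀ a : K, a ∈ E.1 → τ a = a) → ∀ y, y ∈ V →
      Curv2.galAct k X K τ y ∈ V := by
    intro τ hτ y hy
    rw [hmem] at hy ⊢
    rw [← Scheme.Hom.comp_apply, galAct_fsLeg k X K E τ hτ]
    exact hy
  intro σ hσ
  apply Set.Subset.antisymm
  · rintro _ ⟨y, hy, rfl⟩
    exact key σ hσ y hy
  · intro y hy
    refine ⟨Curv2.galAct k X K σ.symm y, key σ.symm ?_ y hy, ?_⟩
    · intro a ha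
      exact σ.symm_apply_eq.mpr (hσ a ha).symm
    · rw [← Scheme.Hom.comp_apply, galAct_symm_comp]
      rfl

end Groth.Agent.H37
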