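import Groth.Agent.H37.SepPoints
import Groth.Agent.H37.GalStab
import Groth.Agent.H37.ClosedSubBC
import Groth.Agent.S1546

/-!
# Components of `X_E` (`E/k` finite) that stay irreducible / connected after every extension

If the automorphisms of `Ω/k` (`Ω` a separable closure) fixing the finite subextension `E` fix
the points of `X_Ω` over the generic points of the irreducible components of `X`, then the
irreducible components of `X_E` are geometrically irreducible.  The analogous statement holds for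
connected components.
-/

set_option autoImplicit false
universe u
open CategoryTheory CategoryTheory.Limits AlgebraicGeometry Opposite

namespace Groth.Agent.H37

section General

variable {k : Type u} [Field k] (Ω : Type u) [Field Ω] [Algebra k Ω]
  {W Y : Scheme.{u}} {π : W ⟶ Y} {s : W ⟶ Spec (CommRingCat.of Ω)}
  {g : Y ⟶ Spec (CommRingCat.of k)}
  (sq : IsPullback π s g (Spec.map (CommRingCat.ofHom (algebraMap k Ω))))

include sq

theorem preimage_fst_eq_image_iso (T : Set Y) :
    (pullback.fst g (Spec.map (CommRingCat.ofHom (algebraMap k Ω)))) ⁻¹' T =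
      sq.isoPullback.hom '' (π ⁻¹' T) := by
  have hfst : sq.isoPullback.hom ≫ pullback.fst g _ = π := sq.isoPullback_hom_fst
  have hinv : sq.isoPullback.inv ≫ π = pullback.fst g _ := sq.isoPullback_inv_fst
  ext w
  constructor
  · intro hw
    refine ⟨sq.isoPullback.inv w, ?_, ?_⟩
    · show π (sq.isoPullback.inv w) ∈ T
      have e1 : π (sq.isoPullback.inv w) =
          pullback.fst g (Spec.map (CommRingCat.ofHom (algebraMap k Ω))) w := by
        rw [← Scheme.Hom.comp_apply, hinv]
      rw [e1]; exact hw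
    · rw [← Scheme.Hom.comp_apply, Iso.inv_hom_id]; rfl
  · rintro ⟨y, hy, rfl⟩
    show pullback.fst g (Spec.map (CommRingCat.ofHom (algebraMap k Ω))) (sq.isoPullback.hom y) ∈ T
    rw [← Scheme.Hom.comp_apply, hfst]
    exact hy

theorem isIrreducible_preimage_of_isPullback [IsSepClosed Ω] (T : Set Y) (hT : IsClosed T)
    (h : IsIrreducible (π ⁻¹' T)) (K : Type u) [Field K] [Algebra k K] :
    IsIrreducible ((pullback.fst g (Spec.map (CommRingCat.ofHom (algebraMap k K)))) ⁻¹' T) := by
  refine isIrreducible_preimage_of_isSepClosed g T hT Ω ?_ K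
  rw [preimage_fst_eq_image_iso Ω sq T]
  exact h.image _ sq.isoPullback.hom.continuous.continuousOn

theorem isConnected_preimage_of_isPullback [IsSepClosed Ω] (T : Set Y) (hT : IsClosed T)
    (h : _root_.IsConnected (π ⁻¹' T)) (K : Type u) [Field K] [Algebra k K] :
    _root_.IsConnected
      ((pullback.fst g (Spec.map (CommRingCat.ofHom (algebraMap k K)))) ⁻¹' T) := by
  refine isConnected_preimage_of_isSepClosed g T hT Ω ?_ K
  rw [preimage_fst_eq_image_iso Ω sq T]
  exact h.image _ sq.isoPullback.hom.continuous.continuousOn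

theorem image_connectedComponent_eq_of_isPullback (y : W) :
    π '' connectedComponent y = connectedComponent (π y) := by
  have hfst : sq.isoPullback.hom ≫ pullback.fst g _ = π := sq.isoPullback_hom_fst
  have hinv : sq.isoPullback.inv ≫ π = pullback.fst g _ := sq.isoPullback_inv_fst
  apply Set.Subset.antisymm
  · exact π.continuous.image_connectedComponent_subset y
  · intro w hw
    have e0 : pullback.fst g (Spec.map (CommRingCat.ofHom (algebraMap k Ω)))
        (sq.isoPullback.hom y) = π y := by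
      rw [← Scheme.Hom.comp_apply, hfst]
    have h1 := image_connectedComponent_eq g (sq.isoPullback.hom y)
    have hw' : w ∈ ⇑(pullback.fst g (Spec.map (CommRingCat.ofHom (algebraMap k Ω)))) ''
        connectedComponent (sq.isoPullback.hom y) := by
      rw [h1, e0]; exact hw
    obtain ⟨v, hv, rfl⟩ := hw'
    refine ⟨sq.isoPullback.inv v, ?_, ?_⟩
    · have h2 := sq.isoPullback.inv.continuous.image_connectedComponent_subset
        (sq.isoPullback.hom y) ⟨v, hv, rfl⟩
      have e1 : sq.isoPullback.inv (sq.isoPullback.hom y) = y := by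
        rw [← Scheme.Hom.comp_apply, Iso.hom_inv_id]; rfl
      rw [e1] at h2
      exact h2
    · rw [← Scheme.Hom.comp_apply, hinv]

theorem exists_conj_of_isPullback [Normal k Ω] (y y' : W) (h : π y = π y') :
    ∃ σ : Ω ≃ₐ[k] Ω, ∀ G : W ⟶ W, G ≫ π = π →
      G ≫ s = s ≫ Spec.map (CommRingCat.ofHom (σ : Ω →ₐ[k] Ω).toRingHom) → G y = y' := by
  have hfst : sq.isoPullback.hom ≫ pullback.fst g _ = π := sq.isoPullback_hom_fst
  have hsnd : sq.isoPullback.hom ≫ pullback.snd g _ = s := sq.isoPullback_hom_snd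
  have hinv1 : sq.isoPullback.inv ≫ π = pullback.fst g _ := sq.isoPullback_inv_fst
  have hinv2 : sq.isoPullback.inv ≫ s = pullback.snd g _ := sq.isoPullback_inv_snd
  have h0 : pullback.fst g (Spec.map (CommRingCat.ofHom (algebraMap k Ω)))
      (sq.isoPullback.hom y) =
      pullback.fst g (Spec.map (CommRingCat.ofHom (algebraMap k Ω))) (sq.isoPullback.hom y') := by
    rw [← Scheme.Hom.comp_apply, ← Scheme.Hom.comp_apply, hfst]
    exact h
  obtain ⟨σ, hσ⟩ := exists_galois_conj g (sq.isoPullback.hom y) (sq.isoPullback.hom y') h0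
  refine ⟨σ, fun G hG1 hG2 => ?_⟩
  have c1 : (sq.isoPullback.inv ≫ G ≫ sq.isoPullback.hom) ≫
      pullback.fst g (Spec.map (CommRingCat.ofHom (algebraMap k Ω))) =
      pullback.fst g (Spec.map (CommRingCat.ofHom (algebraMap k Ω))) := by
    rw [Category.assoc, Category.assoc, hfst, hG1, hinv1]
  have c2 : (sq.isoPullback.inv ≫ G ≫ sq.isoPullback.hom) ≫
      pullback.snd g (Spec.map (CommRingCat.ofHom (algebraMap k Ω))) =
      pullback.snd g (Spec.map (CommRingCat.ofHom (algebraMap k Ω))) ≫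
        Spec.map (CommRingCat.ofHom (σ : Ω →ₐ[k] Ω).toRingHom) := by
    rw [Category.assoc, Category.assoc, hsnd, hG2, ← Category.assoc, hinv2]
  have key := hσ _ c1 c2
  have e4 : ∀ t : W, sq.isoPullback.inv (sq.isoPullback.hom t) = t := fun t => by
    rw [← Scheme.Hom.comp_apply, Iso.hom_inv_id]; rfl
  have e1 : (sq.isoPullback.inv ≫ G ≫ sq.isoPullback.hom) (sq.isoPullback.hom y) =
      sq.isoPullback.hom (G y) := by
    rw [Scheme.Hom.comp_apply, Scheme.Hom.comp_apply, e4]
  rw [e1] at key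
  exact (e4 (G y)).symm.trans ((congrArg (fun t => sq.isoPullback.inv t) key).trans (e4 y'))

end General

section FS

variable (k : Type u) [Field k] (X : Scheme.{u}) [X.Over (Spec (CommRingCat.of k))]
  (Ω : Type u) [Field Ω] [Algebra k Ω] [Algebra.IsAlgebraic k Ω]

/-- The projection `X_Ω ⟶ X_E` with an explicit target. -/
noncomputable def eLeg (E : FinSub k Ω) :
    Curv2.bc k X Ω ⟶ pullback (X ↘ Spec (CommRingCat.of k))
      (Spec.map (CommRingCat.ofHom (algebraMap k ↥E.1))) :=
  fsLeg Ω (X ↘ Spec (CommRingCat.of k)) E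

theorem eLeg_isPullback (E : FinSub k Ω) :
    IsPullback (eLeg k X Ω E) (Curv2.bcSnd k X Ω)
      (pullback.snd (X ↘ Spec (CommRingCat.of k))
        (Spec.map (CommRingCat.ofHom (algebraMap k ↥E.1))))
      (Spec.map (CommRingCat.ofHom (algebraMap ↥E.1 Ω))) :=
  pbCone_isPullback (X ↘ Spec (CommRingCat.of k)) (specDiagram k Ω) (specDiagramβ k Ω)
    (specCone k Ω) (Spec.map (CommRingCat.ofHom (algebraMap k Ω))) (specCone_π_β k Ω) (op E)

theorem eLeg_props (E : FinSub k Ω) :
    Surjective (eLeg k X Ω E) ∧ IsIntegralHom (eLeg k X Ω E) :=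
  ⟨(fsLeg_props Ω (X ↘ Spec (CommRingCat.of k)) E).1,
    (fsLeg_props Ω (X ↘ Spec (CommRingCat.of k)) E).2.2⟩

theorem galAct_eLeg (E : FinSub k Ω) (σ : Ω ≃ₐ[k] Ω) (hσ : ∀ a : Ω, a ∈ E.1 → σ a = a) :
    Curv2.galAct k X Ω σ ≫ eLeg k X Ω E = eLeg k X Ω E :=
  galAct_fsLeg k X Ω E σ hσ

/-- Two points of `X_Ω` with the same image in `X_E` are conjugate under an automorphism fixing
`E`. -/
theorem exists_galAct_eq_of_eLeg_eq [Normal k Ω] (E : FinSub k Ω) (y y' : ↥(Curv2.bc k X Ω))
    (h : eLeg k X Ω E y = eLeg k X Ω E y') :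
    ∃ σ : Ω ≃ₐ[k] Ω, (∀ a : Ω, a ∈ E.1 → σ a = a) ∧ Curv2.galAct k X Ω σ y = y' := by
  haveI : Normal ↥E.1 Ω := Normal.tower_top_of_normal k ↥E.1 Ω
  obtain ⟨σ', hσ'⟩ := exists_conj_of_isPullback Ω (eLeg_isPullback k X Ω E) y y' h
  have hfix : ∀ a : Ω, a ∈ E.1 → (σ'.restrictScalars k) a = a :=
    fun a ha => σ'.commutes ⟨a, ha⟩
  refine ⟨σ'.restrictScalars k, hfix, ?_⟩
  refine hσ' (Curv2.galAct k X Ω (σ'.restrictScalars k)) (galAct_eLeg k X Ω E _ hfix) ?_
  have hring : CommRingCat.ofHom ((σ'.restrictScalars k : Ω ≃ₐ[k] Ω) : Ω →ₐ[k] Ω).toRingHom =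
      CommRingCat.ofHom ((σ' : Ω →ₐ[↥E.1] Ω)).toRingHom := by
    ext x; rfl
  exact (galAct_snd k X Ω (σ'.restrictScalars k)).trans
    (congrArg (fun m => Curv2.bcSnd k X Ω ≫ Spec.map m) hring)

/-- If the automorphisms fixing `E` fix the points over the generic points of the irreducible
components of `X`, they stabilise every irreducible component of `X_Ω`. -/
theorem image_galAct_irreducibleComponent (E : FinSub k Ω)
    (hE : ∀ (Z : Set ↥X) (hZ : Z ∈ irreducibleComponents ↥X) (σ : Ω ≃ₐ[k] Ω),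
      (∀ a : Ω, a ∈ E.1 → σ a = a) → ∀ y : ↥(Curv2.bc k X Ω),
      Curv2.bcFst k X Ω y = hZ.1.genericPoint → Curv2.galAct k X Ω σ y = y)
    (C : Set ↥(Curv2.bc k X Ω)) (hC : C ∈ irreducibleComponents ↥(Curv2.bc k X Ω))
    (σ : Ω ≃ₐ[k] Ω) (hσ : ∀ a : Ω, a ∈ E.1 → σ a = a) :
    (Curv2.galAct k X Ω σ).base '' C = C := by
  have hCcl : IsClosed C := isClosed_of_mem_irreducibleComponents C hC
  obtain ⟨ζ, hζ⟩ := QuasiSober.sober hC.1 hCcl
  have hZ : (Curv2.bcFst k X Ω).base '' C ∈ irreducibleComponents ↥X :=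
    (Groth.Agent.S1546.result k X Ω).1 C hC
  have hcl : closure ((Curv2.bcFst k X Ω).base '' C) = (Curv2.bcFst k X Ω).base '' C :=
    ((isClosedMap_bcFst k X Ω) C hCcl).closure_eq
  have hgen : IsGenericPoint ((Curv2.bcFst k X Ω).base ζ)
      (closure ((Curv2.bcFst k X Ω).base '' C)) :=
    hζ.image (Curv2.bcFst k X Ω).continuous
  rw [hcl] at hgen
  have hgp : IsGenericPoint hZ.1.genericPoint ((Curv2.bcFst k X Ω).base '' C) :=
    hZ.1.isGenericPoint_genericPoint (isClosed_of_mem_irreducibleComponents _ hZ)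
  have heq : Curv2.bcFst k X Ω ζ = hZ.1.genericPoint := hgen.eq hgp
  have hfix := hE _ hZ σ hσ ζ heq
  calc (Curv2.galAct k X Ω σ).base '' C
      = (Curv2.galAct k X Ω σ).base '' closure {ζ} := by rw [hζ.def]
    _ = closure ((Curv2.galAct k X Ω σ).base '' {ζ}) := image_galAct_closure k X Ω σ {ζ}
    _ = closure {ζ} := by
        rw [Set.image_singleton]
        exact congrArg (fun t => closure {t}) hfix
    _ = C := hζ.def

/-- Under the hypothesis of `image_galAct_irreducibleComponent`, the preimage in `X_Ω` of an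
irreducible component of `X_E` is irreducible. -/
theorem isIrreducible_preimage_eLeg [Normal k Ω] (E : FinSub k Ω)
    (hE : ∀ (Z : Set ↥X) (hZ : Z ∈ irreducibleComponents ↥X) (σ : Ω ≃ₐ[k] Ω),
      (∀ a : Ω, a ∈ E.1 → σ a = a) → ∀ y : ↥(Curv2.bc k X Ω),
      Curv2.bcFst k X Ω y = hZ.1.genericPoint → Curv2.galAct k X Ω σ y = y)
    (Z' : Set ↥(pullback (X ↘ Spec (CommRingCat.of k))
      (Spec.map (CommRingCat.ofHom (algebraMap k ↥E.1)))))
    (hZ' : Z' ∈ irreducibleComponents ↥(pullback (X ↘ Spec (CommRingCat.of k))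
      (Spec.map (CommRingCat.ofHom (algebraMap k ↥E.1))))) :
    IsIrreducible ((eLeg k X Ω E) ⁻¹' Z') := by
  obtain ⟨hsurj, hint⟩ := eLeg_props k X Ω E
  haveI := hint
  have hclosed : IsClosedMap (eLeg k X Ω E) := (eLeg k X Ω E).isClosedMap
  have hZ'cl : IsClosed Z' := isClosed_of_mem_irreducibleComponents Z' hZ'
  obtain ⟨η, hη⟩ := QuasiSober.sober hZ'.1 hZ'cl
  obtain ⟨y, hy⟩ := hsurj.surj η
  have hCmem := irreducibleComponent_mem_irreducibleComponents y
  have hyC : y ∈ irreducibleComponent y := mem_irreducibleComponent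
  have himg_irr : IsIrreducible ((eLeg k X Ω E) '' irreducibleComponent y) :=
    hCmem.1.image _ (eLeg k X Ω E).continuous.continuousOn
  have himg_cl : IsClosed ((eLeg k X Ω E) '' irreducibleComponent y) :=
    hclosed _ isClosed_irreducibleComponent
  have hsub : Z' ⊆ (eLeg k X Ω E) '' irreducibleComponent y := by
    rw [← hη.def]
    apply himg_cl.closure_subset_iff.mpr
    rw [Set.singleton_subset_iff]
    exact ⟨y, hyC, hy⟩
  have himg : (eLeg k X Ω E) '' irreducibleComponent y = Z' :=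
    Set.Subset.antisymm (hZ'.2 himg_irr hsub) hsub
  have hpre : (eLeg k X Ω E) ⁻¹' Z' = irreducibleComponent y := by
    apply Set.Subset.antisymm
    · intro w hw
      have hw' : eLeg k X Ω E w ∈ (eLeg k X Ω E) '' irreducibleComponent y := by
        rw [himg]; exact hw
      obtain ⟨c, hc, hcw⟩ := hw'
      obtain ⟨σ, hσ, hσc⟩ := exists_galAct_eq_of_eLeg_eq k X Ω E c w hcw
      have hst := image_galAct_irreducibleComponent k X Ω E hE _ hCmem σ hσ
      rw [← hst]
      exact ⟨c, hc, hσc⟩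
    · intro c hc
      show eLeg k X Ω E c ∈ Z'
      rw [← himg]
      exact ⟨c, hc, rfl⟩
  rw [hpre]
  exact hCmem.1

/-- If the automorphisms fixing `E` fix the points over a chosen point of each connected
component of `X`, they preserve connected components of `X_Ω`. -/
theorem galAct_mem_connectedComponent (E : FinSub k Ω)
    (xc : _root_.ConnectedComponents ↥X → ↥X)
    (hxc : ∀ c, _root_.ConnectedComponents.mk (xc c) = c)
    (hE : ∀ (c : _root_.ConnectedComponents ↥X) (σ : Ω ≃ₐ[k] Ω),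
      (∀ a : Ω, a ∈ E.1 → σ a = a) → ∀ y : ↥(Curv2.bc k X Ω),
      Curv2.bcFst k X Ω y = xc c → Curv2.galAct k X Ω σ y = y)
    (σ : Ω ≃ₐ[k] Ω) (hσ : ∀ a : Ω, a ∈ E.1 → σ a = a) (y : ↥(Curv2.bc k X Ω)) :
    Curv2.galAct k X Ω σ y ∈ connectedComponent y := by
  obtain ⟨c, hc⟩ : ∃ c, c = _root_.ConnectedComponents.mk (Curv2.bcFst k X Ω y) := ⟨_, rfl⟩
  have h1 : xc c ∈ connectedComponent (Curv2.bcFst k X Ω y) :=
    ConnectedComponents.coe_eq_coe'.mp ((hxc c).trans hc)
  have h2 := image_connectedComponent_eq (X ↘ Spec (CommRingCat.of k)) y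
  have h1' : xc c ∈ ⇑(Curv2.bcFst k X Ω) '' connectedComponent y :=
    (Set.ext_iff.mp h2 (xc c)).mpr h1
  obtain ⟨d, hd, hdx⟩ := h1'
  have hfix : Curv2.galAct k X Ω σ d = d := hE c σ hσ d hdx
  have h3 := (Curv2.galAct k X Ω σ).continuous.image_connectedComponent_subset d
  rw [hfix] at h3
  have h4 : connectedComponent y = connectedComponent d := connectedComponent_eq hd
  rw [h4]
  exact h3 ⟨y, (Set.ext_iff.mp h4 y).mp mem_connectedComponent, rfl⟩

/-- Under the hypothesis of `galAct_mem_connectedComponent`, the preimage in `X_Ω` of a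
connected component of `X_E` is connected. -/
theorem isConnected_preimage_eLeg [Normal k Ω] (E : FinSub k Ω)
    (xc : _root_.ConnectedComponents ↥X → ↥X)
    (hxc : ∀ c, _root_.ConnectedComponents.mk (xc c) = c)
    (hE : ∀ (c : _root_.ConnectedComponents ↥X) (σ : Ω ≃ₐ[k] Ω),
      (∀ a : Ω, a ∈ E.1 → σ a = a) → ∀ y : ↥(Curv2.bc k X Ω),
      Curv2.bcFst k X Ω y = xc c → Curv2.galAct k X Ω σ y = y)
    (x' : ↥(pullback (X ↘ Spec (CommRingCat.of k))
      (Spec.map (CommRingCat.ofHom (algebraMap k ↥E.1))))) :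
    _root_.IsConnected ((eLeg k X Ω E) ⁻¹' connectedComponent x') := by
  obtain ⟨hsurj, -⟩ := eLeg_props k X Ω E
  obtain ⟨y, hy⟩ := hsurj.surj x'
  have himg : ⇑(eLeg k X Ω E) '' connectedComponent y = connectedComponent x' :=
    (image_connectedComponent_eq_of_isPullback Ω (eLeg_isPullback k X Ω E) y).trans
      (congrArg connectedComponent hy)
  have hpre : (eLeg k X Ω E) ⁻¹' connectedComponent x' = connectedComponent y := by
    apply Set.Subset.antisymm
    · intro w hw
      have hw' : eLeg k X Ω E w ∈ ⇑(eLeg k X Ω E) '' connectedComponent y := by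
        rw [himg]; exact hw
      obtain ⟨d, hd, hdw⟩ := hw'
      obtain ⟨σ, hσ, hσd⟩ := exists_galAct_eq_of_eLeg_eq k X Ω E d w hdw
      have h1 := galAct_mem_connectedComponent k X Ω E xc hxc hE σ hσ d
      rw [hσd] at h1
      rw [connectedComponent_eq hd]
      exact h1
    · intro d hd
      show eLeg k X Ω E d ∈ connectedComponent x'
      rw [← himg]
      exact ⟨d, hd, rfl⟩
  rw [hpre]
  exact isConnected_connectedComponent

end FS

end Groth.Agent.H37
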