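import Groth.Agent.H37.FTSep

/-!
# Geometric irreducibility of components, Galois orbits of components over a component
-/

set_option autoImplicit false
universe u
open CategoryTheory CategoryTheory.Limits AlgebraicGeometry Opposite

namespace Groth.Agent.H37

section General

variable {k : Type u} [Field k] (Ω : Type u) [Field Ω] [Algebra k Ω]
  {W Y : Scheme.{u}} {π : W ⟶ Y} {s : W ⟶ Spec (CommRingCat.of Ω)}
  {g : Y ⟶ Spec (CommRingCat.of k)}
  (sq : IsPullback π s g (Spec.map (CommRingCat.ofHom (algebraMap k Ω))))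

include sq

/-- If the preimage in `X_Ω` (`Ω` separably closed) of the range of a closed immersion `ι` is
irreducible, then the source of `ι` is geometrically irreducible. -/
theorem geomIrr_of_isPullback [IsSepClosed Ω] {Z : Scheme.{u}} (ι : Z ⟶ Y) [IsClosedImmersion ι]
    (h : IsIrreducible (π ⁻¹' Set.range ι)) : GeometricallyIrreducible (ι ≫ g) := by
  have h' : IsIrreducible
      ((pullback.fst g (Spec.map (CommRingCat.ofHom (algebraMap k Ω)))) ⁻¹' Set.range ι) := by
    rw [preimage_fst_eq_image_iso Ω sq (Set.range ι)]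
    exact h.image _ sq.isoPullback.hom.continuous.continuousOn
  obtain ⟨e, -, -, hecl, her⟩ :=
    exists_bc_closedImmersion g ι (Spec.map (CommRingCat.ofHom (algebraMap k Ω)))
  haveI : IrreducibleSpace
      ↥(pullback (ι ≫ g) (Spec.map (CommRingCat.ofHom (algebraMap k Ω)))) :=
    (irreducibleSpace_iff_of_range e.isEmbedding her).mpr h'
  haveI h1 : GeometricallyIrreducible
      (pullback.snd (ι ≫ g) (Spec.map (CommRingCat.ofHom (algebraMap k Ω)))) :=
    geomIrr_of_isSepClosed _
  haveI : Surjective (Spec.map (CommRingCat.ofHom (algebraMap k Ω))) :=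
    surjective_specMap_field
  exact Groth.Agent.S4664.result (ι ≫ g) (Spec.map (CommRingCat.ofHom (algebraMap k Ω)))

end General

section Orbit

variable (k : Type u) [Field k] (X : Scheme.{u}) [X.Over (Spec (CommRingCat.of k))]
  (K : Type u) [Field K] [Algebra k K]

/-- The irreducible components of `X_K` lying over the subset `T` of `X`. -/
def compsOver (T : Set ↥X) : Set (Set ↥(Curv2.bc k X K)) :=
  {T' | T' ∈ irreducibleComponents ↥(Curv2.bc k X K) ∧ (Curv2.bcFst k X K).base '' T' ⊆ T}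

theorem bcFst_isGenericPoint (T' : Set ↥(Curv2.bc k X K))
    (hT' : T' ∈ irreducibleComponents ↥(Curv2.bc k X K))
    (ζ : ↥(Curv2.bc k X K)) (hζ : IsGenericPoint ζ T') :
    IsGenericPoint ((Curv2.bcFst k X K).base ζ) ((Curv2.bcFst k X K).base '' T') := by
  have hZ := (Groth.Agent.S1546.result k X K).1 T' hT'
  have hcl : closure ((Curv2.bcFst k X K).base '' T') = (Curv2.bcFst k X K).base '' T' :=
    (isClosed_of_mem_irreducibleComponents _ hZ).closure_eq
  have hgen : IsGenericPoint ((Curv2.bcFst k X K).base ζ)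
      (closure ((Curv2.bcFst k X K).base '' T')) :=
    hζ.image (Curv2.bcFst k X K).continuous
  rw [hcl] at hgen
  exact hgen

theorem image_eq_of_subset (T : Set ↥X) (hT : T ∈ irreducibleComponents ↥X)
    (T' : Set ↥(Curv2.bc k X K)) (hT' : T' ∈ irreducibleComponents ↥(Curv2.bc k X K))
    (h : (Curv2.bcFst k X K).base '' T' ⊆ T) : (Curv2.bcFst k X K).base '' T' = T :=
  Set.Subset.antisymm h (((Groth.Agent.S1546.result k X K).1 T' hT').2 hT.1 h)

/-- Two irreducible components of `X_K` over the same irreducible component of `X` are conjugate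
(`K/k` normal). -/
theorem exists_galAct_image_eq [Normal k K] (T : Set ↥X) (hT : T ∈ irreducibleComponents ↥X)
    (T' T'' : Set ↥(Curv2.bc k X K))
    (hT' : T' ∈ irreducibleComponents ↥(Curv2.bc k X K))
    (hT'' : T'' ∈ irreducibleComponents ↥(Curv2.bc k X K))
    (h' : (Curv2.bcFst k X K).base '' T' ⊆ T) (h'' : (Curv2.bcFst k X K).base '' T'' ⊆ T) :
    ∃ σ : K ≃ₐ[k] K, (Curv2.galAct k X K σ).base '' T' = T'' := by
  have e' := image_eq_of_subset k X K T hT T' hT' h'
  have e'' := image_eq_of_subset k X K T hT T'' hT'' h''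
  obtain ⟨ζ', hζ'⟩ := QuasiSober.sober hT'.1 (isClosed_of_mem_irreducibleComponents _ hT')
  obtain ⟨ζ'', hζ''⟩ := QuasiSober.sober hT''.1 (isClosed_of_mem_irreducibleComponents _ hT'')
  have g' := bcFst_isGenericPoint k X K T' hT' ζ' hζ'
  have g'' := bcFst_isGenericPoint k X K T'' hT'' ζ'' hζ''
  rw [e'] at g'
  rw [e''] at g''
  have heq : Curv2.bcFst k X K ζ' = Curv2.bcFst k X K ζ'' := g'.eq g''
  obtain ⟨σ, hσ⟩ := exists_galAct_eq k X K ζ' ζ'' heq
  refine ⟨σ, ?_⟩
  calc (Curv2.galAct k X K σ).base '' T'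
      = (Curv2.galAct k X K σ).base '' closure {ζ'} := by rw [hζ'.def]
    _ = closure ((Curv2.galAct k X K σ).base '' {ζ'}) := image_galAct_closure k X K σ {ζ'}
    _ = closure {ζ''} := by
        rw [Set.image_singleton]
        exact congrArg (fun t => closure {t}) hσ
    _ = T'' := hζ''.def

/-- The preimage of an irreducible component `T` of `X` is the union of the irreducible
components of `X_K` over `T`. -/
theorem preimage_eq_sUnion_compsOver (T : Set ↥X) (hT : T ∈ irreducibleComponents ↥X) :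
    (Curv2.bcFst k X K).base ⁻¹' T = ⋃₀ compsOver k X K T := by
  have hTcl := isClosed_of_mem_irreducibleComponents T hT
  obtain ⟨ξ, hξ⟩ := QuasiSober.sober hT.1 hTcl
  haveI hflat : Flat (Curv2.bcFst k X K) :=
    MorphismProperty.pullback_fst (P := @Flat) _ _ (flat_to_spec_field k _)
  apply Set.Subset.antisymm
  · intro y hy
    have hspec : ξ ⤳ Curv2.bcFst k X K y := by
      rw [specializes_iff_mem_closure, hξ.def]; exact hy
    obtain ⟨y', hy'y, hy'ξ⟩ := Flat.generalizingMap (Curv2.bcFst k X K) hspec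
    refine ⟨irreducibleComponent y',
      ⟨irreducibleComponent_mem_irreducibleComponents y', ?_⟩, ?_⟩
    · have hZ := (Groth.Agent.S1546.result k X K).1 _
        (irreducibleComponent_mem_irreducibleComponents y')
      have hξZ : ξ ∈ (Curv2.bcFst k X K).base '' irreducibleComponent y' :=
        ⟨y', mem_irreducibleComponent, hy'ξ⟩
      have hTZ : T ⊆ (Curv2.bcFst k X K).base '' irreducibleComponent y' := by
        rw [← hξ.def]
        exact (isClosed_of_mem_irreducibleComponents _ hZ).closure_subset_iff.mpr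
          (Set.singleton_subset_iff.mpr hξZ)
      exact hT.2 hZ.1 hTZ
    · exact hy'y.mem_closed isClosed_irreducibleComponent mem_irreducibleComponent
  · rintro y ⟨T', ⟨-, hsub⟩, hyT'⟩
    exact hsub ⟨y, hyT', rfl⟩

end Orbit

section FS

variable (k : Type u) [Field k] (X : Scheme.{u}) [X.Over (Spec (CommRingCat.of k))]
  (Ω : Type u) [Field Ω] [Algebra k Ω] [Algebra.IsAlgebraic k Ω]

theorem eLeg_fst (E : FinSub k Ω) :
    eLeg k X Ω E ≫ pullback.fst (X ↘ Spec (CommRingCat.of k))
      (Spec.map (CommRingCat.ofHom (algebraMap k ↥E.1))) = Curv2.bcFst k X Ω :=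
  pbConeLeg_fst (X ↘ Spec (CommRingCat.of k)) (specDiagram k Ω) (specDiagramβ k Ω)
    (specCone k Ω) (Spec.map (CommRingCat.ofHom (algebraMap k Ω))) (specCone_π_β k Ω) (op E)

/-- For `X` locally of finite type, finitely many irreducible components of `X_Ω` lie over a
given irreducible component of `X`. -/
theorem finite_compsOver [IsSepClosed Ω] [Normal k Ω]
    [LocallyOfFiniteType (X ↘ Spec (CommRingCat.of k))]
    (T : Set ↥X) (hT : T ∈ irreducibleComponents ↥X) : (compsOver k X Ω T).Finite := by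
  have hTcl := isClosed_of_mem_irreducibleComponents T hT
  obtain ⟨ξ, hξ⟩ := QuasiSober.sober hT.1 hTcl
  obtain ⟨φ, hφ, hfin⟩ := exists_residueFieldProp (X ↘ Spec (CommRingCat.of k)) ξ
  obtain ⟨E, hE⟩ := exists_finSub_fixing_fibre (Ω := Ω) X ξ φ hφ hfin
  haveI := E.2
  haveI hfinq : IsFinite (Spec.map (CommRingCat.ofHom (algebraMap k ↥E.1))) :=
    (IsFinite.SpecMap_iff _).mpr (RingHom.finite_algebraMap.mpr E.2)
  haveI hfinp : IsFinite (pullback.fst (X ↘ Spec (CommRingCat.of k))
      (Spec.map (CommRingCat.ofHom (algebraMap k ↥E.1)))) :=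
    MorphismProperty.pullback_fst (P := @IsFinite) _ _ hfinq
  have hfib : (⇑(pullback.fst (X ↘ Spec (CommRingCat.of k))
      (Spec.map (CommRingCat.ofHom (algebraMap k ↥E.1)))) ⁻¹' {ξ}).Finite :=
    Scheme.Hom.finite_preimage_singleton _ ξ
  haveI := hfib.to_subtype
  have hgp : ∀ T' : ↥(compsOver k X Ω T), ∃ ζ : ↥(Curv2.bc k X Ω),
      IsGenericPoint ζ T'.1 ∧ Curv2.bcFst k X Ω ζ = ξ := by
    intro T'
    obtain ⟨hT'1, hT'2⟩ := T'.2
    obtain ⟨ζ, hζ⟩ := QuasiSober.sober hT'1.1 (isClosed_of_mem_irreducibleComponents _ hT'1)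
    refine ⟨ζ, hζ, ?_⟩
    have g' := bcFst_isGenericPoint k X Ω T'.1 hT'1 ζ hζ
    rw [image_eq_of_subset k X Ω T hT T'.1 hT'1 hT'2] at g'
    exact g'.eq hξ
  choose ζ hζ1 hζ2 using hgp
  have hmem : ∀ T' : ↥(compsOver k X Ω T), eLeg k X Ω E (ζ T') ∈
      ⇑(pullback.fst (X ↘ Spec (CommRingCat.of k))
        (Spec.map (CommRingCat.ofHom (algebraMap k ↥E.1)))) ⁻¹' {ξ} := by
    intro T'
    show pullback.fst (X ↘ Spec (CommRingCat.of k))
      (Spec.map (CommRingCat.ofHom (algebraMap k ↥E.1))) (eLeg k X Ω E (ζ T')) = ξ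
    rw [← Scheme.Hom.comp_apply, eLeg_fst]
    exact hζ2 T'
  have hinj : Function.Injective (fun T' : ↥(compsOver k X Ω T) =>
      (⟨eLeg k X Ω E (ζ T'), hmem T'⟩ : ↥(⇑(pullback.fst (X ↘ Spec (CommRingCat.of k))
        (Spec.map (CommRingCat.ofHom (algebraMap k ↥E.1)))) ⁻¹' {ξ}))) := by
    intro T' T'' h
    have h1 : eLeg k X Ω E (ζ T') = eLeg k X Ω E (ζ T'') := congrArg Subtype.val h
    obtain ⟨σ, hσ, hσζ⟩ := exists_galAct_eq_of_eLeg_eq k X Ω E _ _ h1
    have h2 : Curv2.galAct k X Ω σ (ζ T') = ζ T' := hE σ hσ (ζ T') (hζ2 T')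
    have h3 : ζ T' = ζ T'' := h2.symm.trans hσζ
    apply Subtype.ext
    rw [← (hζ1 T').def, ← (hζ1 T'').def, h3]
  exact Set.finite_coe_iff.mp (Finite.of_injective _ hinj)

end FS

end Groth.Agent.H37
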