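import Groth.Agent.H37.FieldCompositum
import Groth.Agent.H37.PbPoints

/-!
# Preimages of connected components under base field extension
-/

set_option autoImplicit false
universe u
open CategoryTheory CategoryTheory.Limits AlgebraicGeometry

namespace Groth.Agent.H37

/-- Preimage of a connected set under an open and closed map is connected, as soon as some
preconnected subset of the preimage contains a whole nonempty fibre. -/
theorem isConnected_preimage_of_isOpenMap_isClosedMap {A B : Type*} [TopologicalSpace A]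
    [TopologicalSpace B] {p : A → B} (ho : IsOpenMap p) (hcl : IsClosedMap p)
    {C : Set B} (hC : _root_.IsConnected C) {S : Set A} (hS : _root_.IsPreconnected S) (hSD : S ⊆ p ⁻¹' C)
    {x₀ : B} (hx₀ : x₀ ∈ C) (hfib : p ⁻¹' {x₀} ⊆ S) (hne : (p ⁻¹' {x₀}).Nonempty) :
    _root_.IsConnected (p ⁻¹' C) := by
  haveI : ConnectedSpace C := isConnected_iff_connectedSpace.mp hC
  have hr_o : IsOpenMap (C.restrictPreimage p) := ho.restrictPreimage C
  have hr_c : IsClosedMap (C.restrictPreimage p) := hcl.restrictPreimage C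
  have himg : (Subtype.val : p ⁻¹' C → A) '' (Subtype.val ⁻¹' S) = S := by
    rw [Subtype.image_preimage_coe]; exact Set.inter_eq_right.mpr hSD
  have hS'pre : _root_.IsPreconnected ((Subtype.val : p ⁻¹' C → A) ⁻¹' S) :=
    Topology.IsInducing.subtypeVal.isPreconnected_image.mp (himg.symm ▸ hS)
  have claim : ∀ T : Set (p ⁻¹' C), IsClopen T → (Subtype.val : p ⁻¹' C → A) ⁻¹' S ⊆ T →
      T = Set.univ := by
    intro T hT hsub
    by_contra hne'
    have hTc : (Tᶜ).Nonempty := Set.nonempty_compl.mpr hne'
    have hclopen : IsClopen (C.restrictPreimage p '' Tᶜ) :=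
      ⟨hr_c _ hT.compl.1, hr_o _ hT.compl.2⟩
    have huniv := hclopen.eq_univ (hTc.image _)
    have hmem : (⟨x₀, hx₀⟩ : C) ∈ C.restrictPreimage p '' Tᶜ := huniv ▸ Set.mem_univ _
    obtain ⟨d, hdT, hd⟩ := hmem
    have hd' : p d.1 = x₀ := congrArg Subtype.val hd
    exact hdT (hsub (show d ∈ (Subtype.val : p ⁻¹' C → A) ⁻¹' S from hfib hd'))
  obtain ⟨a₀, ha₀⟩ := hne
  have ha₀' : p a₀ = x₀ := ha₀
  have ha₀C : a₀ ∈ p ⁻¹' C := by
    show p a₀ ∈ C
    rw [ha₀']; exact hx₀
  haveI : Nonempty (p ⁻¹' C) := ⟨⟨a₀, ha₀C⟩⟩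
  have hS'ne : (⟨a₀, ha₀C⟩ : p ⁻¹' C) ∈ (Subtype.val : p ⁻¹' C → A) ⁻¹' S := hfib ha₀
  haveI : PreconnectedSpace (p ⁻¹' C) := by
    rw [preconnectedSpace_iff_clopen]
    intro T hT
    by_cases hmem : (⟨a₀, ha₀C⟩ : p ⁻¹' C) ∈ T
    · right
      exact claim T hT (hS'pre.subset_isClopen hT ⟨_, hS'ne, hmem⟩)
    · left
      have h2 := claim Tᶜ hT.compl (hS'pre.subset_isClopen hT.compl ⟨_, hS'ne, hmem⟩)
      exact Set.compl_univ_iff.mp h2
  exact isConnected_iff_connectedSpace.mpr
    { toPreconnectedSpace := inferInstance, toNonempty := inferInstance }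

theorem exists_common_pullback' {X S SK SΩ SL : Scheme.{u}} (f : X ⟶ S) (qK : SK ⟶ S)
    (qΩ : SΩ ⟶ S) (a : SL ⟶ SK) (b : SL ⟶ SΩ) (hq : a ≫ qK = b ≫ qΩ) [Surjective a] :
    ∃ (W : Scheme.{u}) (pK : W ⟶ pullback f qK) (pΩ : W ⟶ pullback f qΩ) (wL : W ⟶ SL),
      Surjective pK ∧ IsPullback pΩ wL (pullback.snd f qΩ) b ∧
        pΩ ≫ pullback.fst f qΩ = pK ≫ pullback.fst f qK := by
  have sqL : IsPullback (pullback.fst (pullback.snd f qK) a) (pullback.snd (pullback.snd f qK) a)
      (pullback.snd f qK) a := IsPullback.of_hasPullback _ _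
  have outer := sqL.paste_horiz (IsPullback.of_hasPullback f qK)
  rw [hq] at outer
  have hw : (pullback.fst (pullback.snd f qK) a ≫ pullback.fst f qK) ≫ f =
      (pullback.snd (pullback.snd f qK) a ≫ b) ≫ qΩ := by
    rw [Category.assoc]; exact outer.w
  have hp1 : pullback.lift _ _ hw ≫ pullback.fst f qΩ =
      pullback.fst (pullback.snd f qK) a ≫ pullback.fst f qK := pullback.lift_fst _ _ _
  have hp2 : pullback.lift _ _ hw ≫ pullback.snd f qΩ =
      pullback.snd (pullback.snd f qK) a ≫ b := pullback.lift_snd _ _ _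
  have sqΩ : IsPullback (pullback.lift _ _ hw) (pullback.snd (pullback.snd f qK) a)
      (pullback.snd f qΩ) b := by
    refine IsPullback.of_right ?_ hp2 (IsPullback.of_hasPullback f qΩ)
    rw [hp1]
    exact outer
  have hsurjK : Surjective (pullback.fst (pullback.snd f qK) a) :=
    MorphismProperty.pullback_fst (P := @Surjective) _ _ inferInstance
  exact ⟨_, _, _, _, hsurjK, sqΩ, hp1⟩

/-- Descent of connectedness of the preimage of a connected component from the algebraic closure
to an arbitrary extension field. -/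
theorem isConnected_preimage_connectedComponent {k K : Type u} [Field k] [Field K] [Algebra k K]
    {X : Scheme.{u}} (f : X ⟶ Spec (CommRingCat.of k)) (x₀ : X)
    (S : Set ↑(pullback f (Spec.map (CommRingCat.ofHom (algebraMap k (AlgebraicClosure k))))))
    (hS : _root_.IsPreconnected S)
    (hSD : S ⊆ ⇑(pullback.fst f (Spec.map (CommRingCat.ofHom
      (algebraMap k (AlgebraicClosure k))))) ⁻¹' connectedComponent x₀)
    (hfib : ⇑(pullback.fst f (Spec.map (CommRingCat.ofHom
      (algebraMap k (AlgebraicClosure k))))) ⁻¹' {x₀} ⊆ S) :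
    _root_.IsConnected (⇑(pullback.fst f (Spec.map (CommRingCat.ofHom (algebraMap k K)))) ⁻¹'
      connectedComponent x₀) := by
  haveI hqint : IsIntegralHom (Spec.map (CommRingCat.ofHom
      (algebraMap k (AlgebraicClosure k)))) := by
    rw [IsIntegralHom.SpecMap_iff]
    exact algebraMap_isIntegral_iff.mpr inferInstance
  haveI hqs : Surjective (Spec.map (CommRingCat.ofHom (algebraMap k (AlgebraicClosure k)))) :=
    surjective_specMap_field
  haveI hps : Surjective (pullback.fst f (Spec.map (CommRingCat.ofHom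
      (algebraMap k (AlgebraicClosure k))))) :=
    MorphismProperty.pullback_fst (P := @Surjective) _ _ hqs
  have step1 : _root_.IsConnected (⇑(pullback.fst f (Spec.map (CommRingCat.ofHom
      (algebraMap k (AlgebraicClosure k))))) ⁻¹' connectedComponent x₀) :=
    isConnected_preimage_of_isOpenMap_isClosedMap
      (pullback.fst f (Spec.map (CommRingCat.ofHom
        (algebraMap k (AlgebraicClosure k))))).isOpenMap
      (pullback.fst f (Spec.map (CommRingCat.ofHom
        (algebraMap k (AlgebraicClosure k))))).isClosedMap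
      isConnected_connectedComponent hS hSD mem_connectedComponent hfib
      ((Set.singleton_nonempty _).preimage (pullback.fst f (Spec.map (CommRingCat.ofHom
        (algebraMap k (AlgebraicClosure k))))).surjective)
  obtain ⟨L, _, a, b, hab⟩ := exists_compositum k K (AlgebraicClosure k)
  have hq2 : Spec.map (CommRingCat.ofHom a) ≫ Spec.map (CommRingCat.ofHom (algebraMap k K)) =
      Spec.map (CommRingCat.ofHom b) ≫
        Spec.map (CommRingCat.ofHom (algebraMap k (AlgebraicClosure k))) := by
    rw [← Spec.map_comp, ← Spec.map_comp, ← CommRingCat.ofHom_comp, ← CommRingCat.ofHom_comp, hab]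
  haveI : Surjective (Spec.map (CommRingCat.ofHom a)) := by
    letI := a.toAlgebra
    exact surjective_specMap_field (k := K) (K := L)
  obtain ⟨W, pK, pΩ, wL, hpK, sq, hcomp⟩ := exists_common_pullback' f _ _ _ _ hq2
  haveI := hpK
  letI := b.toAlgebra
  have hb1 : GeometricallyConnected (Spec.map (CommRingCat.ofHom b)) :=
    geomConn_specMap_of_isSepClosed (k := AlgebraicClosure k) (K := L)
  have hb2 : UniversallyOpen (Spec.map (CommRingCat.ofHom b)) :=
    univOpen_specMap_field (k := AlgebraicClosure k) (K := L)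
  haveI : GeometricallyConnected pΩ :=
    MorphismProperty.of_isPullback (P := @GeometricallyConnected) sq.flip hb1
  haveI : UniversallyOpen pΩ :=
    MorphismProperty.of_isPullback (P := @UniversallyOpen) sq.flip hb2
  have step2 : _root_.IsConnected (⇑pΩ ⁻¹' (⇑(pullback.fst f (Spec.map (CommRingCat.ofHom
      (algebraMap k (AlgebraicClosure k))))) ⁻¹' connectedComponent x₀)) :=
    isConnected_preimage_of_isOpenMap_of_fibres pΩ.continuous pΩ.isOpenMap
      (fun b' => Scheme.Hom.isConnected_preimage_singleton pΩ b') step1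
  have heq : ⇑pΩ ⁻¹' (⇑(pullback.fst f (Spec.map (CommRingCat.ofHom
      (algebraMap k (AlgebraicClosure k))))) ⁻¹' connectedComponent x₀) =
      ⇑pK ⁻¹' (⇑(pullback.fst f (Spec.map (CommRingCat.ofHom (algebraMap k K)))) ⁻¹'
        connectedComponent x₀) := by
    ext w'
    simp only [Set.mem_preimage]
    rw [← Scheme.Hom.comp_apply, ← Scheme.Hom.comp_apply, hcomp]
  rw [heq] at step2
  have himg := step2.image pK pK.continuous.continuousOn
  rw [Set.image_preimage_eq _ pK.surjective] at himg
  exact himg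

end Groth.Agent.H37
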