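import Groth.Agent.H37.FinSubLimit
import Groth.Agent.H37.ConnDescent

/-!
# The image of a connected component under base field extension
-/

set_option autoImplicit false
universe u
open CategoryTheory CategoryTheory.Limits AlgebraicGeometry Opposite

namespace Groth.Agent.H37

section Algebraic

variable {k : Type u} (Ω : Type u) [Field k] [Field Ω] [Algebra k Ω]
  {X : Scheme.{u}} (f : X ⟶ Spec (CommRingCat.of k))

/-- The diagram of base changes to finite subextensions. -/
noncomputable abbrev fsDiagram : (FinSub k Ω)ᵒᵖ ⥤ Scheme.{u} :=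
  pbDiagram f (specDiagram k Ω) (specDiagramβ k Ω)

/-- The cone of the base change to `Ω` over the diagram of base changes to finite
subextensions. -/
noncomputable abbrev fsCone : Cone (fsDiagram Ω f) :=
  pbCone f (specDiagram k Ω) (specDiagramβ k Ω) (specCone k Ω)
    (Spec.map (CommRingCat.ofHom (algebraMap k Ω))) (specCone_π_β k Ω)

/-- The base change to an algebraic extension is the limit of the base changes to finite
subextensions. -/
noncomputable def fsConeIsLimit [Algebra.IsAlgebraic k Ω] : IsLimit (fsCone Ω f) := by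
  haveI : IsConnected (FinSub k Ω)ᵒᵖ := IsCofiltered.isConnected _
  exact pbConeIsLimit f _ _ _ _ _ (specConeIsLimit k Ω)

theorem fsDiagram_isAffineHom {i j : (FinSub k Ω)ᵒᵖ} (φ : i ⟶ j) :
    IsAffineHom ((fsDiagram Ω f).map φ) := by
  have sq := pbDiagram_map_isPullback f (specDiagram k Ω) (specDiagramβ k Ω) φ
  haveI : IsAffine ((specDiagram k Ω).obj i) :=
    inferInstanceAs (IsAffine (Spec ((finSubFunctor k Ω).obj i.unop)))
  haveI : IsAffine ((specDiagram k Ω).obj j) :=
    inferInstanceAs (IsAffine (Spec ((finSubFunctor k Ω).obj j.unop)))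
  exact MorphismProperty.of_isPullback (P := @IsAffineHom) sq.flip inferInstance

variable [Algebra.IsAlgebraic k Ω]

/-- Over a connected base, connected components of the base change to an algebraic extension
surject onto the base. -/
theorem image_connectedComponent_eq_univ_of_isAlgebraic [ConnectedSpace X]
    (z : ↥(pullback f (Spec.map (CommRingCat.ofHom (algebraMap k Ω))))) :
    ⇑(pullback.fst f (Spec.map (CommRingCat.ofHom (algebraMap k Ω)))) '' connectedComponent z =
      Set.univ := by
  haveI hAff : ∀ {i j : (FinSub k Ω)ᵒᵖ} (φ : i ⟶ j), IsAffineHom ((fsDiagram Ω f).map φ) :=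
    fun φ => fsDiagram_isAffineHom Ω f φ
  have hbasis := isBasis_preimage_isAffineOpen (fsDiagram Ω f) (fsCone Ω f) (fsConeIsLimit Ω f)
  -- the projection to the base
  haveI hpo : UniversallyOpen (pullback.fst f (Spec.map (CommRingCat.ofHom (algebraMap k Ω)))) :=
    MorphismProperty.pullback_fst (P := @UniversallyOpen) _ _ univOpen_specMap_field
  haveI hqint : IsIntegralHom (Spec.map (CommRingCat.ofHom (algebraMap k Ω))) := by
    rw [IsIntegralHom.SpecMap_iff]
    exact algebraMap_isIntegral_iff.mpr inferInstance
  haveI hpint : IsIntegralHom (pullback.fst f (Spec.map (CommRingCat.ofHom (algebraMap k Ω)))) :=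
    MorphismProperty.pullback_fst (P := @IsIntegralHom) _ _ hqint
  -- the projections to the finite levels
  have hleg : ∀ E : FinSub k Ω,
      Surjective (pbConeLeg f (specDiagram k Ω) (specDiagramβ k Ω) (specCone k Ω)
        (Spec.map (CommRingCat.ofHom (algebraMap k Ω))) (specCone_π_β k Ω) (op E)) ∧
      UniversallyOpen (pbConeLeg f (specDiagram k Ω) (specDiagramβ k Ω) (specCone k Ω)
        (Spec.map (CommRingCat.ofHom (algebraMap k Ω))) (specCone_π_β k Ω) (op E)) ∧
      IsIntegralHom (pbConeLeg f (specDiagram k Ω) (specDiagramβ k Ω) (specCone k Ω)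
        (Spec.map (CommRingCat.ofHom (algebraMap k Ω))) (specCone_π_β k Ω) (op E)) := by
    intro E
    have sq := pbCone_isPullback f (specDiagram k Ω) (specDiagramβ k Ω) (specCone k Ω)
      (Spec.map (CommRingCat.ofHom (algebraMap k Ω))) (specCone_π_β k Ω) (op E)
    haveI : Algebra.IsAlgebraic ↥E.1 Ω := Algebra.IsAlgebraic.tower_top (K := k) (L := ↥E.1) (A := Ω)
    have h1 : Surjective ((specCone k Ω).π.app (op E)) := by
      rw [specCone_π]; exact surjective_specMap_field
    have h2 : UniversallyOpen ((specCone k Ω).π.app (op E)) := by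
      rw [specCone_π]; exact univOpen_specMap_field
    have h3' : IsIntegralHom (Spec.map (CommRingCat.ofHom (algebraMap ↥E.1 Ω))) := by
      rw [IsIntegralHom.SpecMap_iff]
      exact algebraMap_isIntegral_iff.mpr inferInstance
    have h3 : IsIntegralHom ((specCone k Ω).π.app (op E)) := h3'
    exact ⟨MorphismProperty.of_isPullback (P := @Surjective) sq.flip h1,
      MorphismProperty.of_isPullback (P := @UniversallyOpen) sq.flip h2,
      MorphismProperty.of_isPullback (P := @IsIntegralHom) sq.flip h3⟩
  -- the finite levels over the base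
  have hfst : ∀ E : FinSub k Ω,
      IsFinite (pbFst f (specDiagram k Ω) (specDiagramβ k Ω) (op E)) ∧
      UniversallyOpen (pbFst f (specDiagram k Ω) (specDiagramβ k Ω) (op E)) := by
    intro E
    haveI := E.2
    have h1 : IsFinite (Spec.map (CommRingCat.ofHom (algebraMap k ↥E.1))) := by
      rw [IsFinite.SpecMap_iff]
      exact RingHom.finite_algebraMap.mpr inferInstance
    exact ⟨MorphismProperty.pullback_fst (P := @IsFinite) _ _ h1,
      MorphismProperty.pullback_fst (P := @UniversallyOpen) _ _
        (univOpen_specMap_field (k := k) (K := ↥E.1))⟩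
  refine image_connectedComponent_eq_univ_of_limit (ι := FinSub k Ω)
    (Y := fun E => ↥((fsDiagram Ω f).obj (op E)))
    (⇑(pullback.fst f (Spec.map (CommRingCat.ofHom (algebraMap k Ω)))))
    (fun E => ⇑(pbConeLeg f (specDiagram k Ω) (specDiagramβ k Ω) (specCone k Ω)
      (Spec.map (CommRingCat.ofHom (algebraMap k Ω))) (specCone_π_β k Ω) (op E)))
    (fun E => ⇑(pbFst f (specDiagram k Ω) (specDiagramβ k Ω) (op E)))
    (fun E E' h => ⇑((fsDiagram Ω f).map (homOfLE h).op))
    ?_ ?_ ?_ ?_ ?_ ?_ ?_ ?_ ?_ ?_ ?_ ?_ ?_ ?_ z
  · intro E w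
    rw [← Scheme.Hom.comp_apply, pbConeLeg_fst]
    rfl
  · intro E E' h w
    rw [← Scheme.Hom.comp_apply, pbConeLeg_map]
  · intro E E' h
    exact ((fsDiagram Ω f).map (homOfLE h).op).continuous
  · exact (pullback.fst f _).isOpenMap
  · exact (pullback.fst f _).isClosedMap
  · intro x
    exact (pullback.fst f _).isCompact_preimage_singleton x
  · intro E
    exact Scheme.Hom.continuous _
  · intro E
    haveI := (hleg E).2.1
    exact Scheme.Hom.isOpenMap _
  · intro E
    haveI := (hleg E).2.2
    exact Scheme.Hom.isClosedMap _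
  · intro E y
    haveI := (hleg E).2.2
    exact Scheme.Hom.isCompact_preimage_singleton _ y
  · intro E
    haveI := (hfst E).2
    exact Scheme.Hom.isOpenMap _
  · intro E
    haveI := (hfst E).1
    exact Scheme.Hom.isClosedMap _
  · intro E x
    haveI := (hfst E).1
    exact Scheme.Hom.finite_preimage_singleton _ x
  · intro w W hW hwW
    obtain ⟨U', ⟨i, V, hV, rfl⟩, hwU', hU'W⟩ :=
      TopologicalSpace.Opens.isBasis_iff_nbhd.mp hbasis (U := ⟨W, hW⟩) hwW
    refine ⟨i.unop, (V : Set ↥((fsDiagram Ω f).obj i)), V.isOpen, ?_, ?_⟩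
    · exact hwU'
    · intro x hx
      exact hU'W hx

end Algebraic

/-- Over a connected base, connected components of the base change to any extension field
surject onto the base. -/
theorem image_connectedComponent_eq_univ {k K : Type u} [Field k] [Field K] [Algebra k K]
    {X : Scheme.{u}} [ConnectedSpace X] (f : X ⟶ Spec (CommRingCat.of k))
    (z : ↥(pullback f (Spec.map (CommRingCat.ofHom (algebraMap k K))))) :
    ⇑(pullback.fst f (Spec.map (CommRingCat.ofHom (algebraMap k K)))) '' connectedComponent z =
      Set.univ := by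
  obtain ⟨L, _, a, b, hab⟩ := exists_compositum k K (AlgebraicClosure k)
  have hq2 : Spec.map (CommRingCat.ofHom a) ≫ Spec.map (CommRingCat.ofHom (algebraMap k K)) =
      Spec.map (CommRingCat.ofHom b) ≫
        Spec.map (CommRingCat.ofHom (algebraMap k (AlgebraicClosure k))) := by
    rw [← Spec.map_comp, ← Spec.map_comp, ← CommRingCat.ofHom_comp, ← CommRingCat.ofHom_comp, hab]
  haveI : Surjective (Spec.map (CommRingCat.ofHom a)) := by
    letI := a.toAlgebra
    exact surjective_specMap_field (k := K) (K := L)
  obtain ⟨W, pK, pΩ, wL, hpK, sq, hcomp⟩ := exists_common_pullback' f _ _ _ _ hq2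
  haveI := hpK
  letI := b.toAlgebra
  have hb1 : GeometricallyConnected (Spec.map (CommRingCat.ofHom b)) :=
    geomConn_specMap_of_isSepClosed (k := AlgebraicClosure k) (K := L)
  have hb2 : UniversallyOpen (Spec.map (CommRingCat.ofHom b)) :=
    univOpen_specMap_field (k := AlgebraicClosure k) (K := L)
  haveI : GeometricallyConnected pΩ :=
    MorphismProperty.of_isPullback (P := @GeometricallyConnected) sq.flip hb1
  haveI : UniversallyOpen pΩ :=
    MorphismProperty.of_isPullback (P := @UniversallyOpen) sq.flip hb2
  obtain ⟨l, hl⟩ := pK.surjective z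
  have h1 : ⇑pΩ ⁻¹' connectedComponent (pΩ l) ⊆ connectedComponent l :=
    (pΩ.isConnected_preimage pΩ.isOpenMap isConnected_connectedComponent
      isClosed_connectedComponent).isPreconnected.subset_connectedComponent
      (show pΩ l ∈ connectedComponent (pΩ l) from mem_connectedComponent)
  have h2 := image_connectedComponent_eq_univ_of_isAlgebraic (AlgebraicClosure k) f (pΩ l)
  rw [Set.eq_univ_iff_forall] at h2 ⊢
  intro x
  obtain ⟨w, hw, hwx⟩ := h2 x
  obtain ⟨l', hl'⟩ := pΩ.surjective w
  have hl'cc : l' ∈ connectedComponent l := h1 (by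
    show pΩ l' ∈ connectedComponent (pΩ l)
    rw [hl']; exact hw)
  refine ⟨pK l', ?_, ?_⟩
  · rw [← hl]
    exact pK.continuous.image_connectedComponent_subset l ⟨l', hl'cc, rfl⟩
  · rw [← hwx, ← hl', ← Scheme.Hom.comp_apply, ← Scheme.Hom.comp_apply, hcomp]

/-- The image of a connected component of a base change to an extension field is a connected
component. -/
theorem image_connectedComponent_eq {k K : Type u} [Field k] [Field K] [Algebra k K]
    {X : Scheme.{u}} (f : X ⟶ Spec (CommRingCat.of k))
    (z : ↥(pullback f (Spec.map (CommRingCat.ofHom (algebraMap k K))))) :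
    ⇑(pullback.fst f (Spec.map (CommRingCat.ofHom (algebraMap k K)))) '' connectedComponent z =
      connectedComponent (pullback.fst f (Spec.map (CommRingCat.ofHom (algebraMap k K))) z) := by
  apply Set.Subset.antisymm
  · exact (pullback.fst f _).continuous.image_connectedComponent_subset z
  · obtain ⟨x, hx⟩ : ∃ x : X, x = pullback.fst f
      (Spec.map (CommRingCat.ofHom (algebraMap k K))) z := ⟨_, rfl⟩
    rw [← hx]
    obtain ⟨I, hI⟩ : ∃ I : X.IdealSheafData, I = Scheme.IdealSheafData.vanishingIdeal
      ⟨connectedComponent x, isClosed_connectedComponent⟩ := ⟨_, rfl⟩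
    have hrange : Set.range I.subschemeι = connectedComponent x := by
      rw [Scheme.IdealSheafData.range_subschemeι, hI,
        Scheme.IdealSheafData.coe_support_vanishingIdeal]
      rfl
    have hpre : _root_.IsPreconnected (Set.univ : Set I.subscheme) := by
      have himg : ⇑I.subschemeι '' Set.univ = connectedComponent x := by
        rw [Set.image_univ, hrange]
      exact (I.subschemeι.isEmbedding.isInducing.isPreconnected_image).mp
        (himg ▸ isPreconnected_connectedComponent)
    obtain ⟨c₀, hc₀⟩ : x ∈ Set.range I.subschemeι := by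
      rw [hrange]; exact mem_connectedComponent
    haveI : ConnectedSpace I.subscheme :=
      { toPreconnectedSpace := ⟨hpre⟩, toNonempty := ⟨c₀⟩ }
    obtain ⟨q, hq⟩ : ∃ q : Spec (CommRingCat.of K) ⟶ Spec (CommRingCat.of k),
      q = Spec.map (CommRingCat.ofHom (algebraMap k K)) := ⟨_, rfl⟩
    have hmain : ∀ z' : ↥(pullback f q), pullback.fst f q z' = x →
        connectedComponent x ⊆ ⇑(pullback.fst f q) '' connectedComponent z' := by
      intro z' hz'
      have hw : (pullback.fst (I.subschemeι ≫ f) q ≫ I.subschemeι) ≫ f =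
          pullback.snd (I.subschemeι ≫ f) q ≫ q := by
        rw [Category.assoc]; exact pullback.condition
      obtain ⟨e, he1, he2⟩ : ∃ e : pullback (I.subschemeι ≫ f) q ⟶ pullback f q,
          e ≫ pullback.fst f q = pullback.fst (I.subschemeι ≫ f) q ≫ I.subschemeι ∧
          e ≫ pullback.snd f q = pullback.snd (I.subschemeι ≫ f) q :=
        ⟨pullback.lift _ _ hw, pullback.lift_fst _ _ _, pullback.lift_snd _ _ _⟩
      have sqe : IsPullback e (pullback.fst (I.subschemeι ≫ f) q) (pullback.fst f q)
          I.subschemeι := by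
        refine IsPullback.of_right ?_ he1 (IsPullback.of_hasPullback f q).flip
        rw [he2]
        exact (IsPullback.of_hasPullback (I.subschemeι ≫ f) q).flip
      obtain ⟨zc, hzc1, hzc2⟩ := exists_of_isPullback sqe z' c₀ (hz'.trans hc₀.symm)
      have huniv : ⇑(pullback.fst (I.subschemeι ≫ f) q) '' connectedComponent zc = Set.univ := by
        subst hq
        exact image_connectedComponent_eq_univ (I.subschemeι ≫ f) zc
      intro y hy
      rw [← hrange] at hy
      obtain ⟨c', hc'⟩ := hy
      have hc'mem : c' ∈ ⇑(pullback.fst (I.subschemeι ≫ f) q) '' connectedComponent zc :=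
        huniv ▸ Set.mem_univ c'
      obtain ⟨w, hw1, hw2⟩ := hc'mem
      refine ⟨e w, ?_, ?_⟩
      · rw [← hzc1]
        exact e.continuous.image_connectedComponent_subset zc ⟨w, hw1, rfl⟩
      · rw [← Scheme.Hom.comp_apply, he1, Scheme.Hom.comp_apply, hw2, hc']
    subst hq
    exact hmain z hx.symm

end Groth.Agent.H37
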