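import Mathlib

/-!
# Connected components in an inverse limit of spaces finite over a connected base
-/

set_option autoImplicit false
open Set Topology

namespace Groth.Agent.H37

/-- For an open and closed map to a preconnected space with one finite fibre, every point of a
clopen set lies in a clopen preconnected subset. -/
theorem exists_isClopen_isPreconnected_of_finite_fibre {A B : Type*} [TopologicalSpace A]
    [TopologicalSpace B] [PreconnectedSpace B] {ρ : A → B} (ho : IsOpenMap ρ) (hcl : IsClosedMap ρ)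
    {b₀ : B} (hfin : (ρ ⁻¹' {b₀}).Finite) :
    ∀ (n : ℕ) (S : Set A), IsClopen S → (S ∩ ρ ⁻¹' {b₀}).ncard ≤ n → ∀ a ∈ S,
      ∃ T, T ⊆ S ∧ IsClopen T ∧ IsPreconnected T ∧ a ∈ T := by
  intro n
  induction n using Nat.strong_induction_on with
  | _ n ih =>
    intro S hS hn a haS
    by_cases hpre : IsPreconnected S
    · exact ⟨S, Subset.rfl, hS, hpre, haS⟩
    · have hex : ∃ u v : Set A, IsOpen u ∧ IsOpen v ∧ S ⊆ u ∪ v ∧ (S ∩ u).Nonempty ∧
          (S ∩ v).Nonempty ∧ ¬ (S ∩ (u ∩ v)).Nonempty := by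
        by_contra hcon
        apply hpre
        intro u v hu hv hSuv hSu hSv
        by_contra hne
        exact hcon ⟨u, v, hu, hv, hSuv, hSu, hSv, hne⟩
      obtain ⟨u, v, hu, hv, hSuv, ⟨x₁, hx₁S, hx₁u⟩, ⟨x₂, hx₂S, hx₂v⟩, hdisj⟩ := hex
      have hdisj' : ∀ x, x ∈ S → x ∈ u → x ∈ v → False :=
        fun x h1 h2 h3 => hdisj ⟨x, h1, h2, h3⟩
      have hS₁ : S ∩ u = S ∩ vᶜ := by
        ext x
        constructor
        · rintro ⟨hxS, hxu⟩
          exact ⟨hxS, fun hxv => hdisj' x hxS hxu hxv⟩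
        · rintro ⟨hxS, hxv⟩
          exact ⟨hxS, (hSuv hxS).resolve_right hxv⟩
      have hS₂ : S ∩ v = S ∩ uᶜ := by
        ext x
        constructor
        · rintro ⟨hxS, hxv⟩
          exact ⟨hxS, fun hxu => hdisj' x hxS hxu hxv⟩
        · rintro ⟨hxS, hxu⟩
          exact ⟨hxS, (hSuv hxS).resolve_left hxu⟩
      have hc₁ : IsClopen (S ∩ u) :=
        ⟨by rw [hS₁]; exact hS.1.inter hv.isClosed_compl, hS.2.inter hu⟩
      have hc₂ : IsClopen (S ∩ v) :=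
        ⟨by rw [hS₂]; exact hS.1.inter hu.isClosed_compl, hS.2.inter hv⟩
      have himg : ∀ T : Set A, IsClopen T → T.Nonempty → ∃ x ∈ T, ρ x = b₀ := by
        intro T hT hTne
        have hclopen : IsClopen (ρ '' T) := ⟨hcl _ hT.1, ho _ hT.2⟩
        have huniv := hclopen.eq_univ (hTne.image ρ)
        have hb : b₀ ∈ ρ '' T := huniv ▸ mem_univ b₀
        obtain ⟨x, hx, hxb⟩ := hb
        exact ⟨x, hx, hxb⟩
      obtain ⟨y₁, hy₁, hy₁b⟩ := himg _ hc₁ ⟨x₁, hx₁S, hx₁u⟩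
      obtain ⟨y₂, hy₂, hy₂b⟩ := himg _ hc₂ ⟨x₂, hx₂S, hx₂v⟩
      have hfinS : (S ∩ ρ ⁻¹' {b₀}).Finite := hfin.subset inter_subset_right
      have hlt₁ : ((S ∩ u) ∩ ρ ⁻¹' {b₀}).ncard < (S ∩ ρ ⁻¹' {b₀}).ncard := by
        apply Set.ncard_lt_ncard _ hfinS
        refine ⟨fun x hx => ⟨hx.1.1, hx.2⟩, fun hsub => ?_⟩
        have hmem : y₂ ∈ (S ∩ u) ∩ ρ ⁻¹' {b₀} := hsub ⟨hy₂.1, hy₂b⟩
        exact hdisj' y₂ hy₂.1 hmem.1.2 hy₂.2
      have hlt₂ : ((S ∩ v) ∩ ρ ⁻¹' {b₀}).ncard < (S ∩ ρ ⁻¹' {b₀}).ncard := by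
        apply Set.ncard_lt_ncard _ hfinS
        refine ⟨fun x hx => ⟨hx.1.1, hx.2⟩, fun hsub => ?_⟩
        have hmem : y₁ ∈ (S ∩ v) ∩ ρ ⁻¹' {b₀} := hsub ⟨hy₁.1, hy₁b⟩
        exact hdisj' y₁ hy₁.1 hy₁.2 hmem.1.2
      rcases hSuv haS with hau | hav
      · obtain ⟨T, hTS, hT, hTpre, haT⟩ :=
          ih _ (lt_of_lt_of_le hlt₁ hn) (S ∩ u) hc₁ le_rfl a ⟨haS, hau⟩
        exact ⟨T, hTS.trans inter_subset_left, hT, hTpre, haT⟩
      · obtain ⟨T, hTS, hT, hTpre, haT⟩ :=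
          ih _ (lt_of_lt_of_le hlt₂ hn) (S ∩ v) hc₂ le_rfl a ⟨haS, hav⟩
        exact ⟨T, hTS.trans inter_subset_left, hT, hTpre, haT⟩

/-- For an open and closed map to a preconnected space with one finite fibre, connected
components of the source are open. -/
theorem isOpen_connectedComponent_of_finite_fibre {A B : Type*} [TopologicalSpace A]
    [TopologicalSpace B] [PreconnectedSpace B] {ρ : A → B} (ho : IsOpenMap ρ) (hcl : IsClosedMap ρ)
    {b₀ : B} (hfin : (ρ ⁻¹' {b₀}).Finite) (a : A) : IsOpen (connectedComponent a) := by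
  obtain ⟨T, -, hT, hTpre, haT⟩ :=
    exists_isClopen_isPreconnected_of_finite_fibre ho hcl hfin _ univ isClopen_univ le_rfl a
      (mem_univ a)
  have heq : connectedComponent a = T :=
    Subset.antisymm (hT.connectedComponent_subset haT) (hTpre.subset_connectedComponent haT)
  rw [heq]
  exact hT.2

/-- For an open and closed map with compact fibres, the quasi-component of a point maps onto
the connected component of its image. -/
theorem exists_mem_quasiComponent_of_mem_connectedComponent {A B : Type*} [TopologicalSpace A]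
    [TopologicalSpace B] {π : A → B} (ho : IsOpenMap π) (hcl : IsClosedMap π)
    (hcpt : ∀ b, IsCompact (π ⁻¹' {b})) (a : A) {b : B} (hb : b ∈ connectedComponent (π a)) :
    ∃ a' ∈ ⋂ E : {E : Set A // IsClopen E ∧ a ∈ E}, E.1, π a' = b := by
  have key : ∀ E : Set A, IsClopen E → a ∈ E → (π ⁻¹' {b} ∩ E).Nonempty := by
    intro E hE haE
    have hclopen : IsClopen (π '' E) := ⟨hcl _ hE.1, ho _ hE.2⟩
    obtain ⟨x, hxE, hx⟩ := hclopen.connectedComponent_subset ⟨a, haE, rfl⟩ hb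
    exact ⟨x, hx, hxE⟩
  obtain ⟨x, hx1, hx2⟩ := (hcpt b).inter_iInter_nonempty
    (fun E : {E : Set A // IsClopen E ∧ a ∈ E} => E.1) (fun E => E.2.1.1) (fun u => by
      refine key _ (isClopen_biInter_finset fun E _ => E.2.1) ?_
      exact mem_iInter₂.mpr fun E _ => E.2.2)
  exact ⟨x, hx2, hx1⟩

/-- In an inverse limit of spaces finite over a preconnected base, connected components surject
onto the base. -/
theorem image_connectedComponent_eq_univ_of_limit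
    {Z X : Type*} [TopologicalSpace Z] [TopologicalSpace X] [PreconnectedSpace X]
    {ι : Type*} [Preorder ι] [IsDirectedOrder ι] [Nonempty ι]
    {Y : ι → Type*} [∀ i, TopologicalSpace (Y i)]
    (p : Z → X) (π : ∀ i, Z → Y i) (ρ : ∀ i, Y i → X) (τ : ∀ i j, i ≤ j → Y j → Y i)
    (hpρ : ∀ i z, ρ i (π i z) = p z)
    (hτ : ∀ i j (h : i ≤ j) z, τ i j h (π j z) = π i z)
    (hτc : ∀ i j (h : i ≤ j), Continuous (τ i j h))
    (hp_o : IsOpenMap p) (hp_cl : IsClosedMap p) (hp_cpt : ∀ x, IsCompact (p ⁻¹' {x}))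
    (hπ_c : ∀ i, Continuous (π i)) (hπ_o : ∀ i, IsOpenMap (π i)) (hπ_cl : ∀ i, IsClosedMap (π i))
    (hπ_cpt : ∀ i y, IsCompact (π i ⁻¹' {y}))
    (hρ_o : ∀ i, IsOpenMap (ρ i)) (hρ_cl : ∀ i, IsClosedMap (ρ i))
    (hρ_fin : ∀ i x, (ρ i ⁻¹' {x}).Finite)
    (hbasis : ∀ (z : Z) (W : Set Z), IsOpen W → z ∈ W →
      ∃ i, ∃ O : Set (Y i), IsOpen O ∧ z ∈ π i ⁻¹' O ∧ π i ⁻¹' O ⊆ W)
    (z : Z) : p '' connectedComponent z = univ := by
  classical
  obtain ⟨Q, hQ⟩ : ∃ Q : Set Z, Q = ⋂ E : {E : Set Z // IsClopen E ∧ z ∈ E}, E.1 := ⟨_, rfl⟩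
  have hQcl : IsClosed Q := by
    rw [hQ]; exact isClosed_iInter fun E => E.2.1.1
  have hzQ : z ∈ Q := by
    rw [hQ]; exact mem_iInter.mpr fun E => E.2.2
  have hCo : ∀ i, IsOpen (connectedComponent (π i z)) := fun i =>
    isOpen_connectedComponent_of_finite_fibre (hρ_o i) (hρ_cl i) (hρ_fin i (p z)) _
  have hQsub : ∀ i, Q ⊆ π i ⁻¹' connectedComponent (π i z) := fun i => by
    rw [hQ]
    exact iInter_subset (fun E : {E : Set Z // IsClopen E ∧ z ∈ E} => E.1)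
      ⟨π i ⁻¹' connectedComponent (π i z),
        ⟨isClosed_connectedComponent.preimage (hπ_c i), (hCo i).preimage (hπ_c i)⟩,
        mem_connectedComponent⟩
  have hCsub : ∀ i, connectedComponent (π i z) ⊆ π i '' Q := fun i b hb => by
    obtain ⟨a', ha', hab⟩ := exists_mem_quasiComponent_of_mem_connectedComponent
      (hπ_o i) (hπ_cl i) (hπ_cpt i) z hb
    exact ⟨a', hQ ▸ ha', hab⟩
  have hbasis' : ∀ (i₀ : ι) (w : Z) (W : Set Z), IsOpen W → w ∈ W →
      ∃ j, i₀ ≤ j ∧ ∃ O : Set (Y j), IsOpen O ∧ w ∈ π j ⁻¹' O ∧ π j ⁻¹' O ⊆ W := by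
    intro i₀ w W hW hwW
    obtain ⟨i, O, hO, hwO, hOW⟩ := hbasis w W hW hwW
    obtain ⟨j, hij, hi₀j⟩ := exists_ge_ge i i₀
    have heq : π j ⁻¹' (τ i j hij ⁻¹' O) = π i ⁻¹' O := by
      ext x
      simp only [mem_preimage, hτ]
    refine ⟨j, hi₀j, τ i j hij ⁻¹' O, hO.preimage (hτc i j hij), ?_, ?_⟩
    · rw [heq]; exact hwO
    · rw [heq]; exact hOW
  have hQpre : IsPreconnected Q := by
    rw [isPreconnected_closed_iff]
    intro t t' ht ht' hQtt' hQt hQt'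
    by_contra hne
    have hdisj : ∀ x, x ∈ Q → x ∈ t → x ∈ t' → False :=
      fun x h1 h2 h3 => hne ⟨x, h1, h2, h3⟩
    have alpha : ∀ i, connectedComponent (π i z) ⊆ π i '' (Q ∩ t) := by
      intro i
      have hcl : IsClosed (π i '' (Q ∩ t)) := hπ_cl i _ (hQcl.inter ht)
      have hop : IsOpen (π i '' (Q ∩ t)) := by
        rw [isOpen_iff_forall_mem_open]
        rintro _ ⟨a, ⟨haQ, hat⟩, rfl⟩
        have hat' : a ∈ t'ᶜ := fun h => hdisj a haQ hat h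
        obtain ⟨j, hij, O, hO, haO, hOW⟩ := hbasis' i a t'ᶜ ht'.isOpen_compl hat'
        refine ⟨π i '' (π j ⁻¹' (O ∩ connectedComponent (π j z))), ?_,
          hπ_o i _ ((hO.inter (hCo j)).preimage (hπ_c j)), ⟨a, ⟨haO, hQsub j haQ⟩, rfl⟩⟩
        rintro _ ⟨w, ⟨hwO, hwC⟩, rfl⟩
        obtain ⟨q, hqQ, hqw⟩ := hCsub j hwC
        have hqO : q ∈ π j ⁻¹' O := by
          show π j q ∈ O
          rw [hqw]; exact hwO
        have hqt' : q ∉ t' := hOW hqO
        have hqt : q ∈ t := (hQtt' hqQ).resolve_right hqt'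
        refine ⟨q, ⟨hqQ, hqt⟩, ?_⟩
        rw [← hτ i j hij q, ← hτ i j hij w, hqw]
      obtain ⟨a₀, ha₀Q, ha₀t⟩ := hQt
      have hmem : π i a₀ ∈ connectedComponent (π i z) := hQsub i ha₀Q
      rw [connectedComponent_eq hmem]
      exact IsClopen.connectedComponent_subset ⟨hcl, hop⟩ ⟨a₀, ⟨ha₀Q, ha₀t⟩, rfl⟩
    obtain ⟨b, hbQ, hbt'⟩ := hQt'
    have hK : IsCompact ((Q ∩ t) ∩ p ⁻¹' {p b}) := (hp_cpt (p b)).inter_left (hQcl.inter ht)
    have hcover : ∀ a ∈ (Q ∩ t) ∩ p ⁻¹' {p b}, ∃ j, ∃ O : Set (Y j),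
        IsOpen O ∧ a ∈ π j ⁻¹' O ∧ π j ⁻¹' O ⊆ t'ᶜ := by
      intro a ha
      exact hbasis a t'ᶜ ht'.isOpen_compl (fun h => hdisj a ha.1.1 ha.1.2 h)
    choose! jf Of hOf haOf hOfW using hcover
    obtain ⟨F, hFK, hFcov⟩ := hK.elim_nhds_subcover (fun a => π (jf a) ⁻¹' Of a)
      (fun a ha => ((hOf a ha).preimage (hπ_c _)).mem_nhds (haOf a ha))
    obtain ⟨M, hM⟩ := Finset.exists_le (F.image jf)
    have hMb : π M b ∈ connectedComponent (π M z) := hQsub M hbQ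
    obtain ⟨a, ⟨haQ, hat⟩, hab⟩ := alpha M hMb
    have hpa : p a = p b := by
      rw [← hpρ M a, ← hpρ M b, hab]
    have haK : a ∈ (Q ∩ t) ∩ p ⁻¹' {p b} := ⟨⟨haQ, hat⟩, hpa⟩
    obtain ⟨c, hcF, hac⟩ := mem_iUnion₂.mp (hFcov haK)
    have hcM : jf c ≤ M := hM _ (Finset.mem_image_of_mem jf hcF)
    have hbc : b ∈ π (jf c) ⁻¹' Of c := by
      show π (jf c) b ∈ Of c
      rw [← hτ (jf c) M hcM b, ← hab, hτ (jf c) M hcM a]
      exact hac
    exact hOfW c (hFK c hcF) hbc hbt'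
  have hsub : Q ⊆ connectedComponent z := hQpre.subset_connectedComponent hzQ
  rw [eq_univ_iff_forall]
  intro x
  have hx : x ∈ connectedComponent (p z) := by
    rw [PreconnectedSpace.connectedComponent_eq_univ]; exact mem_univ x
  obtain ⟨a', ha', hax⟩ := exists_mem_quasiComponent_of_mem_connectedComponent
    hp_o hp_cl hp_cpt z hx
  exact ⟨a', hsub (hQ ▸ ha'), hax⟩

end Groth.Agent.H37
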