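import Groth.Agent.H37.SepPoints2
import Groth.Agent.H37.CompFix2

/-!
# Counting the irreducible components of `X_Ω` for `X` irreducible and `Ω/k` Galois

The irreducible components of `X_Ω` correspond to the points over the generic point `ξ` of `X`,
and these correspond to the `k`-embeddings into `Ω` of the separable closure of `k` in `κ(ξ)`.
-/

set_option autoImplicit false
universe u
open CategoryTheory CategoryTheory.Limits AlgebraicGeometry TensorProduct

namespace Groth.Agent.H37

theorem image_mem_irreducibleComponents {α β : Type*} [TopologicalSpace α] [TopologicalSpace β]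
    (h : α ≃ₜ β) {T : Set α} (hT : T ∈ irreducibleComponents α) :
    ⇑h '' T ∈ irreducibleComponents β := by
  refine ⟨hT.1.image h h.continuous.continuousOn, fun u hu hTu => ?_⟩
  have h1 : T ⊆ ⇑h.symm '' u := fun t ht => ⟨h t, hTu ⟨t, ht, rfl⟩, h.symm_apply_apply t⟩
  have h2 : ⇑h.symm '' u ⊆ T := hT.2 (hu.image h.symm h.symm.continuous.continuousOn) h1
  intro b hb
  exact ⟨h.symm b, h2 ⟨b, hb, rfl⟩, h.apply_symm_apply b⟩

section Alg

/-- Variant of `exists_sepClosure_embedding` for a normal extension `Ω/k` into which the separable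
closure of `k` in `κ` embeds. -/
theorem exists_sepClosure_embedding_of_normal {k κ Ω M : Type u} [Field k] [Field κ] [Field Ω]
    [Field M] [Algebra k κ] [Algebra k Ω] [Normal k Ω]
    (τ₀ : ↥(separableClosure k κ) →ₐ[k] Ω) (ικ : κ →+* M) (ι : Ω →+* M)
    (h : ι.comp (algebraMap k Ω) = ικ.comp (algebraMap k κ)) :
    ∃ τ : ↥(separableClosure k κ) →ₐ[k] Ω,
      ∀ c : ↥(separableClosure k κ), ι (τ c) = ικ (c : κ) := by
  letI : Algebra Ω M := ι.toAlgebra
  letI : Algebra k M := (ι.comp (algebraMap k Ω)).toAlgebra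
  haveI : IsScalarTower k Ω M := IsScalarTower.of_algebraMap_eq (fun x => rfl)
  let g : κ →ₐ[k] M :=
    { ικ with
      commutes' := fun c => by
        show ικ (algebraMap k κ c) = ι (algebraMap k Ω c)
        exact (congrArg (fun r : k →+* M => r c) h).symm }
  have hmem : ∀ c : ↥(separableClosure k κ),
      g (c : κ) ∈ (IsScalarTower.toAlgHom k Ω M).range := by
    intro c
    have hsp : ((minpoly k (τ₀ c)).map (algebraMap k Ω)).Splits :=
      Normal.splits inferInstance (τ₀ c)
    have hmin : minpoly k (τ₀ c) = minpoly k c := minpoly.algHom_eq τ₀ τ₀.injective c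
    have hmin2 : minpoly k (c : κ) = minpoly k c :=
      minpoly.algHom_eq (separableClosure k κ).val (separableClosure k κ).val.injective c
    have hint : IsIntegral k (τ₀ c) := Algebra.IsIntegral.isIntegral (τ₀ c)
    have hroot : (((minpoly k (τ₀ c)).map (algebraMap k Ω)).map (algebraMap Ω M)).IsRoot
        (g (c : κ)) := by
      rw [Polynomial.map_map, Polynomial.IsRoot.def, Polynomial.eval_map,
        ← IsScalarTower.algebraMap_eq k Ω M, ← Polynomial.aeval_def, hmin, ← hmin2,
        Polynomial.aeval_algHom_apply, minpoly.aeval, map_zero]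
    obtain ⟨ω, hω⟩ := hsp.mem_range_of_isRoot
      (Polynomial.map_ne_zero (minpoly.ne_zero hint)) hroot
    exact ⟨ω, hω⟩
  let e := AlgEquiv.ofInjectiveField (IsScalarTower.toAlgHom k Ω M)
  let τ : ↥(separableClosure k κ) →ₐ[k] Ω :=
    (e.symm : _ →ₐ[k] Ω).comp
      ((g.comp (separableClosure k κ).val).codRestrict _ (fun c => hmem c))
  refine ⟨τ, fun c => ?_⟩
  have h1 := e.apply_symm_apply ⟨g (c : κ), hmem c⟩
  exact congrArg Subtype.val h1

end Alg

section Points

variable {k Ω : Type u} [Field k] [Field Ω] [Algebra k Ω]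

/-- A point induces at most one embedding. -/
theorem HasEmb.unique {X : Scheme.{u}} (f : X ⟶ Spec (CommRingCat.of k)) (x : X)
    [Algebra k (X.residueField x)]
    {y : ↥(pullback f (Spec.map (CommRingCat.ofHom (algebraMap k Ω))))}
    {τ τ' : ↥(separableClosure k (X.residueField x)) →ₐ[k] Ω}
    (h : HasEmb f x y τ) (h' : HasEmb f x y τ') : τ = τ' := by
  obtain ⟨M, instM, a, ικ, ι, ha0, ha1, ha2, hτ⟩ := h
  obtain ⟨M', instM', a', ικ', ι', ha0', ha1', ha2', hτ'⟩ := h'
  letI : Field M := instM
  letI : Field M' := instM'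
  obtain ⟨s⟩ : Nonempty ↥(Spec (CommRingCat.of M)) :=
    (inferInstance : Nonempty (PrimeSpectrum M))
  obtain ⟨s'⟩ : Nonempty ↥(Spec (CommRingCat.of M')) :=
    (inferInstance : Nonempty (PrimeSpectrum M'))
  have hss : a s = a' s' := (ha0 s).trans (ha0' s').symm
  obtain ⟨z, -, -⟩ := Scheme.Pullback.exists_preimage_pullback (f := a) (g := a') s s' hss
  obtain ⟨v, hv⟩ := Spec.map_surjective
    ((pullback a a').fromSpecResidueField z ≫ pullback.fst a a')
  obtain ⟨v', hv'⟩ := Spec.map_surjective
    ((pullback a a').fromSpecResidueField z ≫ pullback.snd a a')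
  have hcomm : Spec.map v ≫ a = Spec.map v' ≫ a' := by
    rw [hv, hv', Category.assoc, Category.assoc, pullback.condition]
  have hsnd : Spec.map v ≫ Spec.map (CommRingCat.ofHom ι) =
      Spec.map v' ≫ Spec.map (CommRingCat.ofHom ι') := by
    calc Spec.map v ≫ Spec.map (CommRingCat.ofHom ι)
        = Spec.map v ≫ (a ≫ pullback.snd f (Spec.map (CommRingCat.ofHom (algebraMap k Ω)))) := by
          rw [ha2]
      _ = (Spec.map v ≫ a) ≫ pullback.snd f (Spec.map (CommRingCat.ofHom (algebraMap k Ω))) :=
          (Category.assoc _ _ _).symm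
      _ = (Spec.map v' ≫ a') ≫ pullback.snd f (Spec.map (CommRingCat.ofHom (algebraMap k Ω))) := by
          rw [hcomm]
      _ = Spec.map v' ≫ (a' ≫ pullback.snd f (Spec.map (CommRingCat.ofHom (algebraMap k Ω)))) :=
          Category.assoc _ _ _
      _ = Spec.map v' ≫ Spec.map (CommRingCat.ofHom ι') := by rw [ha2']
  have hfst : (Spec.map v ≫ Spec.map (CommRingCat.ofHom ικ)) ≫ X.fromSpecResidueField x =
      (Spec.map v' ≫ Spec.map (CommRingCat.ofHom ικ')) ≫ X.fromSpecResidueField x := by
    calc (Spec.map v ≫ Spec.map (CommRingCat.ofHom ικ)) ≫ X.fromSpecResidueField x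
        = Spec.map v ≫ (Spec.map (CommRingCat.ofHom ικ) ≫ X.fromSpecResidueField x) :=
          Category.assoc _ _ _
      _ = Spec.map v ≫ (a ≫ pullback.fst f (Spec.map (CommRingCat.ofHom (algebraMap k Ω)))) := by
          rw [ha1]
      _ = (Spec.map v ≫ a) ≫ pullback.fst f (Spec.map (CommRingCat.ofHom (algebraMap k Ω))) :=
          (Category.assoc _ _ _).symm
      _ = (Spec.map v' ≫ a') ≫ pullback.fst f (Spec.map (CommRingCat.ofHom (algebraMap k Ω))) := by
          rw [hcomm]
      _ = Spec.map v' ≫ (a' ≫ pullback.fst f (Spec.map (CommRingCat.ofHom (algebraMap k Ω)))) :=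
          Category.assoc _ _ _
      _ = Spec.map v' ≫ (Spec.map (CommRingCat.ofHom ικ') ≫ X.fromSpecResidueField x) := by
          rw [ha1']
      _ = (Spec.map v' ≫ Spec.map (CommRingCat.ofHom ικ')) ≫ X.fromSpecResidueField x :=
          (Category.assoc _ _ _).symm
  have hfst' := (cancel_mono (X.fromSpecResidueField x)).mp hfst
  rw [← Spec.map_comp, ← Spec.map_comp] at hsnd hfst'
  have e1 : CommRingCat.ofHom ι ≫ v = CommRingCat.ofHom ι' ≫ v' := Spec.map_injective hsnd
  have e2 : CommRingCat.ofHom ικ ≫ v = CommRingCat.ofHom ικ' ≫ v' := Spec.map_injective hfst'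
  ext c
  have inj : Function.Injective (v.hom.comp ι) := (v.hom.comp ι).injective
  apply inj
  calc v.hom (ι (τ c)) = v.hom (ικ (c : X.residueField x)) := by rw [hτ c]
    _ = v'.hom (ικ' (c : X.residueField x)) :=
        congrArg (fun r => r.hom (c : X.residueField x)) e2
    _ = v'.hom (ι' (τ' c)) := by rw [hτ' c]
    _ = v.hom (ι (τ' c)) := (congrArg (fun r => r.hom (τ' c)) e1).symm

/-- Two points over `x` inducing the same embedding are equal (`Ω/k` algebraic). -/
theorem HasEmb.eq_of_same [Algebra.IsAlgebraic k Ω] {X : Scheme.{u}}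
    (f : X ⟶ Spec (CommRingCat.of k)) (x : X) [Algebra k (X.residueField x)]
    (hφ : Spec.map (CommRingCat.ofHom (algebraMap k (X.residueField x))) =
      X.fromSpecResidueField x ≫ f)
    {y y' : ↥(pullback f (Spec.map (CommRingCat.ofHom (algebraMap k Ω))))}
    {τ : ↥(separableClosure k (X.residueField x)) →ₐ[k] Ω}
    (h : HasEmb f x y τ) (h' : HasEmb f x y' τ) : y = y' := by
  obtain ⟨M, instM, a, ικ, ι, ha0, ha1, ha2, hτ⟩ := h
  obtain ⟨M', instM', a', ικ', ι', ha0', ha1', ha2', hτ'⟩ := h'
  letI : Field M := instM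
  letI : Field M' := instM'
  obtain ⟨s⟩ : Nonempty ↥(Spec (CommRingCat.of M)) :=
    (inferInstance : Nonempty (PrimeSpectrum M))
  obtain ⟨s'⟩ : Nonempty ↥(Spec (CommRingCat.of M')) :=
    (inferInstance : Nonempty (PrimeSpectrum M'))
  have key := fieldPoint_eq_of_same_embedding f x hφ τ a ικ ι ha1 ha2 hτ
    a' ικ' ι' ha1' ha2' hτ' s s'
  rw [ha0 s, ha0' s'] at key
  exact key

/-- Every point over `x` induces an embedding, for `Ω/k` normal admitting one embedding. -/
theorem exists_hasEmb_of_normal [Normal k Ω] {X : Scheme.{u}}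
    (f : X ⟶ Spec (CommRingCat.of k)) (x : X) [Algebra k (X.residueField x)]
    (hφ : Spec.map (CommRingCat.ofHom (algebraMap k (X.residueField x))) =
      X.fromSpecResidueField x ≫ f)
    (τ₀ : ↥(separableClosure k (X.residueField x)) →ₐ[k] Ω)
    (y : ↥(pullback f (Spec.map (CommRingCat.ofHom (algebraMap k Ω)))))
    (hy : pullback.fst f (Spec.map (CommRingCat.ofHom (algebraMap k Ω))) y = x) :
    ∃ τ : ↥(separableClosure k (X.residueField x)) →ₐ[k] Ω, HasEmb f x y τ := by
  obtain ⟨M, instM, a, ικ, hpt, ha1⟩ := exists_field_point_over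
    (pullback.fst f (Spec.map (CommRingCat.ofHom (algebraMap k Ω)))) y x hy
  letI : Field M := instM
  obtain ⟨θ, hθ⟩ := Spec.map_surjective
    (a ≫ pullback.snd f (Spec.map (CommRingCat.ofHom (algebraMap k Ω))))
  have h1 : Spec.map θ ≫ Spec.map (CommRingCat.ofHom (algebraMap k Ω)) =
      Spec.map (CommRingCat.ofHom ικ) ≫
        Spec.map (CommRingCat.ofHom (algebraMap k (X.residueField x))) := by
    calc Spec.map θ ≫ Spec.map (CommRingCat.ofHom (algebraMap k Ω))
        = (a ≫ pullback.snd f (Spec.map (CommRingCat.ofHom (algebraMap k Ω)))) ≫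
            Spec.map (CommRingCat.ofHom (algebraMap k Ω)) := by rw [hθ]
      _ = a ≫ (pullback.snd f (Spec.map (CommRingCat.ofHom (algebraMap k Ω))) ≫
            Spec.map (CommRingCat.ofHom (algebraMap k Ω))) := Category.assoc _ _ _
      _ = a ≫ (pullback.fst f (Spec.map (CommRingCat.ofHom (algebraMap k Ω))) ≫ f) := by
          rw [pullback.condition]
      _ = (a ≫ pullback.fst f (Spec.map (CommRingCat.ofHom (algebraMap k Ω)))) ≫ f :=
          (Category.assoc _ _ _).symm
      _ = (Spec.map (CommRingCat.ofHom ικ) ≫ X.fromSpecResidueField x) ≫ f := by rw [ha1]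
      _ = Spec.map (CommRingCat.ofHom ικ) ≫ (X.fromSpecResidueField x ≫ f) :=
          Category.assoc _ _ _
      _ = Spec.map (CommRingCat.ofHom ικ) ≫
            Spec.map (CommRingCat.ofHom (algebraMap k (X.residueField x))) := by rw [hφ]
  rw [← Spec.map_comp, ← Spec.map_comp] at h1
  have h2 := congrArg CommRingCat.Hom.hom (Spec.map_injective h1)
  have hcomp : θ.hom.comp (algebraMap k Ω) = ικ.comp (algebraMap k (X.residueField x)) := h2
  obtain ⟨τ, hτ⟩ := exists_sepClosure_embedding_of_normal (k := k) τ₀ ικ θ.hom hcomp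
  exact ⟨τ, M, instM, a, ικ, θ.hom, hpt, ha1, hθ.symm, hτ⟩

/-- Every embedding is induced by a point over `x`. -/
theorem exists_point_hasEmb {X : Scheme.{u}}
    (f : X ⟶ Spec (CommRingCat.of k)) (x : X) [Algebra k (X.residueField x)]
    (hφ : Spec.map (CommRingCat.ofHom (algebraMap k (X.residueField x))) =
      X.fromSpecResidueField x ≫ f)
    (τ : ↥(separableClosure k (X.residueField x)) →ₐ[k] Ω) :
    ∃ y : ↥(pullback f (Spec.map (CommRingCat.ofHom (algebraMap k Ω)))),
      pullback.fst f (Spec.map (CommRingCat.ofHom (algebraMap k Ω))) y = x ∧ HasEmb f x y τ := by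
  letI algΩ : Algebra ↥(separableClosure k (X.residueField x)) Ω := τ.toRingHom.toAlgebra
  haveI tower : IsScalarTower k ↥(separableClosure k (X.residueField x)) Ω :=
    IsScalarTower.of_algebraMap_eq (fun c => (τ.commutes c).symm)
  obtain ⟨u₁, hu₁⟩ : ∃ u : Spec (CommRingCat.of
      ((X.residueField x) ⊗[↥(separableClosure k (X.residueField x))] Ω)) ⟶
      Spec (CommRingCat.of (X.residueField x)),
      u = Spec.map (CommRingCat.ofHom (Algebra.TensorProduct.includeLeftRingHom :
        X.residueField x →+*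
          ((X.residueField x) ⊗[↥(separableClosure k (X.residueField x))] Ω))) := ⟨_, rfl⟩
  obtain ⟨u₂, hu₂⟩ : ∃ u : Spec (CommRingCat.of
      ((X.residueField x) ⊗[↥(separableClosure k (X.residueField x))] Ω)) ⟶
      Spec (CommRingCat.of Ω),
      u = Spec.map (CommRingCat.ofHom (Algebra.TensorProduct.includeRight :
        Ω →ₐ[↥(separableClosure k (X.residueField x))]
          ((X.residueField x) ⊗[↥(separableClosure k (X.residueField x))] Ω)).toRingHom) :=
    ⟨_, rfl⟩
  have hring : (Algebra.TensorProduct.includeLeftRingHom : X.residueField x →+*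
        ((X.residueField x) ⊗[↥(separableClosure k (X.residueField x))] Ω)).comp
        (algebraMap k (X.residueField x)) =
      (Algebra.TensorProduct.includeRight : Ω →ₐ[↥(separableClosure k (X.residueField x))]
        ((X.residueField x) ⊗[↥(separableClosure k (X.residueField x))] Ω)).toRingHom.comp
        (algebraMap k Ω) := by
    ext c
    show (algebraMap k (X.residueField x) c) ⊗ₜ[↥(separableClosure k (X.residueField x))] (1 : Ω) =
      (1 : X.residueField x) ⊗ₜ[↥(separableClosure k (X.residueField x))] (algebraMap k Ω c)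
    rw [IsScalarTower.algebraMap_apply k ↥(separableClosure k (X.residueField x))
        (X.residueField x) c,
      IsScalarTower.algebraMap_apply k ↥(separableClosure k (X.residueField x)) Ω c,
      Algebra.algebraMap_eq_smul_one (R := ↥(separableClosure k (X.residueField x)))
        (A := X.residueField x),
      Algebra.algebraMap_eq_smul_one (R := ↥(separableClosure k (X.residueField x))) (A := Ω),
      TensorProduct.smul_tmul]
  have hcompat : (u₁ ≫ X.fromSpecResidueField x) ≫ f =
      u₂ ≫ Spec.map (CommRingCat.ofHom (algebraMap k Ω)) := by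
    rw [Category.assoc, ← hφ, hu₁, hu₂]
    refine (Spec.map_comp _ _).symm.trans (Eq.trans ?_ (Spec.map_comp _ _))
    congr 1
    ext c
    exact congrArg (fun r : k →+* _ => r c) hring
  obtain ⟨j, hj1, hj2⟩ : ∃ j : Spec (CommRingCat.of
      ((X.residueField x) ⊗[↥(separableClosure k (X.residueField x))] Ω)) ⟶
      pullback f (Spec.map (CommRingCat.ofHom (algebraMap k Ω))),
      j ≫ pullback.fst f _ = u₁ ≫ X.fromSpecResidueField x ∧ j ≫ pullback.snd f _ = u₂ :=
    ⟨pullback.lift _ _ hcompat, pullback.lift_fst _ _ _, pullback.lift_snd _ _ _⟩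
  haveI hirr : IrreducibleSpace (PrimeSpectrum
      ((X.residueField x) ⊗[↥(separableClosure k (X.residueField x))] Ω)) :=
    irreducibleSpace_primeSpectrum_tensor_sepClosure
  obtain ⟨P⟩ : Nonempty (PrimeSpectrum
      ((X.residueField x) ⊗[↥(separableClosure k (X.residueField x))] Ω)) := inferInstance
  obtain ⟨r, hr⟩ : ∃ r : ((X.residueField x) ⊗[↥(separableClosure k (X.residueField x))] Ω) →+*
      P.asIdeal.ResidueField, r = algebraMap _ _ := ⟨_, rfl⟩
  obtain ⟨s₀⟩ : Nonempty ↥(Spec (CommRingCat.of P.asIdeal.ResidueField)) :=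
    (inferInstance : Nonempty (PrimeSpectrum P.asIdeal.ResidueField))
  haveI : Subsingleton ↥(Spec (CommRingCat.of P.asIdeal.ResidueField)) :=
    (inferInstance : Subsingleton (PrimeSpectrum P.asIdeal.ResidueField))
  have ha1 : (Spec.map (CommRingCat.ofHom r) ≫ j) ≫
      pullback.fst f (Spec.map (CommRingCat.ofHom (algebraMap k Ω))) =
      Spec.map (CommRingCat.ofHom (r.comp (Algebra.TensorProduct.includeLeftRingHom :
        X.residueField x →+*
          ((X.residueField x) ⊗[↥(separableClosure k (X.residueField x))] Ω)))) ≫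
        X.fromSpecResidueField x := by
    rw [Category.assoc, hj1, ← Category.assoc, hu₁]
    congr 1
    exact (Spec.map_comp _ _).symm
  have ha2 : (Spec.map (CommRingCat.ofHom r) ≫ j) ≫
      pullback.snd f (Spec.map (CommRingCat.ofHom (algebraMap k Ω))) =
      Spec.map (CommRingCat.ofHom (r.comp (Algebra.TensorProduct.includeRight :
        Ω →ₐ[↥(separableClosure k (X.residueField x))]
          ((X.residueField x) ⊗[↥(separableClosure k (X.residueField x))] Ω)).toRingHom)) := by
    rw [Category.assoc, hj2, hu₂]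
    exact (Spec.map_comp _ _).symm
  refine ⟨(Spec.map (CommRingCat.ofHom r) ≫ j) s₀, ?_, P.asIdeal.ResidueField, inferInstance,
    Spec.map (CommRingCat.ofHom r) ≫ j, _, _, fun s => congrArg _ (Subsingleton.elim s s₀),
    ha1, ha2, ?_⟩
  · rw [← Scheme.Hom.comp_apply, ha1, Scheme.Hom.comp_apply]
    exact Scheme.fromSpecResidueField_apply x _
  · intro c
    show r ((1 : X.residueField x) ⊗ₜ[↥(separableClosure k (X.residueField x))] (τ c)) =
      r ((c : X.residueField x) ⊗ₜ[↥(separableClosure k (X.residueField x))] (1 : Ω))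
    congr 1
    have h1 : (c : X.residueField x) = c • (1 : X.residueField x) := by
      rw [Algebra.smul_def, mul_one]; rfl
    have h2 : τ c = c • (1 : Ω) := by
      rw [Algebra.smul_def, mul_one]; rfl
    rw [h1, h2, TensorProduct.smul_tmul]

end Points

section Count

variable (k : Type u) [Field k] (X : Scheme.{u}) [X.Over (Spec (CommRingCat.of k))]
  (K : Type u) [Field K] [Algebra k K]

theorem bcFst_genericPoint_eq [IrreducibleSpace ↥X] (T' : Set ↥(Curv2.bc k X K))
    (hT' : T' ∈ irreducibleComponents ↥(Curv2.bc k X K))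
    (ζ : ↥(Curv2.bc k X K)) (hζ : IsGenericPoint ζ T') :
    Curv2.bcFst k X K ζ = genericPoint ↥X := by
  have g' := bcFst_isGenericPoint k X K T' hT' ζ hζ
  have hZ := (Groth.Agent.S1546.result k X K).1 T' hT'
  have huniv : (Curv2.bcFst k X K).base '' T' = Set.univ :=
    Set.eq_univ_of_univ_subset
      (hZ.2 (IrreducibleSpace.isIrreducible_univ ↥X) (Set.subset_univ _))
  rw [huniv] at g'
  have h2 : IsGenericPoint (genericPoint ↥X) (Set.univ : Set ↥X) := genericPoint_spec ↥X
  exact g'.eq h2

theorem exists_component_of_fibre [Normal k K] [IrreducibleSpace ↥X] (y : ↥(Curv2.bc k X K))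
    (hy : Curv2.bcFst k X K y = genericPoint ↥X) :
    ∃ T' ∈ irreducibleComponents ↥(Curv2.bc k X K), IsGenericPoint y T' := by
  have hT₀ := irreducibleComponent_mem_irreducibleComponents y
  obtain ⟨ζ, hζ⟩ := QuasiSober.sober hT₀.1 isClosed_irreducibleComponent
  have h1 := bcFst_genericPoint_eq k X K _ hT₀ ζ hζ
  obtain ⟨σ, hσ⟩ := exists_galAct_eq k X K ζ y (h1.trans hy.symm)
  refine ⟨(Curv2.galAct k X K σ).base '' irreducibleComponent y,
    image_mem_irreducibleComponents (Curv2.galAct k X K σ).homeomorph hT₀, ?_⟩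
  show closure {y} = (Curv2.galAct k X K σ).base '' irreducibleComponent y
  calc closure {y} = closure ((Curv2.galAct k X K σ).base '' {ζ}) := by
        rw [Set.image_singleton]
        exact congrArg (fun t => closure {t}) hσ.symm
    _ = (Curv2.galAct k X K σ).base '' closure {ζ} := (image_galAct_closure k X K σ {ζ}).symm
    _ = (Curv2.galAct k X K σ).base '' irreducibleComponent y := by rw [hζ.def]

end Count

section Main

variable {k Ω : Type u} [Field k] [Field Ω] [Algebra k Ω]

/-- For `X` irreducible with generic point `ξ` and `Ω/k` Galois containing the separable closure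
`k'` of `k` in `κ(ξ)` (finite over `k`), `X_Ω` has exactly `[k' : k]` irreducible components. -/
theorem card_irreducibleComponents_eq [IsGalois k Ω] {X : Scheme.{u}} [IrreducibleSpace ↥X]
    (f : X ⟶ Spec (CommRingCat.of k)) [Algebra k (X.residueField (genericPoint ↥X))]
    (hφ : Spec.map (CommRingCat.ofHom (algebraMap k (X.residueField (genericPoint ↥X)))) =
      X.fromSpecResidueField (genericPoint ↥X) ≫ f)
    [FiniteDimensional k ↥(separableClosure k (X.residueField (genericPoint ↥X)))]
    (τ₀ : ↥(separableClosure k (X.residueField (genericPoint ↥X))) →ₐ[k] Ω) :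
    Nat.card ↥(irreducibleComponents
        ↥(pullback f (Spec.map (CommRingCat.ofHom (algebraMap k Ω))))) =
      Module.finrank k ↥(separableClosure k (X.residueField (genericPoint ↥X))) := by
  letI : X.Over (Spec (CommRingCat.of k)) := ⟨f⟩
  have hdata : ∀ T' : ↥(irreducibleComponents
      ↥(pullback f (Spec.map (CommRingCat.ofHom (algebraMap k Ω))))),
      ∃ ζ : ↥(pullback f (Spec.map (CommRingCat.ofHom (algebraMap k Ω)))),
        IsGenericPoint ζ T'.1 ∧
        ∃ τ : ↥(separableClosure k (X.residueField (genericPoint ↥X))) →ₐ[k] Ω,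
          HasEmb f (genericPoint ↥X) ζ τ := by
    intro T'
    obtain ⟨ζ, hζ⟩ := QuasiSober.sober T'.2.1 (isClosed_of_mem_irreducibleComponents _ T'.2)
    have h1 : pullback.fst f (Spec.map (CommRingCat.ofHom (algebraMap k Ω))) ζ =
        genericPoint ↥X := bcFst_genericPoint_eq k X Ω T'.1 T'.2 ζ hζ
    exact ⟨ζ, hζ, exists_hasEmb_of_normal f _ hφ τ₀ ζ h1⟩
  choose ζ hζ τ hτ using hdata
  have hinj : Function.Injective τ := by
    intro T' T'' h
    have h1 : HasEmb f (genericPoint ↥X) (ζ T'') (τ T') := by rw [h]; exact hτ T''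
    have h2 : ζ T' = ζ T'' := HasEmb.eq_of_same f _ hφ (hτ T') h1
    apply Subtype.ext
    rw [← (hζ T').def, ← (hζ T'').def, h2]
  have hsurj : Function.Surjective τ := by
    intro τ'
    obtain ⟨y, hy, hyτ⟩ := exists_point_hasEmb f (genericPoint ↥X) hφ τ'
    obtain ⟨T', hT', hgen⟩ := exists_component_of_fibre k X Ω y hy
    refine ⟨⟨T', hT'⟩, ?_⟩
    have h1 : ζ ⟨T', hT'⟩ = y := (hζ ⟨T', hT'⟩).eq hgen
    have h2 : HasEmb f (genericPoint ↥X) y (τ ⟨T', hT'⟩) := by rw [← h1]; exact hτ ⟨T', hT'⟩
    exact HasEmb.unique f _ h2 hyτ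
  rw [Nat.card_congr (Equiv.ofBijective τ ⟨hinj, hsurj⟩)]
  apply AlgHom.natCard_of_splits
  intro c
  have hsp : ((minpoly k (τ₀ c)).map (algebraMap k Ω)).Splits :=
    Normal.splits inferInstance (τ₀ c)
  rwa [minpoly.algHom_eq τ₀ τ₀.injective c] at hsp

end Main

end Groth.Agent.H37
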