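import Groth.Prelude.Def_DCoh4
import Groth.Prelude.Def_FlatMod2
import Groth.Agent.H40.UnitIso
import Groth.Agent.H82.HHFinite
import Groth.Agent.H90.QCohHom

/-!
# (Q1-c) for S6498: `F` coherent ⇒ `F ⊗ O^n` coherent (helper37, for helper31's squad)
-/

set_option autoImplicit false
universe u
open CategoryTheory CategoryTheory.Limits AlgebraicGeometry

namespace Groth.Agent.H37.DCohQ1c

theorem isCoh_tensor_free {Z : Scheme.{u}} [IsLocallyNoetherian Z] (F M : Z.Modules) (n : ℕ)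
    (e : M ≅ FlatMod.freeMod Z n) (hF : Coh.IsCoh F) :
    Coh.IsCoh (((DCoh.tensorBi (X := Z)).obj F).obj M) := by
  have eU : ((DCoh.tensorBi (X := Z)).obj F).obj (Coh.structureModule Z) ≅ F :=
    Groth.Agent.H40.UnitIso.rightUnitIso Z.sheaf F
  have hU : Coh.IsCoh (((DCoh.tensorBi (X := Z)).obj F).obj (Coh.structureModule Z)) :=
    Groth.Agent.H90.QH.isCoh_of_iso eU.symm hF
  have e1 : ((DCoh.tensorBi (X := Z)).obj F).obj M ≅
      ((DCoh.tensorBi (X := Z)).obj F).obj (FlatMod.freeMod Z n) :=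
    ((DCoh.tensorBi (X := Z)).obj F).mapIso e
  haveI : PreservesColimitsOfShape (Discrete (Fin n)) ((DCoh.tensorBi (X := Z)).obj F) :=
    PreservesFiniteCoproducts.preserves n
  have e2 : ((DCoh.tensorBi (X := Z)).obj F).obj (FlatMod.freeMod Z n) ≅
      ∐ fun _ : Fin n => ((DCoh.tensorBi (X := Z)).obj F).obj (Coh.structureModule Z) :=
    PreservesCoproduct.iso ((DCoh.tensorBi (X := Z)).obj F)
      (fun _ : Fin n => Coh.structureModule Z)
  have hS : Coh.IsCoh
      (∐ fun _ : Fin n => ((DCoh.tensorBi (X := Z)).obj F).obj (Coh.structureModule Z)) :=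
    Groth.Agent.H82.HHFinite.isCoh_sigma _ (fun _ => hU)
  exact Groth.Agent.H90.QH.isCoh_of_iso (e1 ≪≫ e2).symm hS

end Groth.Agent.H37.DCohQ1c
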