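import Groth.Agent.H37.GrpdCalc

set_option autoImplicit false
universe u
open CategoryTheory CategoryTheory.Limits AlgebraicGeometry

/-!
# Descent of a groupoid scheme along a quotient map: the calculus of `T`-points

`KData G`: a morphism `q : G.U ⟶ Y` over `S` together with a homomorphism `κ` from the kernel
pair of `q` to the arrows of `G` which is the identity on objects.
-/

namespace Groth.Agent.H37.DescGrpd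

open Groth.Agent.H37.GrpdCalc

/-- a quotient map on objects together with a lift of its kernel pair into the arrows -/
structure KData {S : Scheme.{u}} (G : Grpd.GroupoidScheme S) where
  Y : Scheme.{u}
  q : G.U ⟶ Y
  pY : Y ⟶ S
  q_over : q ≫ pY = G.pU
  κ : pullback q q ⟶ G.R
  κ_t : κ ≫ G.t = pullback.fst q q
  κ_s : κ ≫ G.s = pullback.snd q q
  κ_mul : ∀ {T : Scheme.{u}} (u₁ u₂ u₃ : T ⟶ G.U) (h₁ : u₁ ≫ q = u₂ ≫ q) (h₂ : u₂ ≫ q = u₃ ≫ q),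
    mul G (pullback.lift u₁ u₂ h₁ ≫ κ) (pullback.lift u₂ u₃ h₂ ≫ κ) =
      pullback.lift u₁ u₃ (h₁.trans h₂) ≫ κ

variable {S : Scheme.{u}} {G : Grpd.GroupoidScheme S} (K : KData G)
variable {T T' : Scheme.{u}}

open Classical in
/-- the distinguished arrow from `u₂` to `u₁` (junk value when `q u₁ ≠ q u₂`) -/
noncomputable def k (u₁ u₂ : T ⟶ G.U) : T ⟶ G.R :=
  if h : u₁ ≫ K.q = u₂ ≫ K.q then pullback.lift u₁ u₂ h ≫ K.κ else u₁ ≫ G.e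

variable {K} {u₁ u₂ u₃ : T ⟶ G.U} {a b c : T ⟶ G.R}

lemma k_eq (h : u₁ ≫ K.q = u₂ ≫ K.q) : k K u₁ u₂ = pullback.lift u₁ u₂ h ≫ K.κ := dif_pos h

lemma k_t (h : u₁ ≫ K.q = u₂ ≫ K.q) : k K u₁ u₂ ≫ G.t = u₁ := by
  rw [k_eq h, Category.assoc, K.κ_t, pullback.lift_fst]

lemma k_s (h : u₁ ≫ K.q = u₂ ≫ K.q) : k K u₁ u₂ ≫ G.s = u₂ := by
  rw [k_eq h, Category.assoc, K.κ_s, pullback.lift_snd]

lemma k_mul (h₁ : u₁ ≫ K.q = u₂ ≫ K.q) (h₂ : u₂ ≫ K.q = u₃ ≫ K.q) :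
    mul G (k K u₁ u₂) (k K u₂ u₃) = k K u₁ u₃ := by
  rw [k_eq h₁, k_eq h₂, k_eq (h₁.trans h₂)]
  exact K.κ_mul u₁ u₂ u₃ h₁ h₂

lemma comp_k (f : T' ⟶ T) (h : u₁ ≫ K.q = u₂ ≫ K.q) :
    f ≫ k K u₁ u₂ = k K (f ≫ u₁) (f ≫ u₂) := by
  have h' : (f ≫ u₁) ≫ K.q = (f ≫ u₂) ≫ K.q := by rw [Category.assoc, Category.assoc, h]
  rw [k_eq h, k_eq h', ← Category.assoc]
  congr 1
  apply pullback.hom_ext
  · rw [Category.assoc, pullback.lift_fst, pullback.lift_fst]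
  · rw [Category.assoc, pullback.lift_snd, pullback.lift_snd]

lemma k_self (u : T ⟶ G.U) : k K u u = u ≫ G.e := by
  have hs : k K u u ≫ G.s = u := k_s rfl
  have ht : k K u u ≫ G.t = u := k_t rfl
  have h1 : mul G (k K u u) (k K u u) = k K u u := k_mul rfl rfl
  have h2 : mul G (mul G (k K u u) (k K u u)) (k K u u ≫ G.i) = k K u u :=
    mul_mul_i (hs.trans ht.symm) rfl
  rw [h1, mul_i rfl, ← Category.assoc, ht] at h2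
  exact h2.symm

lemma k_inv (h : u₁ ≫ K.q = u₂ ≫ K.q) : k K u₁ u₂ ≫ G.i = k K u₂ u₁ := by
  have h12s : k K u₁ u₂ ≫ G.s = u₂ := k_s h
  have h12t : k K u₁ u₂ ≫ G.t = u₁ := k_t h
  have h21t : k K u₂ u₁ ≫ G.t = u₂ := k_t h.symm
  have h1 : mul G (k K u₁ u₂) (k K u₂ u₁) = u₁ ≫ G.e := by rw [k_mul h h.symm, k_self]
  have h2 : mul G (k K u₁ u₂ ≫ G.i) (mul G (k K u₁ u₂) (k K u₂ u₁)) = k K u₂ u₁ :=
    i_mul_mul (h12s.trans h21t.symm) rfl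
  rw [h1] at h2
  have h3 : (k K u₁ u₂ ≫ G.i) ≫ G.s = u₁ := by rw [Category.assoc, G.i_s, h12t]
  have h4 : mul G (k K u₁ u₂ ≫ G.i) (u₁ ≫ G.e) = k K u₁ u₂ ≫ G.i :=
    mul_e (by rw [← Category.assoc (k K u₁ u₂ ≫ G.i), h3])
  exact h4.symm.trans h2

/-- `(α β)⁻¹ = β⁻¹ α⁻¹` -/
lemma mul_inv {α β : T ⟶ G.R} (h : α ≫ G.s = β ≫ G.t) :
    mul G α β ≫ G.i = mul G (β ≫ G.i) (α ≫ G.i) := by
  have h1 : (β ≫ G.i) ≫ G.s = (α ≫ G.i) ≫ G.t := by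
    rw [Category.assoc, Category.assoc, G.i_s, G.i_t, h]
  have h2 : (α ≫ G.i) ≫ G.s = mul G α β ≫ G.t := by
    rw [Category.assoc, G.i_s, mul_t h]
  have h3 : (α ≫ G.i) ≫ G.s = α ≫ G.t := by rw [Category.assoc, G.i_s]
  have e1 : mul G (mul G (β ≫ G.i) (α ≫ G.i)) (mul G α β) = β ≫ G.s ≫ G.e := by
    rw [mul_assoc h1 h2, i_mul_mul h rfl, i_mul rfl]
  have hδs : mul G (β ≫ G.i) (α ≫ G.i) ≫ G.s = mul G α β ≫ G.t := by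
    rw [mul_s h1, mul_t h, h3]
  have e2 : mul G (mul G (mul G (β ≫ G.i) (α ≫ G.i)) (mul G α β)) (mul G α β ≫ G.i) =
      mul G (β ≫ G.i) (α ≫ G.i) := mul_mul_i hδs rfl
  rw [e1] at e2
  have h4 : (mul G α β ≫ G.i) ≫ G.t = β ≫ G.s := by rw [Category.assoc, G.i_t, mul_s h]
  have e3 : mul G (β ≫ G.s ≫ G.e) (mul G α β ≫ G.i) = mul G α β ≫ G.i :=
    e_mul (by rw [← Category.assoc (mul G α β ≫ G.i), h4, Category.assoc])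
  exact e3.symm.trans e2

/-- the two-sided action of the distinguished arrows -/
noncomputable def act (K : KData G) (u₁ : T ⟶ G.U) (a : T ⟶ G.R) (u₂ : T ⟶ G.U) : T ⟶ G.R :=
  mul G (mul G (k K u₁ (a ≫ G.t)) a) (k K (a ≫ G.s) u₂)

lemma act_t (h₁ : u₁ ≫ K.q = (a ≫ G.t) ≫ K.q) (h₂ : (a ≫ G.s) ≫ K.q = u₂ ≫ K.q) :
    act K u₁ a u₂ ≫ G.t = u₁ := by
  have e1 : k K u₁ (a ≫ G.t) ≫ G.s = a ≫ G.t := k_s h₁
  have e2 : mul G (k K u₁ (a ≫ G.t)) a ≫ G.s = k K (a ≫ G.s) u₂ ≫ G.t := by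
    rw [mul_s e1, k_t h₂]
  unfold act
  rw [mul_t e2, mul_t e1, k_t h₁]

lemma act_s (h₁ : u₁ ≫ K.q = (a ≫ G.t) ≫ K.q) (h₂ : (a ≫ G.s) ≫ K.q = u₂ ≫ K.q) :
    act K u₁ a u₂ ≫ G.s = u₂ := by
  have e1 : k K u₁ (a ≫ G.t) ≫ G.s = a ≫ G.t := k_s h₁
  have e2 : mul G (k K u₁ (a ≫ G.t)) a ≫ G.s = k K (a ≫ G.s) u₂ ≫ G.t := by
    rw [mul_s e1, k_t h₂]
  unfold act
  rw [mul_s e2, k_s h₂]

lemma act_self (a : T ⟶ G.R) : act K (a ≫ G.t) a (a ≫ G.s) = a := by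
  unfold act
  rw [k_self, k_self, e_mul (α := (a ≫ G.t) ≫ G.e) (β := a) (Category.assoc _ _ _)]
  exact mul_e (Category.assoc _ _ _)

lemma comp_act (f : T' ⟶ T) (h₁ : u₁ ≫ K.q = (a ≫ G.t) ≫ K.q)
    (h₂ : (a ≫ G.s) ≫ K.q = u₂ ≫ K.q) :
    f ≫ act K u₁ a u₂ = act K (f ≫ u₁) (f ≫ a) (f ≫ u₂) := by
  have e1 : k K u₁ (a ≫ G.t) ≫ G.s = a ≫ G.t := k_s h₁
  have e2 : mul G (k K u₁ (a ≫ G.t)) a ≫ G.s = k K (a ≫ G.s) u₂ ≫ G.t := by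
    rw [mul_s e1, k_t h₂]
  unfold act
  rw [comp_mul f e2, comp_mul f e1, comp_k f h₁, comp_k f h₂, Category.assoc, Category.assoc]

lemma act_act {v₁ v₂ : T ⟶ G.U} (h₁ : u₁ ≫ K.q = (a ≫ G.t) ≫ K.q)
    (h₂ : (a ≫ G.s) ≫ K.q = u₂ ≫ K.q) (h₃ : v₁ ≫ K.q = u₁ ≫ K.q) (h₄ : u₂ ≫ K.q = v₂ ≫ K.q) :
    act K v₁ (act K u₁ a u₂) v₂ = act K v₁ a v₂ := by
  have hat : act K u₁ a u₂ ≫ G.t = u₁ := act_t h₁ h₂
  have has : act K u₁ a u₂ ≫ G.s = u₂ := act_s h₁ h₂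
  have e1 : k K u₁ (a ≫ G.t) ≫ G.s = a ≫ G.t := k_s h₁
  have e2 : mul G (k K u₁ (a ≫ G.t)) a ≫ G.s = k K (a ≫ G.s) u₂ ≫ G.t := by
    rw [mul_s e1, k_t h₂]
  have e3 : k K v₁ u₁ ≫ G.s = k K u₁ (a ≫ G.t) ≫ G.t := by rw [k_s h₃, k_t h₁]
  have e4 : k K v₁ u₁ ≫ G.s = mul G (k K u₁ (a ≫ G.t)) a ≫ G.t := by
    rw [k_s h₃, mul_t e1, k_t h₁]
  have e5 : k K (a ≫ G.s) u₂ ≫ G.s = k K u₂ v₂ ≫ G.t := by rw [k_s h₂, k_t h₄]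
  have step1 : mul G (k K v₁ u₁) (act K u₁ a u₂) =
      mul G (mul G (k K v₁ (a ≫ G.t)) a) (k K (a ≫ G.s) u₂) := by
    unfold act
    rw [← mul_assoc e4 e2, ← mul_assoc e3 e1, k_mul h₃ h₁]
  have e6 : mul G (k K v₁ (a ≫ G.t)) a ≫ G.s = k K (a ≫ G.s) u₂ ≫ G.t := by
    rw [mul_s (k_s (h₃.trans h₁)), k_t h₂]
  calc act K v₁ (act K u₁ a u₂) v₂
      = mul G (mul G (k K v₁ u₁) (act K u₁ a u₂)) (k K u₂ v₂) := by rw [act, hat, has]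
    _ = mul G (mul G (mul G (k K v₁ (a ≫ G.t)) a) (k K (a ≫ G.s) u₂)) (k K u₂ v₂) := by
        rw [step1]
    _ = mul G (mul G (k K v₁ (a ≫ G.t)) a) (k K (a ≫ G.s) v₂) := by
        rw [mul_assoc e6 e5, k_mul h₂ h₄]
    _ = act K v₁ a v₂ := rfl

lemma act_inv (h₁ : u₁ ≫ K.q = (a ≫ G.t) ≫ K.q) (h₂ : (a ≫ G.s) ≫ K.q = u₂ ≫ K.q) :
    act K u₁ a u₂ ≫ G.i = act K u₂ (a ≫ G.i) u₁ := by
  have e1 : k K u₁ (a ≫ G.t) ≫ G.s = a ≫ G.t := k_s h₁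
  have e2 : mul G (k K u₁ (a ≫ G.t)) a ≫ G.s = k K (a ≫ G.s) u₂ ≫ G.t := by
    rw [mul_s e1, k_t h₂]
  have ait : (a ≫ G.i) ≫ G.t = a ≫ G.s := by rw [Category.assoc, G.i_t]
  have ais : (a ≫ G.i) ≫ G.s = a ≫ G.t := by rw [Category.assoc, G.i_s]
  have e3 : k K u₂ (a ≫ G.s) ≫ G.s = (a ≫ G.i) ≫ G.t := by rw [k_s h₂.symm, ait]
  have e4 : (a ≫ G.i) ≫ G.s = k K (a ≫ G.t) u₁ ≫ G.t := by rw [ais, k_t h₁.symm]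
  unfold act
  rw [mul_inv e2, mul_inv e1, k_inv h₂, k_inv h₁, ait, ais, mul_assoc e3 e4]

/-- the generalised product `a · k(s a, t b) · b` -/
noncomputable def gm (K : KData G) (a b : T ⟶ G.R) : T ⟶ G.R :=
  mul G (mul G a (k K (a ≫ G.s) (b ≫ G.t))) b

lemma gm_t (h : (a ≫ G.s) ≫ K.q = (b ≫ G.t) ≫ K.q) : gm K a b ≫ G.t = a ≫ G.t := by
  have e1 : a ≫ G.s = k K (a ≫ G.s) (b ≫ G.t) ≫ G.t := (k_t h).symm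
  have e2 : mul G a (k K (a ≫ G.s) (b ≫ G.t)) ≫ G.s = b ≫ G.t := by rw [mul_s e1, k_s h]
  unfold gm
  rw [mul_t e2, mul_t e1]

lemma gm_s (h : (a ≫ G.s) ≫ K.q = (b ≫ G.t) ≫ K.q) : gm K a b ≫ G.s = b ≫ G.s := by
  have e1 : a ≫ G.s = k K (a ≫ G.s) (b ≫ G.t) ≫ G.t := (k_t h).symm
  have e2 : mul G a (k K (a ≫ G.s) (b ≫ G.t)) ≫ G.s = b ≫ G.t := by rw [mul_s e1, k_s h]
  unfold gm
  rw [mul_s e2]

lemma comp_gm (f : T' ⟶ T) (h : (a ≫ G.s) ≫ K.q = (b ≫ G.t) ≫ K.q) :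
    f ≫ gm K a b = gm K (f ≫ a) (f ≫ b) := by
  have e1 : a ≫ G.s = k K (a ≫ G.s) (b ≫ G.t) ≫ G.t := (k_t h).symm
  have e2 : mul G a (k K (a ≫ G.s) (b ≫ G.t)) ≫ G.s = b ≫ G.t := by rw [mul_s e1, k_s h]
  unfold gm
  rw [comp_mul f e2, comp_mul f e1, comp_k f h, Category.assoc, Category.assoc]

lemma gm_of_comp (h : a ≫ G.s = b ≫ G.t) : gm K a b = mul G a b := by
  unfold gm
  have e : mul G a (k K (a ≫ G.s) (b ≫ G.t)) = a := by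
    rw [← h, k_self]
    exact mul_e (Category.assoc _ _ _)
  rw [e]

lemma gm_assoc (h₁ : (a ≫ G.s) ≫ K.q = (b ≫ G.t) ≫ K.q)
    (h₂ : (b ≫ G.s) ≫ K.q = (c ≫ G.t) ≫ K.q) :
    gm K (gm K a b) c = gm K a (gm K b c) := by
  have f1 : a ≫ G.s = k K (a ≫ G.s) (b ≫ G.t) ≫ G.t := (k_t h₁).symm
  have f2 : mul G a (k K (a ≫ G.s) (b ≫ G.t)) ≫ G.s = b ≫ G.t := by rw [mul_s f1, k_s h₁]
  have f3 : b ≫ G.s = k K (b ≫ G.s) (c ≫ G.t) ≫ G.t := (k_t h₂).symm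
  have f4 : mul G b (k K (b ≫ G.s) (c ≫ G.t)) ≫ G.s = c ≫ G.t := by rw [mul_s f3, k_s h₂]
  have f5 : mul G a (k K (a ≫ G.s) (b ≫ G.t)) ≫ G.s =
      mul G b (k K (b ≫ G.s) (c ≫ G.t)) ≫ G.t := by rw [f2, mul_t f3]
  have l : gm K (gm K a b) c = mul G (mul G (gm K a b) (k K (b ≫ G.s) (c ≫ G.t))) c := by
    rw [gm, gm_s h₁]
  have r : gm K a (gm K b c) = mul G (mul G a (k K (a ≫ G.s) (b ≫ G.t))) (gm K b c) := by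
    rw [gm, gm_t h₂]
  rw [l, r]
  unfold gm
  rw [mul_assoc f2 f3, mul_assoc f5 f4]

lemma gm_act {v₁ v₂ : T ⟶ G.U} (h₁ : u₁ ≫ K.q = (a ≫ G.t) ≫ K.q)
    (h₂ : (a ≫ G.s) ≫ K.q = u₂ ≫ K.q) (h₃ : v₁ ≫ K.q = (b ≫ G.t) ≫ K.q)
    (h₄ : (b ≫ G.s) ≫ K.q = v₂ ≫ K.q) (h₅ : (a ≫ G.s) ≫ K.q = (b ≫ G.t) ≫ K.q) :
    gm K (act K u₁ a u₂) (act K v₁ b v₂) = act K u₁ (gm K a b) v₂ := by
  have h₆ : u₂ ≫ K.q = v₁ ≫ K.q := h₂.symm.trans (h₅.trans h₃.symm)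
  have h₇ : (a ≫ G.s) ≫ K.q = v₁ ≫ K.q := h₂.trans h₆
  have g1 : k K u₁ (a ≫ G.t) ≫ G.s = a ≫ G.t := k_s h₁
  have g2 : mul G (k K u₁ (a ≫ G.t)) a ≫ G.s = k K (a ≫ G.s) u₂ ≫ G.t := by
    rw [mul_s g1, k_t h₂]
  have g3 : k K (a ≫ G.s) u₂ ≫ G.s = k K u₂ v₁ ≫ G.t := by rw [k_s h₂, k_t h₆]
  have g4 : mul G (k K u₁ (a ≫ G.t)) a ≫ G.s = k K (a ≫ G.s) v₁ ≫ G.t := by
    rw [mul_s g1, k_t h₇]
  have g5 : k K (a ≫ G.s) v₁ ≫ G.s = k K v₁ (b ≫ G.t) ≫ G.t := by rw [k_s h₇, k_t h₃]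
  have g6 : k K v₁ (b ≫ G.t) ≫ G.s = b ≫ G.t := k_s h₃
  have g7 : mul G (k K v₁ (b ≫ G.t)) b ≫ G.s = k K (b ≫ G.s) v₂ ≫ G.t := by
    rw [mul_s g6, k_t h₄]
  have g8 : mul G (mul G (k K u₁ (a ≫ G.t)) a) (k K (a ≫ G.s) v₁) ≫ G.s =
      mul G (k K v₁ (b ≫ G.t)) b ≫ G.t := by
    rw [mul_s g4, k_s h₇, mul_t g6, k_t h₃]
  have g9 : mul G (mul G (k K u₁ (a ≫ G.t)) a) (k K (a ≫ G.s) v₁) ≫ G.s =
      k K v₁ (b ≫ G.t) ≫ G.t := by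
    rw [mul_s g4, k_s h₇, k_t h₃]
  have g10 : a ≫ G.s = k K (a ≫ G.s) (b ≫ G.t) ≫ G.t := (k_t h₅).symm
  have g11 : mul G a (k K (a ≫ G.s) (b ≫ G.t)) ≫ G.s = b ≫ G.t := by rw [mul_s g10, k_s h₅]
  have g13 : k K u₁ (a ≫ G.t) ≫ G.s = mul G a (k K (a ≫ G.s) (b ≫ G.t)) ≫ G.t := by
    rw [g1, mul_t g10]
  have L : gm K (act K u₁ a u₂) (act K v₁ b v₂) =
      mul G (mul G (act K u₁ a u₂) (k K u₂ v₁)) (act K v₁ b v₂) := by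
    rw [gm, act_s h₁ h₂, act_t h₃ h₄]
  have R : act K u₁ (gm K a b) v₂ =
      mul G (mul G (k K u₁ (a ≫ G.t)) (gm K a b)) (k K (b ≫ G.s) v₂) := by
    rw [act, gm_t h₅, gm_s h₅]
  rw [L, R]
  unfold act gm
  rw [mul_assoc g2 g3, k_mul h₂ h₆, ← mul_assoc g8 g7, ← mul_assoc g9 g6, mul_assoc g4 g5,
    k_mul h₇ h₃, ← mul_assoc g13 g11, ← mul_assoc g1 g10]

lemma gm_e (a : T ⟶ G.R) : gm K a (a ≫ G.s ≫ G.e) = a := by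
  have hβ : (a ≫ G.s ≫ G.e) ≫ G.t = a ≫ G.s := by
    rw [Category.assoc, Category.assoc, G.e_t, Category.comp_id]
  unfold gm
  rw [hβ, k_self]
  have e1 : mul G a ((a ≫ G.s) ≫ G.e) = a := mul_e (Category.assoc _ _ _)
  rw [e1]
  exact mul_e rfl

lemma e_gm (a : T ⟶ G.R) : gm K (a ≫ G.t ≫ G.e) a = a := by
  have hα : (a ≫ G.t ≫ G.e) ≫ G.s = a ≫ G.t := by
    rw [Category.assoc, Category.assoc, G.e_s, Category.comp_id]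
  unfold gm
  rw [hα, k_self]
  have e1 : mul G (a ≫ G.t ≫ G.e) ((a ≫ G.t) ≫ G.e) = a ≫ G.t ≫ G.e :=
    mul_e (by rw [← Category.assoc (a ≫ G.t ≫ G.e), hα])
  rw [e1]
  exact e_mul rfl

lemma gm_i (a : T ⟶ G.R) : gm K a (a ≫ G.i) = a ≫ G.t ≫ G.e := by
  have ait : (a ≫ G.i) ≫ G.t = a ≫ G.s := by rw [Category.assoc, G.i_t]
  unfold gm
  rw [ait, k_self, mul_e (α := a) (β := (a ≫ G.s) ≫ G.e) (Category.assoc _ _ _)]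
  exact mul_i rfl

lemma i_gm (a : T ⟶ G.R) : gm K (a ≫ G.i) a = a ≫ G.s ≫ G.e := by
  have ais : (a ≫ G.i) ≫ G.s = a ≫ G.t := by rw [Category.assoc, G.i_s]
  unfold gm
  rw [ais, k_self]
  have e1 : mul G (a ≫ G.i) ((a ≫ G.t) ≫ G.e) = a ≫ G.i :=
    mul_e (by rw [← Category.assoc (a ≫ G.i), ais])
  rw [e1]
  exact i_mul rfl

end Groth.Agent.H37.DescGrpd
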