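import Groth.Agent.H37.FinDesc2

/-!
# Effective descent along finite locally free morphisms: explicit form

The quotient `W` of the equivalence relation of a descent datum, with the cartesian square and the
invariance of the quotient map under transport.
-/

set_option autoImplicit false
universe u
open CategoryTheory CategoryTheory.Limits AlgebraicGeometry
open Grpd

namespace Groth.Agent.H37.FinDesc

open Groth.Agent.H37.GrpdCalc Groth.Agent.H37.QSect2

variable {X Y : Scheme.{u}} {p : X ⟶ Y} (D : Desc.SchDD p)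
variable [IsFinite p] [Flat p] [LocallyOfFinitePresentation p]

/-- effectivity in explicit form -/
theorem effective'
    (hV : ∀ v : D.obj.left, ∃ W : D.obj.left.Opens, IsAffineOpen W ∧
      (tR D).base '' ((sR D).base ⁻¹' {v}) ⊆ (W : Set D.obj.left)) :
    ∃ (W : Scheme.{u}) (π : D.obj.left ⟶ W) (h : W ⟶ Y), Surjective π ∧ Flat π ∧
      QuasiCompact π ∧ IsPullback π D.obj.hom h p ∧
      ∀ {T : Scheme.{u}} (a : T ⟶ D.obj.left) (x : T ⟶ X)
        (hx : (a ≫ D.obj.hom) ≫ p = x ≫ p), tr D a x hx ≫ π = a ≫ π := by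
  haveI : IsFinite (grpd D).s := inferInstanceAs (IsFinite (pullback.fst (D.obj.hom ≫ p) p))
  haveI : Flat (grpd D).s := inferInstanceAs (Flat (pullback.fst (D.obj.hom ≫ p) p))
  haveI : LocallyOfFinitePresentation (grpd D).s :=
    inferInstanceAs (LocallyOfFinitePresentation (pullback.fst (D.obj.hom ≫ p) p))
  have hT := Groth.Agent.H49.GQ7.goodFamily_top (G := grpd D) hV
  obtain ⟨W, q, hq, hqs, hqf, hqc, hiso, h, hh⟩ : ∃ (W : Scheme.{u}) (q : D.obj.left ⟶ W)
      (hq : sR D ≫ q = tR D ≫ q), Surjective q ∧ Flat q ∧ QuasiCompact q ∧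
      IsIso (pullback.lift (tR D) (sR D) hq.symm) ∧ ∃ h : W ⟶ Y, q ≫ h = D.obj.hom ≫ p := by
    refine ⟨Groth.Agent.H49.GQ6.Y (grpd D), Groth.Agent.H49.GQ7.q hT,
      Groth.Agent.H49.GQ7.s_q_eq_t_q hT, Groth.Agent.H49.GQ7.surjective_q hT,
      Groth.Agent.H49.GQ8.flat_q hT, ?_, Groth.Agent.H49.GQ8.isIso_lift hT,
      Groth.Agent.H49.GQ9.exists_desc hT (D.obj.hom ≫ p) ?_⟩
    · have hqa := Groth.Agent.H49.GQ7.isAffineHom_q hT
      have : QuasiCompact (Groth.Agent.H49.GQ7.q hT) := inferInstance
      exact this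
    · exact (tR_over D).symm
  haveI := hqs
  haveI := hqf
  haveI := hqc
  haveI := hiso
  have tr_q : ∀ {T : Scheme.{u}} (a : T ⟶ D.obj.left) (x : T ⟶ X)
      (hx : (a ≫ D.obj.hom) ≫ p = x ≫ p), tr D a x hx ≫ q = a ≫ q := by
    intro T a x hx
    rw [← liftR_t D a x hx, Category.assoc, ← hq, ← Category.assoc, liftR_s]
  have hΨ : D.obj.hom ≫ p = q ≫ h := hh.symm
  haveI hmono : Mono (pullback.lift D.obj.hom q hΨ) := by
    refine ⟨fun {T} a b hab => ?_⟩
    have h1 : a ≫ D.obj.hom = b ≫ D.obj.hom := by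
      have := congrArg (fun ψ => ψ ≫ pullback.fst p h) hab
      simpa only [Category.assoc, pullback.lift_fst] using this
    have h2 : a ≫ q = b ≫ q := by
      have := congrArg (fun ψ => ψ ≫ pullback.snd p h) hab
      simpa only [Category.assoc, pullback.lift_snd] using this
    have i1 : inv (pullback.lift (tR D) (sR D) hq.symm) ≫ tR D = pullback.fst q q := by
      rw [IsIso.inv_comp_eq, pullback.lift_fst]
    have i2 : inv (pullback.lift (tR D) (sR D) hq.symm) ≫ sR D = pullback.snd q q := by
      rw [IsIso.inv_comp_eq, pullback.lift_snd]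
    have e1 : (pullback.lift a b h2 ≫ inv (pullback.lift (tR D) (sR D) hq.symm)) ≫ tR D = a := by
      rw [Category.assoc, i1, pullback.lift_fst]
    have e2 : (pullback.lift a b h2 ≫ inv (pullback.lift (tR D) (sR D) hq.symm)) ≫ sR D = b := by
      rw [Category.assoc, i2, pullback.lift_snd]
    have e3 : pullback.lift a b h2 ≫ inv (pullback.lift (tR D) (sR D) hq.symm) = b ≫ eR D := by
      apply hom_ext_R' D
      · rw [e2, Category.assoc, eR_s, Category.comp_id]
      · rw [← tR_hom D, ← Category.assoc, e1, Category.assoc, ← Category.assoc (eR D), eR_t,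
          Category.id_comp, h1]
    calc a = (pullback.lift a b h2 ≫ inv (pullback.lift (tR D) (sR D) hq.symm)) ≫ tR D := e1.symm
      _ = (b ≫ eR D) ≫ tR D := by rw [e3]
      _ = b := by rw [Category.assoc, eR_t, Category.comp_id]
  have hcond : ((pullback.snd (pullback.snd p h) q) ≫ D.obj.hom) ≫ p =
      (pullback.fst (pullback.snd p h) q ≫ pullback.fst p h) ≫ p := by
    rw [Category.assoc, hΨ, ← Category.assoc, ← pullback.condition, Category.assoc,
      Category.assoc, ← pullback.condition]
  have hθ : tr D (pullback.snd (pullback.snd p h) q)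
      (pullback.fst (pullback.snd p h) q ≫ pullback.fst p h) hcond ≫
        pullback.lift D.obj.hom q hΨ = pullback.fst (pullback.snd p h) q := by
    apply pullback.hom_ext
    · rw [Category.assoc, pullback.lift_fst, tr_hom]
    · rw [Category.assoc, pullback.lift_snd, tr_q, pullback.condition]
  haveI : IsIso (pullback.lift D.obj.hom q hΨ) :=
    isIso_of_mono_of_effectiveEpi_lift _ (pullback.fst (pullback.snd p h) q) _ hθ
  refine ⟨W, q, h, hqs, hqf, hqc, ?_, fun a x hx => tr_q a x hx⟩
  exact (IsPullback.of_iso_pullback ⟨hΨ⟩ (asIso (pullback.lift D.obj.hom q hΨ))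
    (pullback.lift_fst _ _ _) (pullback.lift_snd _ _ _)).flip

end Groth.Agent.H37.FinDesc
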