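import Groth.Agent.H37.DescGrpd1
import Groth.Agent.H37.FinDesc4

set_option autoImplicit false
universe u
open CategoryTheory CategoryTheory.Limits AlgebraicGeometry

/-!
# Descent of a groupoid scheme along a quotient map: the descent datum on the arrows
-/

namespace Groth.Agent.H37.DescGrpd

open Groth.Agent.H37.GrpdCalc

variable {S : Scheme.{u}} {G : Grpd.GroupoidScheme S} (K : KData G)
variable {T T' : Scheme.{u}}

/-- `q × q` -/
noncomputable def qq : pullback G.pU G.pU ⟶ pullback K.pY K.pY :=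
  pullback.map G.pU G.pU K.pY K.pY K.q K.q (𝟙 S)
    ((Category.comp_id _).trans K.q_over.symm) ((Category.comp_id _).trans K.q_over.symm)

lemma qq_fst : qq K ≫ pullback.fst K.pY K.pY = pullback.fst G.pU G.pU ≫ K.q := by
  unfold qq; exact pullback.lift_fst _ _ _

lemma qq_snd : qq K ≫ pullback.snd K.pY K.pY = pullback.snd G.pU G.pU ≫ K.q := by
  unfold qq; exact pullback.lift_snd _ _ _

variable {K}

lemma qq_compat {x₀ x₁ : T ⟶ pullback G.pU G.pU} (h : x₀ ≫ qq K = x₁ ≫ qq K) :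
    (x₀ ≫ pullback.fst _ _) ≫ K.q = (x₁ ≫ pullback.fst _ _) ≫ K.q ∧
      (x₀ ≫ pullback.snd _ _) ≫ K.q = (x₁ ≫ pullback.snd _ _) ≫ K.q := by
  constructor
  · have := congrArg (fun ψ => ψ ≫ pullback.fst K.pY K.pY) h
    simpa only [Category.assoc, qq_fst] using this
  · have := congrArg (fun ψ => ψ ≫ pullback.snd K.pY K.pY) h
    simpa only [Category.assoc, qq_snd] using this

lemma lifts_compat {x₀ x₁ : T ⟶ pullback G.pU G.pU} (h : x₀ ≫ qq K = x₁ ≫ qq K)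
    {a : T ⟶ G.R} (ha : a ≫ G.j = x₀) :
    (x₁ ≫ pullback.fst _ _) ≫ K.q = (a ≫ G.t) ≫ K.q ∧
      (a ≫ G.s) ≫ K.q = (x₁ ≫ pullback.snd _ _) ≫ K.q := by
  have e1 : a ≫ G.t = x₀ ≫ pullback.fst _ _ := by rw [← ha, Category.assoc, j_fst]
  have e2 : a ≫ G.s = x₀ ≫ pullback.snd _ _ := by rw [← ha, Category.assoc, j_snd]
  rw [e1, e2]
  exact ⟨(qq_compat h).1.symm, (qq_compat h).2⟩

variable (K)

/-- the gluing map of the descent datum on the arrows -/
noncomputable def φfun (x₀ x₁ : T ⟶ pullback G.pU G.pU) (h : x₀ ≫ qq K = x₁ ≫ qq K)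
    (v : Desc.Lifts (Over.mk G.j) x₀) : Desc.Lifts (Over.mk G.j) x₁ :=
  ⟨act K (x₁ ≫ pullback.fst _ _) v.1 (x₁ ≫ pullback.snd _ _), by
    have hv : v.1 ≫ G.j = x₀ := v.2
    obtain ⟨h1, h2⟩ := lifts_compat h hv
    show act K _ _ _ ≫ G.j = x₁
    apply pullback.hom_ext
    · rw [Category.assoc, j_fst, act_t h1 h2]
    · rw [Category.assoc, j_snd, act_s h1 h2]⟩

lemma φfun_val (x₀ x₁ : T ⟶ pullback G.pU G.pU) (h : x₀ ≫ qq K = x₁ ≫ qq K)
    (v : Desc.Lifts (Over.mk G.j) x₀) :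
    (φfun K x₀ x₁ h v).1 = act K (x₁ ≫ pullback.fst _ _) v.1 (x₁ ≫ pullback.snd _ _) := rfl

lemma φfun_self (x : T ⟶ pullback G.pU G.pU) (v : Desc.Lifts (Over.mk G.j) x) :
    φfun K x x rfl v = v := by
  apply Subtype.ext
  have hv : v.1 ≫ G.j = x := v.2
  have e1 : v.1 ≫ G.t = x ≫ pullback.fst _ _ := by
    have := congrArg (fun ψ => ψ ≫ pullback.fst G.pU G.pU) hv
    simpa only [Category.assoc, j_fst] using this
  have e2 : v.1 ≫ G.s = x ≫ pullback.snd _ _ := by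
    have := congrArg (fun ψ => ψ ≫ pullback.snd G.pU G.pU) hv
    simpa only [Category.assoc, j_snd] using this
  rw [φfun_val, ← e1, ← e2]
  exact act_self _

lemma φfun_comp (x₀ x₁ x₂ : T ⟶ pullback G.pU G.pU) (h₀₁ : x₀ ≫ qq K = x₁ ≫ qq K)
    (h₁₂ : x₁ ≫ qq K = x₂ ≫ qq K) (v : Desc.Lifts (Over.mk G.j) x₀) :
    φfun K x₁ x₂ h₁₂ (φfun K x₀ x₁ h₀₁ v) = φfun K x₀ x₂ (h₀₁.trans h₁₂) v := by
  apply Subtype.ext
  have hv : v.1 ≫ G.j = x₀ := v.2
  obtain ⟨h1, h2⟩ := lifts_compat h₀₁ hv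
  rw [φfun_val, φfun_val, φfun_val]
  exact act_act h1 h2 (qq_compat h₁₂).1.symm (qq_compat h₁₂).2

/-- the descent datum on the arrows of `G` relative to `q × q` -/
noncomputable def DD : Desc.SchDD (qq K) where
  obj := Over.mk G.j
  φ T x₀ x₁ h :=
    { toFun := φfun K x₀ x₁ h
      invFun := φfun K x₁ x₀ h.symm
      left_inv := fun v => by rw [φfun_comp, φfun_self]
      right_inv := fun v => by rw [φfun_comp, φfun_self] }
  φ_natural T T' g x₀ x₁ h h' v v' hv' := by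
    have hv : v.1 ≫ G.j = x₀ := v.2
    obtain ⟨h1, h2⟩ := lifts_compat h hv
    show act K ((g ≫ x₁) ≫ pullback.fst _ _) v'.1 ((g ≫ x₁) ≫ pullback.snd _ _) =
      g ≫ act K (x₁ ≫ pullback.fst _ _) v.1 (x₁ ≫ pullback.snd _ _)
    rw [comp_act g h1 h2, hv', Category.assoc, Category.assoc]
  φ_self T x v := φfun_self K x v
  φ_comp T x₀ x₁ x₂ h₀₁ h₁₂ v := φfun_comp K x₀ x₁ x₂ h₀₁ h₁₂ v

/-- the quotient of the arrows -/
structure QData (K : KData G) where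
  W : Scheme.{u}
  π : G.R ⟶ W
  jb : W ⟶ pullback K.pY K.pY
  surj : Surjective π
  flat : Flat π
  qc : QuasiCompact π
  pb : IsPullback π G.j jb (qq K)
  act_π : ∀ {T : Scheme.{u}} (u₁ : T ⟶ G.U) (a : T ⟶ G.R) (u₂ : T ⟶ G.U),
    u₁ ≫ K.q = (a ≫ G.t) ≫ K.q → (a ≫ G.s) ≫ K.q = u₂ ≫ K.q → act K u₁ a u₂ ≫ π = a ≫ π

theorem exists_QData [IsFinite K.q] [Flat K.q] [LocallyOfFinitePresentation K.q]
    (haff : ∀ F : Set G.R, F.Finite → ∃ W : G.R.Opens, IsAffineOpen W ∧ F ⊆ (W : Set G.R)) :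
    Nonempty (QData K) := by
  haveI : IsFinite (qq K) :=
    MorphismProperty.pullbackMap (P := @IsFinite) ‹IsFinite K.q› ‹IsFinite K.q›
      K.q_over.symm K.q_over.symm
  haveI : Flat (qq K) :=
    MorphismProperty.pullbackMap (P := @Flat) ‹Flat K.q› ‹Flat K.q› K.q_over.symm K.q_over.symm
  haveI : LocallyOfFinitePresentation (qq K) :=
    MorphismProperty.pullbackMap (P := @LocallyOfFinitePresentation)
      ‹LocallyOfFinitePresentation K.q› ‹LocallyOfFinitePresentation K.q›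
      K.q_over.symm K.q_over.symm
  obtain ⟨W, π, h, hs, hf, hqc, hpb, htr⟩ := Groth.Agent.H37.FinDesc.effective' (DD K)
    (fun v => haff _ (Groth.Agent.H37.FinDesc.orbit_finite (DD K) v))
  refine ⟨⟨W, π, h, hs, hf, hqc, hpb, ?_⟩⟩
  intro T u₁ a u₂ h₁ h₂
  have hx : u₁ ≫ G.pU = u₂ ≫ G.pU := by
    have e1 : u₁ ≫ G.pU = (a ≫ G.t) ≫ G.pU := by
      rw [← K.q_over, ← Category.assoc, h₁, Category.assoc]
    have e2 : u₂ ≫ G.pU = (a ≫ G.s) ≫ G.pU := by
      rw [← K.q_over, ← Category.assoc, ← h₂, Category.assoc]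
    rw [e1, e2, Category.assoc, Category.assoc, G.t_over, G.s_over]
  obtain ⟨x, hx1, hx2⟩ : ∃ x : T ⟶ pullback G.pU G.pU, x ≫ pullback.fst _ _ = u₁ ∧
      x ≫ pullback.snd _ _ = u₂ :=
    ⟨pullback.lift u₁ u₂ hx, pullback.lift_fst _ _ _, pullback.lift_snd _ _ _⟩
  have hx' : (a ≫ (DD K).obj.hom) ≫ qq K = x ≫ qq K := by
    show (a ≫ G.j) ≫ qq K = x ≫ qq K
    have e1 : (a ≫ G.j) ≫ pullback.fst _ _ = a ≫ G.t := by rw [Category.assoc, j_fst]
    have e2 : (a ≫ G.j) ≫ pullback.snd _ _ = a ≫ G.s := by rw [Category.assoc, j_snd]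
    apply pullback.hom_ext
    · calc ((a ≫ G.j) ≫ qq K) ≫ pullback.fst K.pY K.pY
          = ((a ≫ G.j) ≫ pullback.fst _ _) ≫ K.q := by
            rw [Category.assoc, qq_fst, ← Category.assoc]
        _ = (x ≫ pullback.fst _ _) ≫ K.q := by rw [e1, hx1, h₁]
        _ = (x ≫ qq K) ≫ pullback.fst K.pY K.pY := by
            rw [Category.assoc, ← qq_fst, ← Category.assoc]
    · calc ((a ≫ G.j) ≫ qq K) ≫ pullback.snd K.pY K.pY
          = ((a ≫ G.j) ≫ pullback.snd _ _) ≫ K.q := by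
            rw [Category.assoc, qq_snd, ← Category.assoc]
        _ = (x ≫ pullback.snd _ _) ≫ K.q := by rw [e2, hx2, h₂]
        _ = (x ≫ qq K) ≫ pullback.snd K.pY K.pY := by
            rw [Category.assoc, ← qq_snd, ← Category.assoc]
  have e := htr a x hx'
  have e' : Groth.Agent.H37.FinDesc.tr (DD K) a x hx' =
      act K (x ≫ pullback.fst _ _) a (x ≫ pullback.snd _ _) := rfl
  rw [e', hx1, hx2] at e
  exact e

end Groth.Agent.H37.DescGrpd
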