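import Groth.Agent.H37.DescGrpd2

set_option autoImplicit false
universe u
open CategoryTheory CategoryTheory.Limits AlgebraicGeometry

/-!
# Descent of a groupoid scheme along a quotient map: the groupoid structure on the quotient
-/

namespace Groth.Agent.H37.DescGrpd

open Groth.Agent.H37.GrpdCalc

variable {S : Scheme.{u}} {G : Grpd.GroupoidScheme S} {K : KData G} (Q : QData K)
variable {T T' : Scheme.{u}}

instance instSurjπ : Surjective Q.π := Q.surj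
instance instFlatπ : Flat Q.π := Q.flat
instance instQcπ : QuasiCompact Q.π := Q.qc

/-- source of the quotient groupoid -/
noncomputable def sb : Q.W ⟶ K.Y := Q.jb ≫ pullback.snd K.pY K.pY
/-- target of the quotient groupoid -/
noncomputable def tb : Q.W ⟶ K.Y := Q.jb ≫ pullback.fst K.pY K.pY

lemma π_sb : Q.π ≫ sb Q = G.s ≫ K.q := by
  unfold sb
  rw [← Category.assoc, Q.pb.w, Category.assoc, qq_snd, ← Category.assoc, j_snd]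

lemma π_tb : Q.π ≫ tb Q = G.t ≫ K.q := by
  unfold tb
  rw [← Category.assoc, Q.pb.w, Category.assoc, qq_fst, ← Category.assoc, j_fst]

lemma tb_over : tb Q ≫ K.pY = sb Q ≫ K.pY := by
  unfold tb sb
  rw [Category.assoc, Category.assoc, pullback.condition]

lemma π_q_s (a : T ⟶ G.R) : (a ≫ G.s) ≫ K.q = (a ≫ Q.π) ≫ sb Q := by
  rw [Category.assoc, Category.assoc, π_sb]

lemma π_q_t (a : T ⟶ G.R) : (a ≫ G.t) ≫ K.q = (a ≫ Q.π) ≫ tb Q := by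
  rw [Category.assoc, Category.assoc, π_tb]

/-- points with the same image in the quotient differ by the action -/
lemma rel {a a' : T ⟶ G.R} (h : a ≫ Q.π = a' ≫ Q.π) :
    a' = act K (a' ≫ G.t) a (a' ≫ G.s) := by
  have h1 : (a' ≫ G.t) ≫ K.q = (a ≫ G.t) ≫ K.q := by rw [π_q_t Q, π_q_t Q, h]
  have h2 : (a ≫ G.s) ≫ K.q = (a' ≫ G.s) ≫ K.q := by rw [π_q_s Q, π_q_s Q, h]
  apply Q.pb.hom_ext
  · rw [Q.act_π _ _ _ h1 h2, h]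
  · apply pullback.hom_ext
    · rw [Category.assoc, Category.assoc, j_fst, act_t h1 h2]
    · rw [Category.assoc, Category.assoc, j_snd, act_s h1 h2]

section structureMaps

variable [Flat K.q] [Surjective K.q] [QuasiCompact K.q]

lemma eb_aux {Z : Scheme.{u}} (g₁ g₂ : Z ⟶ G.U) (h : g₁ ≫ K.q = g₂ ≫ K.q) :
    g₁ ≫ G.e ≫ Q.π = g₂ ≫ G.e ≫ Q.π := by
  have et : (g₁ ≫ G.e) ≫ G.t = g₁ := by rw [Category.assoc, G.e_t, Category.comp_id]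
  have es : (g₁ ≫ G.e) ≫ G.s = g₁ := by rw [Category.assoc, G.e_s, Category.comp_id]
  have h1 : g₂ ≫ K.q = ((g₁ ≫ G.e) ≫ G.t) ≫ K.q := by rw [et, h]
  have h2 : ((g₁ ≫ G.e) ≫ G.s) ≫ K.q = g₂ ≫ K.q := by rw [es, h]
  have e1 := Q.act_π g₂ (g₁ ≫ G.e) g₂ h1 h2
  have e2 : act K g₂ (g₁ ≫ G.e) g₂ = g₂ ≫ G.e := by
    unfold act
    rw [et, es]
    have e3 : mul G (k K g₂ g₁) (g₁ ≫ G.e) = k K g₂ g₁ :=
      mul_e (by rw [← Category.assoc, k_s h.symm])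
    rw [e3, k_mul h.symm h, k_self]
  rw [e2] at e1
  exact ((Category.assoc _ _ _).symm.trans e1.symm).trans (Category.assoc _ _ _)

/-- identity of the quotient groupoid -/
noncomputable def eb : K.Y ⟶ Q.W :=
  EffectiveEpi.desc K.q (G.e ≫ Q.π) (fun g₁ g₂ h => eb_aux Q g₁ g₂ h)

lemma q_eb : K.q ≫ eb Q = G.e ≫ Q.π := EffectiveEpi.fac _ _ _

end structureMaps

lemma ib_aux {Z : Scheme.{u}} (g₁ g₂ : Z ⟶ G.R) (h : g₁ ≫ Q.π = g₂ ≫ Q.π) :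
    g₁ ≫ G.i ≫ Q.π = g₂ ≫ G.i ≫ Q.π := by
  have h1 : (g₂ ≫ G.t) ≫ K.q = (g₁ ≫ G.t) ≫ K.q := by rw [π_q_t Q, π_q_t Q, h]
  have h2 : (g₁ ≫ G.s) ≫ K.q = (g₂ ≫ G.s) ≫ K.q := by rw [π_q_s Q, π_q_s Q, h]
  have e1 : g₂ = act K (g₂ ≫ G.t) g₁ (g₂ ≫ G.s) := rel Q h
  have e2 := act_inv (K := K) (u₁ := g₂ ≫ G.t) (a := g₁) (u₂ := g₂ ≫ G.s) h1 h2
  rw [← e1] at e2
  have ait : (g₁ ≫ G.i) ≫ G.t = g₁ ≫ G.s := by rw [Category.assoc, G.i_t]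
  have ais : (g₁ ≫ G.i) ≫ G.s = g₁ ≫ G.t := by rw [Category.assoc, G.i_s]
  have e3 := Q.act_π (g₂ ≫ G.s) (g₁ ≫ G.i) (g₂ ≫ G.t) (by rw [ait]; exact h2.symm)
    (by rw [ais]; exact h1.symm)
  rw [← e2] at e3
  exact ((Category.assoc _ _ _).symm.trans e3.symm).trans (Category.assoc _ _ _)

/-- inverse of the quotient groupoid -/
noncomputable def ib : Q.W ⟶ Q.W :=
  EffectiveEpi.desc Q.π (G.i ≫ Q.π) (fun g₁ g₂ h => ib_aux Q g₁ g₂ h)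

lemma π_ib : Q.π ≫ ib Q = G.i ≫ Q.π := EffectiveEpi.fac _ _ _

/-- `π × π` over `Y` -/
noncomputable def ρ : pullback (Q.π ≫ sb Q) (Q.π ≫ tb Q) ⟶ pullback (sb Q) (tb Q) :=
  pullback.map (Q.π ≫ sb Q) (Q.π ≫ tb Q) (sb Q) (tb Q) Q.π Q.π (𝟙 _)
    ((Category.comp_id _).trans rfl) ((Category.comp_id _).trans rfl)

instance instFlatρ : Flat (ρ Q) :=
  MorphismProperty.pullbackMap (P := @Flat) Q.flat Q.flat rfl rfl
instance instSurjρ : Surjective (ρ Q) :=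
  MorphismProperty.pullbackMap (P := @Surjective) Q.surj Q.surj rfl rfl
instance instQcρ : QuasiCompact (ρ Q) :=
  MorphismProperty.pullbackMap (P := @QuasiCompact) Q.qc Q.qc rfl rfl

lemma ρ_fst : ρ Q ≫ pullback.fst (sb Q) (tb Q) = pullback.fst _ _ ≫ Q.π := by
  unfold ρ; exact pullback.lift_fst _ _ _

lemma ρ_snd : ρ Q ≫ pullback.snd (sb Q) (tb Q) = pullback.snd _ _ ≫ Q.π := by
  unfold ρ; exact pullback.lift_snd _ _ _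

lemma m_cond : (pullback.fst (Q.π ≫ sb Q) (Q.π ≫ tb Q) ≫ G.s) ≫ K.q =
    (pullback.snd (Q.π ≫ sb Q) (Q.π ≫ tb Q) ≫ G.t) ≫ K.q := by
  rw [Category.assoc, Category.assoc, ← π_sb Q, ← π_tb Q]
  exact pullback.condition

/-- the composition before descent -/
noncomputable def m : pullback (Q.π ≫ sb Q) (Q.π ≫ tb Q) ⟶ Q.W :=
  gm K (pullback.fst _ _) (pullback.snd _ _) ≫ Q.π

lemma comp_m {Z : Scheme.{u}} (g : Z ⟶ pullback (Q.π ≫ sb Q) (Q.π ≫ tb Q)) :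
    g ≫ m Q = gm K (g ≫ pullback.fst _ _) (g ≫ pullback.snd _ _) ≫ Q.π := by
  unfold m
  rw [← Category.assoc, comp_gm g (m_cond Q)]

lemma cond_of {Z : Scheme.{u}} (g : Z ⟶ pullback (Q.π ≫ sb Q) (Q.π ≫ tb Q)) :
    ((g ≫ pullback.fst _ _) ≫ G.s) ≫ K.q = ((g ≫ pullback.snd _ _) ≫ G.t) ≫ K.q := by
  have := congrArg (fun ψ => g ≫ ψ) (m_cond Q)
  simpa only [Category.assoc] using this

lemma cb_aux' {Z : Scheme.{u}} (a₁ b₁ a₂ b₂ : Z ⟶ G.R) (ha : a₁ ≫ Q.π = a₂ ≫ Q.π)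
    (hb : b₁ ≫ Q.π = b₂ ≫ Q.π) (hc₁ : (a₁ ≫ G.s) ≫ K.q = (b₁ ≫ G.t) ≫ K.q) :
    gm K a₁ b₁ ≫ Q.π = gm K a₂ b₂ ≫ Q.π := by
  have h1 : (a₂ ≫ G.t) ≫ K.q = (a₁ ≫ G.t) ≫ K.q := by rw [π_q_t Q, π_q_t Q, ha]
  have h2 : (a₁ ≫ G.s) ≫ K.q = (a₂ ≫ G.s) ≫ K.q := by rw [π_q_s Q, π_q_s Q, ha]
  have h3 : (b₂ ≫ G.t) ≫ K.q = (b₁ ≫ G.t) ≫ K.q := by rw [π_q_t Q, π_q_t Q, hb]
  have h4 : (b₁ ≫ G.s) ≫ K.q = (b₂ ≫ G.s) ≫ K.q := by rw [π_q_s Q, π_q_s Q, hb]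
  have ra : a₂ = act K (a₂ ≫ G.t) a₁ (a₂ ≫ G.s) := rel Q ha
  have rb : b₂ = act K (b₂ ≫ G.t) b₁ (b₂ ≫ G.s) := rel Q hb
  have e := gm_act (K := K) h1 h2 h3 h4 hc₁
  rw [← ra, ← rb] at e
  rw [e]
  exact (Q.act_π _ _ _ (by rw [gm_t hc₁]; exact h1) (by rw [gm_s hc₁]; exact h4)).symm

lemma cb_aux {Z : Scheme.{u}} (g₁ g₂ : Z ⟶ pullback (Q.π ≫ sb Q) (Q.π ≫ tb Q))
    (h : g₁ ≫ ρ Q = g₂ ≫ ρ Q) : g₁ ≫ m Q = g₂ ≫ m Q := by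
  have ha : (g₁ ≫ pullback.fst (Q.π ≫ sb Q) (Q.π ≫ tb Q)) ≫ Q.π =
      (g₂ ≫ pullback.fst (Q.π ≫ sb Q) (Q.π ≫ tb Q)) ≫ Q.π := by
    have := congrArg (fun ψ => ψ ≫ pullback.fst (sb Q) (tb Q)) h
    simpa only [Category.assoc, ρ_fst] using this
  have hb : (g₁ ≫ pullback.snd (Q.π ≫ sb Q) (Q.π ≫ tb Q)) ≫ Q.π =
      (g₂ ≫ pullback.snd (Q.π ≫ sb Q) (Q.π ≫ tb Q)) ≫ Q.π := by
    have := congrArg (fun ψ => ψ ≫ pullback.snd (sb Q) (tb Q)) h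
    simpa only [Category.assoc, ρ_snd] using this
  rw [comp_m, comp_m]
  exact cb_aux' Q _ _ _ _ ha hb (cond_of Q g₁)

/-- composition of the quotient groupoid -/
noncomputable def cb : pullback (sb Q) (tb Q) ⟶ Q.W :=
  EffectiveEpi.desc (ρ Q) (m Q) (fun g₁ g₂ h => cb_aux Q g₁ g₂ h)

lemma ρ_cb : ρ Q ≫ cb Q = m Q := EffectiveEpi.fac _ _ _

/-- the composition of the quotient on lifted points -/
lemma lift_cb (g : T' ⟶ T) (α β : T ⟶ Q.W) (h : α ≫ sb Q = β ≫ tb Q)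
    (a b : T' ⟶ G.R) (ha : a ≫ Q.π = g ≫ α) (hb : b ≫ Q.π = g ≫ β) :
    g ≫ pullback.lift α β h ≫ cb Q = gm K a b ≫ Q.π := by
  have h' : a ≫ Q.π ≫ sb Q = b ≫ Q.π ≫ tb Q := by
    rw [← Category.assoc, ← Category.assoc, ha, hb, Category.assoc, Category.assoc, h]
  have e1 : g ≫ pullback.lift α β h = pullback.lift a b h' ≫ ρ Q := by
    apply pullback.hom_ext
    · rw [Category.assoc, pullback.lift_fst, Category.assoc, ρ_fst, ← Category.assoc,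
        pullback.lift_fst, ha]
    · rw [Category.assoc, pullback.lift_snd, Category.assoc, ρ_snd, ← Category.assoc,
        pullback.lift_snd, hb]
  rw [← Category.assoc, e1, Category.assoc, ρ_cb, comp_m, pullback.lift_fst, pullback.lift_snd]

lemma lift_cb' (a b : T ⟶ G.R) (h : (a ≫ Q.π) ≫ sb Q = (b ≫ Q.π) ≫ tb Q) :
    pullback.lift (a ≫ Q.π) (b ≫ Q.π) h ≫ cb Q = gm K a b ≫ Q.π := by
  have := lift_cb Q (𝟙 T) (a ≫ Q.π) (b ≫ Q.π) h a b (Category.id_comp _).symm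
    (Category.id_comp _).symm
  rwa [Category.id_comp] at this

/-! ### lifting points of the quotient -/

lemma epi_fst (α : T ⟶ Q.W) : Epi (pullback.fst α Q.π) := by
  haveI : Flat (pullback.fst α Q.π) := inferInstance
  haveI : Surjective (pullback.fst α Q.π) := inferInstance
  haveI : QuasiCompact (pullback.fst α Q.π) := inferInstance
  haveI : EffectiveEpi (pullback.fst α Q.π) := inferInstance
  infer_instance

lemma lift1 (α : T ⟶ Q.W) : ∃ (T' : Scheme.{u}) (g : T' ⟶ T) (a : T' ⟶ G.R),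
    Epi g ∧ a ≫ Q.π = g ≫ α :=
  ⟨pullback α Q.π, pullback.fst α Q.π, pullback.snd α Q.π, epi_fst Q α, pullback.condition.symm⟩

lemma lift2 (α β : T ⟶ Q.W) : ∃ (T' : Scheme.{u}) (g : T' ⟶ T) (a b : T' ⟶ G.R),
    Epi g ∧ a ≫ Q.π = g ≫ α ∧ b ≫ Q.π = g ≫ β := by
  obtain ⟨T₁, g₁, a, hg₁, ha⟩ := lift1 Q α
  obtain ⟨T₂, g₂, b, hg₂, hb⟩ := lift1 Q (g₁ ≫ β)
  haveI := hg₁
  haveI := hg₂
  exact ⟨T₂, g₂ ≫ g₁, g₂ ≫ a, b, epi_comp _ _, by rw [Category.assoc, ha, Category.assoc],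
    by rw [hb, Category.assoc]⟩

lemma lift3 (α β γ : T ⟶ Q.W) : ∃ (T' : Scheme.{u}) (g : T' ⟶ T) (a b c : T' ⟶ G.R),
    Epi g ∧ a ≫ Q.π = g ≫ α ∧ b ≫ Q.π = g ≫ β ∧ c ≫ Q.π = g ≫ γ := by
  obtain ⟨T₁, g₁, a, b, hg₁, ha, hb⟩ := lift2 Q α β
  obtain ⟨T₂, g₂, c, hg₂, hc⟩ := lift1 Q (g₁ ≫ γ)
  haveI := hg₁
  haveI := hg₂
  exact ⟨T₂, g₂ ≫ g₁, g₂ ≫ a, g₂ ≫ b, c, epi_comp _ _,
    by rw [Category.assoc, ha, Category.assoc], by rw [Category.assoc, hb, Category.assoc],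
    by rw [hc, Category.assoc]⟩

lemma comp_cond (g : T' ⟶ T) {α β : T ⟶ Q.W} (h : α ≫ sb Q = β ≫ tb Q)
    {a b : T' ⟶ G.R} (ha : a ≫ Q.π = g ≫ α) (hb : b ≫ Q.π = g ≫ β) :
    (a ≫ G.s) ≫ K.q = (b ≫ G.t) ≫ K.q := by
  rw [π_q_s Q, π_q_t Q, ha, hb, Category.assoc, Category.assoc, h]

/-! ### the axioms -/

lemma h_comp_s (α β : T ⟶ Q.W) (h : α ≫ sb Q = β ≫ tb Q) :
    (pullback.lift α β h ≫ cb Q) ≫ sb Q = β ≫ sb Q := by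
  obtain ⟨T', g, a, b, hg, ha, hb⟩ := lift2 Q α β
  haveI := hg
  rw [← cancel_epi g]
  have hc := comp_cond Q g h ha hb
  calc g ≫ (pullback.lift α β h ≫ cb Q) ≫ sb Q
      = (g ≫ pullback.lift α β h ≫ cb Q) ≫ sb Q := by simp only [Category.assoc]
    _ = (gm K a b ≫ Q.π) ≫ sb Q := by rw [lift_cb Q g α β h a b ha hb]
    _ = (gm K a b ≫ G.s) ≫ K.q := (π_q_s Q _).symm
    _ = (b ≫ G.s) ≫ K.q := by rw [gm_s hc]
    _ = (b ≫ Q.π) ≫ sb Q := π_q_s Q b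
    _ = g ≫ β ≫ sb Q := by rw [hb, Category.assoc]

lemma h_comp_t (α β : T ⟶ Q.W) (h : α ≫ sb Q = β ≫ tb Q) :
    (pullback.lift α β h ≫ cb Q) ≫ tb Q = α ≫ tb Q := by
  obtain ⟨T', g, a, b, hg, ha, hb⟩ := lift2 Q α β
  haveI := hg
  rw [← cancel_epi g]
  have hc := comp_cond Q g h ha hb
  calc g ≫ (pullback.lift α β h ≫ cb Q) ≫ tb Q
      = (g ≫ pullback.lift α β h ≫ cb Q) ≫ tb Q := by simp only [Category.assoc]
    _ = (gm K a b ≫ Q.π) ≫ tb Q := by rw [lift_cb Q g α β h a b ha hb]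
    _ = (gm K a b ≫ G.t) ≫ K.q := (π_q_t Q _).symm
    _ = (a ≫ G.t) ≫ K.q := by rw [gm_t hc]
    _ = (a ≫ Q.π) ≫ tb Q := π_q_t Q a
    _ = g ≫ α ≫ tb Q := by rw [ha, Category.assoc]

lemma h_assoc (α β γ : T ⟶ Q.W) (h₁ : α ≫ sb Q = β ≫ tb Q) (h₂ : β ≫ sb Q = γ ≫ tb Q)
    (h₃ : (pullback.lift α β h₁ ≫ cb Q) ≫ sb Q = γ ≫ tb Q)
    (h₄ : α ≫ sb Q = (pullback.lift β γ h₂ ≫ cb Q) ≫ tb Q) :
    pullback.lift (pullback.lift α β h₁ ≫ cb Q) γ h₃ ≫ cb Q =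
      pullback.lift α (pullback.lift β γ h₂ ≫ cb Q) h₄ ≫ cb Q := by
  obtain ⟨T', g, a, b, c, hg, ha, hb, hc⟩ := lift3 Q α β γ
  haveI := hg
  rw [← cancel_epi g]
  have hab := comp_cond Q g h₁ ha hb
  have hbc := comp_cond Q g h₂ hb hc
  have e1 : gm K a b ≫ Q.π = g ≫ pullback.lift α β h₁ ≫ cb Q :=
    (lift_cb Q g α β h₁ a b ha hb).symm
  have e2 : gm K b c ≫ Q.π = g ≫ pullback.lift β γ h₂ ≫ cb Q :=
    (lift_cb Q g β γ h₂ b c hb hc).symm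
  rw [lift_cb Q g _ γ h₃ (gm K a b) c e1 hc, lift_cb Q g α _ h₄ a (gm K b c) ha e2,
    gm_assoc hab hbc]

lemma h_i_s : ib Q ≫ sb Q = tb Q := by
  rw [← cancel_epi Q.π, ← Category.assoc, π_ib, Category.assoc, π_sb, ← Category.assoc, G.i_s,
    π_tb]

lemma h_i_t : ib Q ≫ tb Q = sb Q := by
  rw [← cancel_epi Q.π, ← Category.assoc, π_ib, Category.assoc, π_tb, ← Category.assoc, G.i_t,
    π_sb]

lemma i_π (g : T' ⟶ T) (α : T ⟶ Q.W) (a : T' ⟶ G.R) (ha : a ≫ Q.π = g ≫ α) :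
    (a ≫ G.i) ≫ Q.π = g ≫ α ≫ ib Q := by
  rw [Category.assoc, ← π_ib Q, ← Category.assoc, ha, Category.assoc]

section withE

variable [Flat K.q] [Surjective K.q] [QuasiCompact K.q]

lemma h_e_s : eb Q ≫ sb Q = 𝟙 K.Y := by
  rw [← cancel_epi K.q, ← Category.assoc, q_eb, Category.assoc, π_sb, ← Category.assoc, G.e_s,
    Category.id_comp, Category.comp_id]

lemma h_e_t : eb Q ≫ tb Q = 𝟙 K.Y := by
  rw [← cancel_epi K.q, ← Category.assoc, q_eb, Category.assoc, π_tb, ← Category.assoc, G.e_t,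
    Category.id_comp, Category.comp_id]

lemma e_π_s (g : T' ⟶ T) (α : T ⟶ Q.W) (a : T' ⟶ G.R) (ha : a ≫ Q.π = g ≫ α) :
    (a ≫ G.s ≫ G.e) ≫ Q.π = g ≫ α ≫ sb Q ≫ eb Q := by
  have e1 : a ≫ G.s ≫ K.q = g ≫ α ≫ sb Q := by
    rw [← π_sb Q, ← Category.assoc, ha, Category.assoc]
  calc (a ≫ G.s ≫ G.e) ≫ Q.π = (a ≫ G.s) ≫ G.e ≫ Q.π := by simp only [Category.assoc]
    _ = (a ≫ G.s) ≫ K.q ≫ eb Q := by rw [q_eb]
    _ = (a ≫ G.s ≫ K.q) ≫ eb Q := by simp only [Category.assoc]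
    _ = (g ≫ α ≫ sb Q) ≫ eb Q := by rw [e1]
    _ = g ≫ α ≫ sb Q ≫ eb Q := by simp only [Category.assoc]

lemma e_π_t (g : T' ⟶ T) (α : T ⟶ Q.W) (a : T' ⟶ G.R) (ha : a ≫ Q.π = g ≫ α) :
    (a ≫ G.t ≫ G.e) ≫ Q.π = g ≫ α ≫ tb Q ≫ eb Q := by
  have e1 : a ≫ G.t ≫ K.q = g ≫ α ≫ tb Q := by
    rw [← π_tb Q, ← Category.assoc, ha, Category.assoc]
  calc (a ≫ G.t ≫ G.e) ≫ Q.π = (a ≫ G.t) ≫ G.e ≫ Q.π := by simp only [Category.assoc]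
    _ = (a ≫ G.t) ≫ K.q ≫ eb Q := by rw [q_eb]
    _ = (a ≫ G.t ≫ K.q) ≫ eb Q := by simp only [Category.assoc]
    _ = (g ≫ α ≫ tb Q) ≫ eb Q := by rw [e1]
    _ = g ≫ α ≫ tb Q ≫ eb Q := by simp only [Category.assoc]

lemma h_comp_e (α : T ⟶ Q.W) (h : α ≫ sb Q = (α ≫ sb Q ≫ eb Q) ≫ tb Q) :
    pullback.lift α (α ≫ sb Q ≫ eb Q) h ≫ cb Q = α := by
  obtain ⟨T', g, a, hg, ha⟩ := lift1 Q α
  haveI := hg
  rw [← cancel_epi g]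
  rw [lift_cb Q g α _ h a (a ≫ G.s ≫ G.e) ha (e_π_s Q g α a ha), gm_e, ha]

lemma h_e_comp (α : T ⟶ Q.W) (h : (α ≫ tb Q ≫ eb Q) ≫ sb Q = α ≫ tb Q) :
    pullback.lift (α ≫ tb Q ≫ eb Q) α h ≫ cb Q = α := by
  obtain ⟨T', g, a, hg, ha⟩ := lift1 Q α
  haveI := hg
  rw [← cancel_epi g]
  rw [lift_cb Q g _ α h (a ≫ G.t ≫ G.e) a (e_π_t Q g α a ha) ha, e_gm, ha]

lemma h_comp_i (α : T ⟶ Q.W) (h : α ≫ sb Q = (α ≫ ib Q) ≫ tb Q) :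
    pullback.lift α (α ≫ ib Q) h ≫ cb Q = α ≫ tb Q ≫ eb Q := by
  obtain ⟨T', g, a, hg, ha⟩ := lift1 Q α
  haveI := hg
  rw [← cancel_epi g]
  rw [lift_cb Q g α _ h a (a ≫ G.i) ha (i_π Q g α a ha), gm_i]
  exact e_π_t Q g α a ha

lemma h_i_comp (α : T ⟶ Q.W) (h : (α ≫ ib Q) ≫ sb Q = α ≫ tb Q) :
    pullback.lift (α ≫ ib Q) α h ≫ cb Q = α ≫ sb Q ≫ eb Q := by
  obtain ⟨T', g, a, hg, ha⟩ := lift1 Q α
  haveI := hg
  rw [← cancel_epi g]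
  rw [lift_cb Q g _ α h (a ≫ G.i) a (i_π Q g α a ha) ha, i_gm]
  exact e_π_s Q g α a ha

/-- the quotient groupoid -/
noncomputable def Hgrpd : Grpd.GroupoidScheme S where
  U := K.Y
  R := Q.W
  pU := K.pY
  pR := sb Q ≫ K.pY
  s := sb Q
  t := tb Q
  e := eb Q
  i := ib Q
  c := cb Q
  s_over := rfl
  t_over := tb_over Q
  comp_s := fun α β h => h_comp_s Q α β h
  comp_t := fun α β h => h_comp_t Q α β h
  assoc := fun α β γ h₁ h₂ => h_assoc Q α β γ h₁ h₂ _ _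
  e_s := h_e_s Q
  e_t := h_e_t Q
  comp_e := fun α => h_comp_e Q α _
  e_comp := fun α => h_e_comp Q α _
  i_s := h_i_s Q
  i_t := h_i_t Q
  comp_i := fun α => h_comp_i Q α _
  i_comp := fun α => h_i_comp Q α _

lemma φ_comm_c (α β : T ⟶ G.R) (h : α ≫ G.s = β ≫ G.t)
    (h' : (α ≫ Q.π) ≫ sb Q = (β ≫ Q.π) ≫ tb Q) :
    (pullback.lift α β h ≫ G.c) ≫ Q.π = pullback.lift (α ≫ Q.π) (β ≫ Q.π) h' ≫ cb Q := by
  rw [lift_c h, lift_cb' Q α β h', gm_of_comp h]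

/-- the quotient homomorphism -/
noncomputable def φH : Grpd.GroupoidScheme.Hom G (Hgrpd Q) where
  fU := K.q
  fR := Q.π
  fU_over := K.q_over
  comm_s := π_sb Q
  comm_t := π_tb Q
  comm_c := fun α β h => φ_comm_c Q α β h _

lemma Hj : (Hgrpd Q).j = Q.jb := by
  apply pullback.hom_ext
  · exact (j_fst (Hgrpd Q)).trans rfl
  · exact (j_snd (Hgrpd Q)).trans rfl

theorem isPullback_φ : IsPullback (φH Q).fR G.j (Hgrpd Q).j (qq K) := by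
  have h := Q.pb
  rw [← Hj Q] at h
  exact h

end withE

end Groth.Agent.H37.DescGrpd
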