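import Groth.Agent.H37.GrpdHom2
import Mathlib

/-!
# Sub-groupoid schemes: a monomorphism `ι : Z ⟶ G.R` stable under `e`, `i`, `c` carries a
groupoid structure; scheme-theoretic images of morphisms of groupoids over a field.
-/

set_option autoImplicit false
universe u
open CategoryTheory CategoryTheory.Limits AlgebraicGeometry
open Grpd

namespace Groth.Agent.H37.SubGrpd

open Groth.Agent.H37.GrpdCalc

section Sub

variable {S : Scheme.{u}} (G : Grpd.GroupoidScheme S) {Z : Scheme.{u}} (ι : Z ⟶ G.R)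
  (c' : pullback (ι ≫ G.s) (ι ≫ G.t) ⟶ Z)
  (hc : c' ≫ ι = mul G (pullback.fst (ι ≫ G.s) (ι ≫ G.t) ≫ ι)
    (pullback.snd (ι ≫ G.s) (ι ≫ G.t) ≫ ι))

include hc in
lemma key {T : Scheme.{u}} (α β : T ⟶ Z) (h : α ≫ ι ≫ G.s = β ≫ ι ≫ G.t) :
    (pullback.lift α β h ≫ c') ≫ ι = mul G (α ≫ ι) (β ≫ ι) := by
  have h' : (pullback.fst (ι ≫ G.s) (ι ≫ G.t) ≫ ι) ≫ G.s =
      (pullback.snd (ι ≫ G.s) (ι ≫ G.t) ≫ ι) ≫ G.t := by
    simp only [Category.assoc]; exact pullback.condition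
  rw [Category.assoc, hc, comp_mul _ h']
  simp only [pullback.lift_fst_assoc, pullback.lift_snd_assoc]

variable [Mono ι] (e' : G.U ⟶ Z) (he : e' ≫ ι = G.e) (i' : Z ⟶ Z) (hi : i' ≫ ι = ι ≫ G.i)

/-- the sub-groupoid scheme carried by a monomorphism into the arrows, stable under the
structure maps -/
noncomputable def sub : Grpd.GroupoidScheme S where
  U := G.U
  R := Z
  pU := G.pU
  pR := ι ≫ G.pR
  s := ι ≫ G.s
  t := ι ≫ G.t
  e := e'
  i := i'
  c := c'
  s_over := by rw [Category.assoc, G.s_over]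
  t_over := by rw [Category.assoc, G.t_over]
  comp_s := fun α β h => by
    have h' : (α ≫ ι) ≫ G.s = (β ≫ ι) ≫ G.t := by simpa only [Category.assoc] using h
    rw [← Category.assoc _ ι, key G ι c' hc α β h, mul_s h', Category.assoc]
  comp_t := fun α β h => by
    have h' : (α ≫ ι) ≫ G.s = (β ≫ ι) ≫ G.t := by simpa only [Category.assoc] using h
    rw [← Category.assoc _ ι, key G ι c' hc α β h, mul_t h', Category.assoc]
  assoc := fun α β γ h₁ h₂ => by
    have h₁' : (α ≫ ι) ≫ G.s = (β ≫ ι) ≫ G.t := by simpa only [Category.assoc] using h₁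
    have h₂' : (β ≫ ι) ≫ G.s = (γ ≫ ι) ≫ G.t := by simpa only [Category.assoc] using h₂
    rw [← cancel_mono ι, key G ι c' hc, key G ι c' hc, key G ι c' hc, key G ι c' hc]
    exact mul_assoc h₁' h₂'
  e_s := by rw [← Category.assoc, he, G.e_s]
  e_t := by rw [← Category.assoc, he, G.e_t]
  comp_e := fun α => by
    rw [← cancel_mono ι, key G ι c' hc]
    exact mul_e (by simp only [Category.assoc, he])
  e_comp := fun α => by
    rw [← cancel_mono ι, key G ι c' hc]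
    exact e_mul (by simp only [Category.assoc, he])
  i_s := by rw [← Category.assoc, hi, Category.assoc, G.i_s]
  i_t := by rw [← Category.assoc, hi, Category.assoc, G.i_t]
  comp_i := fun α => by
    rw [← cancel_mono ι, key G ι c' hc, mul_i (by simp only [Category.assoc, hi])]
    simp only [Category.assoc, he]
  i_comp := fun α => by
    rw [← cancel_mono ι, key G ι c' hc, i_mul (by simp only [Category.assoc, hi])]
    simp only [Category.assoc, he]

/-- the inclusion of the sub-groupoid -/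
noncomputable def subHom : Grpd.GroupoidScheme.Hom (sub G ι c' hc e' he i' hi) G where
  fU := 𝟙 _
  fR := ι
  fU_over := Category.id_comp _
  comm_s := (Category.comp_id _).symm
  comm_t := (Category.comp_id _).symm
  comm_c := fun α β h => (key G ι c' hc α β h).trans (lift_c _).symm

end Sub

/-- The morphism to the scheme theoretic image has trivial kernel. -/
theorem ker_toImage_eq_bot {X Y : Scheme.{u}} (f : X ⟶ Y) : f.toImage.ker = ⊥ := by
  have h1 : (f.toImage.imageι ≫ f.imageι).ker ≤ f.ker := by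
    have := Scheme.Hom.le_ker_comp f.toImage.toImage (f.toImage.imageι ≫ f.imageι)
    rwa [← Category.assoc, f.toImage.toImage_imageι, f.toImage_imageι] at this
  have h2 : f.imageι.ker ≤ (f.toImage.imageι ≫ f.imageι).ker := Scheme.Hom.le_ker_comp _ _
  have h3 : (f.toImage.imageι ≫ f.imageι).ker = f.imageι.ker := by
    refine le_antisymm ?_ h2
    rw [Scheme.IdealSheafData.ker_subschemeι]
    exact h1
  have : IsIso f.toImage.imageι :=
    IsClosedImmersion.isIso_of_ker_eq (f.toImage.imageι ≫ f.imageι) f.imageι f.toImage.imageι rfl h3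
  exact (Scheme.isIso_subschemeι_iff_eq_bot _).1 this

/-- factor a morphism through a closed immersion along a scheme-theoretically dominant morphism -/
lemma exists_factor {X Z Y W : Scheme.{u}} (q : X ⟶ Z) [IsSchemeTheoreticallyDominant q]
    (ι : W ⟶ Y) [IsClosedImmersion ι] (h : Z ⟶ Y) (g : X ⟶ W) (hg : q ≫ h = g ≫ ι) :
    ∃ h' : Z ⟶ W, h' ≫ ι = h := by
  have H : ι.ker ≤ h.ker := by
    calc ι.ker ≤ (g ≫ ι).ker := Scheme.Hom.le_ker_comp g ι
      _ = (q ≫ h).ker := by rw [hg]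
      _ = q.ker.map h := Scheme.Hom.ker_comp q h
      _ = h.ker := by rw [Scheme.Hom.ker_eq_bot q, Scheme.IdealSheafData.map_bot]
  exact ⟨IsClosedImmersion.lift ι h H, IsClosedImmersion.lift_fac ι h H⟩

/-- over a field: if `q : X ⟶ Z` is scheme-theoretically dominant and quasi-compact then so is
`X ×_U X ⟶ Z ×_U Z`. -/
lemma exists_dominant_prod {X Z U : Scheme.{u}} (k : Type u) [Field k]
    (eU : U ≅ Spec (CommRingCat.of k)) (q : X ⟶ Z) [IsSchemeTheoreticallyDominant q]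
    [QuasiCompact q] (σ τ : Z ⟶ U) :
    ∃ m : pullback (q ≫ σ) (q ≫ τ) ⟶ pullback σ τ, IsSchemeTheoreticallyDominant m ∧
      m ≫ pullback.fst σ τ = pullback.fst (q ≫ σ) (q ≫ τ) ≫ q ∧
      m ≫ pullback.snd σ τ = pullback.snd (q ≫ σ) (q ≫ τ) ≫ q := by
  have hfl : ∀ {Y : Scheme.{u}} (g : Y ⟶ U), Flat g := fun g => by
    obtain ⟨h1, h2⟩ := integral_subsingleton_of_iso_spec_field k eU
    infer_instance
  obtain ⟨m₁, hm₁f, hm₁s⟩ : ∃ m₁ : pullback (q ≫ σ) (q ≫ τ) ⟶ pullback σ (q ≫ τ),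
      m₁ ≫ pullback.fst σ (q ≫ τ) = pullback.fst (q ≫ σ) (q ≫ τ) ≫ q ∧
      m₁ ≫ pullback.snd σ (q ≫ τ) = pullback.snd (q ≫ σ) (q ≫ τ) :=
    ⟨pullback.lift (pullback.fst _ _ ≫ q) (pullback.snd _ _)
      (by rw [Category.assoc]; exact pullback.condition), pullback.lift_fst _ _ _,
      pullback.lift_snd _ _ _⟩
  obtain ⟨m₂, hm₂f, hm₂s⟩ : ∃ m₂ : pullback σ (q ≫ τ) ⟶ pullback σ τ,
      m₂ ≫ pullback.fst σ τ = pullback.fst σ (q ≫ τ) ∧
      m₂ ≫ pullback.snd σ τ = pullback.snd σ (q ≫ τ) ≫ q :=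
    ⟨pullback.lift (pullback.fst _ _) (pullback.snd _ _ ≫ q)
      (by rw [Category.assoc]; exact pullback.condition), pullback.lift_fst _ _ _,
      pullback.lift_snd _ _ _⟩
  have sq₁ : IsPullback m₁ (pullback.fst (q ≫ σ) (q ≫ τ)) (pullback.fst σ (q ≫ τ)) q := by
    refine IsPullback.of_right ?_ hm₁f (IsPullback.of_hasPullback σ (q ≫ τ)).flip
    rw [hm₁s]
    exact (IsPullback.of_hasPullback (q ≫ σ) (q ≫ τ)).flip
  have sq₂ : IsPullback m₂ (pullback.snd σ (q ≫ τ)) (pullback.snd σ τ) q := by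
    refine IsPullback.of_right ?_ hm₂s (IsPullback.of_hasPullback σ τ)
    rw [hm₂f]
    exact IsPullback.of_hasPullback σ (q ≫ τ)
  haveI : Flat (pullback.fst σ (q ≫ τ)) :=
    MorphismProperty.pullback_fst (P := @Flat) _ _ (hfl _)
  haveI : Flat (pullback.snd σ τ) := MorphismProperty.pullback_snd (P := @Flat) _ _ (hfl _)
  haveI d₁ : IsSchemeTheoreticallyDominant m₁ := IsSchemeTheoreticallyDominant.of_isPullback sq₁.flip
  haveI d₂ : IsSchemeTheoreticallyDominant m₂ := IsSchemeTheoreticallyDominant.of_isPullback sq₂.flip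
  refine ⟨m₁ ≫ m₂, inferInstance, ?_, ?_⟩
  · rw [Category.assoc, hm₂f, hm₁f]
  · rw [Category.assoc, hm₂s, ← Category.assoc, hm₁s]

/-- Stacks: the scheme theoretic image of a quasi-compact morphism of groupoid schemes which is an
isomorphism on objects, the objects being the spectrum of a field, is a groupoid scheme. -/
theorem exists_sub_image {S : Scheme.{u}} {G₁ G₂ : Grpd.GroupoidScheme S}
    (f : Grpd.GroupoidScheme.Hom G₁ G₂) [IsIso f.fU] [QuasiCompact f.fR] (k : Type u) [Field k]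
    (eU : G₂.U ≅ Spec (CommRingCat.of k)) :
    ∃ (G' : Grpd.GroupoidScheme S) (ψ : Grpd.GroupoidScheme.Hom G' G₂) (q : G₁.R ⟶ G'.R),
      G'.U = G₂.U ∧ IsIso ψ.fU ∧ IsClosedImmersion ψ.fR ∧ ψ.fR.ker = f.fR.ker ∧
      q ≫ ψ.fR = f.fR ∧ IsSchemeTheoreticallyDominant q := by
  obtain ⟨a, ha⟩ : ∃ a, a = f.fR := ⟨_, rfl⟩
  haveI : QuasiCompact a := ha ▸ ‹_›
  obtain ⟨Z, ι, q, hι, hq, hqd, hqc, hker⟩ : ∃ (Z : Scheme.{u}) (ι : Z ⟶ G₂.R) (q : G₁.R ⟶ Z),
      IsClosedImmersion ι ∧ q ≫ ι = a ∧ IsSchemeTheoreticallyDominant q ∧ QuasiCompact q ∧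
        ι.ker = a.ker :=
    ⟨a.image, a.imageι, a.toImage, inferInstance, a.toImage_imageι, ⟨ker_toImage_eq_bot a⟩,
      inferInstance, Scheme.IdealSheafData.ker_subschemeι _⟩
  haveI := hι; haveI := hqd; haveI := hqc
  have he : (inv f.fU ≫ G₁.e ≫ q) ≫ ι = G₂.e := by
    simp only [Category.assoc, hq, ha, comm_e f, IsIso.inv_hom_id_assoc]
  obtain ⟨i', hi'⟩ := exists_factor q ι (ι ≫ G₂.i) (G₁.i ≫ q) (by
    rw [← Category.assoc, hq, Category.assoc, hq, ha, comm_i f])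
  obtain ⟨m, hmd, hm1, hm2⟩ := exists_dominant_prod k eU q (ι ≫ G₂.s) (ι ≫ G₂.t)
  haveI := hmd
  obtain ⟨α, hα⟩ : ∃ α, α = pullback.fst (q ≫ ι ≫ G₂.s) (q ≫ ι ≫ G₂.t) := ⟨_, rfl⟩
  obtain ⟨β, hβ⟩ : ∃ β, β = pullback.snd (q ≫ ι ≫ G₂.s) (q ≫ ι ≫ G₂.t) := ⟨_, rfl⟩
  rw [← hα] at hm1
  rw [← hβ] at hm2
  have hαβ : α ≫ G₁.s = β ≫ G₁.t := by
    rw [← cancel_mono f.fU, Category.assoc, Category.assoc, ← f.comm_s, ← f.comm_t, ← ha, ← hq,
      hα, hβ]
    simp only [Category.assoc]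
    exact pullback.condition
  have hcond : (pullback.fst (ι ≫ G₂.s) (ι ≫ G₂.t) ≫ ι) ≫ G₂.s =
      (pullback.snd (ι ≫ G₂.s) (ι ≫ G₂.t) ≫ ι) ≫ G₂.t := by
    simp only [Category.assoc]; exact pullback.condition
  obtain ⟨h, hh⟩ : ∃ h, h = mul G₂ (pullback.fst (ι ≫ G₂.s) (ι ≫ G₂.t) ≫ ι)
      (pullback.snd (ι ≫ G₂.s) (ι ≫ G₂.t) ≫ ι) := ⟨_, rfl⟩
  have hmh : m ≫ h = (mul G₁ α β ≫ q) ≫ ι := by
    rw [hh, comp_mul m hcond]
    simp only [Category.assoc, reassoc_of% hm1, reassoc_of% hm2, hq]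
    rw [ha]
    exact (comm_mul f hαβ).symm
  obtain ⟨c', hc'⟩ := exists_factor m ι h (mul G₁ α β ≫ q) hmh
  rw [hh] at hc'
  haveI : Mono ι := inferInstance
  refine ⟨sub G₂ ι c' hc' _ he i' hi', subHom G₂ ι c' hc' _ he i' hi', q, rfl, ?_, hι, ?_, ?_, hqd⟩
  · show IsIso (𝟙 G₂.U)
    infer_instance
  · show ι.ker = f.fR.ker
    rw [hker, ha]
  · show q ≫ ι = f.fR
    rw [hq, ha]

end Groth.Agent.H37.SubGrpd
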