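import Groth.Agent.H37.DescGrpd3
import Groth.Agent.H37.SubGrpd
import Groth.Agent.H65.ZAaffine
import Groth.Agent.H65.IQfppf
import Groth.Prelude.Def_QuotSh

set_option autoImplicit false
universe u
open CategoryTheory CategoryTheory.Limits AlgebraicGeometry

/-!
# Quotient of a groupoid scheme by a finite locally free subgroupoid with trivial stabilizers
-/

namespace Groth.Agent.H37.DescGrpd

open Groth.Agent.H37.GrpdCalc Groth.Agent.H37.SubGrpd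

theorem finite_in_affine {S : Scheme.{u}} (G : Grpd.GroupoidScheme S) [IsAffine G.U]
    [IsSeparated G.j] [LocallyQuasiFinite G.j] [LocallyOfFiniteType G.j]
    (F : Set G.R) (hF : F.Finite) : ∃ W : G.R.Opens, IsAffineOpen W ∧ F ⊆ (W : Set G.R) :=
  Groth.Agent.H65.ZAaffine.exists_affine_of_finite_of_lqf
    (G.j ≫ pullback.mapDesc G.pU G.pU (terminal.from S)) F hF

section main

variable {S : Scheme.{u}} (G : Grpd.GroupoidScheme S) [IsAffine G.U]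
  {P : Scheme.{u}} (ιP : P ⟶ G.R) [Mono ιP]
  (eP : G.U ⟶ P) (he : eP ≫ ιP = G.e) (iP : P ⟶ P) (hi : iP ≫ ιP = ιP ≫ G.i)
  (cP : pullback (ιP ≫ G.s) (ιP ≫ G.t) ⟶ P)
  (hc : cP ≫ ιP = mul G (pullback.fst (ιP ≫ G.s) (ιP ≫ G.t) ≫ ιP)
    (pullback.snd (ιP ≫ G.s) (ιP ≫ G.t) ≫ ιP))
  [IsFinite (ιP ≫ G.s)] [Flat (ιP ≫ G.s)] [LocallyOfFinitePresentation (ιP ≫ G.s)]
  [Mono (ιP ≫ G.j)]

include he hi hc in
theorem exists_KData : ∃ (K : KData G), IsAffine K.Y ∧ IsFinite K.q ∧ Flat K.q ∧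
    LocallyOfFinitePresentation K.q ∧ Surjective K.q ∧
    IsPullback (ιP ≫ G.t) (ιP ≫ G.s) K.q K.q := by
  haveI h1 : IsFinite (sub G ιP cP hc eP he iP hi).s := ‹IsFinite (ιP ≫ G.s)›
  haveI h2 : Flat (sub G ιP cP hc eP he iP hi).s := ‹Flat (ιP ≫ G.s)›
  haveI h3 : LocallyOfFinitePresentation (sub G ιP cP hc eP he iP hi).s :=
    ‹LocallyOfFinitePresentation (ιP ≫ G.s)›
  haveI h4 : IsAffine (sub G ιP cP hc eP he iP hi).U := ‹IsAffine G.U›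
  have hext : ∀ {T : Scheme.{u}} (m m' : T ⟶ P), m ≫ ιP ≫ G.s = m' ≫ ιP ≫ G.s →
      m ≫ ιP ≫ G.t = m' ≫ ιP ≫ G.t → m = m' := by
    intro T m m' hs ht
    rw [← cancel_mono (ιP ≫ G.j)]
    apply pullback.hom_ext
    · simp only [Category.assoc, j_fst]; exact ht
    · simp only [Category.assoc, j_snd]; exact hs
  haveI h5 : Mono (sub G ιP cP hc eP he iP hi).j :=
    Groth.Agent.H37.FinDesc.mono_j_of_ext _ (fun m m' hs ht => hext m m' hs ht)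
  have hT := Groth.Agent.H49.GQ7.goodFamily_top_of (G := sub G ιP cP hc eP he iP hi)
    (fun u => ⟨⟨⊤, isAffineOpen_top _, rfl⟩, trivial⟩)
  obtain ⟨Y, q, hq, hY, hfin, hflat, hlfp, hsurj, hiso, pY, hpY⟩ : ∃ (Y : Scheme.{u})
      (q : G.U ⟶ Y) (hq : (ιP ≫ G.s) ≫ q = (ιP ≫ G.t) ≫ q), IsAffine Y ∧ IsFinite q ∧ Flat q ∧
      LocallyOfFinitePresentation q ∧ Surjective q ∧
      IsIso (pullback.lift (ιP ≫ G.t) (ιP ≫ G.s) hq.symm) ∧ ∃ pY : Y ⟶ S, q ≫ pY = G.pU :=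
    ⟨Groth.Agent.H49.GQ6.Y (sub G ιP cP hc eP he iP hi), Groth.Agent.H49.GQ7.q hT,
      Groth.Agent.H49.GQ7.s_q_eq_t_q hT, Groth.Agent.H49.GQ10.isAffine_Y hT,
      Groth.Agent.H49.GQ8.isFinite_q hT, Groth.Agent.H49.GQ8.flat_q hT,
      Groth.Agent.H49.GQ8.lfp_q hT, Groth.Agent.H49.GQ7.surjective_q hT,
      Groth.Agent.H49.GQ8.isIso_lift hT,
      Groth.Agent.H49.GQ9.exists_desc hT (sub G ιP cP hc eP he iP hi).pU
        ((sub G ιP cP hc eP he iP hi).s_over.trans (sub G ιP cP hc eP he iP hi).t_over.symm)⟩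
  haveI := hiso
  obtain ⟨θi, hθi⟩ : ∃ θi : pullback q q ⟶ P,
      θi = inv (pullback.lift (ιP ≫ G.t) (ιP ≫ G.s) hq.symm) := ⟨_, rfl⟩
  have θt : θi ≫ ιP ≫ G.t = pullback.fst q q := by
    rw [hθi, IsIso.inv_comp_eq, pullback.lift_fst]
  have θs : θi ≫ ιP ≫ G.s = pullback.snd q q := by
    rw [hθi, IsIso.inv_comp_eq, pullback.lift_snd]
  have pt_t : ∀ {T : Scheme.{u}} (u₁ u₂ : T ⟶ G.U) (h : u₁ ≫ q = u₂ ≫ q),
      (pullback.lift u₁ u₂ h ≫ θi) ≫ ιP ≫ G.t = u₁ := by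
    intro T u₁ u₂ h
    rw [Category.assoc, θt, pullback.lift_fst]
  have pt_s : ∀ {T : Scheme.{u}} (u₁ u₂ : T ⟶ G.U) (h : u₁ ≫ q = u₂ ≫ q),
      (pullback.lift u₁ u₂ h ≫ θi) ≫ ιP ≫ G.s = u₂ := by
    intro T u₁ u₂ h
    rw [Category.assoc, θs, pullback.lift_snd]
  refine ⟨⟨Y, q, pY, hpY, θi ≫ ιP, ?_, ?_, ?_⟩, hY, hfin, hflat, hlfp, hsurj, ?_⟩
  · rw [Category.assoc]; exact θt
  · rw [Category.assoc]; exact θs
  · intro T u₁ u₂ u₃ h₁ h₂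
    have hcomp : (pullback.lift u₁ u₂ h₁ ≫ θi) ≫ ιP ≫ G.s =
        (pullback.lift u₂ u₃ h₂ ≫ θi) ≫ ιP ≫ G.t := by rw [pt_s, pt_t]
    have hcomp' : ((pullback.lift u₁ u₂ h₁ ≫ θi) ≫ ιP) ≫ G.s =
        ((pullback.lift u₂ u₃ h₂ ≫ θi) ≫ ιP) ≫ G.t := by
      simpa only [Category.assoc] using hcomp
    have key1 := key G ιP cP hc (pullback.lift u₁ u₂ h₁ ≫ θi) (pullback.lift u₂ u₃ h₂ ≫ θi) hcomp
    have e : pullback.lift (pullback.lift u₁ u₂ h₁ ≫ θi) (pullback.lift u₂ u₃ h₂ ≫ θi) hcomp ≫ cP =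
        pullback.lift u₁ u₃ (h₁.trans h₂) ≫ θi := by
      apply hext
      · rw [pt_s, ← Category.assoc _ ιP G.s, key1, mul_s hcomp', Category.assoc, pt_s]
      · rw [pt_t, ← Category.assoc _ ιP G.t, key1, mul_t hcomp', Category.assoc, pt_t]
    have a1 : pullback.lift u₁ u₂ h₁ ≫ θi ≫ ιP = (pullback.lift u₁ u₂ h₁ ≫ θi) ≫ ιP :=
      (Category.assoc _ _ _).symm
    have a2 : pullback.lift u₂ u₃ h₂ ≫ θi ≫ ιP = (pullback.lift u₂ u₃ h₂ ≫ θi) ≫ ιP :=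
      (Category.assoc _ _ _).symm
    have a3 : pullback.lift u₁ u₃ (h₁.trans h₂) ≫ θi ≫ ιP =
        (pullback.lift u₁ u₃ (h₁.trans h₂) ≫ θi) ≫ ιP := (Category.assoc _ _ _).symm
    rw [a1, a2, a3, ← key1, e]
  · exact IsPullback.of_iso_pullback ⟨hq.symm⟩
      (asIso (pullback.lift (ιP ≫ G.t) (ιP ≫ G.s) hq.symm))
      (pullback.lift_fst _ _ _) (pullback.lift_snd _ _ _)

variable [IsSeparated G.j] [LocallyQuasiFinite G.j] [LocallyOfFiniteType G.j]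

include he hi hc in
theorem main_result : ∃ (H : Grpd.GroupoidScheme S) (φ : Grpd.GroupoidScheme.Hom G H),
      IsAffine H.U ∧
      QuotSh.IsQuotient Scheme.fppfPrecoverage
        (Over.homMk (ιP ≫ G.s) ((Category.assoc _ _ _).trans (congrArg (ιP ≫ ·) G.s_over)) :
          (Over.mk (ιP ≫ G.pR) : Over S) ⟶ Over.mk G.pU)
        (Over.homMk (ιP ≫ G.t) ((Category.assoc _ _ _).trans (congrArg (ιP ≫ ·) G.t_over)) :
          (Over.mk (ιP ≫ G.pR) : Over S) ⟶ Over.mk G.pU)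
        (Over.homMk φ.fU φ.fU_over : Over.mk G.pU ⟶ Over.mk H.pU) ∧
      IsFinite φ.fU ∧ Flat φ.fU ∧ LocallyOfFinitePresentation φ.fU ∧
      IsPullback (ιP ≫ G.t) (ιP ≫ G.s) φ.fU φ.fU ∧
      IsPullback φ.fR G.j H.j
        (pullback.map G.pU G.pU H.pU H.pU φ.fU φ.fU (𝟙 S)
          ((Category.comp_id _).trans φ.fU_over.symm)
          ((Category.comp_id _).trans φ.fU_over.symm)) := by
  obtain ⟨K, hY, hfin, hflat, hlfp, hsurj, hpb⟩ := exists_KData G ιP eP he iP hi cP hc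
  haveI := hfin
  haveI := hflat
  haveI := hlfp
  haveI := hsurj
  obtain ⟨Q⟩ := exists_QData K (finite_in_affine G)
  haveI : QuasiCompact K.q := inferInstance
  refine ⟨Hgrpd Q, φH Q, hY, ?_, hfin, hflat, hlfp, hpb, isPullback_φ Q⟩
  haveI : Flat (Over.homMk (φH Q).fU (φH Q).fU_over :
      Over.mk G.pU ⟶ Over.mk (Hgrpd Q).pU).left := hflat
  haveI : LocallyOfFinitePresentation (Over.homMk (φH Q).fU (φH Q).fU_over :
      Over.mk G.pU ⟶ Over.mk (Hgrpd Q).pU).left := hlfp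
  haveI : Surjective (Over.homMk (φH Q).fU (φH Q).fU_over :
      Over.mk G.pU ⟶ Over.mk (Hgrpd Q).pU).left := hsurj
  exact Groth.Agent.H65.IQfppf.isQuotient_of_fppf_kernelPair _ _ _ hpb

end main

end Groth.Agent.H37.DescGrpd
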