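import Mathlib

/-!
# A morphism of schemes which is surjective and injective on sections is an epimorphism
-/

set_option autoImplicit false
universe u
open CategoryTheory CategoryTheory.Limits AlgebraicGeometry

namespace Groth.Agent.H37.EpiSections

set_option backward.isDefEq.respectTransparency.types false in
attribute [local ext] DFunLike.ext in
lemma sheafedSpace_epi {X Y : SheafedSpace CommRingCat.{u}} (f : X ⟶ Y)
    (h₁ : Function.Surjective f.hom.base)
    (h₂ : ∀ U, Mono (f.hom.c.app U)) : Epi f := by
  constructor
  intro Z ⟨g, gc⟩ ⟨h, hc⟩ e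
  apply_fun InducedCategory.Hom.hom at e
  obtain rfl : g = h := ConcreteCategory.hom_ext _ _ fun y ↦ by
    rw [← (h₁ y).choose_spec]
    simpa using congr(($e).base.hom (h₁ y).choose)
  have hgc : gc = hc := by
    refine NatTrans.ext (funext fun U' => ?_)
    obtain ⟨U⟩ := U'
    have e1 := PresheafedSpace.congr_app e (Opposite.op U)
    rw [SheafedSpace.comp_hom_c_app', SheafedSpace.comp_hom_c_app'] at e1
    have e1' : gc.app (Opposite.op U) ≫
        f.hom.c.app (Opposite.op ((TopologicalSpace.Opens.map g).obj U)) =
        (hc.app (Opposite.op U) ≫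
          f.hom.c.app (Opposite.op ((TopologicalSpace.Opens.map g).obj U))) ≫
        X.presheaf.map (eqToHom rfl) := e1
    rw [eqToHom_refl, X.presheaf.map_id] at e1'
    haveI := h₂ (Opposite.op ((TopologicalSpace.Opens.map g).obj U))
    exact (cancel_mono (f.hom.c.app (Opposite.op ((TopologicalSpace.Opens.map g).obj U)))).mp
      (e1'.trans (Category.comp_id _))
  rw [hgc]

/-- a morphism of schemes which is surjective and injective on sections over all opens is an
epimorphism -/
theorem epi_of_surjective_of_app_injective {A B : Scheme.{u}} (g : A ⟶ B)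
    (hs : Function.Surjective g) (hi : ∀ W : B.Opens, Function.Injective (g.app W).hom) :
    Epi g := by
  apply CategoryTheory.Functor.epi_of_epi_map (Scheme.forgetToLocallyRingedSpace)
  apply CategoryTheory.Functor.epi_of_epi_map (LocallyRingedSpace.forgetToSheafedSpace)
  apply sheafedSpace_epi _ hs
  intro U
  obtain ⟨U⟩ := U
  exact ConcreteCategory.mono_of_injective _ (hi U)

end Groth.Agent.H37.EpiSections
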