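import Groth.Agent.H37.CompFix
import Groth.Agent.S6333

/-!
# Residue fields of schemes locally of finite type over a field

The separable closure of `k` in the residue field of a point of a `k`-scheme locally of finite type
is finite over `k`.
-/

set_option autoImplicit false
universe u
open CategoryTheory CategoryTheory.Limits AlgebraicGeometry Opposite

namespace Groth.Agent.H37

/-- The structure map `k → κ(x)` of a point of a scheme locally of finite type over `k` is
essentially of finite type. -/
theorem essFiniteType_of_locallyOfFiniteType {k : Type u} [Field k] {X : Scheme.{u}}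
    (f : X ⟶ Spec (CommRingCat.of k)) [LocallyOfFiniteType f] (x : X)
    (φ : k →+* X.residueField x)
    (hφ : Spec.map (CommRingCat.ofHom φ) = X.fromSpecResidueField x ≫ f) :
    φ.EssFiniteType := by
  have h1 := Scheme.Hom.SpecMap_residueFieldMap_fromSpecResidueField (f := f) x
  have h2 := Scheme.Spec.map_residueFieldIso_inv_eq_fromSpecResidueField (CommRingCat.of k) (f x)
  have h3 : Spec.map (CommRingCat.ofHom φ) =
      Spec.map (CommRingCat.ofHom (algebraMap k (f x).asIdeal.ResidueField) ≫
        (Scheme.Spec.residueFieldIso (CommRingCat.of k) (f x)).inv ≫ f.residueFieldMap x) := by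
    rw [hφ, ← h1, ← h2, Spec.map_comp, Spec.map_comp, Category.assoc]
  have h4 := Spec.map_injective h3
  have h5 : φ = ((f.residueFieldMap x).hom.comp
      (Scheme.Spec.residueFieldIso (CommRingCat.of k) (f x)).inv.hom).comp
      (algebraMap k (f x).asIdeal.ResidueField) := congrArg CommRingCat.Hom.hom h4
  rw [h5]
  refine RingHom.EssFiniteType.comp ?_ (RingHom.EssFiniteType.comp ?_ ?_)
  · rw [RingHom.essFiniteType_algebraMap]; infer_instance
  · apply RingHom.FiniteType.essFiniteType
    apply RingHom.FiniteType.of_surjective
    exact (ConcreteCategory.bijective_of_isIso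
      (Scheme.Spec.residueFieldIso (CommRingCat.of k) (f x)).inv).2
  · exact RingHom.EssFiniteType.residueFieldMap (LocallyOfFiniteType.stalkMap f x)

/-- The separable closure of `k` in the residue field of a point of a `k`-scheme locally of
finite type is finite over `k`. -/
theorem finiteDimensional_separableClosure_residueField {k : Type u} [Field k] {X : Scheme.{u}}
    (f : X ⟶ Spec (CommRingCat.of k)) [LocallyOfFiniteType f] (x : X)
    (φ : k →+* X.residueField x)
    (hφ : Spec.map (CommRingCat.ofHom φ) = X.fromSpecResidueField x ≫ f) :
    letI := φ.toAlgebra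
    FiniteDimensional k ↥(separableClosure k (X.residueField x)) := by
  letI := φ.toAlgebra
  haveI : Algebra.EssFiniteType k (X.residueField x) :=
    essFiniteType_of_locallyOfFiniteType f x φ hφ
  have hfg : (⊤ : IntermediateField k (X.residueField x)).FG := IntermediateField.fg_top k _
  haveI := Groth.Agent.S6333.result hfg
  have hle : separableClosure k (X.residueField x) ≤ algebraicClosure k (X.residueField x) :=
    le_algebraicClosure k _ _
  exact FiniteDimensional.of_injective (IntermediateField.inclusion hle).toLinearMap
    (IntermediateField.inclusion_injective hle)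

theorem exists_residueFieldProp {k : Type u} [Field k] {X : Scheme.{u}}
    (f : X ⟶ Spec (CommRingCat.of k)) [LocallyOfFiniteType f] (x : X) :
    ∃ φ : k →+* X.residueField x,
      Spec.map (CommRingCat.ofHom φ) = X.fromSpecResidueField x ≫ f ∧
      (letI := φ.toAlgebra
       FiniteDimensional k ↥(separableClosure k (X.residueField x))) := by
  obtain ⟨φ, hφ⟩ := Spec.map_surjective (X.fromSpecResidueField x ≫ f)
  exact ⟨φ.hom, hφ, finiteDimensional_separableClosure_residueField f x φ.hom hφ⟩

end Groth.Agent.H37
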