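import Groth.Agent.H37.GeomSepClosed
import Groth.Agent.H37.GeomDescentFlat

/-!
# Common field extensions and common base changes
-/

set_option autoImplicit false
universe u
open CategoryTheory CategoryTheory.Limits AlgebraicGeometry TensorProduct

namespace Groth.Agent.H37

theorem exists_compositum (k K Ω : Type u) [Field k] [Field K] [Field Ω] [Algebra k K]
    [Algebra k Ω] :
    ∃ (L : Type u) (_ : Field L) (a : K →+* L) (b : Ω →+* L),
      a.comp (algebraMap k K) = b.comp (algebraMap k Ω) := by
  haveI : Nontrivial (K ⊗[k] Ω) :=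
    (Algebra.TensorProduct.includeLeft_injective (R := k) (S := k) (A := K) (B := Ω)
      (algebraMap k Ω).injective).nontrivial
  obtain ⟨m, hm⟩ := Ideal.exists_maximal (K ⊗[k] Ω)
  haveI := hm
  letI := Ideal.Quotient.field m
  refine ⟨(K ⊗[k] Ω) ⧸ m, inferInstance,
    (Ideal.Quotient.mk m).comp
      (Algebra.TensorProduct.includeLeft (R := k) (S := k) (A := K) (B := Ω)).toRingHom,
    (Ideal.Quotient.mk m).comp
      (Algebra.TensorProduct.includeRight (R := k) (A := K) (B := Ω)).toRingHom, ?_⟩
  ext x
  have h1 := (Algebra.TensorProduct.includeLeft (R := k) (S := k) (A := K) (B := Ω)).commutes x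
  have h2 := (Algebra.TensorProduct.includeRight (R := k) (A := K) (B := Ω)).commutes x
  show Ideal.Quotient.mk m (Algebra.TensorProduct.includeLeft (R := k) (S := k) (A := K) (B := Ω)
      (algebraMap k K x)) =
    Ideal.Quotient.mk m (Algebra.TensorProduct.includeRight (R := k) (A := K) (B := Ω)
      (algebraMap k Ω x))
  rw [h1, h2]

theorem exists_common_pullback {X S SK SΩ SL : Scheme.{u}} (f : X ⟶ S) (qK : SK ⟶ S)
    (qΩ : SΩ ⟶ S) (a : SL ⟶ SK) (b : SL ⟶ SΩ) (hq : a ≫ qK = b ≫ qΩ) [Surjective a] :
    ∃ (W : Scheme.{u}) (pK : W ⟶ pullback f qK) (pΩ : W ⟶ pullback f qΩ) (wL : W ⟶ SL),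
      Surjective pK ∧ IsPullback pΩ wL (pullback.snd f qΩ) b := by
  have sqL : IsPullback (pullback.fst (pullback.snd f qK) a) (pullback.snd (pullback.snd f qK) a)
      (pullback.snd f qK) a := IsPullback.of_hasPullback _ _
  have outer := sqL.paste_horiz (IsPullback.of_hasPullback f qK)
  rw [hq] at outer
  have hw : (pullback.fst (pullback.snd f qK) a ≫ pullback.fst f qK) ≫ f =
      (pullback.snd (pullback.snd f qK) a ≫ b) ≫ qΩ := by
    rw [Category.assoc]; exact outer.w
  have hp1 : pullback.lift _ _ hw ≫ pullback.fst f qΩ =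
      pullback.fst (pullback.snd f qK) a ≫ pullback.fst f qK := pullback.lift_fst _ _ _
  have hp2 : pullback.lift _ _ hw ≫ pullback.snd f qΩ =
      pullback.snd (pullback.snd f qK) a ≫ b := pullback.lift_snd _ _ _
  have sqΩ : IsPullback (pullback.lift _ _ hw) (pullback.snd (pullback.snd f qK) a)
      (pullback.snd f qΩ) b := by
    refine IsPullback.of_right ?_ hp2 (IsPullback.of_hasPullback f qΩ)
    rw [hp1]
    exact outer
  have hsurjK : Surjective (pullback.fst (pullback.snd f qK) a) :=
    MorphismProperty.pullback_fst (P := @Surjective) _ _ inferInstance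
  exact ⟨_, _, _, _, hsurjK, sqΩ⟩

theorem mk_irreducibleComponents_le_of_surjective {W Z : Type u} [TopologicalSpace W]
    [TopologicalSpace Z] [QuasiSober Z] {p : W → Z} (hc : Continuous p)
    (hp : Function.Surjective p) :
    Cardinal.mk (irreducibleComponents Z) ≤ Cardinal.mk (irreducibleComponents W) := by
  have key : ∀ C : irreducibleComponents Z, ∃ D : irreducibleComponents W,
      closure (p '' D.1) = C.1 := by
    rintro ⟨C, hC⟩
    have hC' : Maximal IsIrreducible C := hC
    have hCc : IsClosed C := isClosed_of_mem_irreducibleComponents C hC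
    obtain ⟨ξ, hξ⟩ := QuasiSober.sober hC'.prop hCc
    obtain ⟨w, rfl⟩ := hp ξ
    refine ⟨⟨irreducibleComponent w, irreducibleComponent_mem_irreducibleComponents w⟩, ?_⟩
    have hirr : IsIrreducible (closure (p '' irreducibleComponent w)) :=
      (isIrreducible_irreducibleComponent.image p hc.continuousOn).closure
    have hsub : C ⊆ closure (p '' irreducibleComponent w) := by
      rw [← hξ.def]
      exact closure_minimal (Set.singleton_subset_iff.mpr
        (subset_closure ⟨w, mem_irreducibleComponent, rfl⟩)) isClosed_closure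
    exact (hC'.eq_of_subset hirr hsub).symm
  choose F hF using key
  refine Cardinal.mk_le_of_injective (f := F) ?_
  intro C C' h
  apply Subtype.ext
  rw [← hF C, ← hF C', h]

end Groth.Agent.H37
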