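import Mathlib

/-!
# Generalities: cancelling a faithfully flat morphism on the right, isomorphisms from effective
epimorphic covers
-/

set_option autoImplicit false
universe u
open CategoryTheory CategoryTheory.Limits AlgebraicGeometry TensorProduct

namespace Groth.Agent.H37.QSect2

/-- if `A → B → C` with `C` flat over `A` and faithfully flat over `B`, then `B` is flat over `A` -/
lemma flat_of_faithfullyFlat_comp (A B C : Type*) [CommRing A] [CommRing B] [CommRing C]
    [Algebra A B] [Algebra B C] [Algebra A C] [IsScalarTower A B C]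
    [Module.Flat A C] [Module.FaithfullyFlat B C] : Module.Flat A B := by
  rw [Module.Flat.iff_lTensor_preserves_injective_linearMap]
  intro N N' _ _ _ _ f hf
  have h2 : Function.Injective (f.lTensor C) :=
    Module.Flat.lTensor_preserves_injective_linearMap f hf
  have hcomm := TensorProduct.AlgebraTensorModule.lTensor_comp_cancelBaseChange
    (R := A) (A := B) (B := B) (M := C) (N := N) (Q := N') f
  have h3 : Function.Injective
      ((TensorProduct.AlgebraTensorModule.lTensor B B f).lTensor C) := by
    intro x y hxy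
    have hx := LinearMap.congr_fun hcomm x
    have hy := LinearMap.congr_fun hcomm y
    apply (TensorProduct.AlgebraTensorModule.cancelBaseChange A B B C N).injective
    apply h2
    refine (hx.trans ?_).trans hy.symm
    exact congrArg (TensorProduct.AlgebraTensorModule.cancelBaseChange A B B C N') hxy
  exact (Module.FaithfullyFlat.lTensor_injective_iff_injective B C _).mp h3

/-- flatness can be checked after precomposing with a flat surjective morphism -/
lemma flat_of_comp_surjective {X Y Z : Scheme.{u}} (f : X ⟶ Y) (g : Y ⟶ Z) [Flat f] [Surjective f]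
    [Flat (f ≫ g)] : Flat g := by
  rw [Flat.iff_flat_stalkMap]
  intro y
  obtain ⟨x, rfl⟩ := f.surjective y
  have h1 : (f.stalkMap x).hom.Flat := Flat.stalkMap f x
  have h2 : ((f ≫ g).stalkMap x).hom.Flat := Flat.stalkMap (f ≫ g) x
  have e := Scheme.Hom.stalkMap_comp f g x
  rw [e] at h2
  letI : Algebra (Y.presheaf.stalk (f x)) (X.presheaf.stalk x) := (f.stalkMap x).hom.toAlgebra
  letI : Algebra (Z.presheaf.stalk (g (f x))) (Y.presheaf.stalk (f x)) :=
    (g.stalkMap (f x)).hom.toAlgebra
  letI : Algebra (Z.presheaf.stalk (g (f x))) (X.presheaf.stalk x) :=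
    ((f.stalkMap x).hom.comp (g.stalkMap (f x)).hom).toAlgebra
  haveI : IsScalarTower (Z.presheaf.stalk (g (f x))) (Y.presheaf.stalk (f x))
      (X.presheaf.stalk x) := IsScalarTower.of_algebraMap_eq (fun _ => rfl)
  haveI : Module.Flat (Y.presheaf.stalk (f x)) (X.presheaf.stalk x) := h1
  haveI : Module.Flat (Z.presheaf.stalk (g (f x))) (X.presheaf.stalk x) := h2
  haveI : Module.FaithfullyFlat (Y.presheaf.stalk (f x)) (X.presheaf.stalk x) :=
    @Module.FaithfullyFlat.of_flat_of_isLocalHom _ _ _ _ _ _ _ h1 (f.toLRSHom.prop x)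
  exact flat_of_faithfullyFlat_comp (Z.presheaf.stalk (g (f x))) (Y.presheaf.stalk (f x))
    (X.presheaf.stalk x)

/-- a monomorphism which admits a section over an effective epimorphic cover of its target is an
isomorphism -/
lemma isIso_of_mono_of_effectiveEpi_lift {C : Type*} [Category C] {R P T : C} (Φ : R ⟶ P) [Mono Φ]
    (π : T ⟶ P) [EffectiveEpi π] (θ : T ⟶ R) (h : θ ≫ Φ = π) : IsIso Φ := by
  have hd : ∀ {Z : C} (g₁ g₂ : Z ⟶ T), g₁ ≫ π = g₂ ≫ π → g₁ ≫ θ = g₂ ≫ θ := by
    intro Z g₁ g₂ hg
    rw [← cancel_mono Φ, Category.assoc, Category.assoc, h, hg]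
  have hψ : π ≫ EffectiveEpi.desc π θ hd = θ := EffectiveEpi.fac π θ hd
  have h1 : EffectiveEpi.desc π θ hd ≫ Φ = 𝟙 P := by
    rw [← cancel_epi π, ← Category.assoc, hψ, h, Category.comp_id]
  have h2 : Φ ≫ EffectiveEpi.desc π θ hd = 𝟙 R := by
    rw [← cancel_mono Φ, Category.assoc, h1, Category.comp_id, Category.id_comp]
  exact ⟨⟨EffectiveEpi.desc π θ hd, h2, h1⟩⟩

/-- a morphism which admits a lift of a surjective morphism to its target is surjective -/
lemma surjective_of_cover {R P T : Scheme.{u}} (Φ : R ⟶ P) (π : T ⟶ P) (θ : T ⟶ R) [Surjective π]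
    (h : θ ≫ Φ = π) : Function.Surjective Φ.base := by
  intro z
  obtain ⟨τ, rfl⟩ := π.surjective z
  refine ⟨θ.base τ, ?_⟩
  rw [← h, Scheme.Hom.comp_apply]

end Groth.Agent.H37.QSect2
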