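import Groth.Agent.H37.QSect1
import Groth.Agent.H37.QSect2
import Groth.Agent.H49.GQ10
import Groth.Prelude.Def_Desc
import Mathlib

/-!
# Effective descent along finite locally free morphisms via quotients of finite equivalence
relations

A descent datum `D` on `V/X` relative to `p : X ⟶ Y` defines an equivalence relation
`R = V ×_Y X ⇉ V`; when `p` is finite locally free and orbits lie in affine opens, H49's quotient
`W = V/R` exists and `V ≅ X ×_Y W` compatibly with the descent data.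
-/

set_option autoImplicit false
universe u
open CategoryTheory CategoryTheory.Limits AlgebraicGeometry
open Grpd

namespace Groth.Agent.H37.FinDesc

open Groth.Agent.H37.GrpdCalc Groth.Agent.H37.QSect2

/-! ### groupoids from equivalence relations -/
section ofRel

variable {S : Scheme.{u}} {U R : Scheme.{u}} (pU : U ⟶ S) (s t : R ⟶ U) (e : U ⟶ R) (i : R ⟶ R)
  (c : pullback s t ⟶ R)

lemma hcs (c_s : c ≫ s = pullback.snd s t ≫ s) {T : Scheme.{u}} (α β : T ⟶ R)
    (h : α ≫ s = β ≫ t) : (pullback.lift α β h ≫ c) ≫ s = β ≫ s := by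
  rw [Category.assoc, c_s, pullback.lift_snd_assoc]

lemma hct (c_t : c ≫ t = pullback.fst s t ≫ t) {T : Scheme.{u}} (α β : T ⟶ R)
    (h : α ≫ s = β ≫ t) : (pullback.lift α β h ≫ c) ≫ t = α ≫ t := by
  rw [Category.assoc, c_t, pullback.lift_fst_assoc]

/-- a groupoid scheme from an equivalence relation: when `(t, s)` is jointly monic the axioms
follow from the source/target equations -/
noncomputable def ofRel (t_over : t ≫ pU = s ≫ pU)
    (c_s : c ≫ s = pullback.snd s t ≫ s) (c_t : c ≫ t = pullback.fst s t ≫ t)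
    (e_s : e ≫ s = 𝟙 U) (e_t : e ≫ t = 𝟙 U) (i_s : i ≫ s = t) (i_t : i ≫ t = s)
    (hext : ∀ {T : Scheme.{u}} (m m' : T ⟶ R), m ≫ s = m' ≫ s → m ≫ t = m' ≫ t → m = m') :
    Grpd.GroupoidScheme S where
  U := U
  R := R
  pU := pU
  pR := s ≫ pU
  s := s
  t := t
  e := e
  i := i
  c := c
  s_over := rfl
  t_over := t_over
  comp_s := fun α β h => hcs s t c c_s α β h
  comp_t := fun α β h => hct s t c c_t α β h
  assoc := fun α β γ h₁ h₂ => by
    apply hext
    · rw [hcs s t c c_s, hcs s t c c_s, hcs s t c c_s]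
    · rw [hct s t c c_t, hct s t c c_t, hct s t c c_t]
  e_s := e_s
  e_t := e_t
  comp_e := fun α => by
    apply hext
    · rw [hcs s t c c_s, Category.assoc, Category.assoc, e_s, Category.comp_id]
    · rw [hct s t c c_t]
  e_comp := fun α => by
    apply hext
    · rw [hcs s t c c_s]
    · rw [hct s t c c_t, Category.assoc, Category.assoc, e_t, Category.comp_id]
  i_s := i_s
  i_t := i_t
  comp_i := fun α => by
    apply hext
    · rw [hcs s t c c_s, Category.assoc, i_s, Category.assoc, Category.assoc, e_s,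
        Category.comp_id]
    · rw [hct s t c c_t, Category.assoc, Category.assoc, e_t, Category.comp_id]
  i_comp := fun α => by
    apply hext
    · rw [hcs s t c c_s, Category.assoc, Category.assoc, e_s, Category.comp_id]
    · rw [hct s t c c_t, Category.assoc, i_t, Category.assoc, Category.assoc, e_t,
        Category.comp_id]

lemma mono_j_of_ext (G : Grpd.GroupoidScheme S)
    (hext : ∀ {T : Scheme.{u}} (m m' : T ⟶ G.R), m ≫ G.s = m' ≫ G.s → m ≫ G.t = m' ≫ G.t →
      m = m') : Mono G.j := by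
  refine ⟨fun {T} a b hab => ?_⟩
  have h1 := congrArg (fun ψ => ψ ≫ pullback.fst _ _) hab
  have h2 := congrArg (fun ψ => ψ ≫ pullback.snd _ _) hab
  simp only [Category.assoc, j_fst, j_snd] at h1 h2
  exact hext a b h2 h1

end ofRel

/-! ### the equivalence relation of a descent datum -/
section desc

variable {X Y : Scheme.{u}} {p : X ⟶ Y} (D : Desc.SchDD p)

lemma φ_congr {T : Scheme.{u}} {x₀ x₀' x₁ x₁' : T ⟶ X} (e₀ : x₀ = x₀') (e₁ : x₁ = x₁')
    (h : x₀ ≫ p = x₁ ≫ p) (h' : x₀' ≫ p = x₁' ≫ p) (v : Desc.Lifts D.obj x₀)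
    (v' : Desc.Lifts D.obj x₀') (hv : v.1 = v'.1) :
    (D.φ x₀ x₁ h v).1 = (D.φ x₀' x₁' h' v').1 := by
  subst e₀ e₁
  have : v = v' := Subtype.ext hv
  subst this
  rfl

/-- transport of a `T`-point of `V` to a point over `x` -/
noncomputable def tr {T : Scheme.{u}} (a : T ⟶ D.obj.left) (x : T ⟶ X)
    (h : (a ≫ D.obj.hom) ≫ p = x ≫ p) : T ⟶ D.obj.left :=
  (D.φ (a ≫ D.obj.hom) x h ⟨a, rfl⟩).1

lemma tr_hom {T : Scheme.{u}} (a : T ⟶ D.obj.left) (x : T ⟶ X)
    (h : (a ≫ D.obj.hom) ≫ p = x ≫ p) : tr D a x h ≫ D.obj.hom = x :=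
  (D.φ (a ≫ D.obj.hom) x h ⟨a, rfl⟩).2

lemma tr_congr {T : Scheme.{u}} {a a' : T ⟶ D.obj.left} {x x' : T ⟶ X} (ea : a = a')
    (ex : x = x') (h : (a ≫ D.obj.hom) ≫ p = x ≫ p) (h' : (a' ≫ D.obj.hom) ≫ p = x' ≫ p) :
    tr D a x h = tr D a' x' h' := by
  subst ea ex; rfl

lemma comp_tr {T T' : Scheme.{u}} (g : T' ⟶ T) (a : T ⟶ D.obj.left) (x : T ⟶ X)
    (h : (a ≫ D.obj.hom) ≫ p = x ≫ p) (h' : ((g ≫ a) ≫ D.obj.hom) ≫ p = (g ≫ x) ≫ p) :
    g ≫ tr D a x h = tr D (g ≫ a) (g ≫ x) h' := by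
  have h'' : (g ≫ a ≫ D.obj.hom) ≫ p = (g ≫ x) ≫ p := by
    rw [← Category.assoc g a]; exact h'
  have := D.φ_natural g (a ≫ D.obj.hom) x h h'' ⟨a, rfl⟩ ⟨g ≫ a, Category.assoc _ _ _⟩ rfl
  exact this.symm.trans (φ_congr D (Category.assoc g a D.obj.hom).symm rfl h'' h' _ _ rfl)

lemma tr_self {T : Scheme.{u}} (a : T ⟶ D.obj.left) : tr D a (a ≫ D.obj.hom) rfl = a :=
  congrArg Subtype.val (D.φ_self (a ≫ D.obj.hom) ⟨a, rfl⟩)

lemma tr_tr {T : Scheme.{u}} (a : T ⟶ D.obj.left) (x x' : T ⟶ X)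
    (h : (a ≫ D.obj.hom) ≫ p = x ≫ p) (h₁₂ : x ≫ p = x' ≫ p)
    (h' : (tr D a x h ≫ D.obj.hom) ≫ p = x' ≫ p) :
    tr D (tr D a x h) x' h' = tr D a x' (h.trans h₁₂) := by
  have e := congrArg Subtype.val (D.φ_comp (a ≫ D.obj.hom) x x' h h₁₂ ⟨a, rfl⟩)
  exact (φ_congr D (tr_hom D a x h) rfl h' h₁₂ _ _ rfl).trans e

/-- the relation scheme `V ×_Y X` -/
noncomputable def R : Scheme.{u} := pullback (D.obj.hom ≫ p) p
/-- source -/
noncomputable def sR : R D ⟶ D.obj.left := pullback.fst (D.obj.hom ≫ p) p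
/-- the point of `X` over which the target lies -/
noncomputable def xR : R D ⟶ X := pullback.snd (D.obj.hom ≫ p) p

lemma R_cond : (sR D ≫ D.obj.hom) ≫ p = xR D ≫ p := by
  rw [Category.assoc]; exact pullback.condition

lemma comp_R_cond {T : Scheme.{u}} (g : T ⟶ R D) :
    ((g ≫ sR D) ≫ D.obj.hom) ≫ p = (g ≫ xR D) ≫ p := by
  simp only [Category.assoc]
  rw [← Category.assoc (sR D), R_cond D]

/-- target -/
noncomputable def tR : R D ⟶ D.obj.left := tr D (sR D) (xR D) (R_cond D)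

lemma tR_hom : tR D ≫ D.obj.hom = xR D := tr_hom D _ _ _

lemma tR_over : tR D ≫ D.obj.hom ≫ p = sR D ≫ D.obj.hom ≫ p := by
  rw [← Category.assoc, tR_hom, ← Category.assoc]; exact (R_cond D).symm

variable {T : Scheme.{u}}

/-- points of `R` -/
noncomputable def liftR (a : T ⟶ D.obj.left) (x : T ⟶ X) (h : (a ≫ D.obj.hom) ≫ p = x ≫ p) :
    T ⟶ R D :=
  pullback.lift a x (by rw [← Category.assoc]; exact h)

lemma liftR_s (a : T ⟶ D.obj.left) (x : T ⟶ X) (h : (a ≫ D.obj.hom) ≫ p = x ≫ p) :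
    liftR D a x h ≫ sR D = a := pullback.lift_fst _ _ _

lemma liftR_x (a : T ⟶ D.obj.left) (x : T ⟶ X) (h : (a ≫ D.obj.hom) ≫ p = x ≫ p) :
    liftR D a x h ≫ xR D = x := pullback.lift_snd _ _ _

lemma liftR_t (a : T ⟶ D.obj.left) (x : T ⟶ X) (h : (a ≫ D.obj.hom) ≫ p = x ≫ p) :
    liftR D a x h ≫ tR D = tr D a x h := by
  have e := comp_tr D (liftR D a x h) (sR D) (xR D) (R_cond D) (comp_R_cond D _)
  exact e.trans (tr_congr D (liftR_s D a x h) (liftR_x D a x h) _ _)

lemma hom_ext_R' {m m' : T ⟶ R D} (hs : m ≫ sR D = m' ≫ sR D) (hx : m ≫ xR D = m' ≫ xR D) :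
    m = m' := pullback.hom_ext hs hx

lemma hom_ext_R {m m' : T ⟶ R D} (hs : m ≫ sR D = m' ≫ sR D) (ht : m ≫ tR D = m' ≫ tR D) :
    m = m' := by
  refine hom_ext_R' D hs ?_
  rw [← tR_hom D, ← Category.assoc, ← Category.assoc, ht]

/-- identity -/
noncomputable def eR : D.obj.left ⟶ R D :=
  liftR D (𝟙 _) D.obj.hom (by rw [Category.id_comp])

lemma eR_s : eR D ≫ sR D = 𝟙 _ := liftR_s D _ _ _
lemma eR_x : eR D ≫ xR D = D.obj.hom := liftR_x D _ _ _
lemma eR_t : eR D ≫ tR D = 𝟙 _ := by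
  have e0 : eR D ≫ tR D = tr D (𝟙 _) D.obj.hom _ := liftR_t D _ _ _
  rw [e0]
  exact (tr_congr D rfl (Category.id_comp _).symm _ _).trans (tr_self D (𝟙 _))

/-- inverse -/
noncomputable def iR : R D ⟶ R D :=
  liftR D (tR D) (sR D ≫ D.obj.hom) (by rw [tR_hom]; exact (R_cond D).symm)

lemma iR_s : iR D ≫ sR D = tR D := liftR_s D _ _ _
lemma iR_t : iR D ≫ tR D = sR D := by
  have e0 : iR D ≫ tR D = tr D (tR D) (sR D ≫ D.obj.hom) _ := liftR_t D _ _ _
  rw [e0]
  exact (tr_tr D (sR D) (xR D) (sR D ≫ D.obj.hom) (R_cond D) (R_cond D).symm _).trans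
    (tr_self D (sR D))

lemma cR_aux : (pullback.snd (sR D) (tR D) ≫ xR D) ≫ p = (pullback.fst (sR D) (tR D) ≫ xR D) ≫ p := by
  have h1 : pullback.fst (sR D) (tR D) ≫ sR D = pullback.snd (sR D) (tR D) ≫ tR D :=
    pullback.condition
  rw [← comp_R_cond D (pullback.fst (sR D) (tR D)), h1, Category.assoc _ (tR D), tR_hom]

lemma cR_cond : ((pullback.snd (sR D) (tR D) ≫ sR D) ≫ D.obj.hom) ≫ p =
    (pullback.fst (sR D) (tR D) ≫ xR D) ≫ p :=
  (comp_R_cond D _).trans (cR_aux D)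

/-- composition -/
noncomputable def cR : pullback (sR D) (tR D) ⟶ R D :=
  liftR D (pullback.snd (sR D) (tR D) ≫ sR D) (pullback.fst (sR D) (tR D) ≫ xR D) (cR_cond D)

lemma cR_s : cR D ≫ sR D = pullback.snd (sR D) (tR D) ≫ sR D := liftR_s D _ _ _

lemma cR_t : cR D ≫ tR D = pullback.fst (sR D) (tR D) ≫ tR D := by
  have h1 : pullback.fst (sR D) (tR D) ≫ sR D = pullback.snd (sR D) (tR D) ≫ tR D :=
    pullback.condition
  have e0 : cR D ≫ tR D = tr D _ _ (cR_cond D) := liftR_t D _ _ _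
  have e1 : pullback.fst (sR D) (tR D) ≫ tR D = tr D (pullback.fst (sR D) (tR D) ≫ sR D)
      (pullback.fst (sR D) (tR D) ≫ xR D) (comp_R_cond D _) :=
    comp_tr D _ (sR D) (xR D) (R_cond D) (comp_R_cond D _)
  have e2 : pullback.snd (sR D) (tR D) ≫ tR D = tr D (pullback.snd (sR D) (tR D) ≫ sR D)
      (pullback.snd (sR D) (tR D) ≫ xR D) (comp_R_cond D _) :=
    comp_tr D _ (sR D) (xR D) (R_cond D) (comp_R_cond D _)
  have hD : (tr D (pullback.snd (sR D) (tR D) ≫ sR D) (pullback.snd (sR D) (tR D) ≫ xR D)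
      (comp_R_cond D _) ≫ D.obj.hom) ≫ p = (pullback.fst (sR D) (tR D) ≫ xR D) ≫ p := by
    rw [tr_hom]; exact cR_aux D
  rw [e0, e1]
  exact ((tr_tr D _ _ _ (comp_R_cond D _) (cR_aux D) hD).symm).trans
    (tr_congr D (e2.symm.trans h1.symm) rfl _ _)

/-- the groupoid scheme of the descent datum -/
noncomputable def grpd : Grpd.GroupoidScheme Y :=
  ofRel (D.obj.hom ≫ p) (sR D) (tR D) (eR D) (iR D) (cR D) (tR_over D) (cR_s D) (cR_t D)
    (eR_s D) (eR_t D) (iR_s D) (iR_t D) (fun _ _ hs ht => hom_ext_R D hs ht)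

instance mono_j_grpd : Mono (grpd D).j :=
  mono_j_of_ext (grpd D) (fun _ _ hs ht => hom_ext_R D hs ht)

/-- a morphism of descent data which is an isomorphism on the underlying schemes is an
isomorphism -/
noncomputable def isoOfLeftIso {D D' : Desc.SchDD p} (F : D ⟶ D') (hF : IsIso F.hom.left) :
    D ≅ D' where
  hom := F
  inv := ⟨Over.homMk (inv F.hom.left) (by rw [IsIso.inv_comp_eq, Over.w]),
    fun T x₀ x₁ h v w hw => by
      have hw' : w.1 = v.1 ≫ inv F.hom.left := hw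
      have hv : v.1 = w.1 ≫ F.hom.left := by
        rw [hw', Category.assoc, IsIso.inv_hom_id, Category.comp_id]
      have := F.comm x₀ x₁ h w v hv
      show (D.φ x₀ x₁ h w).1 = (D'.φ x₀ x₁ h v).1 ≫ inv F.hom.left
      rw [this, Category.assoc, IsIso.hom_inv_id, Category.comp_id]⟩
  hom_inv_id := by
    apply Desc.SchDD.hom_ext
    apply Over.OverMorphism.ext
    simp
  inv_hom_id := by
    apply Desc.SchDD.hom_ext
    apply Over.OverMorphism.ext
    simp

/-- the comparison morphism from `D` to the canonical descent datum of a quotient -/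
noncomputable def toCan {W : Scheme.{u}} (q : D.obj.left ⟶ W) (h : W ⟶ Y)
    (hΨ : D.obj.hom ≫ p = q ≫ h)
    (hφq : ∀ {T : Scheme.{u}} (x₀ x₁ : T ⟶ X) (hx : x₀ ≫ p = x₁ ≫ p) (v : Desc.Lifts D.obj x₀),
      (D.φ x₀ x₁ hx v).1 ≫ q = v.1 ≫ q) :
    D ⟶ (Desc.toDD p).obj (Over.mk h) :=
  ⟨Over.homMk (pullback.lift D.obj.hom q hΨ) (pullback.lift_fst _ _ _),
    fun T x₀ x₁ hx v w hw => by
      have hw' : w.1 = v.1 ≫ pullback.lift D.obj.hom q hΨ := hw
      show (Desc.canMap p (Over.mk h) x₀ x₁ hx w).1 =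
        (D.φ x₀ x₁ hx v).1 ≫ pullback.lift D.obj.hom q hΨ
      rw [Desc.canMap_val]
      apply pullback.hom_ext
      · rw [pullback.lift_fst, Category.assoc]
        erw [pullback.lift_fst]
        exact (D.φ x₀ x₁ hx v).2.symm
      · rw [pullback.lift_snd, Category.assoc]
        erw [pullback.lift_snd]
        rw [hφq, hw', Category.assoc]
        erw [pullback.lift_snd]⟩

variable [IsFinite p] [Flat p] [LocallyOfFinitePresentation p]

/-- effectivity from the existence of H49's quotient -/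
theorem effective
    (hV : ∀ v : D.obj.left, ∃ W : D.obj.left.Opens, IsAffineOpen W ∧
      (tR D).base '' ((sR D).base ⁻¹' {v}) ⊆ (W : Set D.obj.left)) :
    ∃ W : Over Y, Nonempty ((Desc.toDD p).obj W ≅ D) := by
  haveI : IsFinite (grpd D).s := inferInstanceAs (IsFinite (pullback.fst (D.obj.hom ≫ p) p))
  haveI : Flat (grpd D).s := inferInstanceAs (Flat (pullback.fst (D.obj.hom ≫ p) p))
  haveI : LocallyOfFinitePresentation (grpd D).s :=
    inferInstanceAs (LocallyOfFinitePresentation (pullback.fst (D.obj.hom ≫ p) p))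
  have hT := Groth.Agent.H49.GQ7.goodFamily_top (G := grpd D) hV
  obtain ⟨W, q, hq, hqs, hqf, hqc, hiso, h, hh⟩ : ∃ (W : Scheme.{u}) (q : D.obj.left ⟶ W)
      (hq : sR D ≫ q = tR D ≫ q), Surjective q ∧ Flat q ∧ QuasiCompact q ∧
      IsIso (pullback.lift (tR D) (sR D) hq.symm) ∧ ∃ h : W ⟶ Y, q ≫ h = D.obj.hom ≫ p := by
    refine ⟨Groth.Agent.H49.GQ6.Y (grpd D), Groth.Agent.H49.GQ7.q hT,
      Groth.Agent.H49.GQ7.s_q_eq_t_q hT, Groth.Agent.H49.GQ7.surjective_q hT,
      Groth.Agent.H49.GQ8.flat_q hT, ?_, Groth.Agent.H49.GQ8.isIso_lift hT,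
      Groth.Agent.H49.GQ9.exists_desc hT (D.obj.hom ≫ p) ?_⟩
    · have hqa := Groth.Agent.H49.GQ7.isAffineHom_q hT
      have : QuasiCompact (Groth.Agent.H49.GQ7.q hT) := inferInstance
      exact this
    · exact (tR_over D).symm
  haveI := hqs
  haveI := hqf
  haveI := hqc
  haveI := hiso
  have tr_q : ∀ {T : Scheme.{u}} (a : T ⟶ D.obj.left) (x : T ⟶ X)
      (hx : (a ≫ D.obj.hom) ≫ p = x ≫ p), tr D a x hx ≫ q = a ≫ q := by
    intro T a x hx
    rw [← liftR_t D a x hx, Category.assoc, ← hq, ← Category.assoc, liftR_s]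
  have hΨ : D.obj.hom ≫ p = q ≫ h := hh.symm
  haveI hmono : Mono (pullback.lift D.obj.hom q hΨ) := by
    refine ⟨fun {T} a b hab => ?_⟩
    have h1 : a ≫ D.obj.hom = b ≫ D.obj.hom := by
      have := congrArg (fun ψ => ψ ≫ pullback.fst p h) hab
      simpa only [Category.assoc, pullback.lift_fst] using this
    have h2 : a ≫ q = b ≫ q := by
      have := congrArg (fun ψ => ψ ≫ pullback.snd p h) hab
      simpa only [Category.assoc, pullback.lift_snd] using this
    have i1 : inv (pullback.lift (tR D) (sR D) hq.symm) ≫ tR D = pullback.fst q q := by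
      rw [IsIso.inv_comp_eq, pullback.lift_fst]
    have i2 : inv (pullback.lift (tR D) (sR D) hq.symm) ≫ sR D = pullback.snd q q := by
      rw [IsIso.inv_comp_eq, pullback.lift_snd]
    have e1 : (pullback.lift a b h2 ≫ inv (pullback.lift (tR D) (sR D) hq.symm)) ≫ tR D = a := by
      rw [Category.assoc, i1, pullback.lift_fst]
    have e2 : (pullback.lift a b h2 ≫ inv (pullback.lift (tR D) (sR D) hq.symm)) ≫ sR D = b := by
      rw [Category.assoc, i2, pullback.lift_snd]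
    have e3 : pullback.lift a b h2 ≫ inv (pullback.lift (tR D) (sR D) hq.symm) = b ≫ eR D := by
      apply hom_ext_R' D
      · rw [e2, Category.assoc, eR_s, Category.comp_id]
      · rw [← tR_hom D, ← Category.assoc, e1, Category.assoc, ← Category.assoc (eR D), eR_t,
          Category.id_comp, h1]
    calc a = (pullback.lift a b h2 ≫ inv (pullback.lift (tR D) (sR D) hq.symm)) ≫ tR D := e1.symm
      _ = (b ≫ eR D) ≫ tR D := by rw [e3]
      _ = b := by rw [Category.assoc, eR_t, Category.comp_id]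
  have hcond : ((pullback.snd (pullback.snd p h) q) ≫ D.obj.hom) ≫ p =
      (pullback.fst (pullback.snd p h) q ≫ pullback.fst p h) ≫ p := by
    rw [Category.assoc, hΨ, ← Category.assoc, ← pullback.condition, Category.assoc,
      Category.assoc, ← pullback.condition]
  have hθ : tr D (pullback.snd (pullback.snd p h) q)
      (pullback.fst (pullback.snd p h) q ≫ pullback.fst p h) hcond ≫
        pullback.lift D.obj.hom q hΨ = pullback.fst (pullback.snd p h) q := by
    apply pullback.hom_ext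
    · rw [Category.assoc, pullback.lift_fst, tr_hom]
    · rw [Category.assoc, pullback.lift_snd, tr_q, pullback.condition]
  haveI : IsIso (pullback.lift D.obj.hom q hΨ) :=
    isIso_of_mono_of_effectiveEpi_lift _ (pullback.fst (pullback.snd p h) q) _ hθ
  have hφq : ∀ {T : Scheme.{u}} (x₀ x₁ : T ⟶ X) (hx : x₀ ≫ p = x₁ ≫ p)
      (v : Desc.Lifts D.obj x₀), (D.φ x₀ x₁ hx v).1 ≫ q = v.1 ≫ q := by
    intro T x₀ x₁ hx v
    have hx' : (v.1 ≫ D.obj.hom) ≫ p = x₁ ≫ p := by rw [v.2]; exact hx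
    have e : (D.φ x₀ x₁ hx v).1 = tr D v.1 x₁ hx' := φ_congr D v.2.symm rfl hx hx' v _ rfl
    rw [e, tr_q]
  refine ⟨Over.mk h, ⟨(isoOfLeftIso (toCan D q h hΨ hφq) ?_).symm⟩⟩
  show IsIso (pullback.lift D.obj.hom q hΨ)
  infer_instance

end desc

end Groth.Agent.H37.FinDesc
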