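import Groth.Agent.H37.FinDesc
import Mathlib

/-!
# Orbits of the equivalence relation of a descent datum along a finite morphism are finite and lie
over one point of the base
-/

set_option autoImplicit false
universe u
open CategoryTheory CategoryTheory.Limits AlgebraicGeometry

namespace Groth.Agent.H37.FinDesc

open Groth.Agent.H37.QSect1 (pt_congr)

variable {X Y : Scheme.{u}} {p : X ⟶ Y} (D : Desc.SchDD p)

instance isFinite_sR [IsFinite p] : IsFinite (sR D) :=
  inferInstanceAs (IsFinite (pullback.fst (D.obj.hom ≫ p) p))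

lemma fibre_finite [IsFinite p] (v : D.obj.left) : ((sR D).base ⁻¹' {v}).Finite :=
  (sR D).finite_preimage_singleton v

lemma orbit_finite [IsFinite p] (v : D.obj.left) :
    ((tR D).base '' ((sR D).base ⁻¹' {v})).Finite :=
  (fibre_finite D v).image _

lemma orbit_over (v : D.obj.left) :
    ∀ z ∈ (tR D).base '' ((sR D).base ⁻¹' {v}),
      p.base (D.obj.hom.base z) = p.base (D.obj.hom.base v) := by
  rintro _ ⟨ρ, hρ, rfl⟩
  have hρ' : (sR D).base ρ = v := hρ
  have e := pt_congr (tR_over D) ρ
  rw [Scheme.Hom.comp_apply, Scheme.Hom.comp_apply, Scheme.Hom.comp_apply,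
    Scheme.Hom.comp_apply, hρ'] at e
  exact e

end Groth.Agent.H37.FinDesc
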