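import Groth.Agent.H37.FinDesc2
import Mathlib

/-!
# Bounding the fibres of the relation scheme of a descent datum by geometric fibre cardinalities
-/

set_option autoImplicit false
universe u
open CategoryTheory CategoryTheory.Limits AlgebraicGeometry

namespace Groth.Agent.H37.FinDesc

variable {X Y : Scheme.{u}} {p : X ⟶ Y} (D : Desc.SchDD p)

/-- over an algebraically closed field, every point of a finite scheme is a rational point -/
lemma exists_section_of_finite {K : Type u} [Field K] [IsAlgClosed K] {Z : Scheme.{u}}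
    (φ : Z ⟶ Spec (CommRingCat.of K)) [IsFinite φ] (ζ : Z) :
    ∃ σ : Spec (CommRingCat.of K) ⟶ Z, σ ≫ φ = 𝟙 _ ∧ ∀ a, σ.base a = ζ := by
  have hdisc : _root_.IsDiscrete (φ.base ⁻¹' {IsLocalRing.closedPoint K}) :=
    φ.isDiscrete_preimage_singleton _
  have huniv : φ.base ⁻¹' {IsLocalRing.closedPoint K} = Set.univ := by
    ext z
    simp only [Set.mem_preimage, Set.mem_singleton_iff, Set.mem_univ, iff_true]
    exact Subsingleton.elim _ _
  rw [huniv, isDiscrete_univ_iff] at hdisc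
  haveI := hdisc
  have hcl : IsClosed ({ζ} : Set Z) := isClosed_discrete _
  exact ⟨pointOfClosedPoint φ ζ hcl, pointOfClosedPoint_comp φ ζ hcl,
    fun a => pointOfClosedPoint_apply φ ζ hcl a⟩

lemma fibre_encard_le [IsFinite p] (d : ℕ)
    (hfib : ∀ (k : Type u) [Field k] [IsAlgClosed k] (y : Spec (CommRingCat.of k) ⟶ Y),
      Set.encard {x : Spec (CommRingCat.of k) ⟶ X | x ≫ p = y} ≤ d) (v : D.obj.left) :
    ((sR D).base ⁻¹' {v}).encard ≤ d := by
  obtain ⟨K, _, _, vK, hvK⟩ : ∃ (K : Type u) (_ : Field K) (_ : IsAlgClosed K)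
      (vK : Spec (CommRingCat.of K) ⟶ D.obj.left), ∀ a, vK.base a = v :=
    ⟨AlgebraicClosure (D.obj.left.residueField v), inferInstance, inferInstance,
      Spec.map (CommRingCat.ofHom (algebraMap (D.obj.left.residueField v)
        (AlgebraicClosure (D.obj.left.residueField v)))) ≫ D.obj.left.fromSpecResidueField v,
      fun a => by rw [Scheme.Hom.comp_apply]; exact Scheme.fromSpecResidueField_apply v _⟩
  have hex : ∀ ρ : R D, (sR D).base ρ = v →
      ∃ r : Spec (CommRingCat.of K) ⟶ R D, r ≫ sR D = vK ∧ ∀ a, r.base a = ρ := by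
    intro ρ hρ
    obtain ⟨ζ, hζ1, hζ2⟩ := Scheme.Pullback.exists_preimage_pullback (f := sR D) (g := vK) ρ
      (IsLocalRing.closedPoint K) (hρ.trans (hvK _).symm)
    obtain ⟨σ, hσ1, hσ2⟩ := exists_section_of_finite (pullback.snd (sR D) vK) ζ
    refine ⟨σ ≫ pullback.fst (sR D) vK, ?_, fun a => ?_⟩
    · rw [Category.assoc, pullback.condition, ← Category.assoc, hσ1, Category.id_comp]
    · rw [Scheme.Hom.comp_apply, hσ2, hζ1]
  let g : ↥((sR D).base ⁻¹' {v}) →
      ↥{x : Spec (CommRingCat.of K) ⟶ X | x ≫ p = vK ≫ D.obj.hom ≫ p} :=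
    fun ρ => ⟨(hex ρ.1 ρ.2).choose ≫ xR D, by
      show ((hex ρ.1 ρ.2).choose ≫ xR D) ≫ p = vK ≫ D.obj.hom ≫ p
      rw [Category.assoc, ← R_cond D, ← Category.assoc, ← Category.assoc,
        (hex ρ.1 ρ.2).choose_spec.1, Category.assoc]⟩
  have hg : Function.Injective g := by
    intro ρ ρ' h
    have h' : (hex ρ.1 ρ.2).choose ≫ xR D = (hex ρ'.1 ρ'.2).choose ≫ xR D :=
      congrArg Subtype.val h
    have e : (hex ρ.1 ρ.2).choose = (hex ρ'.1 ρ'.2).choose :=
      hom_ext_R' D ((hex ρ.1 ρ.2).choose_spec.1.trans (hex ρ'.1 ρ'.2).choose_spec.1.symm) h'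
    apply Subtype.ext
    have e1 := (hex ρ.1 ρ.2).choose_spec.2 (IsLocalRing.closedPoint K)
    have e2 := (hex ρ'.1 ρ'.2).choose_spec.2 (IsLocalRing.closedPoint K)
    rw [e] at e1
    exact e1.symm.trans e2
  exact (ENat.card_le_card_of_injective hg).trans (hfib K _)

/-- enumerate a set with at most `d` elements by `Fin d`, padding with a default element -/
lemma exists_fin_enum {α : Type*} (E : Set α) (d : ℕ) (hE : E.encard ≤ d) (a₀ : α) :
    ∃ w : Fin d → α, (∀ i, w i ∈ E ∨ w i = a₀) ∧ ∀ z ∈ E, ∃ i, w i = z := by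
  classical
  obtain ⟨hfin, hcard⟩ := Set.encard_le_coe_iff_finite_ncard_le.mp hE
  have hmem : ∀ z, z ∈ hfin.toFinset.toList ↔ z ∈ E := fun z => by
    rw [Finset.mem_toList, Set.Finite.mem_toFinset]
  have hl : hfin.toFinset.toList.length ≤ d := by
    rw [Finset.length_toList, ← Set.ncard_eq_toFinset_card E hfin]; exact hcard
  refine ⟨fun i => hfin.toFinset.toList.getD i a₀, fun i => ?_, fun z hz => ?_⟩
  · by_cases h : (i : ℕ) < hfin.toFinset.toList.length
    · left
      show hfin.toFinset.toList.getD i a₀ ∈ E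
      rw [List.getD_eq_getElem _ _ h]
      exact (hmem _).mp (List.getElem_mem h)
    · right
      exact List.getD_eq_default _ _ (not_lt.mp h)
  · obtain ⟨i, hi, rfl⟩ := List.mem_iff_getElem.mp ((hmem z).mpr hz)
    exact ⟨⟨i, lt_of_lt_of_le hi hl⟩, List.getD_eq_getElem _ _ hi⟩

lemma orbit_encard_le [IsFinite p] (d : ℕ)
    (hfib : ∀ (k : Type u) [Field k] [IsAlgClosed k] (y : Spec (CommRingCat.of k) ⟶ Y),
      Set.encard {x : Spec (CommRingCat.of k) ⟶ X | x ≫ p = y} ≤ d) (v : D.obj.left) :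
    ((tR D).base '' ((sR D).base ⁻¹' {v})).encard ≤ d :=
  (Set.encard_image_le _ _).trans (fibre_encard_le D d hfib v)

end Groth.Agent.H37.FinDesc
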