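import Groth.Agent.H37.ConnLimTop
import Groth.Agent.H37.GeomSepClosed
import Groth.Agent.H37.GeomDescentFlat

/-!
# Base change to an algebraic extension as a limit over finite subextensions
-/

set_option autoImplicit false
universe u
open CategoryTheory CategoryTheory.Limits AlgebraicGeometry Opposite

namespace Groth.Agent.H37

section PbDiagram

variable {I : Type u} [SmallCategory I] {S X : Scheme.{u}} (f : X ⟶ S) (G : I ⥤ Scheme.{u})
  (β : G ⟶ (Functor.const I).obj S)

theorem pbDiagram_aux {i j : I} (φ : i ⟶ j) : G.map φ ≫ β.app j = β.app i := by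
  have := β.naturality φ
  simp only [Functor.const_obj_obj, Functor.const_obj_map] at this
  exact this.trans (Category.comp_id _)

theorem pbDiagram_aux' {i j : I} (φ : i ⟶ j) : β.app i ≫ 𝟙 S = G.map φ ≫ β.app j :=
  (Category.comp_id _).trans (pbDiagram_aux G β φ).symm

/-- The diagram of base changes of a diagram over `S` along `f : X ⟶ S`. -/
noncomputable def pbDiagram : I ⥤ Scheme.{u} where
  obj i := pullback f (β.app i)
  map {i j} φ := pullback.map f (β.app i) f (β.app j) (𝟙 X) (G.map φ) (𝟙 S)
    ((Category.comp_id _).trans (Category.id_comp _).symm) (pbDiagram_aux' G β φ)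
  map_id i := by
    apply pullback.hom_ext
    · exact (pullback.lift_fst _ _ _).trans ((Category.comp_id _).trans (Category.id_comp _).symm)
    · refine (pullback.lift_snd _ _ _).trans ?_
      rw [G.map_id]
      exact (Category.comp_id _).trans (Category.id_comp _).symm
  map_comp {i j l} φ ψ := by
    apply pullback.hom_ext
    · refine (pullback.lift_fst _ _ _).trans ?_
      refine Eq.trans ?_ (Category.assoc _ _ _).symm
      refine Eq.trans ?_ (congrArg (fun m => _ ≫ m) (pullback.lift_fst _ _ _).symm)
      refine Eq.trans ?_ (Category.assoc _ _ _)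
      exact congrArg (fun m => m ≫ 𝟙 X) (pullback.lift_fst _ _ _).symm
    · refine (pullback.lift_snd _ _ _).trans ?_
      refine Eq.trans ?_ (Category.assoc _ _ _).symm
      refine Eq.trans ?_ (congrArg (fun m => _ ≫ m) (pullback.lift_snd _ _ _).symm)
      refine Eq.trans ?_ (Category.assoc _ _ _)
      refine Eq.trans ?_ (congrArg (fun m => m ≫ G.map ψ) (pullback.lift_snd _ _ _).symm)
      rw [G.map_comp, Category.assoc]

/-- First projection from an object of the diagram of base changes. -/
noncomputable def pbFst (i : I) : (pbDiagram f G β).obj i ⟶ X := pullback.fst f (β.app i)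

/-- Second projection from an object of the diagram of base changes. -/
noncomputable def pbSnd (i : I) : (pbDiagram f G β).obj i ⟶ G.obj i := pullback.snd f (β.app i)

theorem pb_isPullback (i : I) : IsPullback (pbFst f G β i) (pbSnd f G β i) f (β.app i) :=
  IsPullback.of_hasPullback f (β.app i)

theorem pb_hom_ext {W : Scheme.{u}} {i : I} {a b : W ⟶ (pbDiagram f G β).obj i}
    (h1 : a ≫ pbFst f G β i = b ≫ pbFst f G β i) (h2 : a ≫ pbSnd f G β i = b ≫ pbSnd f G β i) :
    a = b := pullback.hom_ext h1 h2

@[reassoc]
theorem pbDiagram_map_fst {i j : I} (φ : i ⟶ j) :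
    (pbDiagram f G β).map φ ≫ pbFst f G β j = pbFst f G β i :=
  (pullback.lift_fst _ _ _).trans (Category.comp_id _)

@[reassoc]
theorem pbDiagram_map_snd {i j : I} (φ : i ⟶ j) :
    (pbDiagram f G β).map φ ≫ pbSnd f G β j = pbSnd f G β i ≫ G.map φ :=
  pullback.lift_snd _ _ _

theorem pbDiagram_map_isPullback {i j : I} (φ : i ⟶ j) :
    IsPullback ((pbDiagram f G β).map φ) (pbSnd f G β i) (pbSnd f G β j) (G.map φ) := by
  refine IsPullback.of_right ?_ (pbDiagram_map_snd f G β φ) (pb_isPullback f G β j)
  rw [pbDiagram_map_fst, pbDiagram_aux G β φ]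
  exact pb_isPullback f G β i

/-- The projection from the diagram of base changes. -/
noncomputable def pbDiagramSnd : pbDiagram f G β ⟶ G where
  app i := pbSnd f G β i
  naturality _ _ φ := pbDiagram_map_snd f G β φ

variable (cG : Cone G) (t : cG.pt ⟶ S) (ht : ∀ i, cG.π.app i ≫ β.app i = t)

/-- The legs of the base changed cone. -/
noncomputable def pbConeLeg (i : I) : pullback f t ⟶ (pbDiagram f G β).obj i :=
  pullback.map f t f (β.app i) (𝟙 X) (cG.π.app i) (𝟙 S)
    ((Category.comp_id _).trans (Category.id_comp _).symm)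
    ((Category.comp_id _).trans (ht i).symm)

@[reassoc]
theorem pbConeLeg_fst (i : I) :
    pbConeLeg f G β cG t ht i ≫ pbFst f G β i = pullback.fst f t :=
  (pullback.lift_fst _ _ _).trans (Category.comp_id _)

@[reassoc]
theorem pbConeLeg_snd (i : I) :
    pbConeLeg f G β cG t ht i ≫ pbSnd f G β i = pullback.snd f t ≫ cG.π.app i :=
  pullback.lift_snd _ _ _

theorem pbConeLeg_map {i j : I} (φ : i ⟶ j) :
    pbConeLeg f G β cG t ht i ≫ (pbDiagram f G β).map φ = pbConeLeg f G β cG t ht j := by
  apply pb_hom_ext
  · rw [Category.assoc, pbDiagram_map_fst, pbConeLeg_fst, pbConeLeg_fst]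
  · rw [Category.assoc, pbDiagram_map_snd, pbConeLeg_snd_assoc, pbConeLeg_snd, cG.w]

/-- The base changed cone. -/
noncomputable def pbCone : Cone (pbDiagram f G β) where
  pt := pullback f t
  π :=
    { app := fun i => pbConeLeg f G β cG t ht i
      naturality := fun i j φ => by
        refine (Category.id_comp _).trans ?_
        exact (pbConeLeg_map f G β cG t ht φ).symm }

theorem pbCone_isPullback (i : I) :
    IsPullback (pbConeLeg f G β cG t ht i) (pullback.snd f t) (pbSnd f G β i)
      (cG.π.app i) := by
  refine IsPullback.of_right ?_ (pbConeLeg_snd f G β cG t ht i) (pb_isPullback f G β i)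
  rw [pbConeLeg_fst, ht i]
  exact IsPullback.of_hasPullback f t

/-- The morphism of cones from the base changed cone. -/
noncomputable def pbConeHom :
    (Cones.postcompose (pbDiagramSnd f G β)).obj (pbCone f G β cG t ht) ⟶ cG where
  hom := pullback.snd f t
  w i := (pbConeLeg_snd f G β cG t ht i).symm

/-- The base change of a limit cone over a connected diagram is a limit cone. -/
noncomputable def pbConeIsLimit [IsConnected I] (hcG : IsLimit cG) :
    IsLimit (pbCone f G β cG t ht) :=
  isLimitOfIsPullbackOfIsConnected (pbDiagramSnd f G β) _ _ (pbConeHom f G β cG t ht)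
    (fun i => pbCone_isPullback f G β cG t ht i) hcG

end PbDiagram

section FinSub

variable (k Ω : Type u) [Field k] [Field Ω] [Algebra k Ω]

/-- Finite subextensions. -/
abbrev FinSub := {E : IntermediateField k Ω // FiniteDimensional k E}

instance : IsDirectedOrder (FinSub k Ω) := ⟨fun E₁ E₂ => by
  haveI := E₁.2
  haveI := E₂.2
  exact ⟨⟨E₁.1 ⊔ E₂.1, IntermediateField.finiteDimensional_sup E₁.1 E₂.1⟩,
    show E₁.1 ≤ E₁.1 ⊔ E₂.1 from le_sup_left, show E₂.1 ≤ E₁.1 ⊔ E₂.1 from le_sup_right⟩⟩

instance : Nonempty (FinSub k Ω) :=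
  ⟨⟨IntermediateField.adjoin k {(0 : Ω)},
    IntermediateField.adjoin.finiteDimensional isIntegral_zero⟩⟩

/-- The diagram of finite subextensions. -/
noncomputable def finSubFunctor : FinSub k Ω ⥤ CommRingCat.{u} where
  obj E := CommRingCat.of E.1
  map {E E'} h := CommRingCat.ofHom
    (IntermediateField.inclusion (E := E.1) (F := E'.1) (leOfHom h)).toRingHom
  map_id E := by
    ext x
    rfl
  map_comp h h' := by
    ext x
    rfl

/-- The cocone of inclusions. -/
noncomputable def finSubCocone : Cocone (finSubFunctor k Ω) where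
  pt := CommRingCat.of Ω
  ι :=
    { app := fun E => CommRingCat.ofHom (algebraMap E.1 Ω)
      naturality := fun E E' h => by
        ext x
        rfl }

/-- An algebraic extension is the colimit of its finite subextensions. -/
noncomputable def finSubCoconeIsColimit [Algebra.IsAlgebraic k Ω] :
    IsColimit (finSubCocone k Ω) := by
  haveI : ReflectsColimit (finSubFunctor k Ω) (forget CommRingCat.{u}) :=
    reflectsColimit_of_reflectsIsomorphisms _ _
  apply isColimitOfReflects (forget CommRingCat.{u})
  apply Types.FilteredColimit.isColimitOf'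
  · intro (x : Ω)
    refine ⟨⟨IntermediateField.adjoin k {x},
      IntermediateField.adjoin.finiteDimensional
        (Algebra.IsIntegral.isIntegral (R := k) (A := Ω) x)⟩,
      ⟨x, IntermediateField.mem_adjoin_simple_self k x⟩, rfl⟩
  · intro E x y h
    refine ⟨E, 𝟙 E, ?_⟩
    have hxy : x = y := Subtype.ext h
    rw [hxy]

/-- The diagram of spectra of finite subextensions. -/
noncomputable def specDiagram : (FinSub k Ω)ᵒᵖ ⥤ Scheme.{u} :=
  (finSubFunctor k Ω).op ⋙ Scheme.Spec

/-- The cone over the diagram of spectra. -/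
noncomputable def specCone : Cone (specDiagram k Ω) :=
  Scheme.Spec.mapCone (finSubCocone k Ω).op

/-- `Spec Ω` is the limit of the spectra of the finite subextensions. -/
noncomputable def specConeIsLimit [Algebra.IsAlgebraic k Ω] : IsLimit (specCone k Ω) :=
  isLimitOfPreserves Scheme.Spec (finSubCoconeIsColimit k Ω).op

theorem specDiagram_map {E E' : (FinSub k Ω)ᵒᵖ} (φ : E ⟶ E') :
    (specDiagram k Ω).map φ = Spec.map ((finSubFunctor k Ω).map φ.unop) := rfl

theorem specCone_π (E : (FinSub k Ω)ᵒᵖ) :
    (specCone k Ω).π.app E = Spec.map (CommRingCat.ofHom (algebraMap E.unop.1 Ω)) := rfl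

/-- The structure maps of the diagram of spectra. -/
noncomputable def specDiagramβ :
    specDiagram k Ω ⟶ (Functor.const _).obj (Spec (CommRingCat.of k)) where
  app E := Spec.map (CommRingCat.ofHom (algebraMap k E.unop.1))
  naturality E E' φ := by
    have h : CommRingCat.ofHom (algebraMap k E'.unop.1) ≫ (finSubFunctor k Ω).map φ.unop =
        CommRingCat.ofHom (algebraMap k E.unop.1) := by
      ext x
      rfl
    refine Eq.trans ?_ (Category.comp_id _).symm
    exact (Spec.map_comp _ _).symm.trans (congrArg Spec.map h)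

theorem specCone_π_β (E : (FinSub k Ω)ᵒᵖ) :
    (specCone k Ω).π.app E ≫ (specDiagramβ k Ω).app E =
      Spec.map (CommRingCat.ofHom (algebraMap k Ω)) := by
  rw [specCone_π]
  show Spec.map _ ≫ Spec.map _ = _
  rw [← Spec.map_comp]
  congr 1

end FinSub

end Groth.Agent.H37
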