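import Mathlib

/-!
# The closed subscheme of sections whose germs vanish along a closed set

For a subset `C` of a scheme `X` we consider the largest quasi-coherent ideal sheaf contained in
the family of ideals `{a ∈ Γ(X, U) | the germ of a vanishes at every point of C ∩ U}`.  If `C` is an
intersection of open and closed subsets, the corresponding closed subscheme has underlying set `C`
and its inclusion is flat; every morphism with set-theoretic image in `C` factors through it.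
-/

set_option autoImplicit false
universe u
open CategoryTheory CategoryTheory.Limits AlgebraicGeometry TopologicalSpace

namespace Groth.Agent.H37

variable {X : Scheme.{u}}

/-- the ideal of sections whose germs vanish along `C` -/
noncomputable def germIdeal (C : Set X) (U : X.affineOpens) : Ideal Γ(X, U.1) :=
  ⨅ (x : {x : X // x ∈ U.1 ∧ x ∈ C}), RingHom.ker (X.presheaf.germ U.1 x.1 x.2.1).hom

lemma mem_germIdeal {C : Set X} {U : X.affineOpens} {a : Γ(X, U.1)} :
    a ∈ germIdeal C U ↔ ∀ x (hx : x ∈ U.1), x ∈ C → X.presheaf.germ U.1 x hx a = 0 := by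
  unfold germIdeal
  rw [Ideal.mem_iInf]
  constructor
  · intro h x hx hxC; exact RingHom.mem_ker.mp (h ⟨x, hx, hxC⟩)
  · intro h x; exact RingHom.mem_ker.mpr (h x.1 x.2.1 x.2.2)

/-- the ideal sheaf of sections whose germs vanish along `C` -/
noncomputable def germSheaf (C : Set X) : X.IdealSheafData :=
  Scheme.IdealSheafData.ofIdeals (germIdeal C)

lemma germ_eq_zero_of_mem_germSheaf {C : Set X} {U : X.affineOpens} {a : Γ(X, U.1)}
    (ha : a ∈ (germSheaf C).ideal U) (x : X) (hx : x ∈ U.1) (hxC : x ∈ C) :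
    X.presheaf.germ U.1 x hx a = 0 :=
  mem_germIdeal.mp (Scheme.IdealSheafData.ideal_ofIdeals_le _ U ha) x hx hxC

lemma subset_support_germSheaf (C : Set X) : C ⊆ ((germSheaf C).support : Set X) := by
  intro x hxC
  rw [SetLike.mem_coe, Scheme.IdealSheafData.mem_support_iff]
  intro U
  rw [Scheme.mem_zeroLocus_iff]
  intro a ha hxa
  have hxU : x ∈ U.1 := X.basicOpen_le a hxa
  have h0 := germ_eq_zero_of_mem_germSheaf ha x hxU hxC
  rw [Scheme.mem_basicOpen X a x hxU, h0] at hxa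
  exact not_isUnit_zero hxa

lemma quasiCompact_ι_of_isClosed (T : X.Opens) (hT : IsClosed (T : Set X)) :
    QuasiCompact T.ι := by
  refine ⟨fun K _ hK => ?_⟩
  exact (hT.isClosedEmbedding_subtypeVal).isCompact_preimage hK

lemma support_germSheaf_subset (C : Set X) (T : X.Opens) (hT : IsClosed (T : Set X))
    (hCT : C ⊆ (T : Set X)) : ((germSheaf C).support : Set X) ⊆ (T : Set X) := by
  haveI := quasiCompact_ι_of_isClosed T hT
  have hle : T.ι.ker ≤ germSheaf C := by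
    rw [germSheaf, Scheme.IdealSheafData.le_ofIdeals_iff]
    intro U a ha
    have ha' : (T.ι.app U.1).hom a = 0 := RingHom.mem_ker.mp (T.ι.ideal_ker_le U ha)
    rw [mem_germIdeal]
    intro x hx hxC
    have hxT : x ∈ T.ι ''ᵁ T.ι ⁻¹ᵁ U.1 := ⟨⟨x, hCT hxC⟩, hx, rfl⟩
    have h1 := TopCat.Presheaf.germ_res_apply X.presheaf
      (homOfLE (x := T.ι ''ᵁ T.ι ⁻¹ᵁ U.1) (Set.image_preimage_subset _ _)) x hxT a
    rw [← h1]
    have e : X.presheaf.map
        (homOfLE (x := T.ι ''ᵁ T.ι ⁻¹ᵁ U.1) (Set.image_preimage_subset _ _)).op a = 0 := ha'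
    rw [e, map_zero]
  have h1 := Scheme.IdealSheafData.support_antitone hle
  have h2 : (T.ι.ker.support : Set X) = closure (Set.range T.ι) := T.ι.support_ker
  intro x hx
  have hx' : x ∈ (T.ι.ker.support : Set X) := h1 hx
  rw [h2, Scheme.Opens.range_ι, hT.closure_eq] at hx'
  exact hx'

lemma germSheaf_le_ker {Y : Scheme.{u}} (C : Set X) (g : Y ⟶ X) (hg : ∀ y, g y ∈ C) :
    germSheaf C ≤ g.ker := by
  refine Scheme.IdealSheafData.ofIdeals_mono ?_
  intro U a ha
  rw [mem_germIdeal] at ha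
  rw [RingHom.mem_ker]
  apply TopCat.Presheaf.section_ext Y.sheaf (g ⁻¹ᵁ U.1)
  intro y hy
  have h1 := Scheme.Hom.germ_stalkMap_apply g U.1 y hy a
  have h2 := ha (g y) hy (hg y)
  rw [h2, map_zero] at h1
  exact h1.symm.trans (map_zero _).symm

/-- A closed subscheme all of whose defining sections have vanishing germs along its support
is flat over the ambient scheme. -/
theorem flat_subschemeι_of_germ_vanish (𝓘 : X.IdealSheafData)
    (h : ∀ (U : X.affineOpens) (a : Γ(X, U.1)), a ∈ 𝓘.ideal U → ∀ x (hx : x ∈ U.1),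
      x ∈ (𝓘.support : Set X) → X.presheaf.germ U.1 x hx a = 0) :
    Flat 𝓘.subschemeι := by
  apply Flat.of_stalkMap
  intro w
  apply RingHom.Flat.of_bijective
  refine ⟨?_, 𝓘.subschemeι.stalkMap_surjective w⟩
  rw [injective_iff_map_eq_zero]
  intro α hα
  have hxs : 𝓘.subschemeι w ∈ (𝓘.support : Set X) := by
    rw [← 𝓘.range_subschemeι]; exact ⟨w, rfl⟩
  obtain ⟨U₀, hxU₀, a₀, ha₀⟩ := X.presheaf.exists_germ_eq α
  obtain ⟨U', hU', hxU', hU'U₀⟩ :=
    exists_isAffineOpen_mem_and_subset (x := 𝓘.subschemeι w) (U := U₀) hxU₀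
  obtain ⟨U, hUdef⟩ : ∃ U : X.affineOpens, U = ⟨U', hU'⟩ := ⟨_, rfl⟩
  have hxU : 𝓘.subschemeι w ∈ U.1 := by rw [hUdef]; exact hxU'
  have hUU₀ : U.1 ≤ U₀ := by rw [hUdef]; exact hU'U₀
  obtain ⟨a, ha⟩ : ∃ a : Γ(X, U.1), a = X.presheaf.map (homOfLE hUU₀).op a₀ := ⟨_, rfl⟩
  have hαa : X.presheaf.germ U.1 (𝓘.subschemeι w) hxU a = α := by
    rw [ha, TopCat.Presheaf.germ_res_apply]; exact ha₀
  rw [← hαa] at hα ⊢
  rw [Scheme.Hom.germ_stalkMap_apply] at hα
  have hα' : 𝓘.subscheme.presheaf.germ (𝓘.subschemeι ⁻¹ᵁ U.1) w hxU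
      (𝓘.subschemeι.app U.1 a) =
      𝓘.subscheme.presheaf.germ (𝓘.subschemeι ⁻¹ᵁ U.1) w hxU 0 := by
    rw [hα, map_zero]
  obtain ⟨V', hwV', i₁, i₂, hres⟩ :=
    𝓘.subscheme.presheaf.germ_eq w hxU hxU _ _ hα'
  rw [map_zero] at hres
  obtain ⟨V'', hV''o, hV''⟩ :=
    𝓘.subschemeι.isEmbedding.isInducing.isOpen_iff.mp V'.isOpen
  have hmemV'' : ∀ z, 𝓘.subschemeι z ∈ V'' → z ∈ V' := by
    intro z hz
    have h1 : z ∈ ⇑𝓘.subschemeι ⁻¹' V'' := hz
    rw [hV''] at h1; exact h1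
  have hxV'' : 𝓘.subschemeι w ∈ V'' := by
    have h1 : w ∈ ⇑𝓘.subschemeι ⁻¹' V'' := by rw [hV'']; exact hwV'
    exact h1
  obtain ⟨f, hfle, hxf⟩ := U.2.exists_basicOpen_le (V := ⟨V'', hV''o⟩)
    ⟨𝓘.subschemeι w, hxV''⟩ hxU
  have hDU : X.basicOpen f ≤ U.1 := X.basicOpen_le f
  obtain ⟨aD, haD⟩ : ∃ aD : Γ(X, X.basicOpen f), aD = X.presheaf.map (homOfLE hDU).op a :=
    ⟨_, rfl⟩
  have hkey : 𝓘.subschemeι.app (X.basicOpen f) aD = 0 := by
    apply TopCat.Presheaf.section_ext 𝓘.subscheme.sheaf (𝓘.subschemeι ⁻¹ᵁ X.basicOpen f)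
    intro z hz
    refine Eq.trans ?_ (map_zero _).symm
    have hzV' : z ∈ V' := hmemV'' z (hfle hz)
    have hzU : 𝓘.subschemeι z ∈ U.1 := hDU hz
    have e1 := Scheme.Hom.germ_stalkMap_apply 𝓘.subschemeι (X.basicOpen f) z hz aD
    have e2 := Scheme.Hom.germ_stalkMap_apply 𝓘.subschemeι U.1 z hzU a
    have e3 : X.presheaf.germ (X.basicOpen f) (𝓘.subschemeι z) hz aD =
        X.presheaf.germ U.1 (𝓘.subschemeι z) hzU a := by
      rw [haD]
      exact TopCat.Presheaf.germ_res_apply X.presheaf (homOfLE hDU) (𝓘.subschemeι z) hz a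
    have e4 := TopCat.Presheaf.germ_res_apply 𝓘.subscheme.presheaf i₁ z hzV'
      (𝓘.subschemeι.app U.1 a)
    rw [hres, map_zero] at e4
    rw [e3, e2] at e1
    exact e1.symm.trans e4.symm
  have hmem : aD ∈ 𝓘.ideal (X.affineBasicOpen f) := by
    rw [← 𝓘.ker_subschemeι_app (X.affineBasicOpen f)]
    exact RingHom.mem_ker.mpr hkey
  have h0 := h (X.affineBasicOpen f) aD hmem (𝓘.subschemeι w) hxf hxs
  rw [haD] at h0
  exact (TopCat.Presheaf.germ_res_apply X.presheaf (homOfLE hDU) (𝓘.subschemeι w) hxf a).symm.trans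
    h0

end Groth.Agent.H37
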