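import Groth.Agent.H37.GrpdConn

/-!
# Groupoid schemes over a field: the identity component is an intersection of open and closed sets
-/

set_option autoImplicit false
universe u
open CategoryTheory CategoryTheory.Limits AlgebraicGeometry
open Grpd

namespace Groth.Agent.H37

open GrpdCalc

variable {S : Scheme.{u}} (G : Grpd.GroupoidScheme S)

/-- For quasi-separated `R`, a point outside the irreducible component `Z₀` through an identity
is separated from `Z₀` by an open and closed subset. -/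
theorem exists_isClopen_of_not_mem_idComp [QuasiSeparatedSpace G.R] (k : Type u) [Field k]
    (eU : G.U ≅ Spec (CommRingCat.of k))
    (Z₀ : Set G.R) (hZ₀ : Z₀ ∈ irreducibleComponents G.R) (u₀ : G.U) (he : G.e u₀ ∈ Z₀)
    (x : G.R) (hxZ₀ : x ∉ Z₀) :
    ∃ T : Set G.R, IsClopen T ∧ Z₀ ⊆ T ∧ x ∉ T := by
  haveI : Subsingleton G.U := (integral_subsingleton_of_iso_spec_field k eU).2
  haveI : IsAffine G.U := IsAffine.of_isIso eU.hom
  obtain ⟨Z', hZ', hxZ'⟩ : ∃ Z' ∈ irreducibleComponents G.R, x ∈ Z' :=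
    ⟨irreducibleComponent x, irreducibleComponent_mem_irreducibleComponents x,
      mem_irreducibleComponent⟩
  have hdisj : ∀ y ∈ Z₀, y ∉ Z' := by
    intro y hy hy'
    have h := grpd_unique_component G k eU y Z₀ Z' hZ₀ hZ' hy hy'
    exact hxZ₀ (h ▸ hxZ')
  have hZ'cl := isClosed_of_mem_irreducibleComponents Z' hZ'
  have hZ₀c := isCompact_idComp G k eU Z₀ hZ₀ u₀ he
  have hex : ∀ z : G.R, ∃ V : G.R.Opens,
      z ∈ Z₀ → IsAffineOpen V ∧ z ∈ V ∧ (V : Set G.R) ⊆ Z'ᶜ := by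
    intro z
    by_cases hz : z ∈ Z₀
    · obtain ⟨V, h1, h2, h3⟩ := exists_isAffineOpen_mem_and_subset (x := z)
        (U := ⟨Z'ᶜ, hZ'cl.isOpen_compl⟩) (hdisj z hz)
      exact ⟨V, fun _ => ⟨h1, h2, h3⟩⟩
    · exact ⟨⊤, fun h => absurd h hz⟩
  choose V hV using hex
  obtain ⟨t, ht, hcov⟩ := hZ₀c.elim_nhds_subcover (fun z => (V z : Set G.R))
    (fun z hz => (V z).isOpen.mem_nhds (hV z hz).2.1)
  obtain ⟨Uo, hUo⟩ : ∃ Uo : G.R.Opens, (Uo : Set G.R) = ⋃ z ∈ t, (V z : Set G.R) :=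
    ⟨⟨_, isOpen_biUnion (fun z _ => (V z).isOpen)⟩, rfl⟩
  have hUoc : IsCompact (Uo : Set G.R) := by
    rw [hUo]; exact t.isCompact_biUnion (fun z hz => (hV z (ht z hz)).1.isCompact)
  have hUoZ' : ∀ y ∈ Uo, y ∉ Z' := by
    intro y hy hy'
    have hy2 : y ∈ (Uo : Set G.R) := hy
    rw [hUo] at hy2
    simp only [Set.mem_iUnion] at hy2
    obtain ⟨z, hz, hyz⟩ := hy2
    exact (hV z (ht z hz)).2.2 hyz hy'
  have hZ₀Uo : Z₀ ⊆ (Uo : Set G.R) := by rw [hUo]; exact hcov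
  obtain ⟨W₀, ι₀, hι₀, hr₀, hirr₀, -, -⟩ := exists_idComp_immersion G k eU Z₀ hZ₀ u₀ he
  haveI := hι₀
  have hsat := range_satMap G k eU Z₀ hZ₀ u₀ he ι₀ hr₀ Uo
  have hopen := isOpen_range_satMap G k eU ι₀ Uo
  haveI hW₀c : CompactSpace W₀ := by
    rw [← isCompact_univ_iff, ι₀.isEmbedding.isCompact_iff, Set.image_univ, hr₀]; exact hZ₀c
  haveI : CompactSpace ↥(Uo.toScheme) := isCompact_iff_compactSpace.mp hUoc
  haveI : QuasiCompact (ι₀ ≫ G.s) :=
    (HasAffineProperty.iff_of_isAffine (P := @QuasiCompact)).mpr hW₀c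
  haveI : CompactSpace ↥(pullback (ι₀ ≫ G.s) (Uo.ι ≫ G.t)) := inferInstance
  have hcpt : IsCompact (Set.range ⇑(satMap G ι₀ Uo)) :=
    isCompact_range (satMap G ι₀ Uo).continuous
  have hspec : StableUnderSpecialization (Set.range ⇑(satMap G ι₀ Uo)) := by
    intro a b hab ha
    rw [hsat] at ha ⊢
    obtain ⟨r, hr, Z, hZ, hrZ, haZ⟩ := ha
    exact ⟨r, hr, Z, hZ, hrZ,
      (isClosed_of_mem_irreducibleComponents Z hZ).stableUnderSpecialization hab haZ⟩
  have hclosed : IsClosed (Set.range ⇑(satMap G ι₀ Uo)) := by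
    obtain ⟨Wo, hWo⟩ : ∃ Wo : G.R.Opens, (Wo : Set G.R) = Set.range ⇑(satMap G ι₀ Uo) :=
      ⟨⟨_, hopen⟩, rfl⟩
    haveI : CompactSpace ↥(Wo.toScheme) :=
      isCompact_iff_compactSpace.mp (by rw [hWo]; exact hcpt)
    haveI : QuasiCompact Wo.ι := quasiCompact_of_compactSpace _
    have hsm : SpecializingMap ⇑Wo.ι := by
      apply Wo.ι.isOpenEmbedding.isInducing.specializingMap
      rw [Scheme.Opens.range_ι, hWo]; exact hspec
    have hcm := (isClosedMap_iff_specializingMap Wo.ι).mpr hsm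
    have h := hcm.isClosed_range
    rwa [Scheme.Opens.range_ι, hWo] at h
  have hclopen : IsClopen (Set.range ⇑(satMap G ι₀ Uo)) := ⟨hclosed, hopen⟩
  refine ⟨Set.range ⇑(satMap G ι₀ Uo), hclopen, ?_, ?_⟩
  · intro z hz
    rw [hsat]
    exact ⟨z, hZ₀Uo hz, Z₀, hZ₀, hz, hz⟩
  · intro hxW
    rw [hsat] at hxW
    obtain ⟨r, hr, Z, hZ, hrZ, hxZ⟩ := hxW
    have h := grpd_unique_component G k eU x Z Z' hZ hZ' hxZ hxZ'
    exact hUoZ' r hr (h ▸ hrZ)

end Groth.Agent.H37
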