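import Groth.Agent.H37.GrpConn
import Groth.Agent.H37.GrpdConn2
import Groth.Agent.H37.FlatClosed
import Groth.Agent.H30.ShQuot2

/-!
# The identity component of a group scheme over a field as a flat closed subgroup scheme
-/

set_option autoImplicit false
universe u
open CategoryTheory CategoryTheory.Limits AlgebraicGeometry MonoidalCategory
  CartesianMonoidalCategory
open scoped MonObj

namespace Groth.Agent.H37

variable (K : Type u) [Field K] (G : Over (Spec (CommRingCat.of K))) [GrpObj G]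

theorem exists_identityComponent :
    ∃ (G₀ : Over (Spec (CommRingCat.of K))) (_ : GrpObj G₀) (incl : G₀ ⟶ G)
      (_ : IsMonHom incl),
      IsClosedImmersion incl.left ∧ Flat incl.left ∧
      Set.range ⇑incl.left = connectedComponent (η[G].left (IsLocalRing.closedPoint K)) ∧
      GeometricallyIrreducible G₀.hom ∧ CompactSpace ↥G₀.left := by
  obtain ⟨hCeq, hCc⟩ := grp_connectedComponent_one K G
  obtain ⟨e₀, he₀⟩ : ∃ e₀, e₀ = η[G].left (IsLocalRing.closedPoint K) := ⟨_, rfl⟩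
  rw [← he₀] at hCeq hCc ⊢
  obtain ⟨C, hC⟩ : ∃ C, C = connectedComponent e₀ := ⟨_, rfl⟩
  rw [← hC] at hCeq ⊢
  have hZ₀ : C ∈ irreducibleComponents ↥G.left := by
    rw [hCeq]; exact irreducibleComponent_mem_irreducibleComponents _
  have heC : e₀ ∈ C := by rw [hC]; exact mem_connectedComponent
  have heC' : η[G].left (IsLocalRing.closedPoint K) ∈ C := he₀ ▸ heC
  have hCcpt : IsCompact C := by rw [hCeq]; exact hCc
  haveI hqs : QuasiSeparatedSpace (GrpObjGrpd.ofGrpObj G).R :=
    quasiSeparatedSpace_of_grpObj_field K G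
  have hsupp : ((germSheaf C).support : Set G.left) = C := by
    apply Set.Subset.antisymm
    · intro x hx
      by_contra hxC
      obtain ⟨T, hT, hCT, hxT⟩ := exists_isClopen_of_not_mem_idComp (GrpObjGrpd.ofGrpObj G) K
        (Iso.refl _) C hZ₀ (IsLocalRing.closedPoint K) heC' x hxC
      exact hxT (support_germSheaf_subset C ⟨T, hT.2⟩ hT.1 hCT hx)
    · exact subset_support_germSheaf C
  obtain ⟨W₀, jj, hcl, hflat, hrange, hlift⟩ : ∃ (W₀ : Scheme.{u}) (jj : W₀ ⟶ G.left),
      IsClosedImmersion jj ∧ Flat jj ∧ Set.range ⇑jj = C ∧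
      ∀ {Y : Scheme.{u}} (g : Y ⟶ G.left), (∀ y, g y ∈ C) → ∃ g' : Y ⟶ W₀, g' ≫ jj = g := by
    refine ⟨(germSheaf C).subscheme, (germSheaf C).subschemeι, inferInstance, ?_, ?_, ?_⟩
    · exact flat_subschemeι_of_germ_vanish _ (fun U a ha x hx hxs =>
        germ_eq_zero_of_mem_germSheaf ha x hx (hsupp ▸ hxs))
    · rw [Scheme.IdealSheafData.range_subschemeι, hsupp]
    · intro Y g hg
      have H : (germSheaf C).subschemeι.ker ≤ g.ker := by
        rw [Scheme.IdealSheafData.ker_subschemeι]; exact germSheaf_le_ker C g hg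
      exact ⟨IsClosedImmersion.lift _ g H, IsClosedImmersion.lift_fac _ g H⟩
  haveI := hcl
  haveI hirr : IrreducibleSpace W₀ :=
    (irreducibleSpace_iff_of_range jj.isEmbedding hrange).mpr hZ₀.1
  have hcpt : CompactSpace W₀ := by
    rw [← isCompact_univ_iff, jj.isEmbedding.isCompact_iff, Set.image_univ, hrange]; exact hCcpt
  have hgi : GeometricallyIrreducible (jj ≫ G.hom) := by
    have hZr : Set.range ⇑jj ∈ irreducibleComponents ↥G.left := by rw [hrange]; exact hZ₀
    have her : η[G].left (IsLocalRing.closedPoint K) ∈ Set.range ⇑jj := by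
      rw [hrange]; exact heC'
    have h := @grpd_geomIrr_s _ (GrpObjGrpd.ofGrpObj G) K _ (Iso.refl _) W₀ jj hcl
      hZr (IsLocalRing.closedPoint K) her
    have e : jj ≫ (GrpObjGrpd.ofGrpObj G).s ≫ (Iso.refl (Spec (CommRingCat.of K))).hom =
        jj ≫ G.hom := by
      show jj ≫ G.hom ≫ 𝟙 _ = jj ≫ G.hom
      rw [Category.comp_id]
    rw [← e]; exact h
  -- the inclusion in `Over`
  obtain ⟨a, ha⟩ : ∃ a : Over.mk (jj ≫ G.hom) ⟶ G, a.left = jj := ⟨Over.homMk jj rfl, rfl⟩
  haveI hmono : Mono a := by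
    haveI : Mono a.left := by rw [ha]; infer_instance
    exact Over.mono_of_mono_left a
  have hmemC : ∀ w : W₀, jj w ∈ C := fun w => by rw [← hrange]; exact ⟨w, rfl⟩
  have hlift' : ∀ {T : Over (Spec (CommRingCat.of K))} (m : T ⟶ G), (∀ p, m.left p ∈ C) →
      ∃ z : T ⟶ Over.mk (jj ≫ G.hom), z ≫ a = m := by
    intro T m hm
    obtain ⟨g', hg'⟩ := hlift m.left hm
    refine ⟨Over.homMk g' ?_, ?_⟩
    · show g' ≫ jj ≫ G.hom = T.hom
      rw [← Category.assoc, hg']; exact Over.w m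
    · ext
      show g' ≫ a.left = m.left
      rw [ha]; exact hg'
  have hinvC : ∀ c ∈ C, ι[G].left c ∈ C := by
    intro c hc
    have hpre : _root_.IsPreconnected (⇑ι[G].left '' C) := by
      rw [hC]
      exact (isPreconnected_connectedComponent).image _ ι[G].left.continuous.continuousOn
    have hfix : ι[G].left e₀ = e₀ := by
      rw [he₀, ← Scheme.Hom.comp_apply]
      exact congrArg (fun φ : (𝟙_ (Over (Spec (CommRingCat.of K)))).left ⟶ G.left =>
        φ (IsLocalRing.closedPoint K)) (GrpdRst.e_i (GrpObjGrpd.ofGrpObj G))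
    have hmem : e₀ ∈ ⇑ι[G].left '' C := ⟨e₀, heC, hfix⟩
    have hsub := hpre.subset_connectedComponent hmem
    rw [← hC] at hsub
    exact hsub ⟨c, hc, rfl⟩
  have hmul : ∀ {T : Over (Spec (CommRingCat.of K))} (x y : T ⟶ Over.mk (jj ≫ G.hom)),
      ∃ z : T ⟶ Over.mk (jj ≫ G.hom), z ≫ a = (x ≫ a) * (y ≫ a) := by
    intro T x y
    apply hlift'
    intro p
    have hcond : (x.left ≫ a.left) ≫ G.hom = (y.left ≫ a.left) ≫ G.hom :=
      (Over.w (x ≫ a)).trans (Over.w (y ≫ a)).symm
    have hm : ((x ≫ a) * (y ≫ a)).left =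
        pullback.lift (x.left ≫ a.left) (y.left ≫ a.left) hcond ≫ μ[G].left := rfl
    rw [hm, Scheme.Hom.comp_apply]
    refine idComp_mul_mem (GrpObjGrpd.ofGrpObj G) K (Iso.refl _) C hZ₀
      (IsLocalRing.closedPoint K) heC' C hZ₀ _ ?_ ?_
    · show pullback.fst G.hom G.hom
        (pullback.lift (x.left ≫ a.left) (y.left ≫ a.left) hcond p) ∈ C
      rw [← Scheme.Hom.comp_apply, pullback.lift_fst, Scheme.Hom.comp_apply, ha]
      exact hmemC _
    · show pullback.snd G.hom G.hom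
        (pullback.lift (x.left ≫ a.left) (y.left ≫ a.left) hcond p) ∈ C
      rw [← Scheme.Hom.comp_apply, pullback.lift_snd, Scheme.Hom.comp_apply, ha]
      exact hmemC _
  have hinv : ∀ {T : Over (Spec (CommRingCat.of K))} (x : T ⟶ Over.mk (jj ≫ G.hom)),
      ∃ z : T ⟶ Over.mk (jj ≫ G.hom), z ≫ a = (x ≫ a)⁻¹ := by
    intro T x
    apply hlift'
    intro p
    have hm : ((x ≫ a)⁻¹).left = (x.left ≫ a.left) ≫ ι[G].left := rfl
    rw [hm, Scheme.Hom.comp_apply]
    apply hinvC
    rw [Scheme.Hom.comp_apply, ha]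
    exact hmemC _
  have hone : ∃ e : 𝟙_ (Over (Spec (CommRingCat.of K))) ⟶ Over.mk (jj ≫ G.hom),
      e ≫ a = η[G] := by
    apply hlift'
    intro p
    have hp : η[G].left p = e₀ := by
      rw [he₀]
      exact congrArg _ (Subsingleton.elim (α := PrimeSpectrum K) _ _)
    rw [hp]; exact heC
  obtain ⟨str, hstr⟩ := Groth.Agent.H30.ShQuot.exists_grpObj_of_closed a hmul hinv hone
  refine ⟨Over.mk (jj ≫ G.hom), str, a, hstr, ?_, ?_, ?_, hgi, hcpt⟩
  · rw [ha]; exact hcl
  · rw [ha]; exact hflat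
  · rw [ha]; exact hrange

end Groth.Agent.H37
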