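import Mathlib
import Groth.Prelude.Def_AlgGrp
import Groth.Agent.H37.GrpIdComp
import Groth.Agent.S8033
import Groth.Agent.H63.Pi0Glob

/-!
# (P1) for S6089: an open homomorphism maps the neutral component onto the neutral component
(helper37, for helper63's squad)
-/

set_option autoImplicit false
set_option linter.style.haveILetI false
universe u
open CategoryTheory CategoryTheory.Limits AlgebraicGeometry MonoidalCategory
  CartesianMonoidalCategory MonObj GrpObj

namespace Groth.Agent.H37.FlatHomP1

variable {k : Type u} [Field k]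

set_option backward.isDefEq.respectTransparency.types false in
/-- the range of a homomorphism with open range is closed -/
theorem isClosed_range_of_isOpen_range
    (G G₀ : Over (Spec (CommRingCat.of k))) [GrpObj G] [GrpObj G₀]
    (i₀ : G₀ ⟶ G) [IsMonHom i₀] (hopen : IsOpen (Set.range ⇑i₀.left)) :
    IsClosed (Set.range ⇑i₀.left) := by
  obtain ⟨S, hS⟩ : ∃ S : G.left.Opens, (S : Set G.left) = Set.range ⇑i₀.left :=
    ⟨⟨Set.range ⇑i₀.left, hopen⟩, rfl⟩
  have hsymm : ∀ x, x ∈ S → ι[G].left x ∈ S := by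
    intro x hx
    rw [← SetLike.mem_coe, hS] at hx ⊢
    obtain ⟨y, rfl⟩ := hx
    exact ⟨ι[G₀].left y, Groth.Agent.S8033.pt' _ _ _ (GrpObj.inv_hom i₀) y⟩
  have he : η[G].left (IsLocalRing.closedPoint k) ∈ S := by
    rw [← SetLike.mem_coe, hS]
    exact ⟨η[G₀].left (IsLocalRing.closedPoint k),
      Groth.Agent.S8033.pt' _ _ _ (IsMonHom.one_hom (f := i₀)) (IsLocalRing.closedPoint k)⟩
  have hmul : Groth.Agent.H93.GrpOpen.mulSet G (S : Set G.left) (S : Set G.left) ⊆
      (S : Set G.left) := by
    have h1 := Groth.Agent.H93.GrpOpen.range_tensorHom_mul G i₀ i₀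
    rw [← IsMonHom.mul_hom] at h1
    rw [hS]
    intro x hx
    have hx' : x ∈ Set.range ⇑(μ[G₀] ≫ i₀).left := by rw [h1]; exact hx
    obtain ⟨p, rfl⟩ := hx'
    exact ⟨μ[G₀].left p, rfl⟩
  rw [← hS]
  refine closure_subset_iff_isClosed.mp ?_
  intro g hg
  exact hmul (Groth.Agent.H93.GrpOpen.mem_mulSet_of_closure G hsymm he hg)

/-- (P1) an open homomorphism maps the neutral component onto the neutral component -/
theorem connectedComponent_subset_image {F G : Over (Spec (CommRingCat.of k))} [GrpObj F]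
    [GrpObj G] [LocallyOfFiniteType F.hom] (u : F ⟶ G) [IsMonHom u]
    (hu : IsOpenMap u.left.base)
    (p₀ : (𝟙_ (Over (Spec (CommRingCat.of k)))).left) :
    connectedComponent ((η[G] : 𝟙_ (Over (Spec (CommRingCat.of k))) ⟶ G).left.base p₀) ⊆
      u.left.base '' connectedComponent
        ((η[F] : 𝟙_ (Over (Spec (CommRingCat.of k))) ⟶ F).left.base p₀) := by
  obtain rfl : p₀ = IsLocalRing.closedPoint k := Subsingleton.elim (α := PrimeSpectrum k) _ _
  obtain ⟨F₀, hgF₀, incl, hincl, -, -, hrange, -, -⟩ :=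
    Groth.Agent.H37.exists_identityComponent k F
  haveI : IsLocallyNoetherian F.left := LocallyOfFiniteType.isLocallyNoetherian F.hom
  haveI : LocallyConnectedSpace F.left :=
    Groth.Agent.H63.Pi0.locallyConnectedSpace_of_isLocallyNoetherian F.left
  have hr : Set.range ⇑(incl ≫ u).left = ⇑u.left ''
      connectedComponent (η[F].left (IsLocalRing.closedPoint k)) := by
    rw [Over.comp_left, Groth.Agent.H93.GrpOpen.range_comp', hrange]
  have hopen : IsOpen (Set.range ⇑(incl ≫ u).left) := by
    rw [hr]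
    exact hu _ isOpen_connectedComponent
  have hclosed := isClosed_range_of_isOpen_range G F₀ (incl ≫ u) hopen
  have hmem : η[G].left (IsLocalRing.closedPoint k) ∈ Set.range ⇑(incl ≫ u).left :=
    ⟨η[F₀].left (IsLocalRing.closedPoint k),
      Groth.Agent.S8033.pt' _ _ _ (IsMonHom.one_hom (f := incl ≫ u)) (IsLocalRing.closedPoint k)⟩
  have hsub := IsClopen.connectedComponent_subset ⟨hclosed, hopen⟩ hmem
  rw [hr] at hsub
  exact hsub

end Groth.Agent.H37.FlatHomP1
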