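import Mathlib
import Groth.Prelude.Def_AlgGrp
import Groth.Agent.H37.GrpConn
import Groth.Agent.S8033
import Groth.Agent.H63.HomArtRed
import Groth.Agent.H93.FlatOpenRange

/-!
# (P2) for S6089: the homomorphism induced on reduced subgroups is flat when `u(F⁰)` is dense
in `G⁰` (helper37, for helper63's squad)
-/

set_option autoImplicit false
set_option linter.style.haveILetI false
universe u
open CategoryTheory CategoryTheory.Limits AlgebraicGeometry MonoidalCategory
  CartesianMonoidalCategory MonObj GrpObj

namespace Groth.Agent.H37.FlatHomP2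

variable {k : Type u} [Field k]

/-- a closed surjective immersion pulls an irreducible component with generic point `b ξ` back to
an irreducible component with generic point `ξ` -/
theorem closure_mem_irreducibleComponents_of_embedding {A B : Type*} [TopologicalSpace A]
    [TopologicalSpace B] (b : A → B) (hb : Topology.IsEmbedding b) (ξ : A)
    (h : closure {b ξ} ∈ irreducibleComponents B) :
    closure {ξ} ∈ irreducibleComponents A := by
  refine ⟨isIrreducible_singleton.closure, fun Z hZ hle z hz => ?_⟩
  have hirr : IsIrreducible (closure (b '' Z)) := (hZ.image b hb.continuous.continuousOn).closure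
  have hξZ : ξ ∈ Z := hle (subset_closure (Set.mem_singleton ξ))
  have h1 : closure {b ξ} ≤ closure (b '' Z) :=
    closure_mono (Set.singleton_subset_iff.mpr (Set.mem_image_of_mem b hξZ))
  have h2 : closure (b '' Z) ≤ closure {b ξ} := h.2 hirr h1
  have h3 : b z ∈ closure {b ξ} := h2 (subset_closure (Set.mem_image_of_mem b hz))
  rw [hb.closure_eq_preimage_closure_image, Set.image_singleton]
  exact h3

set_option backward.isDefEq.respectTransparency.types false in
/-- (P2) -/
theorem exists_flat_reduced_hom {F G F' G' : Over (Spec (CommRingCat.of k))} [GrpObj F]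
    [GrpObj G] [GrpObj F'] [GrpObj G'] [LocallyOfFiniteType F.hom] [LocallyOfFiniteType G.hom]
    (u : F ⟶ G) [IsMonHom u]
    [IsReduced F'.left] (a : F' ⟶ F) [IsMonHom a] [IsClosedImmersion a.left] [Surjective a.left]
    [IsReduced G'.left] (b : G' ⟶ G) [IsMonHom b] [IsClosedImmersion b.left] [Surjective b.left]
    (p₀ : (𝟙_ (Over (Spec (CommRingCat.of k)))).left)
    (hc : connectedComponent ((η[G] : 𝟙_ (Over (Spec (CommRingCat.of k))) ⟶ G).left.base p₀) ⊆
      closure (u.left.base '' connectedComponent
        ((η[F] : 𝟙_ (Over (Spec (CommRingCat.of k))) ⟶ F).left.base p₀))) :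
    ∃ u' : F' ⟶ G', IsMonHom u' ∧ u' ≫ b = a ≫ u ∧ Flat u'.left := by
  obtain rfl : p₀ = IsLocalRing.closedPoint k := Subsingleton.elim (α := PrimeSpectrum k) _ _
  -- the lift
  obtain ⟨v₀, hv₀⟩ := Groth.Agent.H63.OrbitSmooth.exists_lift_immersion b.left
    (a.left ≫ u.left) (by
      intro x _
      exact (inferInstance : Surjective b.left).surj x)
  have hw : v₀ ≫ G'.hom = F'.hom := by
    rw [← Over.w b, ← Category.assoc, hv₀, Category.assoc, Over.w u, Over.w a]
  obtain ⟨v, hvl⟩ : ∃ v : F' ⟶ G', v.left = v₀ := ⟨Over.homMk v₀ hw, rfl⟩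
  have hv : v ≫ b = a ≫ u := by
    ext
    simp only [Over.comp_left]
    rw [hvl]
    exact hv₀
  haveI : Mono b.left := inferInstance
  haveI : Mono b := by
    constructor
    intro Z c d hcd
    ext
    rw [← cancel_mono b.left]
    have := congrArg CommaMorphism.left hcd
    simpa using this
  haveI : IsMonHom (v ≫ b) := by rw [hv]; infer_instance
  haveI : IsMonHom v := Groth.Agent.H63.HomArtRed.isMonHom_of_comp_mono v b
  refine ⟨v, inferInstance, hv, ?_⟩
  -- generic points of the neutral components
  obtain ⟨hccF, -⟩ := Groth.Agent.H37.grp_connectedComponent_one k F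
  obtain ⟨hccG, -⟩ := Groth.Agent.H37.grp_connectedComponent_one k G
  obtain ⟨ζF, hζF⟩ := QuasiSober.sober
    (isIrreducible_irreducibleComponent (x := η[F].left (IsLocalRing.closedPoint k)))
    isClosed_irreducibleComponent
  obtain ⟨ζG, hζG⟩ := QuasiSober.sober
    (isIrreducible_irreducibleComponent (x := η[G].left (IsLocalRing.closedPoint k)))
    isClosed_irreducibleComponent
  rw [← hccF] at hζF
  rw [← hccG] at hζG
  -- `hζF : IsGenericPoint ζF (connectedComponent e_F)`, i.e. `closure {ζF} = ...`
  have hue : u.left (η[F].left (IsLocalRing.closedPoint k)) =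
      η[G].left (IsLocalRing.closedPoint k) :=
    Groth.Agent.S8033.pt' _ _ _ (IsMonHom.one_hom (f := u)) (IsLocalRing.closedPoint k)
  have himg : ⇑u.left '' connectedComponent (η[F].left (IsLocalRing.closedPoint k)) ⊆
      connectedComponent (η[G].left (IsLocalRing.closedPoint k)) := by
    have h := u.left.continuous.image_connectedComponent_subset
      (η[F].left (IsLocalRing.closedPoint k))
    rwa [hue] at h
  have h1 : ζG ⤳ u.left ζF := by
    rw [specializes_iff_mem_closure, hζG.def]
    exact himg (Set.mem_image_of_mem _ hζF.mem)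
  have h2 : u.left ζF ⤳ ζG := by
    rw [specializes_iff_mem_closure]
    have hsub : closure (⇑u.left '' connectedComponent (η[F].left (IsLocalRing.closedPoint k))) ⊆
        closure {u.left ζF} := by
      refine closure_minimal ?_ isClosed_closure
      rw [← hζF.def]
      refine (image_closure_subset_closure_image u.left.continuous).trans ?_
      rw [Set.image_singleton]
    exact hsub (hc hζG.mem)
  have huζ : u.left ζF = ζG := (h2.antisymm h1).eq
  -- the points of `F'`, `G'` above
  obtain ⟨φ₀, hφ₀⟩ := (inferInstance : Surjective a.left).surj ζF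
  obtain ⟨ξ, hξ⟩ := (inferInstance : Surjective b.left).surj ζG
  have hbinj : Function.Injective ⇑b.left := b.left.isClosedEmbedding.injective
  have hmem : ξ ∈ Set.range ⇑v.left := by
    refine ⟨φ₀, hbinj ?_⟩
    have h3 := congrArg (fun ψ : F' ⟶ G => ψ.left φ₀) hv
    simp only [Over.comp_left, Scheme.Hom.comp_apply] at h3
    rw [h3, hφ₀, huζ, hξ]
  have hcomp : closure {b.left ξ} ∈ irreducibleComponents G.left := by
    rw [hξ, hζG.def, hccG]
    exact irreducibleComponent_mem_irreducibleComponents _
  have hξcomp : closure {ξ} ∈ irreducibleComponents G'.left :=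
    closure_mem_irreducibleComponents_of_embedding ⇑b.left
      b.left.isClosedEmbedding.isEmbedding ξ hcomp
  exact Groth.Agent.H93.FlatOpenRange.flat_left_of_isField' v ξ hmem
    (isField_stalk_of_closure_mem_irreducibleComponents G'.left ξ hξcomp)

end Groth.Agent.H37.FlatHomP2
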