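import Mathlib
import Groth.Prelude.Def_SGA1

/-! (GEO1) for helper79's S2920 squad: for a free action, the ideal generated by the
`σ_g b - b` is the unit ideal over every affine open of the quotient. -/

set_option autoImplicit false
universe u
open CategoryTheory CategoryTheory.Limits AlgebraicGeometry

namespace Groth.Agent.H37.FreeFlat_GEO1

/-- (GEO1) -/
theorem span_eq_top_of_free {X Y : Scheme.{u}} {G : Type u} [Group G] [Finite G] (ρ : G →* Aut X)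
    (p : X ⟶ Y) (hp : SGA1.IsQuot ρ p)
    (hfree : ∀ (K : Type u) [Field K] [IsAlgClosed K] (ξ : Spec (CommRingCat.of K) ⟶ X) (g : G),
      ξ ≫ (ρ g).hom = ξ → g = 1)
    (V : Y.Opens) (hV : IsAffineOpen V) (g : G) (hg : g ≠ 1) :
    Ideal.span (Set.range fun b : Γ(X, p ⁻¹ᵁ V) =>
      ((ρ g).hom.appLE (p ⁻¹ᵁ V) (p ⁻¹ᵁ V) (SGA1.preimage_le_of_inv ρ p hp.inv g V)).hom b - b) = ⊤ := by
  by_contra hI
  obtain ⟨m, hm, hIm⟩ := Ideal.exists_le_maximal _ hI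
  haveI := hm
  letI : Field (Γ(X, p ⁻¹ᵁ V) ⧸ m) := Ideal.Quotient.field m
  haveI : IsAffineHom p := hp.affine
  have hU : IsAffineOpen (p ⁻¹ᵁ V) := hV.preimage p
  have hle := SGA1.preimage_le_of_inv ρ p hp.inv g V
  have hσφ : (ρ g).hom.appLE (p ⁻¹ᵁ V) (p ⁻¹ᵁ V) hle ≫
      CommRingCat.ofHom ((algebraMap (Γ(X, p ⁻¹ᵁ V) ⧸ m)
        (AlgebraicClosure (Γ(X, p ⁻¹ᵁ V) ⧸ m))).comp (Ideal.Quotient.mk m)) =
      CommRingCat.ofHom ((algebraMap (Γ(X, p ⁻¹ᵁ V) ⧸ m)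
        (AlgebraicClosure (Γ(X, p ⁻¹ᵁ V) ⧸ m))).comp (Ideal.Quotient.mk m)) := by
    apply CommRingCat.hom_ext
    apply RingHom.ext
    intro b
    show algebraMap (Γ(X, p ⁻¹ᵁ V) ⧸ m) (AlgebraicClosure (Γ(X, p ⁻¹ᵁ V) ⧸ m))
        (Ideal.Quotient.mk m (((ρ g).hom.appLE (p ⁻¹ᵁ V) (p ⁻¹ᵁ V) hle).hom b)) =
      algebraMap (Γ(X, p ⁻¹ᵁ V) ⧸ m) (AlgebraicClosure (Γ(X, p ⁻¹ᵁ V) ⧸ m))
        (Ideal.Quotient.mk m b)
    congr 1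
    rw [← sub_eq_zero, ← map_sub]
    exact Ideal.Quotient.eq_zero_iff_mem.mpr (hIm (Ideal.subset_span ⟨b, rfl⟩))
  have hξ : (Spec.map (CommRingCat.ofHom ((algebraMap (Γ(X, p ⁻¹ᵁ V) ⧸ m)
        (AlgebraicClosure (Γ(X, p ⁻¹ᵁ V) ⧸ m))).comp (Ideal.Quotient.mk m))) ≫ hU.fromSpec) ≫
        (ρ g).hom =
      Spec.map (CommRingCat.ofHom ((algebraMap (Γ(X, p ⁻¹ᵁ V) ⧸ m)
        (AlgebraicClosure (Γ(X, p ⁻¹ᵁ V) ⧸ m))).comp (Ideal.Quotient.mk m))) ≫ hU.fromSpec := by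
    rw [Category.assoc, ← IsAffineOpen.SpecMap_appLE_fromSpec (ρ g).hom hU hU hle,
      ← Category.assoc, ← Spec.map_comp, hσφ]
  exact hg (hfree (AlgebraicClosure (Γ(X, p ⁻¹ᵁ V) ⧸ m)) _ g hξ)

end Groth.Agent.H37.FreeFlat_GEO1
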