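import Mathlib

/-!
# Groupoids in affine schemes with free source map: ring-level statements

For rings `A`, `B`, `B₂` with `s t : A → B`, `e : B → A`, `p₀ p₁ c : B → B₂` satisfying the
identities of a groupoid in affine schemes, if `B` is free over `A` (through `s`) with basis
`t (x i)` then `A` is free over the equalizer `C` of `s`, `t` with basis `x i` and `A ⊗[C] A ≃ B`.
-/

set_option autoImplicit false
universe u
open CategoryTheory TensorProduct

namespace Groth.Agent.H37.FreeGrpd

/-- Facts from a basis through a ring hom, in `letI`-free form. -/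
theorem basis_facts {A B : Type*} [CommRing A] [CommRing B] (s : A →+* B) {I : Type*}
    (v : I → B) (hb : letI := s.toAlgebra; ∃ b : Module.Basis I A B, ∀ i, b i = v i) :
    (∀ y : B, ∃ l : I →₀ A, y = ∑ i ∈ l.support, s (l i) * v i) ∧
    (∀ (F : Finset I) (g : I → A), ∑ i ∈ F, s (g i) * v i = 0 → ∀ i ∈ F, g i = 0) := by
  letI := s.toAlgebra
  obtain ⟨b, hb⟩ := hb
  have hsm : ∀ (a : A) (y : B), a • y = s a * y := fun a y => Algebra.smul_def a y
  constructor
  · intro y
    refine ⟨b.repr y, ?_⟩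
    have h1 := b.linearCombination_repr y
    rw [Finsupp.linearCombination_apply, Finsupp.sum] at h1
    refine h1.symm.trans (Finset.sum_congr rfl fun i _ => ?_)
    rw [hsm, hb]
  · intro F g hg i hi
    refine linearIndependent_iff'.mp b.linearIndependent F g ?_ i hi
    rw [← hg]
    refine Finset.sum_congr rfl fun j _ => ?_
    rw [hsm, hb]

/-- Linear independence through a ring hom, in `letI`-free form. -/
theorem li_facts {B B₂ : Type*} [CommRing B] [CommRing B₂] (p : B →+* B₂) {I : Type*}
    (w : I → B₂) (h : letI := p.toAlgebra; LinearIndependent B w) :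
    ∀ (F : Finset I) (g : I → B), ∑ i ∈ F, p (g i) * w i = 0 → ∀ i ∈ F, g i = 0 := by
  letI := p.toAlgebra
  have hsm : ∀ (a : B) (y : B₂), a • y = p a * y := fun a y => Algebra.smul_def a y
  intro F g hg i hi
  refine linearIndependent_iff'.mp h F g ?_ i hi
  rw [← hg]
  refine Finset.sum_congr rfl fun j _ => ?_
  rw [hsm]

/-- Base change of a basis along a pushout square of commutative rings. -/
theorem linearIndependent_of_isPushout {R S T P : CommRingCat.{u}} {f : R ⟶ S} {g : R ⟶ T}
    {inl : S ⟶ P} {inr : T ⟶ P} (h : CategoryTheory.IsPushout f g inl inr) {I : Type*}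
    (v : I → S) (hv : letI := f.hom.toAlgebra; ∃ b : Module.Basis I R S, ∀ i, b i = v i) :
    letI := inr.hom.toAlgebra
    LinearIndependent T (fun i => inl.hom (v i)) := by
  algebraize [f.hom, g.hom, inl.hom, inr.hom, inl.hom.comp f.hom]
  have : IsScalarTower R T P := .of_algebraMap_eq' <| congr($(h.1.1).hom)
  have h1 : Algebra.IsPushout R S T P := CommRingCat.isPushout_iff_isPushout.mp h
  haveI h2 : Algebra.IsPushout R T S P := h1.symm
  obtain ⟨b, hb⟩ := hv
  let b₂ : Module.Basis I T P :=
    (b.baseChange T).map (Algebra.IsPushout.equiv R T S P).toLinearEquiv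
  have hb₂ : ∀ i, b₂ i = inl.hom (v i) := by
    intro i
    show Algebra.IsPushout.equiv R T S P ((b.baseChange T) i) = _
    rw [Module.Basis.baseChange_apply, Algebra.IsPushout.equiv_tmul, map_one, one_mul, hb]
    rfl
  have h3 := b₂.linearIndependent
  rwa [show (⇑b₂ : I → P) = fun i => inl.hom (v i) from funext hb₂] at h3

variable {A B B₂ : Type u} [CommRing A] [CommRing B] [CommRing B₂]

theorem main (s t : A →+* B) (e : B →+* A) (p₀ p₁ c : B →+* B₂)
    (hes : ∀ a, e (s a) = a) (het : ∀ a, e (t a) = a)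
    (hct : ∀ a, c (t a) = p₀ (t a)) (hcs : ∀ a, c (s a) = p₁ (s a))
    (hcond : ∀ a, p₀ (s a) = p₁ (t a))
    {I : Type*} (x : I → A)
    (F1 : ∀ y : B, ∃ l : I →₀ A, y = ∑ i ∈ l.support, s (l i) * t (x i))
    (F2 : ∀ (F : Finset I) (g : I → A), ∑ i ∈ F, s (g i) * t (x i) = 0 → ∀ i ∈ F, g i = 0)
    (F3 : ∀ (F : Finset I) (g : I → B), ∑ i ∈ F, p₁ (g i) * p₀ (t (x i)) = 0 →
      ∀ i ∈ F, g i = 0) :
    (∃ b : Module.Basis I (RingHom.eqLocus s t) A, ∀ i, b i = x i) ∧
    ∀ φ : TensorProduct (RingHom.eqLocus s t) A A →+ B,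
      (∀ a a' : A, φ (a ⊗ₜ a') = t a * s a') → Function.Bijective φ := by
  have key : ∀ (a : A) (l : I →₀ A), t a = ∑ i ∈ l.support, s (l i) * t (x i) →
      (∀ i, l i ∈ RingHom.eqLocus s t) ∧ a = ∑ i ∈ l.support, l i * x i := by
    intro a l hl
    constructor
    · have h1 : c (t a) = ∑ i ∈ l.support, p₁ (s (l i)) * p₀ (t (x i)) := by
        rw [hl, map_sum]
        refine Finset.sum_congr rfl fun i _ => ?_
        rw [map_mul, hcs, hct]
      have h2 : p₀ (t a) = ∑ i ∈ l.support, p₁ (t (l i)) * p₀ (t (x i)) := by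
        rw [hl, map_sum]
        refine Finset.sum_congr rfl fun i _ => ?_
        rw [map_mul, hcond]
      have h3 : ∑ i ∈ l.support, p₁ (s (l i) - t (l i)) * p₀ (t (x i)) = 0 := by
        have h4 : ∑ i ∈ l.support, p₁ (s (l i) - t (l i)) * p₀ (t (x i)) =
            c (t a) - p₀ (t a) := by
          rw [h1, h2, ← Finset.sum_sub_distrib]
          refine Finset.sum_congr rfl fun i _ => ?_
          rw [map_sub, sub_mul]
        rw [h4, hct, sub_self]
      intro i
      by_cases hi : i ∈ l.support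
      · have h5 := F3 l.support (fun i => s (l i) - t (l i)) h3 i hi
        exact RingHom.mem_eqLocus.mpr (sub_eq_zero.mp h5)
      · rw [Finsupp.notMem_support_iff.mp hi]
        exact Subring.zero_mem _
    · have h4 := congrArg e hl
      rw [het, map_sum] at h4
      refine h4.trans (Finset.sum_congr rfl fun i _ => ?_)
      rw [map_mul, hes, het]
  have hli : LinearIndependent (RingHom.eqLocus s t) x := by
    rw [linearIndependent_iff']
    intro F g hg i hi
    have h1 : ∑ i ∈ F, s ((g i : A)) * t (x i) = 0 := by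
      have h2 := congrArg t hg
      rw [map_sum, map_zero] at h2
      refine Eq.trans ?_ h2
      refine Finset.sum_congr rfl fun j _ => ?_
      rw [show g j • x j = (g j : A) * x j from rfl, map_mul]
      congr 1
      exact (g j).2
    exact Subtype.ext (F2 F (fun i => (g i : A)) h1 i hi)
  have hsp : ⊤ ≤ Submodule.span (RingHom.eqLocus s t) (Set.range x) := by
    intro a _
    obtain ⟨l, hl⟩ := F1 (t a)
    obtain ⟨hmem, ha⟩ := key a l hl
    rw [ha]
    refine Submodule.sum_mem _ fun i _ => ?_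
    have h6 : l i * x i = (⟨l i, hmem i⟩ : RingHom.eqLocus s t) • x i := rfl
    rw [h6]
    exact Submodule.smul_mem _ _ (Submodule.subset_span ⟨i, rfl⟩)
  refine ⟨⟨Module.Basis.mk hli hsp, fun i => Module.Basis.mk_apply hli hsp i⟩, ?_⟩
  intro φ hφ
  have hx0 : ∀ i, x i ⊗ₜ[RingHom.eqLocus s t] (0 : A) = 0 := fun i => TensorProduct.tmul_zero _ _
  have hrep : ∀ z : TensorProduct (RingHom.eqLocus s t) A A, ∃ l : I →₀ A,
      z = l.sum (fun i r => x i ⊗ₜ[RingHom.eqLocus s t] r) := by
    intro z
    induction z using TensorProduct.induction_on with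
    | zero => exact ⟨0, Finsupp.sum_zero_index.symm⟩
    | tmul a a' =>
      obtain ⟨l, hl⟩ := F1 (t a)
      obtain ⟨hmem, ha⟩ := key a l hl
      refine ⟨l.mapRange (fun r => r * a') (zero_mul a'), ?_⟩
      rw [Finsupp.sum_mapRange_index hx0]
      conv_lhs => rw [ha]
      rw [TensorProduct.sum_tmul]
      refine Finset.sum_congr rfl fun i _ => ?_
      exact TensorProduct.smul_tmul (⟨l i, hmem i⟩ : RingHom.eqLocus s t) (x i) a'
    | add z z' hz hz' =>
      obtain ⟨l, hl⟩ := hz
      obtain ⟨l', hl'⟩ := hz'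
      refine ⟨l + l', ?_⟩
      rw [Finsupp.sum_add_index' hx0 (fun i r r' => TensorProduct.tmul_add _ _ _), ← hl, ← hl']
  have hφsum : ∀ l : I →₀ A, φ (l.sum (fun i r => x i ⊗ₜ[RingHom.eqLocus s t] r)) =
      ∑ i ∈ l.support, s (l i) * t (x i) := by
    intro l
    rw [Finsupp.sum, map_sum]
    refine Finset.sum_congr rfl fun i _ => ?_
    rw [hφ, mul_comm]
  constructor
  · rw [injective_iff_map_eq_zero]
    intro z hz
    obtain ⟨l, rfl⟩ := hrep z
    rw [hφsum] at hz
    have h0 := F2 l.support (fun i => l i) hz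
    have hl0 : l = 0 := by
      rw [← Finsupp.support_eq_empty]
      by_contra hne
      obtain ⟨i, hi⟩ := Finset.nonempty_iff_ne_empty.mpr hne
      exact (Finsupp.mem_support_iff.mp hi) (h0 i hi)
    rw [hl0, Finsupp.sum_zero_index]
  · intro y
    obtain ⟨l, hl⟩ := F1 y
    exact ⟨l.sum (fun i r => x i ⊗ₜ[RingHom.eqLocus s t] r), (hφsum l).trans hl.symm⟩

end Groth.Agent.H37.FreeGrpd
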