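import Mathlib
import Groth.Prelude.Def_RelProj3
import Groth.Agent.H41.GrModQCoh
import Groth.Agent.H41.GrModSections
import Groth.Agent.H62.BCTw_G1

/-! (VAN) for helper98's S8341 squad: a sum of homogeneous fractions of degree `n` with
denominators powers of `s ∈ ℬ 1` vanishing at every point of `D₊(s)` is killed by a power of `s`. -/

set_option autoImplicit false
universe u
open CategoryTheory CategoryTheory.Limits AlgebraicGeometry Opposite TopologicalSpace TensorProduct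
open scoped HomogeneousIdeal
open Groth.Agent.H88.BCTw

namespace Groth.Agent.H37.GMBC_VAN

variable {A σ : Type u} [CommRing A] [SetLike σ A]
    [AddSubgroupClass σ A] {𝒜 : ℕ → σ} [GradedRing 𝒜] {B σ' : Type u} [CommRing B] [SetLike σ' B]
    [AddSubgroupClass σ' B]
    {ℬ : ℕ → σ'} [GradedRing ℬ] (ψ : 𝒜 →+*ᵍ ℬ) (hψ : ℬ₊ ≤ (𝒜₊).map ψ)
    (hgen : (𝒜₊).toIdeal = Ideal.span (𝒜 1 : Set A))
    {M τ : Type u} [AddCommGroup M] [Module A M] [SetLike τ M] [AddSubgroupClass τ M] (ℳ : ℕ → τ)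
    [SetLike.GradedSMul 𝒜 ℳ] [DirectSum.Decomposition ℳ]
    {N τ' : Type u} [AddCommGroup N] [Module B N] [SetLike τ' N] [AddSubgroupClass τ' N]
    (𝒩 : ℕ → τ')
    [SetLike.GradedSMul ℬ 𝒩] [DirectSum.Decomposition 𝒩]
    (v : M →ₛₗ[ψ.toRingHom] N) (hv : ∀ (i : ℕ) (m : M), m ∈ ℳ i → v m ∈ 𝒩 i)
    (hbc : ∀ (Q : Type u) [AddCommGroup Q] [Module B Q] (w : M →ₛₗ[ψ.toRingHom] Q),
      ∃! g : N →ₗ[B] Q, ∀ m : M, g (v m) = w m)
    (n : ℤ)

/-- (VAN) a sum of homogeneous fractions of degree `n` with denominators powers of `s ∈ ℬ 1` that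
vanishes at every point of `D₊(s)` is killed by a power of `s`. -/
theorem exists_sum_pow_smul_eq_zero (s : B) (hs : s ∈ ℬ 1) (l : ℕ) (e i : Fin l → ℕ)
    (y : Fin l → N) (hy : ∀ j, y j ∈ 𝒩 (i j)) (hi : ∀ j, (i j : ℤ) = e j + n)
    (h : ∀ p : Proj.basicOpen ℬ s, ∑ j, LocalizedModule.mk (y j) (⟨s ^ e j, fun h =>
            (ProjectiveSpectrum.mem_basicOpen ℬ s p.1).mp p.2
              (p.1.isPrime.mem_of_pow_mem (e j) h)⟩ : p.1.asHomogeneousIdeal.toIdeal.primeCompl) =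
        (0 : GrMod.LocMod ℬ (M := N) p.1)) :
    ∃ N₀ : ℕ, (∀ j, e j ≤ N₀) ∧ ∑ j, s ^ (N₀ - e j) • y j = 0 := by
  classical
  obtain ⟨N₁, hN₁⟩ : ∃ N₁ : ℕ, N₁ = ∑ j, e j := ⟨_, rfl⟩
  have hle : ∀ j, e j ≤ N₁ := fun j => by
    rw [hN₁]
    exact Finset.single_le_sum (f := e) (fun _ _ => Nat.zero_le _) (Finset.mem_univ j)
  obtain ⟨z, hz_def⟩ : ∃ z : N, z = ∑ j, s ^ (N₁ - e j) • y j := ⟨_, rfl⟩
  have hpow : ∀ k : ℕ, s ^ k ∈ ℬ k := fun k => by
    have := SetLike.pow_mem_graded k hs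
    simpa using this
  have hD : ∀ j, (N₁ - e j) + i j = (N₁ + n).toNat := by
    intro j
    have h1 := hi j
    have h2 := hle j
    have h3 : ((N₁ : ℤ) + n) = (((N₁ - e j) + i j : ℕ) : ℤ) := by omega
    rw [h3]
    exact (Int.toNat_natCast _).symm
  have hz : z ∈ 𝒩 ((N₁ + n).toNat) := by
    rw [hz_def]
    refine sum_mem fun j _ => ?_
    rw [← hD j]
    exact SetLike.GradedSMul.smul_mem (hpow _) (hy j)
  have hpt : ∀ x : ProjectiveSpectrum ℬ, s ∉ x.asHomogeneousIdeal →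
      ∃ c : B, c ∉ x.asHomogeneousIdeal ∧ c • z = 0 := by
    intro x hx
    have h0 := h ⟨x, (ProjectiveSpectrum.mem_basicOpen ℬ s x).mpr hx⟩
    have h2 : s ^ N₁ • (∑ j, LocalizedModule.mk (y j) (⟨s ^ e j, fun h =>
          hx (x.isPrime.mem_of_pow_mem (e j) h)⟩ : x.asHomogeneousIdeal.toIdeal.primeCompl)) =
        (0 : LocalizedModule x.asHomogeneousIdeal.toIdeal.primeCompl N) :=
      (congrArg (fun q => s ^ N₁ • q) h0).trans (smul_zero _)
    have h1 : LocalizedModule.mkLinearMap x.asHomogeneousIdeal.toIdeal.primeCompl N z = 0 := by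
      rw [Finset.smul_sum] at h2
      refine Eq.trans ?_ h2
      rw [hz_def, map_sum]
      refine Finset.sum_congr rfl fun j _ => ?_
      rw [LocalizedModule.smul'_mk, LocalizedModule.mkLinearMap_apply, LocalizedModule.mk_eq]
      refine ⟨1, ?_⟩
      simp only [one_smul]
      show (s ^ e j) • (s ^ (N₁ - e j) • y j) = s ^ N₁ • y j
      rw [← mul_smul, ← pow_add, Nat.add_sub_cancel' (hle j)]
    obtain ⟨c, hc⟩ := (IsLocalizedModule.eq_zero_iff x.asHomogeneousIdeal.toIdeal.primeCompl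
      (LocalizedModule.mkLinearMap x.asHomogeneousIdeal.toIdeal.primeCompl N)).mp h1
    exact ⟨c.1, c.2, hc⟩
  obtain ⟨N₂, hN₂⟩ :=
    Groth.Agent.H41.GrModSections.exists_pow_smul_eq_zero_of_forall_localized_eq_zero
      ℬ 𝒩 Nat.one_pos hs hz hpt
  refine ⟨N₁ + N₂, fun j => (hle j).trans (Nat.le_add_right _ _), ?_⟩
  refine Eq.trans ?_ hN₂
  rw [hz_def, Finset.smul_sum]
  refine Finset.sum_congr rfl fun j _ => ?_
  have h4 : N₁ + N₂ - e j = N₂ + (N₁ - e j) := by have := hle j; omega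
  rw [h4, pow_add, mul_smul]

end Groth.Agent.H37.GMBC_VAN
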