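import Groth.Agent.H37.GalStab

/-!
# Frobenius and Galois descent of closed subsets over a finite field

`X` of finite type over a finite field `k`, `K = k̄`.  The `k̄`-linear Frobenius `F` of `X_K` is, on
points, the inverse of the Galois action of the Frobenius automorphism of `K`; a closed subset of
`X_K` comes from `X` iff it is stable under `F`.
-/

set_option autoImplicit false
universe u
open CategoryTheory CategoryTheory.Limits AlgebraicGeometry

namespace Groth.Agent.H37.GalFrob

/-- A Frobenius-like endomorphism of `X` (`q`-th power on sections) commutes with points in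
rings with one-point spectrum. -/
theorem frob_natural {X : Scheme.{u}} (FX : X ⟶ X) (q : ℕ) (hle : ∀ U : X.Opens, U ≤ FX ⁻¹ᵁ U)
    (hFapp : ∀ (U : X.Opens) (s : Γ(X, U)), (FX.appLE U U (hle U)).hom s = s ^ q)
    {Ω : CommRingCat.{u}} [Unique ↥(Spec Ω)] (fr : Ω ⟶ Ω) (hfr : ∀ a : Ω, fr.hom a = a ^ q)
    (ξ : Spec Ω ⟶ X) :
    ξ ≫ FX = Spec.map fr ≫ ξ := by
  obtain ⟨U, hU, hxU, -⟩ := TopologicalSpace.Opens.isBasis_iff_nbhd.mp X.isBasis_affineOpens
    (show ξ default ∈ (⊤ : X.Opens) from trivial)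
  have hU' : IsAffineOpen U := hU
  have hrange : Set.range ξ ⊆ Set.range hU'.fromSpec := by
    rintro _ ⟨y, rfl⟩
    rw [Unique.eq_default y, hU'.range_fromSpec]; exact hxU
  obtain ⟨ℓ, hℓ⟩ : ∃ ℓ : Spec Ω ⟶ Spec Γ(X, U), ℓ ≫ hU'.fromSpec = ξ :=
    ⟨IsOpenImmersion.lift hU'.fromSpec ξ hrange, IsOpenImmersion.lift_fac _ _ _⟩
  obtain ⟨χ, rfl⟩ := Spec.map_surjective ℓ
  have h1 : hU'.fromSpec ≫ FX = Spec.map (FX.appLE U U (hle U)) ≫ hU'.fromSpec :=
    (IsAffineOpen.SpecMap_appLE_fromSpec FX hU' hU' (hle U)).symm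
  have h2 : FX.appLE U U (hle U) ≫ χ = χ ≫ fr := by
    ext a
    show χ.hom ((FX.appLE U U (hle U)).hom a) = fr.hom (χ.hom a)
    rw [hFapp, hfr, map_pow]
  rw [← hℓ, Category.assoc, h1, ← Category.assoc, ← Spec.map_comp, h2, Spec.map_comp,
    Category.assoc]

section

variable (k : Type u) [Field k] [Fintype k] (X : Scheme.{u}) [X.Over (Spec (CommRingCat.of k))]

/-- On points, `F` followed by the Galois action of the Frobenius of `k̄` is the identity. -/
theorem galAct_frob_apply (FX : X ⟶ X) (hle : ∀ U : X.Opens, U ≤ FX ⁻¹ᵁ U)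
    (hFapp : ∀ (U : X.Opens) (s : Γ(X, U)), (FX.appLE U U (hle U)).hom s = s ^ Fintype.card k)
    (F : Curv2.bc k X (AlgebraicClosure k) ⟶ Curv2.bc k X (AlgebraicClosure k))
    (hF1 : F ≫ Curv2.bcFst k X (AlgebraicClosure k) =
      Curv2.bcFst k X (AlgebraicClosure k) ≫ FX)
    (hF2 : F ≫ Curv2.bcSnd k X (AlgebraicClosure k) = Curv2.bcSnd k X (AlgebraicClosure k))
    (w : ↥(Curv2.bc k X (AlgebraicClosure k))) :
    Curv2.galAct k X (AlgebraicClosure k)
      (FiniteField.frobeniusAlgEquivOfAlgebraic k (AlgebraicClosure k)) (F w) = w := by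
  obtain ⟨θ, hθ⟩ : ∃ θ : CommRingCat.of (AlgebraicClosure k) ⟶
      (Curv2.bc k X (AlgebraicClosure k)).residueField w,
      Spec.map θ = (Curv2.bc k X (AlgebraicClosure k)).fromSpecResidueField w ≫
        Curv2.bcSnd k X (AlgebraicClosure k) := Spec.map_surjective _
  letI : Algebra k ((Curv2.bc k X (AlgebraicClosure k)).residueField w) :=
    (θ.hom.comp (algebraMap k (AlgebraicClosure k))).toAlgebra
  obtain ⟨fr, hfr⟩ : ∃ fr : (Curv2.bc k X (AlgebraicClosure k)).residueField w ⟶
      (Curv2.bc k X (AlgebraicClosure k)).residueField w,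
      ∀ a, fr.hom a = a ^ Fintype.card k :=
    ⟨CommRingCat.ofHom (FiniteField.frobeniusAlgHom k
      ((Curv2.bc k X (AlgebraicClosure k)).residueField w)).toRingHom, fun a => rfl⟩
  have hmain : (Curv2.bc k X (AlgebraicClosure k)).fromSpecResidueField w ≫ F ≫
      Curv2.galAct k X (AlgebraicClosure k)
        (FiniteField.frobeniusAlgEquivOfAlgebraic k (AlgebraicClosure k)) =
      Spec.map fr ≫ (Curv2.bc k X (AlgebraicClosure k)).fromSpecResidueField w := by
    refine pullback.hom_ext
      (?_ : _ ≫ Curv2.bcFst k X (AlgebraicClosure k) = _ ≫ Curv2.bcFst k X (AlgebraicClosure k))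
      (?_ : _ ≫ Curv2.bcSnd k X (AlgebraicClosure k) = _ ≫ Curv2.bcSnd k X (AlgebraicClosure k))
    · have hN := frob_natural FX (Fintype.card k) hle hFapp fr hfr
        ((Curv2.bc k X (AlgebraicClosure k)).fromSpecResidueField w ≫
          Curv2.bcFst k X (AlgebraicClosure k))
      rw [Category.assoc, Category.assoc, galAct_fst k X (AlgebraicClosure k), hF1,
        ← Category.assoc, hN, Category.assoc]
    · rw [Category.assoc, Category.assoc, galAct_snd k X (AlgebraicClosure k),
        ← Category.assoc F, hF2, ← Category.assoc, ← hθ, Category.assoc, ← hθ,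
        ← Spec.map_comp, ← Spec.map_comp]
      congr 1
      ext a
      show θ.hom (a ^ Fintype.card k) = fr.hom (θ.hom a)
      rw [hfr, map_pow]
  have hpt := congrArg (fun g : Spec ((Curv2.bc k X (AlgebraicClosure k)).residueField w) ⟶
    Curv2.bc k X (AlgebraicClosure k) => g default) hmain
  have h1 : Curv2.galAct k X (AlgebraicClosure k)
      (FiniteField.frobeniusAlgEquivOfAlgebraic k (AlgebraicClosure k))
      (F ((Curv2.bc k X (AlgebraicClosure k)).fromSpecResidueField w default)) =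
      (Curv2.bc k X (AlgebraicClosure k)).fromSpecResidueField w (Spec.map fr default) := hpt
  rw [Scheme.fromSpecResidueField_apply, Scheme.fromSpecResidueField_apply] at h1
  exact h1

variable [LocallyOfFiniteType (X ↘ Spec (CommRingCat.of k))]
  [QuasiCompact (X ↘ Spec (CommRingCat.of k))]

/-- A closed subset of `X_{k̄}` descends to `X` iff it is stable under the `k̄`-linear Frobenius. -/
theorem closed_descends_iff (FX : X ⟶ X) (hFb : FX.base = 𝟙 _)
    (hle : ∀ U : X.Opens, U ≤ FX ⁻¹ᵁ U)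
    (hFapp : ∀ (U : X.Opens) (s : Γ(X, U)), (FX.appLE U U (hle U)).hom s = s ^ Fintype.card k)
    (F : Curv2.bc k X (AlgebraicClosure k) ⟶ Curv2.bc k X (AlgebraicClosure k))
    (hF1 : F ≫ Curv2.bcFst k X (AlgebraicClosure k) =
      Curv2.bcFst k X (AlgebraicClosure k) ≫ FX)
    (hF2 : F ≫ Curv2.bcSnd k X (AlgebraicClosure k) = Curv2.bcSnd k X (AlgebraicClosure k))
    (W : Set ↥(Curv2.bc k X (AlgebraicClosure k))) (hW : IsClosed W) :
    (∃ Y : Set X, IsClosed Y ∧ (Curv2.bcFst k X (AlgebraicClosure k)).base ⁻¹' Y = W) ↔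
      F.base '' W ⊆ W := by
  constructor
  · rintro ⟨Y, -, rfl⟩
    rintro _ ⟨w, hw, rfl⟩
    show Curv2.bcFst k X (AlgebraicClosure k) (F w) ∈ Y
    have h1 : Curv2.bcFst k X (AlgebraicClosure k) (F w) =
        FX (Curv2.bcFst k X (AlgebraicClosure k) w) :=
      congrArg (fun g : Curv2.bc k X (AlgebraicClosure k) ⟶ X => g w) hF1
    have h2 : ∀ x : X, FX x = x := fun x => by
      show FX.base x = x
      rw [hFb]; rfl
    rw [h1, h2]; exact hw
  · intro hFW
    haveI : IsNoetherian (Curv2.bc k X (AlgebraicClosure k)) := {}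
    -- notation
    obtain ⟨A, hA⟩ : ∃ A : (AlgebraicClosure k ≃ₐ[k] AlgebraicClosure k) →
        Set ↥(Curv2.bc k X (AlgebraicClosure k)) → Set ↥(Curv2.bc k X (AlgebraicClosure k)),
        ∀ σ S, A σ S = (Curv2.galAct k X (AlgebraicClosure k) σ).base '' S := ⟨_, fun _ _ => rfl⟩
    have hcomp : ∀ (σ τ : AlgebraicClosure k ≃ₐ[k] AlgebraicClosure k)
        (S : Set ↥(Curv2.bc k X (AlgebraicClosure k))), A (σ.trans τ) S = A σ (A τ S) := by
      intro σ τ S
      rw [hA, hA, hA, ← galAct_comp k X (AlgebraicClosure k) σ τ]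
      ext y; constructor
      · rintro ⟨s, hs, rfl⟩; exact ⟨_, ⟨s, hs, rfl⟩, rfl⟩
      · rintro ⟨_, ⟨s, hs, rfl⟩, rfl⟩; exact ⟨s, hs, rfl⟩
    have hrefl : ∀ S : Set ↥(Curv2.bc k X (AlgebraicClosure k)), A AlgEquiv.refl S = S := by
      intro S
      rw [hA, galAct_refl k X (AlgebraicClosure k)]
      ext y; constructor
      · rintro ⟨s, hs, rfl⟩; exact hs
      · intro hy; exact ⟨y, hy, rfl⟩
    have hmonoA : ∀ σ (S T : Set ↥(Curv2.bc k X (AlgebraicClosure k))), S ⊆ T → A σ S ⊆ A σ T := by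
      intro σ S T h; rw [hA, hA]; exact Set.image_mono h
    -- the Frobenius automorphism expands `W`
    have hφ : W ⊆ A (FiniteField.frobeniusAlgEquivOfAlgebraic k (AlgebraicClosure k)) W := by
      intro w hw
      rw [hA]
      exact ⟨F w, hFW ⟨w, hw, rfl⟩, galAct_frob_apply k X FX hle hFapp F hF1 hF2 w⟩
    -- iterates
    obtain ⟨ψ, hψ0, hψs⟩ : ∃ ψ : ℕ → (AlgebraicClosure k ≃ₐ[k] AlgebraicClosure k),
        ψ 0 = AlgEquiv.refl ∧ ∀ n, ψ (n + 1) =
          (ψ n).trans (FiniteField.frobeniusAlgEquivOfAlgebraic k (AlgebraicClosure k)) :=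
      ⟨fun n => Nat.rec AlgEquiv.refl
        (fun _ e => e.trans (FiniteField.frobeniusAlgEquivOfAlgebraic k (AlgebraicClosure k))) n,
        rfl, fun _ => rfl⟩
    have hψa : ∀ n (a : AlgebraicClosure k), ψ n a = a ^ (Fintype.card k ^ n) := by
      intro n
      induction n with
      | zero => intro a; rw [hψ0, pow_zero, pow_one]; rfl
      | succ n ih =>
        intro a
        rw [hψs, AlgEquiv.trans_apply, ih]
        show (a ^ (Fintype.card k ^ n)) ^ Fintype.card k = _
        rw [← pow_mul, pow_succ]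
    have hstep : ∀ n, A (ψ n) W ⊆ A (ψ (n + 1)) W := by
      intro n
      rw [hψs, hcomp]
      exact hmonoA _ _ _ hφ
    have hchain : ∀ n m, n ≤ m → A (ψ n) W ⊆ A (ψ m) W := by
      intro n m hnm
      induction m, hnm using Nat.le_induction with
      | base => exact le_rfl
      | succ m _ ih => exact ih.trans (hstep m)
    -- the finite level
    obtain ⟨E, hE⟩ := exists_finSub_stabilizing k X (AlgebraicClosure k) Wᶜ hW.isOpen_compl
      (TopologicalSpace.NoetherianSpace.isCompact _)
    have hE' : ∀ σ : AlgebraicClosure k ≃ₐ[k] AlgebraicClosure k,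
        (∀ a : AlgebraicClosure k, a ∈ E.1 → σ a = a) → A σ W = W := by
      intro σ hσ
      have h1 := hE σ hσ
      have hbij : Function.Bijective (Curv2.galAct k X (AlgebraicClosure k) σ).base :=
        (Curv2.galAct k X (AlgebraicClosure k) σ).homeomorph.bijective
      rw [Set.image_compl_eq hbij] at h1
      rw [hA]
      exact compl_injective h1
    haveI : FiniteDimensional k E.1 := E.2
    haveI : Finite E.1 := Module.finite_of_finite k
    letI : Fintype E.1 := Fintype.ofFinite _
    have hcard : Fintype.card E.1 = Fintype.card k ^ Module.finrank k E.1 :=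
      Module.card_eq_pow_finrank
    have hNfix : ∀ a : AlgebraicClosure k, a ∈ E.1 → ψ (Module.finrank k E.1) a = a := by
      intro a ha
      rw [hψa, ← hcard]
      exact congrArg Subtype.val (FiniteField.pow_card (⟨a, ha⟩ : E.1))
    have hN : A (ψ (Module.finrank k E.1)) W = W := hE' _ hNfix
    have hle' : ∀ n, n ≤ Module.finrank k E.1 → A (ψ n) W = W := by
      intro n hn
      apply Set.Subset.antisymm
      · exact (hchain n _ hn).trans hN.le
      · have := hchain 0 n (Nat.zero_le n)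
        rwa [hψ0, hrefl] at this
    -- every automorphism stabilises `W`
    have hinv : ∀ σ : AlgebraicClosure k ≃ₐ[k] AlgebraicClosure k,
        (Curv2.galAct k X (AlgebraicClosure k) σ).base '' W = W := by
      intro σ
      obtain ⟨n, hn⟩ := (FiniteField.bijective_frobeniusAlgEquivOfAlgebraic_pow k E.1).2
        (σ.restrictNormal E.1)
      have hσE : ∀ a : AlgebraicClosure k, a ∈ E.1 → σ a = ψ n.1 a := by
        intro a ha
        have h1 := AlgEquiv.restrictNormal_commutes σ E.1 (⟨a, ha⟩ : E.1)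
        have h2 : (σ.restrictNormal E.1) ⟨a, ha⟩ = (⟨a, ha⟩ : E.1) ^ (Fintype.card k ^ n.1) := by
          have h3 := congrFun (FiniteField.coe_frobeniusAlgEquivOfAlgebraic_iterate k E.1 n.1)
            (⟨a, ha⟩ : E.1)
          rw [← hn, AlgEquiv.coe_pow]
          exact h3
        rw [hψa]
        have h4 : σ a = ((σ.restrictNormal E.1) ⟨a, ha⟩ : AlgebraicClosure k) := h1.symm
        rw [h4, h2]
        rfl
      have hτfix : ∀ a : AlgebraicClosure k, a ∈ E.1 → (σ.trans (ψ n.1).symm) a = a := by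
        intro a ha
        rw [AlgEquiv.trans_apply, hσE a ha, AlgEquiv.symm_apply_apply]
      have hσeq : σ = (σ.trans (ψ n.1).symm).trans (ψ n.1) := by
        ext x
        rw [AlgEquiv.trans_apply, AlgEquiv.trans_apply, AlgEquiv.apply_symm_apply]
      rw [← hA, hσeq, hcomp, hle' n.1 n.2.le, hE' _ hτfix]
    refine ⟨(Curv2.bcFst k X (AlgebraicClosure k)).base '' W,
      isClosedMap_bcFst k X (AlgebraicClosure k) W hW, ?_⟩
    exact preimage_image_eq_of_galois_invariant k X (AlgebraicClosure k) W hinv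

end

end Groth.Agent.H37.GalFrob
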