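import Groth.Agent.H37.ConnLimit2
import Groth.Agent.S4625

/-!
# Geometric connectedness can be tested on finite separable extensions (no quasi-compactness)
-/

set_option autoImplicit false
universe u
open CategoryTheory CategoryTheory.Limits AlgebraicGeometry

namespace Groth.Agent.H37

/-- A scheme over a field `k` all of whose base changes to finite separable extensions are
connected is geometrically connected. -/
theorem geomConn_of_forall_finite_separable {k : Type u} [Field k] {X : Scheme.{u}}
    (f : X ⟶ Spec (CommRingCat.of k))
    (h : ∀ (K : Type u) [Field K] [Algebra k K] [Module.Finite k K] [Algebra.IsSeparable k K],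
      ConnectedSpace ↑(pullback f (Spec.map (CommRingCat.ofHom (algebraMap k K))))) :
    GeometricallyConnected f := by
  haveI : ConnectedSpace ↥(pullback f
      (Spec.map (CommRingCat.ofHom (algebraMap k (SeparableClosure k))))) := by
    refine connectedSpace_of_forall_finSub (SeparableClosure k) f ?_
    intro E
    haveI := E.2
    haveI : Algebra.IsSeparable k ↥E.1 :=
      Algebra.isSeparable_tower_bot_of_isSeparable k ↥E.1 (SeparableClosure k)
    exact h ↥E.1
  have h1 : GeometricallyConnected (pullback.snd f
      (Spec.map (CommRingCat.ofHom (algebraMap k (SeparableClosure k))))) :=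
    geomConn_of_isSepClosed _
  exact (Groth.Agent.S4625.result (K := SeparableClosure k) f).mpr h1

end Groth.Agent.H37
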