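import Mathlib.CategoryTheory.Monoidal.Cartesian.Grp
import Mathlib.CategoryTheory.Monoidal.Cartesian.Over

/-!
# Generic lemmas on group objects acting in a cartesian monoidal category
-/

set_option autoImplicit false
universe v u
open CategoryTheory MonoidalCategory CartesianMonoidalCategory MonObj GrpObj

namespace Groth.Agent.H37

variable {C : Type u} [Category.{v} C] [CartesianMonoidalCategory C] {G X : C} [GrpObj G]

lemma act_one (act : G ⊗ X ⟶ X) (one_act : (η[G] ▷ X) ≫ act = (λ_ X).hom) {T : C} (x : T ⟶ X) :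
    lift (1 : T ⟶ G) x ≫ act = x := by
  have e : lift (1 : T ⟶ G) x = lift (toUnit T) x ≫ (η[G] ▷ X) := by
    rw [lift_whiskerRight]; rfl
  rw [e, Category.assoc, one_act, lift_leftUnitor_hom]

lemma act_mul (act : G ⊗ X ⟶ X)
    (mul_act : (μ[G] ▷ X) ≫ act = (α_ G G X).hom ≫ (G ◁ act) ≫ act) {T : C}
    (g h : T ⟶ G) (x : T ⟶ X) :
    lift (g * h) x ≫ act = lift g (lift h x ≫ act) ≫ act := by
  have e1 : lift (g * h) x = lift (lift g h) x ≫ (μ[G] ▷ X) := by
    rw [lift_whiskerRight]; rfl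
  rw [e1, Category.assoc, mul_act, lift_lift_associator_hom_assoc, lift_whiskerLeft_assoc]

theorem free_iff_mono (act : G ⊗ X ⟶ X) (one_act : (η[G] ▷ X) ≫ act = (λ_ X).hom)
    (mul_act : (μ[G] ▷ X) ≫ act = (α_ G G X).hom ≫ (G ◁ act) ≫ act) :
    (∀ (T : C) (g : T ⟶ G) (x : T ⟶ X), lift g x ≫ act = x → g = toUnit T ≫ η[G]) ↔
      Mono (lift act (snd G X)) := by
  constructor
  · intro hfree
    refine ⟨fun {T} p1 p2 h => ?_⟩
    have hs : p1 ≫ snd G X = p2 ≫ snd G X := by
      have := congr($h ≫ snd X X)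
      simpa only [Category.assoc, lift_snd] using this
    have hf : p1 ≫ act = p2 ≫ act := by
      have := congr($h ≫ fst X X)
      simpa only [Category.assoc, lift_fst] using this
    obtain ⟨g1, hg1⟩ : ∃ g1, g1 = p1 ≫ fst G X := ⟨_, rfl⟩
    obtain ⟨g2, hg2⟩ : ∃ g2, g2 = p2 ≫ fst G X := ⟨_, rfl⟩
    obtain ⟨x, hx⟩ : ∃ x, x = p1 ≫ snd G X := ⟨_, rfl⟩
    have hp1 : p1 = lift g1 x :=
      CartesianMonoidalCategory.hom_ext _ _ (by rw [lift_fst, hg1]) (by rw [lift_snd, hx])
    have hp2 : p2 = lift g2 x :=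
      CartesianMonoidalCategory.hom_ext _ _ (by rw [lift_fst, hg2]) (by rw [lift_snd, hx, hs])
    have hf' : lift g1 x ≫ act = lift g2 x ≫ act := by
      rw [← hp1, ← hp2]; exact hf
    have key : lift (g2⁻¹ * g1) x ≫ act = x := by
      rw [act_mul act mul_act, hf', ← act_mul act mul_act, inv_mul_cancel, act_one act one_act]
    have h1 : g2⁻¹ * g1 = 1 := hfree T (g2⁻¹ * g1) x key
    have h2 : g1 = g2 := by
      have := congr(g2 * $h1)
      simpa using this
    rw [hp1, hp2, h2]
  · intro hmono T g x hgx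
    have e : lift g x = lift (1 : T ⟶ G) x := by
      rw [← cancel_mono (lift act (snd G X))]
      rw [comp_lift, comp_lift, lift_snd, lift_snd, hgx, act_one act one_act]
    have := congr($e ≫ fst G X)
    rw [lift_fst, lift_fst] at this
    exact this

/-- The shearing map `(t, g) ↦ (t, ψ(t) g)` is an isomorphism. -/
lemma isIso_shear {T : C} (ψ : T ⟶ G) : IsIso (lift (fst T G) (ψ ▷ G ≫ μ[G])) := by
  have hm : ψ ▷ G ≫ μ[G] = (fst T G ≫ ψ) * snd T G := by
    rw [Hom.mul_def]
    congr 1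
    apply CartesianMonoidalCategory.hom_ext
    · rw [lift_fst, whiskerRight_fst]
    · rw [lift_snd, whiskerRight_snd]
  rw [hm]
  refine ⟨lift (fst T G) ((fst T G ≫ ψ)⁻¹ * snd T G), ?_, ?_⟩
  · apply CartesianMonoidalCategory.hom_ext
    · rw [Category.assoc, lift_fst, lift_fst, Category.id_comp]
    · rw [Category.assoc, lift_snd, MonObj.comp_mul, GrpObj.comp_inv, lift_fst_assoc, lift_snd,
        inv_mul_cancel_left, Category.id_comp]
  · apply CartesianMonoidalCategory.hom_ext
    · rw [Category.assoc, lift_fst, lift_fst, Category.id_comp]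
    · rw [Category.assoc, lift_snd, MonObj.comp_mul, lift_fst_assoc, lift_snd,
        mul_inv_cancel_left, Category.id_comp]

end Groth.Agent.H37
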