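import Groth.Agent.S7457
import Mathlib

/-!
# Groupoid schemes: the inverse is an involution; ranks of source and target
-/

set_option autoImplicit false
universe u
open CategoryTheory CategoryTheory.Limits AlgebraicGeometry
open Groth.Agent.S7457

namespace Groth.Agent.H37.GrpdLib

variable {S : Scheme.{u}} (G : Grpd.GroupoidScheme S)

lemma i_i : G.i ≫ G.i = 𝟙 G.R := by
  have hds : (G.i ≫ G.i) ≫ G.s = G.s := by rw [Category.assoc, G.i_s, G.i_t]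
  have h1 : (G.i ≫ G.i) ≫ G.s = G.i ≫ G.t := by rw [hds, G.i_t]
  have h2 : G.i ≫ G.s = 𝟙 G.R ≫ G.t := by rw [G.i_s, Category.id_comp]
  have e1 : cmp G (G.i ≫ G.i) G.i h1 = G.i ≫ G.s ≫ G.e := i_cmp G _ _ h1 rfl
  have e2 : cmp G G.i (𝟙 G.R) h2 = 𝟙 G.R ≫ G.s ≫ G.e :=
    i_cmp G _ _ h2 (Category.id_comp _).symm
  have h4 : (G.i ≫ G.i) ≫ G.s = cmp G G.i (𝟙 G.R) h2 ≫ G.t := by
    rw [cmp_t, hds, G.i_t]
  have h3 : cmp G (G.i ≫ G.i) G.i h1 ≫ G.s = 𝟙 G.R ≫ G.t := by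
    rw [cmp_s, G.i_s, Category.id_comp]
  have hassoc := cmp_assoc G (G.i ≫ G.i) G.i (𝟙 G.R) h1 h2 h3 h4
  have hL : cmp G (cmp G (G.i ≫ G.i) G.i h1) (𝟙 G.R) h3 = 𝟙 G.R :=
    e_cmp G _ _ h3 (by rw [e1, Category.id_comp, ← Category.assoc, G.i_s])
  have hR : cmp G (G.i ≫ G.i) (cmp G G.i (𝟙 G.R) h2) h4 = G.i ≫ G.i :=
    cmp_e G _ _ h4 (by rw [e2, Category.id_comp, ← Category.assoc, hds])
  exact hR.symm.trans (hassoc.symm.trans hL)

instance isIso_i : IsIso G.i := ⟨⟨G.i, i_i G, i_i G⟩⟩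

lemma surjective_s : Surjective G.s :=
  ⟨fun u => ⟨G.e u, by rw [← Scheme.Hom.comp_apply, G.e_s]; rfl⟩⟩

lemma finrank_s_t [IsFinite G.s] [Flat G.s] (ρ : G.R) :
    G.s.finrank (G.t ρ) = G.s.finrank (G.s ρ) := by
  have hpb : IsPullback G.c (pullback.snd G.s G.t) G.s G.s := (Groth.Agent.S7457.result S G).2
  have h1 := Scheme.Hom.finrank_of_isPullback _ _ _ _ hpb ρ
  have h2 := Scheme.Hom.finrank_of_isPullback _ _ _ _ (IsPullback.of_hasPullback G.s G.t) ρ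
  rw [← h1, ← h2]

lemma finrank_t_eq [IsFinite G.s] [Flat G.s] : G.t.finrank = G.s.finrank := by
  have h : G.t = G.i ≫ G.s := G.i_s.symm
  rw [h]
  exact Scheme.Hom.finrank_comp_left_of_isIso G.i G.s

end Groth.Agent.H37.GrpdLib
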