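import Groth.Agent.S7457
import Groth.Agent.H37.GrpdLib
import Mathlib

/-!
# Groupoid schemes: a proof-free calculus of `T`-points, the stabilizer, conjugation
-/

set_option autoImplicit false
universe u
open CategoryTheory CategoryTheory.Limits AlgebraicGeometry
open Grpd

namespace Groth.Agent.H37.GrpdCalc

open Groth.Agent.S7457 (cmp cmp_congr comp_cmp cmp_s cmp_t cmp_assoc cmp_e e_cmp cmp_i i_cmp c_eq)

/-- a square is a pullback as soon as compatible pairs lift uniquely -/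
lemma isPullback_of_existsUnique {C : Type*} [Category C] {P X Y Z : C} {fst : P ⟶ X}
    {snd : P ⟶ Y} {f : X ⟶ Z} {g : Y ⟶ Z} (w : fst ≫ f = snd ≫ g)
    (h : ∀ {T : C} (a : T ⟶ X) (b : T ⟶ Y), a ≫ f = b ≫ g →
      ∃ ℓ : T ⟶ P, ℓ ≫ fst = a ∧ ℓ ≫ snd = b)
    (huniq : ∀ {T : C} (m m' : T ⟶ P), m ≫ fst = m' ≫ fst → m ≫ snd = m' ≫ snd → m = m') :
    IsPullback fst snd f g := by
  refine IsPullback.of_isLimit' ⟨w⟩ (PullbackCone.IsLimit.mk _
    (fun c => (h c.fst c.snd c.condition).choose)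
    (fun c => (h c.fst c.snd c.condition).choose_spec.1)
    (fun c => (h c.fst c.snd c.condition).choose_spec.2) ?_)
  intro c m hm1 hm2
  exact huniq _ _ (hm1.trans (h c.fst c.snd c.condition).choose_spec.1.symm)
    (hm2.trans (h c.fst c.snd c.condition).choose_spec.2.symm)

variable {S : Scheme.{u}} (G : Grpd.GroupoidScheme S)

open Classical in
/-- total composition of `T`-points (junk value when not composable) -/
noncomputable def mul {T : Scheme.{u}} (α β : T ⟶ G.R) : T ⟶ G.R :=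
  if h : α ≫ G.s = β ≫ G.t then cmp G α β h else α

variable {G} {T T' : Scheme.{u}} {α β γ : T ⟶ G.R}

lemma mul_eq (h : α ≫ G.s = β ≫ G.t) : mul G α β = cmp G α β h := dif_pos h

lemma mul_s (h : α ≫ G.s = β ≫ G.t) : mul G α β ≫ G.s = β ≫ G.s := by
  rw [mul_eq h]; exact cmp_s G _ _ _

lemma mul_t (h : α ≫ G.s = β ≫ G.t) : mul G α β ≫ G.t = α ≫ G.t := by
  rw [mul_eq h]; exact cmp_t G _ _ _

lemma mul_assoc (h₁ : α ≫ G.s = β ≫ G.t) (h₂ : β ≫ G.s = γ ≫ G.t) :
    mul G (mul G α β) γ = mul G α (mul G β γ) := by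
  have e1 : mul G α β = cmp G α β h₁ := mul_eq h₁
  have e2 : mul G β γ = cmp G β γ h₂ := mul_eq h₂
  rw [e1, e2]
  have h₃ : cmp G α β h₁ ≫ G.s = γ ≫ G.t := (cmp_s G α β h₁).trans h₂
  have h₄ : α ≫ G.s = cmp G β γ h₂ ≫ G.t := h₁.trans (cmp_t G β γ h₂).symm
  rw [mul_eq h₃, mul_eq h₄]
  exact cmp_assoc G α β γ h₁ h₂ h₃ h₄

lemma mul_e (hβ : β = α ≫ G.s ≫ G.e) : mul G α β = α := by
  have h : α ≫ G.s = β ≫ G.t := by
    rw [hβ, Category.assoc, Category.assoc, G.e_t, Category.comp_id]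
  rw [mul_eq h]; exact cmp_e G α β h hβ

lemma e_mul (hα : α = β ≫ G.t ≫ G.e) : mul G α β = β := by
  have h : α ≫ G.s = β ≫ G.t := by
    rw [hα, Category.assoc, Category.assoc, G.e_s, Category.comp_id]
  rw [mul_eq h]; exact e_cmp G α β h hα

lemma mul_i (hβ : β = α ≫ G.i) : mul G α β = α ≫ G.t ≫ G.e := by
  have h : α ≫ G.s = β ≫ G.t := by rw [hβ, Category.assoc, G.i_t]
  rw [mul_eq h]; exact cmp_i G α β h hβ

lemma i_mul (hα : α = β ≫ G.i) : mul G α β = β ≫ G.s ≫ G.e := by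
  have h : α ≫ G.s = β ≫ G.t := by rw [hα, Category.assoc, G.i_s]
  rw [mul_eq h]; exact i_cmp G α β h hα

lemma comp_mul (f : T' ⟶ T) (h : α ≫ G.s = β ≫ G.t) :
    f ≫ mul G α β = mul G (f ≫ α) (f ≫ β) := by
  have h' : (f ≫ α) ≫ G.s = (f ≫ β) ≫ G.t := by rw [Category.assoc, Category.assoc, h]
  rw [mul_eq h, mul_eq h']; exact comp_cmp G f α β h h'

lemma lift_c (h : α ≫ G.s = β ≫ G.t) : pullback.lift α β h ≫ G.c = mul G α β := by
  rw [mul_eq h]; rfl

lemma c_eq_mul : G.c = mul G (pullback.fst G.s G.t) (pullback.snd G.s G.t) := by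
  rw [mul_eq pullback.condition]; exact c_eq G

lemma comp_c (φ : T ⟶ pullback G.s G.t) :
    φ ≫ G.c = mul G (φ ≫ pullback.fst G.s G.t) (φ ≫ pullback.snd G.s G.t) := by
  have h := comp_mul (G := G) φ (pullback.condition (f := G.s) (g := G.t))
  rw [← c_eq_mul] at h
  exact h

/-- `(α β) β⁻¹ = α` -/
lemma mul_mul_i {βi : T ⟶ G.R} (h : α ≫ G.s = β ≫ G.t) (hβi : βi = β ≫ G.i) :
    mul G (mul G α β) βi = α := by
  subst hβi
  have h₂ : β ≫ G.s = (β ≫ G.i) ≫ G.t := by rw [Category.assoc, G.i_t]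
  rw [mul_assoc h h₂, mul_i rfl]
  exact mul_e (by rw [← Category.assoc, ← h, Category.assoc])

/-- `(α β⁻¹) β = α` -/
lemma mul_i_mul {βi : T ⟶ G.R} (h : α ≫ G.s = β ≫ G.s) (hβi : βi = β ≫ G.i) :
    mul G (mul G α βi) β = α := by
  subst hβi
  have h₁ : α ≫ G.s = (β ≫ G.i) ≫ G.t := by rw [Category.assoc, G.i_t, h]
  have h₂ : (β ≫ G.i) ≫ G.s = β ≫ G.t := by rw [Category.assoc, G.i_s]
  rw [mul_assoc h₁ h₂, i_mul rfl]
  exact mul_e (by rw [← Category.assoc, ← h, Category.assoc])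

/-- `α⁻¹ (α β) = β` -/
lemma i_mul_mul {αi : T ⟶ G.R} (h : α ≫ G.s = β ≫ G.t) (hαi : αi = α ≫ G.i) :
    mul G αi (mul G α β) = β := by
  subst hαi
  have h₁ : (α ≫ G.i) ≫ G.s = α ≫ G.t := by rw [Category.assoc, G.i_s]
  rw [← mul_assoc h₁ h, i_mul rfl]
  exact e_mul (by rw [← Category.assoc, h, Category.assoc])

/-- `α (α⁻¹ β) = β` -/
lemma mul_i_mul' {αi : T ⟶ G.R} (h : α ≫ G.t = β ≫ G.t) (hαi : αi = α ≫ G.i) :
    mul G α (mul G αi β) = β := by
  subst hαi
  have h₁ : α ≫ G.s = (α ≫ G.i) ≫ G.t := by rw [Category.assoc, G.i_t]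
  have h₂ : (α ≫ G.i) ≫ G.s = β ≫ G.t := by rw [Category.assoc, G.i_s, h]
  rw [← mul_assoc h₁ h₂, mul_i rfl]
  exact e_mul (by rw [← Category.assoc, h, Category.assoc])

/-! ### conjugation of `T`-points -/

/-- `b⁻¹ g b` -/
noncomputable def conjT (b g : T ⟶ G.R) : T ⟶ G.R := mul G (mul G (b ≫ G.i) g) b

/-- `b g b⁻¹` -/
noncomputable def conjS (b g : T ⟶ G.R) : T ⟶ G.R := mul G (mul G b g) (b ≫ G.i)

variable {b g : T ⟶ G.R}

lemma conjT_s (hs : g ≫ G.s = b ≫ G.t) (ht : g ≫ G.t = b ≫ G.t) :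
    conjT b g ≫ G.s = b ≫ G.s := by
  have h₁ : (b ≫ G.i) ≫ G.s = g ≫ G.t := by rw [Category.assoc, G.i_s, ht]
  have h₂ : mul G (b ≫ G.i) g ≫ G.s = b ≫ G.t := (mul_s h₁).trans hs
  exact mul_s h₂

lemma conjT_t (hs : g ≫ G.s = b ≫ G.t) (ht : g ≫ G.t = b ≫ G.t) :
    conjT b g ≫ G.t = b ≫ G.s := by
  have h₁ : (b ≫ G.i) ≫ G.s = g ≫ G.t := by rw [Category.assoc, G.i_s, ht]
  have h₂ : mul G (b ≫ G.i) g ≫ G.s = b ≫ G.t := (mul_s h₁).trans hs
  unfold conjT
  rw [mul_t h₂, mul_t h₁, Category.assoc, G.i_t]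

lemma conjS_s (hs : g ≫ G.s = b ≫ G.s) (ht : g ≫ G.t = b ≫ G.s) :
    conjS b g ≫ G.s = b ≫ G.t := by
  have h₁ : b ≫ G.s = g ≫ G.t := ht.symm
  have h₂ : mul G b g ≫ G.s = (b ≫ G.i) ≫ G.t := by
    rw [mul_s h₁, hs, Category.assoc, G.i_t]
  unfold conjS
  rw [mul_s h₂, Category.assoc, G.i_s]

lemma conjS_t (hs : g ≫ G.s = b ≫ G.s) (ht : g ≫ G.t = b ≫ G.s) :
    conjS b g ≫ G.t = b ≫ G.t := by
  have h₁ : b ≫ G.s = g ≫ G.t := ht.symm
  have h₂ : mul G b g ≫ G.s = (b ≫ G.i) ≫ G.t := by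
    rw [mul_s h₁, hs, Category.assoc, G.i_t]
  unfold conjS
  rw [mul_t h₂, mul_t h₁]

lemma conjS_conjT (hs : g ≫ G.s = b ≫ G.t) (ht : g ≫ G.t = b ≫ G.t) :
    conjS b (conjT b g) = g := by
  have h₁ : (b ≫ G.i) ≫ G.s = g ≫ G.t := by rw [Category.assoc, G.i_s, ht]
  have e1 : conjT b g = mul G (b ≫ G.i) (mul G g b) := mul_assoc h₁ hs
  have e2 : mul G b (conjT b g) = mul G g b := by
    rw [e1]; exact mul_i_mul' (by rw [mul_t hs, ht]) rfl
  unfold conjS
  rw [e2]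
  exact mul_mul_i hs rfl

lemma conjT_conjS (hs : g ≫ G.s = b ≫ G.s) (ht : g ≫ G.t = b ≫ G.s) :
    conjT b (conjS b g) = g := by
  have h₁ : b ≫ G.s = g ≫ G.t := ht.symm
  have h₂ : g ≫ G.s = (b ≫ G.i) ≫ G.t := by rw [Category.assoc, G.i_t, hs]
  have e1 : conjS b g = mul G b (mul G g (b ≫ G.i)) := mul_assoc h₁ h₂
  have e2 : mul G (b ≫ G.i) (conjS b g) = mul G g (b ≫ G.i) := by
    rw [e1]; exact i_mul_mul (by rw [mul_t h₂, ht]) rfl
  unfold conjT
  rw [e2]
  exact mul_i_mul hs rfl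

lemma comp_conjT (f : T' ⟶ T) (hs : g ≫ G.s = b ≫ G.t) (ht : g ≫ G.t = b ≫ G.t) :
    f ≫ conjT b g = conjT (f ≫ b) (f ≫ g) := by
  have h₁ : (b ≫ G.i) ≫ G.s = g ≫ G.t := by rw [Category.assoc, G.i_s, ht]
  have h₂ : mul G (b ≫ G.i) g ≫ G.s = b ≫ G.t := (mul_s h₁).trans hs
  unfold conjT
  rw [comp_mul f h₂, comp_mul f h₁, Category.assoc]

/-! ### invariance of opens -/

variable (G) in
lemma preimage_eq_of_le (W : G.U.Opens) (hle : G.t ⁻¹ᵁ W ≤ G.s ⁻¹ᵁ W) :
    G.s ⁻¹ᵁ W = G.t ⁻¹ᵁ W := by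
  apply le_antisymm
  · intro x hx
    have h1 : G.i x ∈ G.t ⁻¹ᵁ W := by
      show G.t (G.i x) ∈ W
      rw [← Scheme.Hom.comp_apply, G.i_t]
      exact hx
    have h2 : G.s (G.i x) ∈ W := hle h1
    rw [← Scheme.Hom.comp_apply, G.i_s] at h2
    exact h2
  · exact hle

/-! ### the stabilizer -/

section Stab

variable (G)

lemma j_fst : G.j ≫ pullback.fst G.pU G.pU = G.t := pullback.lift_fst _ _ _
lemma j_snd : G.j ≫ pullback.snd G.pU G.pU = G.s := pullback.lift_snd _ _ _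
lemma diag_fst : G.diag ≫ pullback.fst G.pU G.pU = 𝟙 _ := pullback.lift_fst _ _ _
lemma diag_snd : G.diag ≫ pullback.snd G.pU G.pU = 𝟙 _ := pullback.lift_snd _ _ _

/-- the inclusion of the stabilizer into `R` -/
noncomputable def stabι : G.stabilizer ⟶ G.R := pullback.fst G.j G.diag

lemma stabι_s : stabι G ≫ G.s = G.stabilizerToU := by
  have h := pullback.condition (f := G.j) (g := G.diag)
  have h2 := congrArg (· ≫ pullback.snd G.pU G.pU) h
  simp only [Category.assoc, j_snd, diag_snd, Category.comp_id] at h2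
  exact h2

lemma stabι_t : stabι G ≫ G.t = G.stabilizerToU := by
  have h := pullback.condition (f := G.j) (g := G.diag)
  have h2 := congrArg (· ≫ pullback.fst G.pU G.pU) h
  simp only [Category.assoc, j_fst, diag_fst, Category.comp_id] at h2
  exact h2

variable {G}

/-- a `T`-point of the stabilizer from a `T`-point of `R` with equal source and target -/
noncomputable def stabLift (ρ : T ⟶ G.R) (h : ρ ≫ G.s = ρ ≫ G.t) : T ⟶ G.stabilizer :=
  pullback.lift ρ (ρ ≫ G.s) (by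
    apply pullback.hom_ext
    · rw [Category.assoc, Category.assoc, j_fst, diag_fst, Category.comp_id, h]
    · rw [Category.assoc, Category.assoc, j_snd, diag_snd, Category.comp_id])

lemma stabLift_ι (ρ : T ⟶ G.R) (h : ρ ≫ G.s = ρ ≫ G.t) : stabLift ρ h ≫ stabι G = ρ :=
  pullback.lift_fst _ _ _

lemma stabLift_toU (ρ : T ⟶ G.R) (h : ρ ≫ G.s = ρ ≫ G.t) :
    stabLift ρ h ≫ G.stabilizerToU = ρ ≫ G.s :=
  pullback.lift_snd _ _ _

lemma stab_hom_ext {a b : T ⟶ G.stabilizer} (h : a ≫ stabι G = b ≫ stabι G) : a = b := by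
  have key : ∀ c : T ⟶ G.stabilizer, c ≫ pullback.snd G.j G.diag = (c ≫ stabι G) ≫ G.s := by
    intro c; rw [Category.assoc, stabι_s]; rfl
  refine pullback.hom_ext (f := G.j) (g := G.diag) h ?_
  exact (key a).trans ((congrArg (· ≫ G.s) h).trans (key b).symm)

variable (G)

lemma conjMap_aux :
    (pullback.fst G.stabilizerToU G.t ≫ stabι G) ≫ G.s = pullback.snd G.stabilizerToU G.t ≫ G.t ∧
    (pullback.fst G.stabilizerToU G.t ≫ stabι G) ≫ G.t =
      pullback.snd G.stabilizerToU G.t ≫ G.t := by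
  constructor
  · rw [Category.assoc, stabι_s]; exact pullback.condition
  · rw [Category.assoc, stabι_t]; exact pullback.condition

/-- conjugation `(γ, r) ↦ r⁻¹ γ r` from the pullback of the stabilizer along `t` to the
stabilizer -/
noncomputable def conjMap : pullback G.stabilizerToU G.t ⟶ G.stabilizer :=
  stabLift (conjT (pullback.snd G.stabilizerToU G.t) (pullback.fst G.stabilizerToU G.t ≫ stabι G))
    (by rw [conjT_s (conjMap_aux G).1 (conjMap_aux G).2, conjT_t (conjMap_aux G).1 (conjMap_aux G).2])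

lemma conjMap_ι : conjMap G ≫ stabι G =
    conjT (pullback.snd G.stabilizerToU G.t) (pullback.fst G.stabilizerToU G.t ≫ stabι G) :=
  stabLift_ι _ _

lemma conjMap_toU : conjMap G ≫ G.stabilizerToU = pullback.snd G.stabilizerToU G.t ≫ G.s := by
  unfold conjMap
  rw [stabLift_toU, conjT_s (conjMap_aux G).1 (conjMap_aux G).2]

/-- the pullbacks of the stabilizer along `s` and along `t` agree (over `R`) -/
theorem isPullback_conjMap :
    IsPullback (conjMap G) (pullback.snd G.stabilizerToU G.t) G.stabilizerToU G.s := by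
  refine isPullback_of_existsUnique (conjMap_toU G) ?_ ?_
  · intro T a b' hab
    have hs' : (a ≫ stabι G) ≫ G.s = b' ≫ G.s := by rw [Category.assoc, stabι_s, hab]
    have ht' : (a ≫ stabι G) ≫ G.t = b' ≫ G.s := by rw [Category.assoc, stabι_t, hab]
    have hst : conjS b' (a ≫ stabι G) ≫ G.s = conjS b' (a ≫ stabι G) ≫ G.t := by
      rw [conjS_s hs' ht', conjS_t hs' ht']
    have hw : stabLift (conjS b' (a ≫ stabι G)) hst ≫ G.stabilizerToU = b' ≫ G.t := by
      rw [stabLift_toU, conjS_s hs' ht']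
    refine ⟨pullback.lift (stabLift (conjS b' (a ≫ stabι G)) hst) b' hw, ?_, pullback.lift_snd _ _ _⟩
    apply stab_hom_ext
    rw [Category.assoc, conjMap_ι, comp_conjT _ (conjMap_aux G).1 (conjMap_aux G).2,
      pullback.lift_snd, ← Category.assoc, pullback.lift_fst, stabLift_ι]
    exact conjT_conjS hs' ht'
  · intro T m m' h1 h2
    have hm : ∀ n : T ⟶ pullback G.stabilizerToU G.t,
        ((n ≫ pullback.fst G.stabilizerToU G.t) ≫ stabι G) ≫ G.s =
          (n ≫ pullback.snd G.stabilizerToU G.t) ≫ G.t ∧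
        ((n ≫ pullback.fst G.stabilizerToU G.t) ≫ stabι G) ≫ G.t =
          (n ≫ pullback.snd G.stabilizerToU G.t) ≫ G.t := by
      intro n
      constructor
      · rw [Category.assoc, Category.assoc, Category.assoc, ← Category.assoc _ _ G.s,
          (conjMap_aux G).1]
      · rw [Category.assoc, Category.assoc, Category.assoc, ← Category.assoc _ _ G.t,
          (conjMap_aux G).2]
    have hc : ∀ n : T ⟶ pullback G.stabilizerToU G.t,
        (n ≫ conjMap G) ≫ stabι G = conjT (n ≫ pullback.snd G.stabilizerToU G.t)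
          ((n ≫ pullback.fst G.stabilizerToU G.t) ≫ stabι G) := by
      intro n
      rw [Category.assoc, conjMap_ι, comp_conjT _ (conjMap_aux G).1 (conjMap_aux G).2,
        Category.assoc]
    refine pullback.hom_ext ?_ h2
    apply stab_hom_ext
    rw [← conjS_conjT (hm m).1 (hm m).2, ← conjS_conjT (hm m').1 (hm m').2, ← hc m, ← hc m', h1, h2]

end Stab

end Groth.Agent.H37.GrpdCalc
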