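import Groth.Agent.H37.CompFix2

/-!
# Base change through an intermediate separably closed normal extension

For a tower `k → F → K` with `F/k` normal and `F` separably closed, the irreducible components of
`X_K` are the preimages of those of `X_F`; consequences for a subset whose preimage lies in a unique
irreducible component.
-/

set_option autoImplicit false
universe u
open CategoryTheory CategoryTheory.Limits AlgebraicGeometry Opposite

namespace Groth.Agent.H37

theorem exists_irreducibleComponent_superset {α : Type*} [TopologicalSpace α] (s : Set α)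
    (hs : IsIrreducible s) : ∃ t ∈ irreducibleComponents α, s ⊆ t := by
  obtain ⟨t, ht, hst, hmax⟩ := exists_preirreducible s hs.isPreirreducible
  have hti : IsIrreducible t := ⟨hs.nonempty.mono hst, ht⟩
  exact ⟨t, ⟨hti, fun u hu htu => (hmax u hu.isPreirreducible htu).le⟩, hst⟩

/-- The projection `X_K ⟶ X_F` for a tower `k → F → K`. -/
theorem exists_towerLeg {k F K : Type u} [Field k] [Field F] [Field K] [Algebra k F]
    [Algebra F K] [Algebra k K] [IsScalarTower k F K] {X : Scheme.{u}}
    (f : X ⟶ Spec (CommRingCat.of k)) :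
    ∃ q : pullback f (Spec.map (CommRingCat.ofHom (algebraMap k K))) ⟶
        pullback f (Spec.map (CommRingCat.ofHom (algebraMap k F))),
      q ≫ pullback.fst f (Spec.map (CommRingCat.ofHom (algebraMap k F))) =
        pullback.fst f (Spec.map (CommRingCat.ofHom (algebraMap k K))) ∧
      IsPullback q (pullback.snd f (Spec.map (CommRingCat.ofHom (algebraMap k K))))
        (pullback.snd f (Spec.map (CommRingCat.ofHom (algebraMap k F))))
        (Spec.map (CommRingCat.ofHom (algebraMap F K))) := by
  have hq : Spec.map (CommRingCat.ofHom (algebraMap F K)) ≫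
      Spec.map (CommRingCat.ofHom (algebraMap k F)) =
      Spec.map (CommRingCat.ofHom (algebraMap k K)) := by
    rw [← Spec.map_comp]
    congr 1
    ext x
    exact (IsScalarTower.algebraMap_apply k F K x).symm
  have hw : pullback.fst f (Spec.map (CommRingCat.ofHom (algebraMap k K))) ≫ f =
      (pullback.snd f (Spec.map (CommRingCat.ofHom (algebraMap k K))) ≫
        Spec.map (CommRingCat.ofHom (algebraMap F K))) ≫
        Spec.map (CommRingCat.ofHom (algebraMap k F)) := by
    rw [Category.assoc, hq]; exact pullback.condition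
  obtain ⟨q, hq1, hq2⟩ : ∃ q : pullback f (Spec.map (CommRingCat.ofHom (algebraMap k K))) ⟶
      pullback f (Spec.map (CommRingCat.ofHom (algebraMap k F))),
      q ≫ pullback.fst f (Spec.map (CommRingCat.ofHom (algebraMap k F))) =
        pullback.fst f (Spec.map (CommRingCat.ofHom (algebraMap k K))) ∧
      q ≫ pullback.snd f (Spec.map (CommRingCat.ofHom (algebraMap k F))) =
        pullback.snd f (Spec.map (CommRingCat.ofHom (algebraMap k K))) ≫
          Spec.map (CommRingCat.ofHom (algebraMap F K)) :=
    ⟨pullback.lift _ _ hw, pullback.lift_fst _ _ _, pullback.lift_snd _ _ _⟩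
  refine ⟨q, hq1, ?_⟩
  refine IsPullback.of_right ?_ hq2
    (IsPullback.of_hasPullback f (Spec.map (CommRingCat.ofHom (algebraMap k F))))
  rw [hq1, hq]
  exact IsPullback.of_hasPullback f (Spec.map (CommRingCat.ofHom (algebraMap k K)))

/-- Over a separably closed field, the preimage of a closed irreducible subset in any base field
extension is irreducible. -/
theorem isIrreducible_preimage_of_isSepClosed_base {F : Type u} [Field F] [IsSepClosed F]
    {Y : Scheme.{u}} (g : Y ⟶ Spec (CommRingCat.of F)) (T : Set Y) (hTc : IsClosed T)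
    (hTi : IsIrreducible T) (K : Type u) [Field K] [Algebra F K] :
    IsIrreducible ((pullback.fst g (Spec.map (CommRingCat.ofHom (algebraMap F K)))) ⁻¹' T) := by
  obtain ⟨Y', ι, hι, hr⟩ := exists_closedImmersion_range T hTc
  haveI : IrreducibleSpace ↥Y' := (irreducibleSpace_iff_of_range ι.isEmbedding hr).mpr hTi
  haveI : GeometricallyIrreducible (ι ≫ g) := geomIrr_of_isSepClosed _
  obtain ⟨e', -, -, hecl', her'⟩ :=
    exists_bc_closedImmersion g ι (Spec.map (CommRingCat.ofHom (algebraMap F K)))
  rw [hr] at her'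
  haveI : Subsingleton ↥(Spec (CommRingCat.of K)) :=
    (inferInstance : Subsingleton (PrimeSpectrum K))
  haveI : Nonempty ↥(Spec (CommRingCat.of K)) :=
    (inferInstance : Nonempty (PrimeSpectrum K))
  haveI : IrreducibleSpace
      ↥(pullback (ι ≫ g) (Spec.map (CommRingCat.ofHom (algebraMap F K)))) :=
    GeometricallyIrreducible.irreducibleSpace_of_subsingleton
      (f := pullback.snd (ι ≫ g) (Spec.map (CommRingCat.ofHom (algebraMap F K))))
  exact (irreducibleSpace_iff_of_range e'.isEmbedding her').mp inferInstance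

section General

variable {k : Type u} [Field k] (Ω : Type u) [Field Ω] [Algebra k Ω]
  {W Y : Scheme.{u}} {π : W ⟶ Y} {s : W ⟶ Spec (CommRingCat.of Ω)}
  {g : Y ⟶ Spec (CommRingCat.of k)}
  (sq : IsPullback π s g (Spec.map (CommRingCat.ofHom (algebraMap k Ω))))

include sq

theorem preimage_eq_image_iso_inv (T : Set Y) :
    π ⁻¹' T = sq.isoPullback.inv ''
      ((pullback.fst g (Spec.map (CommRingCat.ofHom (algebraMap k Ω)))) ⁻¹' T) := by
  have hfst : sq.isoPullback.hom ≫ pullback.fst g _ = π := sq.isoPullback_hom_fst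
  have hinv : sq.isoPullback.inv ≫ π = pullback.fst g _ := sq.isoPullback_inv_fst
  ext w
  constructor
  · intro hw
    refine ⟨sq.isoPullback.hom w, ?_, ?_⟩
    · show pullback.fst g (Spec.map (CommRingCat.ofHom (algebraMap k Ω)))
        (sq.isoPullback.hom w) ∈ T
      rw [← Scheme.Hom.comp_apply, hfst]
      exact hw
    · rw [← Scheme.Hom.comp_apply, Iso.hom_inv_id]; rfl
  · rintro ⟨v, hv, rfl⟩
    show π (sq.isoPullback.inv v) ∈ T
    have e1 : π (sq.isoPullback.inv v) =
        pullback.fst g (Spec.map (CommRingCat.ofHom (algebraMap k Ω))) v := by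
      rw [← Scheme.Hom.comp_apply, hinv]
    rw [e1]; exact hv

/-- Over a separably closed base field, preimages of closed irreducible sets under a base field
extension are irreducible. -/
theorem isIrreducible_preimage_of_isPullback_base [IsSepClosed k] (T : Set Y) (hTc : IsClosed T)
    (hTi : IsIrreducible T) : IsIrreducible (π ⁻¹' T) := by
  rw [preimage_eq_image_iso_inv Ω sq T]
  exact (isIrreducible_preimage_of_isSepClosed_base g T hTc hTi Ω).image _
    sq.isoPullback.inv.continuous.continuousOn

end General

section Tower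

variable {k F K : Type u} [Field k] [Field F] [Field K] [Algebra k F] [Algebra F K]
  [Algebra k K] [IsScalarTower k F K] [IsSepClosed F] [Normal k F]
  {X : Scheme.{u}} (f : X ⟶ Spec (CommRingCat.of k))

/-- If the preimage of `Z` in `X_K` lies in a unique irreducible component `C'`, then the preimage
in `X_F` of the image of `C'` is irreducible (`F/k` normal, `F` separably closed, `F ⊆ K`). -/
theorem isIrreducible_preimage_image_of_unique (Z : Set X)
    (C' : Set ↑(pullback f (Spec.map (CommRingCat.ofHom (algebraMap k K)))))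
    (hC' : C' ∈ irreducibleComponents
      ↑(pullback f (Spec.map (CommRingCat.ofHom (algebraMap k K)))))
    (huniq : ∀ D ∈ irreducibleComponents
      ↑(pullback f (Spec.map (CommRingCat.ofHom (algebraMap k K)))),
      (pullback.fst f (Spec.map (CommRingCat.ofHom (algebraMap k K)))).base ⁻¹' Z ⊆ D ↔ D = C') :
    IsIrreducible ((pullback.fst f (Spec.map (CommRingCat.ofHom (algebraMap k F)))).base ⁻¹'
      ((pullback.fst f (Spec.map (CommRingCat.ofHom (algebraMap k K)))).base '' C')) := by
  letI : X.Over (Spec (CommRingCat.of k)) := ⟨f⟩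
  obtain ⟨q, hq1, sq⟩ := exists_towerLeg (F := F) (K := K) f
  have hqs : Surjective q :=
    MorphismProperty.of_isPullback (P := @Surjective) sq.flip surjective_specMap_field
  have hqsurj : Function.Surjective ⇑q := hqs.surj
  have hpq : ∀ y, pullback.fst f (Spec.map (CommRingCat.ofHom (algebraMap k F))) (q y) =
      pullback.fst f (Spec.map (CommRingCat.ofHom (algebraMap k K))) y := fun y => by
    rw [← Scheme.Hom.comp_apply, hq1]
  -- (ii) preimages of closed irreducible sets are irreducible
  have hii : ∀ T : Set ↑(pullback f (Spec.map (CommRingCat.ofHom (algebraMap k F)))),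
      IsClosed T → IsIrreducible T → IsIrreducible (⇑q ⁻¹' T) :=
    fun T hTc hTi => isIrreducible_preimage_of_isPullback_base K sq T hTc hTi
  -- (iii) every component upstairs is the preimage of a component downstairs
  have hiii : ∀ D ∈ irreducibleComponents
      ↑(pullback f (Spec.map (CommRingCat.ofHom (algebraMap k K)))),
      ∃ Dbar ∈ irreducibleComponents
        ↑(pullback f (Spec.map (CommRingCat.ofHom (algebraMap k F)))), D = ⇑q ⁻¹' Dbar := by
    intro D hD
    obtain ⟨t, ht, hst⟩ := exists_irreducibleComponent_superset (⇑q '' D)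
      (hD.1.image _ q.continuous.continuousOn)
    refine ⟨t, ht, ?_⟩
    have hsub : D ⊆ ⇑q ⁻¹' t := fun y hy => hst ⟨y, hy, rfl⟩
    exact Set.Subset.antisymm hsub
      (hD.2 (hii t (isClosed_of_mem_irreducibleComponents t ht) ht.1) hsub)
  -- (iv) preimages of components are components
  have hiv : ∀ Dbar ∈ irreducibleComponents
      ↑(pullback f (Spec.map (CommRingCat.ofHom (algebraMap k F)))),
      ⇑q ⁻¹' Dbar ∈ irreducibleComponents
        ↑(pullback f (Spec.map (CommRingCat.ofHom (algebraMap k K)))) := by
    intro Dbar hDbar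
    have h1 := hii Dbar (isClosed_of_mem_irreducibleComponents Dbar hDbar) hDbar.1
    obtain ⟨D1, hD1, hsub⟩ := exists_irreducibleComponent_superset _ h1
    obtain ⟨Dbar1, hDbar1, rfl⟩ := hiii D1 hD1
    have h2 : Dbar ⊆ Dbar1 := hqsurj.preimage_subset_preimage_iff.mp hsub
    have h3 : Dbar = Dbar1 := Set.Subset.antisymm h2 (hDbar.2 hDbar1.1 h2)
    rw [h3]; exact hD1
  obtain ⟨Cbar, hCbar, hCC⟩ := hiii C' hC'
  -- (vi)
  have hvi : ∀ Dbar ∈ irreducibleComponents
      ↑(pullback f (Spec.map (CommRingCat.ofHom (algebraMap k F)))),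
      (pullback.fst f (Spec.map (CommRingCat.ofHom (algebraMap k F)))).base ⁻¹' Z ⊆ Dbar →
      Dbar = Cbar := by
    intro Dbar hDbar hsub
    have h1 : (pullback.fst f (Spec.map (CommRingCat.ofHom (algebraMap k K)))).base ⁻¹' Z ⊆
        ⇑q ⁻¹' Dbar := by
      intro y hy
      apply hsub
      show pullback.fst f (Spec.map (CommRingCat.ofHom (algebraMap k F))) (q y) ∈ Z
      rw [hpq y]; exact hy
    have h2 : ⇑q ⁻¹' Dbar = C' := (huniq _ (hiv Dbar hDbar)).mp h1
    rw [hCC] at h2
    exact hqsurj.preimage_injective h2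
  -- (vii)
  have hvii : (pullback.fst f (Spec.map (CommRingCat.ofHom (algebraMap k F)))).base ⁻¹' Z ⊆
      Cbar := by
    intro ybar hybar
    obtain ⟨y, rfl⟩ := hqsurj ybar
    have h1 : y ∈ C' := (huniq C' hC').mpr rfl (by
      show pullback.fst f (Spec.map (CommRingCat.ofHom (algebraMap k K))) y ∈ Z
      rw [← hpq y]; exact hybar)
    rw [hCC] at h1
    exact h1
  -- (viii)
  have hviii : (pullback.fst f (Spec.map (CommRingCat.ofHom (algebraMap k K)))).base '' C' =
      (Curv2.bcFst k X F).base '' Cbar := by
    rw [hCC]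
    ext z
    constructor
    · rintro ⟨y, hy, rfl⟩
      exact ⟨q y, hy, hpq y⟩
    · rintro ⟨ybar, hybar, rfl⟩
      obtain ⟨y, rfl⟩ := hqsurj ybar
      exact ⟨y, hybar, (hpq y).symm⟩
  rw [hviii]
  have hC : (Curv2.bcFst k X F).base '' Cbar ∈ irreducibleComponents ↥X :=
    (Groth.Agent.S1546.result k X F).1 Cbar hCbar
  have hunion : ⋃₀ compsOver k X F ((Curv2.bcFst k X F).base '' Cbar) = Cbar := by
    apply Set.Subset.antisymm
    · rintro y ⟨Dbar, ⟨hDbar, hDsub⟩, hyD⟩
      obtain ⟨σ, hσ⟩ := exists_galAct_image_eq k X F _ hC Cbar Dbar hCbar hDbar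
        (Set.Subset.refl _) hDsub
      have h1 : (Curv2.bcFst k X F).base ⁻¹' Z ⊆ Dbar := by
        rw [← hσ, ← image_galAct_preimage k X F σ Z]
        exact Set.image_mono hvii
      rw [hvi Dbar hDbar h1] at hyD
      exact hyD
    · intro y hy
      exact ⟨Cbar, ⟨hCbar, Set.Subset.refl _⟩, hy⟩
  have hpre := preimage_eq_sUnion_compsOver k X F _ hC
  rw [hunion] at hpre
  show IsIrreducible ((Curv2.bcFst k X F).base ⁻¹' ((Curv2.bcFst k X F).base '' Cbar))
  rw [hpre]
  exact hCbar.1

end Tower

end Groth.Agent.H37
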