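import Groth.Agent.H37.GrpdCalc2
import Groth.Agent.H37.TowerBC
import Groth.Agent.H37.CountComp

/-!
# Groupoid schemes over a field: irreducible components through the identity

Topological lemmas (going down of "unique irreducible component through a point" along flat
morphisms, minimal primes of stalks), the restriction of a groupoid along `V ⟶ U` (only the part
of the structure that is needed), and the uniqueness of the irreducible component through the
identity of `R ×_{s,U} V`.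
-/

set_option autoImplicit false
universe u
open CategoryTheory CategoryTheory.Limits AlgebraicGeometry
open Grpd

namespace Groth.Agent.H37

section Topology

lemma isIrreducible_range_of_irreducibleSpace {α β : Type*} [TopologicalSpace α]
    [TopologicalSpace β] [IrreducibleSpace α] {f : α → β} (hf : Continuous f) :
    IsIrreducible (Set.range f) := by
  rw [← Set.image_univ]
  exact (IrreducibleSpace.isIrreducible_univ α).image f hf.continuousOn

/-- Uniqueness of the irreducible component through a point descends along flat morphisms. -/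
theorem unique_component_of_flat {X Y : Scheme.{u}} (p : Y ⟶ X) [Flat p] (y : Y)
    (hy : ∀ D₁ D₂ : Set Y, D₁ ∈ irreducibleComponents Y → D₂ ∈ irreducibleComponents Y →
      y ∈ D₁ → y ∈ D₂ → D₁ = D₂)
    (C₁ C₂ : Set X) (h₁ : C₁ ∈ irreducibleComponents X) (h₂ : C₂ ∈ irreducibleComponents X)
    (hx₁ : p y ∈ C₁) (hx₂ : p y ∈ C₂) : C₁ = C₂ := by
  have key : ∀ C ∈ irreducibleComponents X, p y ∈ C →
      ∃ D ∈ irreducibleComponents Y, y ∈ D ∧ ∀ ζ, IsGenericPoint ζ D → closure {p ζ} = C := by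
    intro C hC hxC
    have hCcl := isClosed_of_mem_irreducibleComponents C hC
    obtain ⟨ξ, hξ⟩ := QuasiSober.sober hC.1 hCcl
    have hspec : ξ ⤳ p y := by
      rw [specializes_iff_mem_closure, hξ.def]; exact hxC
    obtain ⟨y', hy'y, hy'ξ⟩ := Flat.generalizingMap p hspec
    refine ⟨irreducibleComponent y', irreducibleComponent_mem_irreducibleComponents y',
      hy'y.mem_closed isClosed_irreducibleComponent mem_irreducibleComponent, ?_⟩
    intro ζ hζ
    have hζy' : ζ ⤳ y' := by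
      rw [specializes_iff_mem_closure, hζ.def]; exact mem_irreducibleComponent
    have h1 : p ζ ⤳ ξ := by
      rw [← hy'ξ]; exact hζy'.map p.continuous
    have h2 : C ⊆ closure {p ζ} := by
      rw [← hξ.def]; exact specializes_iff_closure_subset.mp h1
    exact Set.Subset.antisymm (hC.2 isIrreducible_singleton.closure h2) h2
  obtain ⟨D₁, hD₁, hyD₁, hg₁⟩ := key C₁ h₁ hx₁
  obtain ⟨D₂, hD₂, hyD₂, hg₂⟩ := key C₂ h₂ hx₂
  have hD : D₁ = D₂ := hy D₁ D₂ hD₁ hD₂ hyD₁ hyD₂
  subst hD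
  obtain ⟨ζ, hζ⟩ := QuasiSober.sober hD₁.1 (isClosed_of_mem_irreducibleComponents D₁ hD₁)
  rw [← hg₁ ζ hζ, ← hg₂ ζ hζ]

/-- If exactly one irreducible component passes through `x`, the local ring at `x` has at most
one minimal prime. -/
theorem minimalPrimes_stalk_subsingleton_of_unique {X : Scheme.{u}} (x : X)
    (h : ∀ Z₁ Z₂ : Set X, Z₁ ∈ irreducibleComponents X → Z₂ ∈ irreducibleComponents X →
      x ∈ Z₁ → x ∈ Z₂ → Z₁ = Z₂) :
    (minimalPrimes (X.presheaf.stalk x)).Subsingleton := by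
  have key : ∀ p ∈ minimalPrimes (X.presheaf.stalk x),
      ∃ (P : ↥(Spec (X.presheaf.stalk x))) (C : Set X),
        (P : PrimeSpectrum (X.presheaf.stalk x)).asIdeal = p ∧ C ∈ irreducibleComponents X ∧
        x ∈ C ∧ IsGenericPoint (X.fromSpecStalk x P) C := by
    intro p hp
    have hp' : Minimal (fun q : Ideal (X.presheaf.stalk x) => q.IsPrime ∧ ⊥ ≤ q) p := hp
    let P₀ : PrimeSpectrum (X.presheaf.stalk x) := ⟨p, hp'.1.1⟩
    let P : ↥(Spec (X.presheaf.stalk x)) := P₀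
    have hspec : X.fromSpecStalk x P ⤳ x := by
      have hmem : X.fromSpecStalk x P ∈ Set.range ⇑(X.fromSpecStalk x) := ⟨P, rfl⟩
      rw [Scheme.range_fromSpecStalk] at hmem
      exact hmem
    obtain ⟨C, hC, hsub⟩ := exists_irreducibleComponent_superset
      (closure {X.fromSpecStalk x P}) isIrreducible_singleton.closure
    have hCcl := isClosed_of_mem_irreducibleComponents C hC
    obtain ⟨ζ, hζ⟩ := QuasiSober.sober hC.1 hCcl
    have hPC : X.fromSpecStalk x P ∈ C := hsub (subset_closure rfl)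
    have hζP : ζ ⤳ X.fromSpecStalk x P := by
      rw [specializes_iff_mem_closure, hζ.def]; exact hPC
    have hζx : ζ ⤳ x := hζP.trans hspec
    obtain ⟨P', hP'⟩ : ζ ∈ Set.range ⇑(X.fromSpecStalk x) := by
      rw [Scheme.range_fromSpecStalk]; exact hζx
    have hP'P : P' ⤳ P := by
      rw [← (X.fromSpecStalk x).isEmbedding.isInducing.specializes_iff, hP']; exact hζP
    have hle : (P' : PrimeSpectrum (X.presheaf.stalk x)).asIdeal ≤ p :=
      (PrimeSpectrum.le_iff_specializes (P' : PrimeSpectrum (X.presheaf.stalk x)) P₀).mpr hP'P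
    have hge : p ≤ (P' : PrimeSpectrum (X.presheaf.stalk x)).asIdeal :=
      hp'.2 ⟨(P' : PrimeSpectrum (X.presheaf.stalk x)).isPrime, bot_le⟩ hle
    have hPP' : P' = P := PrimeSpectrum.ext (le_antisymm hle hge)
    rw [hPP'] at hP'
    refine ⟨P, C, rfl, hC, hspec.mem_closed hCcl hPC, ?_⟩
    rw [hP']; exact hζ
  intro p hp q hq
  obtain ⟨P, C, rfl, hC, hxC, hgP⟩ := key p hp
  obtain ⟨Q, D, rfl, hD, hxD, hgQ⟩ := key q hq
  have hCD : C = D := h C D hC hD hxC hxD
  subst hCD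
  have h1 : X.fromSpecStalk x P = X.fromSpecStalk x Q := hgP.eq hgQ
  have h2 : P = Q := (X.fromSpecStalk x).isEmbedding.injective h1
  rw [h2]

/-- A point of `X ×_S S'` lying over a point in the image of a section of `X ⟶ S` is unique
(`S'` a one point space). -/
theorem eq_of_fst_eq_section {X S S' : Scheme.{u}} (f : X ⟶ S) (g : S' ⟶ S) (σ : S ⟶ X)
    (hσ : σ ≫ f = 𝟙 S) [Subsingleton S'] (y y' : ↥(pullback f g)) (s s' : S)
    (hy : pullback.fst f g y = σ s) (hy' : pullback.fst f g y' = σ s') : y = y' := by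
  have sq1 := (IsPullback.of_hasPullback σ (pullback.fst f g)).flip
  have sq2 := (IsPullback.of_hasPullback f g).flip
  have big := sq1.paste_horiz sq2
  rw [hσ] at big
  haveI : IsIso (pullback.snd σ (pullback.fst f g) ≫ pullback.snd f g) :=
    big.isIso_fst_of_isIso
  haveI : Subsingleton ↥(pullback σ (pullback.fst f g)) :=
    (pullback.snd σ (pullback.fst f g) ≫ pullback.snd f g).homeomorph.subsingleton
  obtain ⟨w, -, hw⟩ := Scheme.Pullback.exists_preimage_pullback (f := σ)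
    (g := pullback.fst f g) s y hy.symm
  obtain ⟨w', -, hw'⟩ := Scheme.Pullback.exists_preimage_pullback (f := σ)
    (g := pullback.fst f g) s' y' hy'.symm
  rw [← hw, ← hw', Subsingleton.elim w w']

theorem flat_of_iso_spec_field {X U : Scheme.{u}} (k : Type u) [Field k]
    (eU : U ≅ Spec (CommRingCat.of k)) (f : X ⟶ U) : Flat f := by
  obtain ⟨h1, h2⟩ := integral_subsingleton_of_iso_spec_field k eU
  infer_instance

end Topology


section Comp

/-- Two irreducible components through a two sided unit `ε` of a partial composition law on a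
scheme `R'` over a separably closed field coincide. -/
theorem unique_component_of_comp {R' V : Scheme.{u}} (Ω : Type u) [Field Ω] [IsSepClosed Ω]
    (eV : V ≅ Spec (CommRingCat.of Ω)) (s' t' : R' ⟶ V) (c' : pullback s' t' ⟶ R') (ε : R')
    (hce : ∀ x : R', ∃ q : ↥(pullback s' t'),
      pullback.fst s' t' q = x ∧ pullback.snd s' t' q = ε ∧ c' q = x)
    (hec : ∀ x : R', ∃ q : ↥(pullback s' t'),
      pullback.fst s' t' q = ε ∧ pullback.snd s' t' q = x ∧ c' q = x)
    (Z₁ Z₂ : Set R') (h₁ : Z₁ ∈ irreducibleComponents R') (h₂ : Z₂ ∈ irreducibleComponents R')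
    (he₁ : ε ∈ Z₁) (he₂ : ε ∈ Z₂) : Z₁ = Z₂ := by
  obtain ⟨W₁, ι₁, hι₁, hr₁⟩ :=
    exists_closedImmersion_range Z₁ (isClosed_of_mem_irreducibleComponents Z₁ h₁)
  obtain ⟨W₂, ι₂, hι₂, hr₂⟩ :=
    exists_closedImmersion_range Z₂ (isClosed_of_mem_irreducibleComponents Z₂ h₂)
  haveI : IrreducibleSpace W₁ := (irreducibleSpace_iff_of_range ι₁.isEmbedding hr₁).mpr h₁.1
  haveI : IrreducibleSpace W₂ := (irreducibleSpace_iff_of_range ι₂.isEmbedding hr₂).mpr h₂.1
  haveI hgi0 : GeometricallyIrreducible ((ι₁ ≫ s') ≫ eV.hom) := geomIrr_of_isSepClosed _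
  haveI hgi : GeometricallyIrreducible (ι₁ ≫ s') :=
    (MorphismProperty.cancel_right_of_respectsIso (P := @GeometricallyIrreducible)
      (ι₁ ≫ s') eV.hom).mp hgi0
  haveI huo : UniversallyOpen (ι₁ ≫ s') := univOpen_of_iso_spec_field Ω eV _
  haveI hirr : IrreducibleSpace ↥(pullback (ι₁ ≫ s') (ι₂ ≫ t')) := inferInstance
  have e1 : (ι₁ ≫ s') ≫ 𝟙 V = ι₁ ≫ s' := Category.comp_id _
  have e2 : (ι₂ ≫ t') ≫ 𝟙 V = ι₂ ≫ t' := Category.comp_id _
  obtain ⟨m, hm⟩ : ∃ m : pullback (ι₁ ≫ s') (ι₂ ≫ t') ⟶ pullback s' t',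
      Set.range ⇑m = pullback.fst s' t' ⁻¹' Z₁ ∩ pullback.snd s' t' ⁻¹' Z₂ := by
    refine ⟨pullback.map (ι₁ ≫ s') (ι₂ ≫ t') s' t' ι₁ ι₂ (𝟙 V) e1 e2, ?_⟩
    rw [← hr₁, ← hr₂]
    exact Scheme.Pullback.range_map (ι₁ ≫ s') (ι₂ ≫ t') s' t' ι₁ ι₂ (𝟙 V) e1 e2
  have hIirr : IsIrreducible (Set.range ⇑(m ≫ c')) :=
    isIrreducible_range_of_irreducibleSpace (m ≫ c').continuous
  have hcl : IsIrreducible (closure (Set.range ⇑(m ≫ c'))) := hIirr.closure
  have hZ₁ : Z₁ ⊆ Set.range ⇑(m ≫ c') := by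
    intro x hx
    obtain ⟨q, hq1, hq2, hq3⟩ := hce x
    have hqm : q ∈ Set.range ⇑m := by
      rw [hm]
      refine ⟨?_, ?_⟩
      · show pullback.fst s' t' q ∈ Z₁
        rw [hq1]; exact hx
      · show pullback.snd s' t' q ∈ Z₂
        rw [hq2]; exact he₂
    obtain ⟨w, hw⟩ := hqm
    exact ⟨w, by rw [Scheme.Hom.comp_apply, hw, hq3]⟩
  have hZ₂ : Z₂ ⊆ Set.range ⇑(m ≫ c') := by
    intro x hx
    obtain ⟨q, hq1, hq2, hq3⟩ := hec x
    have hqm : q ∈ Set.range ⇑m := by
      rw [hm]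
      refine ⟨?_, ?_⟩
      · show pullback.fst s' t' q ∈ Z₁
        rw [hq1]; exact he₁
      · show pullback.snd s' t' q ∈ Z₂
        rw [hq2]; exact hx
    obtain ⟨w, hw⟩ := hqm
    exact ⟨w, by rw [Scheme.Hom.comp_apply, hw, hq3]⟩
  have hc1 : closure (Set.range ⇑(m ≫ c')) ⊆ Z₁ := h₁.2 hcl (hZ₁.trans subset_closure)
  have hc2 : closure (Set.range ⇑(m ≫ c')) ⊆ Z₂ := h₂.2 hcl (hZ₂.trans subset_closure)
  exact Set.Subset.antisymm (hZ₁.trans (subset_closure.trans hc2))
    (hZ₂.trans (subset_closure.trans hc1))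

end Comp

namespace GrpdRst

open GrpdCalc

variable {S : Scheme.{u}} (G : Grpd.GroupoidScheme S) {V : Scheme.{u}} (g : V ⟶ G.U)

lemma e_i : G.e ≫ G.i = G.e := by
  have h1 : mul G G.e (G.e ≫ G.i) = G.e ≫ G.t ≫ G.e := mul_i rfl
  have h2 : mul G G.e (G.e ≫ G.i) = G.e ≫ G.i := by
    apply e_mul
    rw [Category.assoc, ← Category.assoc G.i, G.i_t, ← Category.assoc, G.e_s, Category.id_comp]
  rw [← h2, h1, ← Category.assoc, G.e_t, Category.id_comp]

/-- the arrows of the restriction of the groupoid along `g : V ⟶ U`: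
`(R ×_{s,U,g} V) ×_{t,U,g} V` -/
noncomputable abbrev rst : Scheme.{u} := pullback (pullback.fst G.s g ≫ G.t) g

noncomputable def rstP : rst G g ⟶ pullback G.s g := pullback.fst _ _
noncomputable def rstT : rst G g ⟶ V := pullback.snd _ _
noncomputable def rstS : rst G g ⟶ V := rstP G g ≫ pullback.snd G.s g
noncomputable def rstR : rst G g ⟶ G.R := rstP G g ≫ pullback.fst G.s g

lemma rstR_s : rstR G g ≫ G.s = rstS G g ≫ g := by
  unfold rstR rstS
  rw [Category.assoc, Category.assoc, pullback.condition]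

lemma rstR_t : rstR G g ≫ G.t = rstT G g ≫ g := by
  unfold rstR rstT rstP
  rw [Category.assoc]
  exact pullback.condition

variable {G g}

noncomputable def rstMk {T : Scheme.{u}} (r : T ⟶ G.R) (b a : T ⟶ V) (hs : r ≫ G.s = b ≫ g)
    (ht : r ≫ G.t = a ≫ g) : T ⟶ rst G g :=
  pullback.lift (pullback.lift r b hs) a (by rw [← Category.assoc, pullback.lift_fst]; exact ht)

lemma rstMk_R {T : Scheme.{u}} (r : T ⟶ G.R) (b a : T ⟶ V) (hs : r ≫ G.s = b ≫ g)
    (ht : r ≫ G.t = a ≫ g) : rstMk r b a hs ht ≫ rstR G g = r := by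
  unfold rstMk rstR rstP
  rw [← Category.assoc, pullback.lift_fst, pullback.lift_fst]

lemma rstMk_S {T : Scheme.{u}} (r : T ⟶ G.R) (b a : T ⟶ V) (hs : r ≫ G.s = b ≫ g)
    (ht : r ≫ G.t = a ≫ g) : rstMk r b a hs ht ≫ rstS G g = b := by
  unfold rstMk rstS rstP
  rw [← Category.assoc, pullback.lift_fst, pullback.lift_snd]

lemma rstMk_T {T : Scheme.{u}} (r : T ⟶ G.R) (b a : T ⟶ V) (hs : r ≫ G.s = b ≫ g)
    (ht : r ≫ G.t = a ≫ g) : rstMk r b a hs ht ≫ rstT G g = a := by
  unfold rstMk rstT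
  rw [pullback.lift_snd]

lemma rstMk_P {T : Scheme.{u}} (r : T ⟶ G.R) (b a : T ⟶ V) (hs : r ≫ G.s = b ≫ g)
    (ht : r ≫ G.t = a ≫ g) : rstMk r b a hs ht ≫ rstP G g = pullback.lift r b hs := by
  unfold rstMk rstP
  rw [pullback.lift_fst]

lemma rst_hom_ext {T : Scheme.{u}} (α β : T ⟶ rst G g)
    (hR : α ≫ rstR G g = β ≫ rstR G g) (hS : α ≫ rstS G g = β ≫ rstS G g)
    (hT : α ≫ rstT G g = β ≫ rstT G g) : α = β := by
  unfold rstR rstP at hR
  unfold rstS rstP at hS
  unfold rstT at hT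
  apply pullback.hom_ext
  · apply pullback.hom_ext
    · rw [Category.assoc, Category.assoc]; exact hR
    · rw [Category.assoc, Category.assoc]; exact hS
  · exact hT

variable (G g)

/-- the identity of the restriction -/
noncomputable def rstE : V ⟶ rst G g :=
  rstMk (g ≫ G.e) (𝟙 V) (𝟙 V)
    (by rw [Category.assoc, G.e_s, Category.comp_id, Category.id_comp])
    (by rw [Category.assoc, G.e_t, Category.comp_id, Category.id_comp])

lemma rstE_R : rstE G g ≫ rstR G g = g ≫ G.e := rstMk_R _ _ _ _ _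
lemma rstE_S : rstE G g ≫ rstS G g = 𝟙 V := rstMk_S _ _ _ _ _
lemma rstE_T : rstE G g ≫ rstT G g = 𝟙 V := rstMk_T _ _ _ _ _

lemma rstC_aux : (pullback.fst (rstS G g) (rstT G g) ≫ rstR G g) ≫ G.s =
    (pullback.snd (rstS G g) (rstT G g) ≫ rstR G g) ≫ G.t := by
  rw [Category.assoc, Category.assoc, rstR_s, rstR_t, ← Category.assoc, ← Category.assoc,
    pullback.condition]

/-- the composition of the restriction -/
noncomputable def rstC : pullback (rstS G g) (rstT G g) ⟶ rst G g :=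
  rstMk (mul G (pullback.fst (rstS G g) (rstT G g) ≫ rstR G g)
      (pullback.snd (rstS G g) (rstT G g) ≫ rstR G g))
    (pullback.snd (rstS G g) (rstT G g) ≫ rstS G g)
    (pullback.fst (rstS G g) (rstT G g) ≫ rstT G g)
    (by rw [mul_s (rstC_aux G g)]; simp only [Category.assoc, rstR_s])
    (by rw [mul_t (rstC_aux G g)]; simp only [Category.assoc, rstR_t])

lemma rstC_R : rstC G g ≫ rstR G g = mul G (pullback.fst (rstS G g) (rstT G g) ≫ rstR G g)
    (pullback.snd (rstS G g) (rstT G g) ≫ rstR G g) := rstMk_R _ _ _ _ _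
lemma rstC_S : rstC G g ≫ rstS G g = pullback.snd (rstS G g) (rstT G g) ≫ rstS G g :=
  rstMk_S _ _ _ _ _
lemma rstC_T : rstC G g ≫ rstT G g = pullback.fst (rstS G g) (rstT G g) ≫ rstT G g :=
  rstMk_T _ _ _ _ _

theorem rstC_comp_e {T : Scheme.{u}} (α : T ⟶ rst G g) :
    ∃ q : T ⟶ pullback (rstS G g) (rstT G g), q ≫ pullback.fst _ _ = α ∧
      q ≫ pullback.snd _ _ = α ≫ rstS G g ≫ rstE G g ∧ q ≫ rstC G g = α := by
  have hw : α ≫ rstS G g = (α ≫ rstS G g ≫ rstE G g) ≫ rstT G g := by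
    rw [Category.assoc, Category.assoc, rstE_T, Category.comp_id]
  refine ⟨pullback.lift α (α ≫ rstS G g ≫ rstE G g) hw, pullback.lift_fst _ _ _,
    pullback.lift_snd _ _ _, ?_⟩
  apply rst_hom_ext
  · rw [Category.assoc, rstC_R, comp_mul _ (rstC_aux G g), pullback.lift_fst_assoc,
      pullback.lift_snd_assoc]
    apply mul_e
    calc (α ≫ rstS G g ≫ rstE G g) ≫ rstR G g
        = α ≫ rstS G g ≫ (rstE G g ≫ rstR G g) := by simp only [Category.assoc]
      _ = α ≫ (rstS G g ≫ g) ≫ G.e := by rw [rstE_R]; simp only [Category.assoc]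
      _ = α ≫ (rstR G g ≫ G.s) ≫ G.e := by rw [rstR_s]
      _ = (α ≫ rstR G g) ≫ G.s ≫ G.e := by simp only [Category.assoc]
  · rw [Category.assoc, rstC_S, pullback.lift_snd_assoc, Category.assoc, Category.assoc,
      rstE_S, Category.comp_id]
  · rw [Category.assoc, rstC_T, pullback.lift_fst_assoc]

theorem rstC_e_comp {T : Scheme.{u}} (α : T ⟶ rst G g) :
    ∃ q : T ⟶ pullback (rstS G g) (rstT G g), q ≫ pullback.fst _ _ = α ≫ rstT G g ≫ rstE G g ∧
      q ≫ pullback.snd _ _ = α ∧ q ≫ rstC G g = α := by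
  have hw : (α ≫ rstT G g ≫ rstE G g) ≫ rstS G g = α ≫ rstT G g := by
    rw [Category.assoc, Category.assoc, rstE_S, Category.comp_id]
  refine ⟨pullback.lift (α ≫ rstT G g ≫ rstE G g) α hw, pullback.lift_fst _ _ _,
    pullback.lift_snd _ _ _, ?_⟩
  apply rst_hom_ext
  · rw [Category.assoc, rstC_R, comp_mul _ (rstC_aux G g), pullback.lift_fst_assoc,
      pullback.lift_snd_assoc]
    apply e_mul
    calc (α ≫ rstT G g ≫ rstE G g) ≫ rstR G g
        = α ≫ rstT G g ≫ (rstE G g ≫ rstR G g) := by simp only [Category.assoc]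
      _ = α ≫ (rstT G g ≫ g) ≫ G.e := by rw [rstE_R]; simp only [Category.assoc]
      _ = α ≫ (rstR G g ≫ G.t) ≫ G.e := by rw [rstR_t]
      _ = (α ≫ rstR G g) ≫ G.t ≫ G.e := by simp only [Category.assoc]
  · rw [Category.assoc, rstC_S, pullback.lift_snd_assoc]
  · rw [Category.assoc, rstC_T, pullback.lift_fst_assoc, Category.assoc, Category.assoc,
      rstE_T, Category.comp_id]

end GrpdRst


section Chain

open GrpdRst

variable {S : Scheme.{u}} (G : Grpd.GroupoidScheme S)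

/-- `R ×_{s,U,g} V` with `V` the spectrum of a separably closed field: there is a unique
irreducible component through a point lying over an identity. -/
theorem sFib_unique_component_sepClosed {V : Scheme.{u}} (g : V ⟶ G.U) (Ω : Type u) [Field Ω]
    [IsSepClosed Ω] (eV : V ≅ Spec (CommRingCat.of Ω)) (k : Type u) [Field k]
    (eU : G.U ≅ Spec (CommRingCat.of k)) (y : ↥(pullback G.s g)) (u : G.U)
    (hy : pullback.fst G.s g y = G.e u) (C₁ C₂ : Set ↥(pullback G.s g))
    (h₁ : C₁ ∈ irreducibleComponents ↥(pullback G.s g))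
    (h₂ : C₂ ∈ irreducibleComponents ↥(pullback G.s g)) (hy₁ : y ∈ C₁) (hy₂ : y ∈ C₂) :
    C₁ = C₂ := by
  haveI : Subsingleton V := (integral_subsingleton_of_iso_spec_field Ω eV).2
  haveI hflatg : Flat g := flat_of_iso_spec_field k eU g
  haveI : Flat (rstP G g) := by
    unfold rstP
    exact MorphismProperty.pullback_fst (P := @Flat) _ _ hflatg
  obtain ⟨v, hv⟩ : ∃ v : V, v = pullback.snd G.s g y := ⟨_, rfl⟩
  obtain ⟨ε, hε⟩ : ∃ ε : ↥(rst G g), ε = rstE G g v := ⟨_, rfl⟩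
  have hPε : rstP G g ε = y := by
    refine eq_of_fst_eq_section G.s g G.e G.e_s _ _ (g v) u ?_ hy
    have h1 : rstE G g ≫ rstP G g ≫ pullback.fst G.s g = g ≫ G.e := rstE_R G g
    rw [hε, ← Scheme.Hom.comp_apply, ← Scheme.Hom.comp_apply, h1, Scheme.Hom.comp_apply]
  refine unique_component_of_flat (rstP G g) ε ?_ C₁ C₂ h₁ h₂ (by rw [hPε]; exact hy₁)
    (by rw [hPε]; exact hy₂)
  intro D₁ D₂ hD₁ hD₂ hε₁ hε₂
  refine unique_component_of_comp Ω eV (rstS G g) (rstT G g) (rstC G g) ε ?_ ?_ D₁ D₂ hD₁ hD₂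
    hε₁ hε₂
  · intro x
    obtain ⟨q, hq1, hq2, hq3⟩ := rstC_comp_e G g ((rst G g).fromSpecResidueField x)
    refine ⟨q (IsLocalRing.closedPoint ((rst G g).residueField x)), ?_, ?_, ?_⟩
    · rw [← Scheme.Hom.comp_apply, hq1, Scheme.fromSpecResidueField_apply]
    · rw [← Scheme.Hom.comp_apply, hq2, Scheme.Hom.comp_apply, Scheme.Hom.comp_apply, hε]
      exact congrArg _ (Subsingleton.elim _ _)
    · rw [← Scheme.Hom.comp_apply, hq3, Scheme.fromSpecResidueField_apply]
  · intro x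
    obtain ⟨q, hq1, hq2, hq3⟩ := rstC_e_comp G g ((rst G g).fromSpecResidueField x)
    refine ⟨q (IsLocalRing.closedPoint ((rst G g).residueField x)), ?_, ?_, ?_⟩
    · rw [← Scheme.Hom.comp_apply, hq1, Scheme.Hom.comp_apply, Scheme.Hom.comp_apply, hε]
      exact congrArg _ (Subsingleton.elim _ _)
    · rw [← Scheme.Hom.comp_apply, hq2, Scheme.fromSpecResidueField_apply]
    · rw [← Scheme.Hom.comp_apply, hq3, Scheme.fromSpecResidueField_apply]

/-- the same over an arbitrary field -/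
theorem sFib_unique_component {V : Scheme.{u}} (a : V ⟶ G.U) (κ : Type u) [Field κ]
    (eV : V ≅ Spec (CommRingCat.of κ)) (k : Type u) [Field k]
    (eU : G.U ≅ Spec (CommRingCat.of k)) (y : ↥(pullback G.s a)) (u : G.U)
    (hy : pullback.fst G.s a y = G.e u) (C₁ C₂ : Set ↥(pullback G.s a))
    (h₁ : C₁ ∈ irreducibleComponents ↥(pullback G.s a))
    (h₂ : C₂ ∈ irreducibleComponents ↥(pullback G.s a)) (hy₁ : y ∈ C₁) (hy₂ : y ∈ C₂) :
    C₁ = C₂ := by
  haveI : Subsingleton V := (integral_subsingleton_of_iso_spec_field κ eV).2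
  obtain ⟨j, hj⟩ : ∃ j : Spec (CommRingCat.of (SeparableClosure κ)) ⟶ V,
      j = Spec.map (CommRingCat.ofHom (algebraMap κ (SeparableClosure κ))) ≫ eV.inv := ⟨_, rfl⟩
  haveI hjflat : Flat j := flat_of_iso_spec_field κ eV j
  have hjsurj : Surjective j :=
    ⟨fun x => ⟨(⊥ : PrimeSpectrum (SeparableClosure κ)), Subsingleton.elim _ _⟩⟩
  have hq0 : pullback.fst G.s (j ≫ a) ≫ G.s = (pullback.snd G.s (j ≫ a) ≫ j) ≫ a := by
    rw [Category.assoc]; exact pullback.condition
  obtain ⟨q, hq1, hq2⟩ : ∃ q : pullback G.s (j ≫ a) ⟶ pullback G.s a,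
      q ≫ pullback.fst G.s a = pullback.fst G.s (j ≫ a) ∧
      q ≫ pullback.snd G.s a = pullback.snd G.s (j ≫ a) ≫ j :=
    ⟨pullback.lift _ _ hq0, pullback.lift_fst _ _ _, pullback.lift_snd _ _ _⟩
  have sqq : IsPullback q (pullback.snd G.s (j ≫ a)) (pullback.snd G.s a) j := by
    refine IsPullback.of_right ?_ hq2 (IsPullback.of_hasPullback G.s a)
    rw [hq1]; exact IsPullback.of_hasPullback G.s (j ≫ a)
  haveI hqflat : Flat q := MorphismProperty.of_isPullback (P := @Flat) sqq.flip hjflat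
  have hqsurj : Surjective q := MorphismProperty.of_isPullback (P := @Surjective) sqq.flip hjsurj
  obtain ⟨y', hy'⟩ := hqsurj.surj y
  have hy'e : pullback.fst G.s (j ≫ a) y' = G.e u := by
    rw [← hq1, Scheme.Hom.comp_apply, hy', hy]
  refine unique_component_of_flat q y' ?_ C₁ C₂ h₁ h₂ (by rw [hy']; exact hy₁)
    (by rw [hy']; exact hy₂)
  intro D₁ D₂ hD₁ hD₂ h1 h2
  exact sFib_unique_component_sepClosed G (j ≫ a) (SeparableClosure κ) (Iso.refl _) k eU y' u
    hy'e D₁ D₂ hD₁ hD₂ h1 h2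

/-- the same for any base change square -/
theorem unique_component_of_isPullback_s {W V : Scheme.{u}} {π : W ⟶ G.R} {w : W ⟶ V}
    {a : V ⟶ G.U} (sq : IsPullback π w G.s a) (κ : Type u) [Field κ]
    (eV : V ≅ Spec (CommRingCat.of κ)) (k : Type u) [Field k]
    (eU : G.U ≅ Spec (CommRingCat.of k)) (y : W) (u : G.U) (hy : π y = G.e u)
    (D₁ D₂ : Set W) (h₁ : D₁ ∈ irreducibleComponents W) (h₂ : D₂ ∈ irreducibleComponents W)
    (hy₁ : y ∈ D₁) (hy₂ : y ∈ D₂) : D₁ = D₂ := by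
  obtain ⟨h, hh⟩ : ∃ h : ↥W ≃ₜ ↥(pullback G.s a), ∀ z, h z = sq.isoPullback.hom z :=
    ⟨sq.isoPullback.hom.homeomorph, fun _ => rfl⟩
  have e1 := image_mem_irreducibleComponents h h₁
  have e2 := image_mem_irreducibleComponents h h₂
  have hfst : pullback.fst G.s a (h y) = G.e u := by
    rw [hh, ← Scheme.Hom.comp_apply, sq.isoPullback_hom_fst]; exact hy
  have key : ⇑h '' D₁ = ⇑h '' D₂ :=
    sFib_unique_component G a κ eV k eU (h y) u hfst _ _ e1 e2 ⟨y, hy₁, rfl⟩ ⟨y, hy₂, rfl⟩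
  exact h.injective.image_injective key

end Chain


section Main

open GrpdRst

variable {S : Scheme.{u}} (G : Grpd.GroupoidScheme S)

/-- A groupoid scheme on the spectrum of a field: through every point of `R` there is exactly
one irreducible component. -/
theorem grpd_unique_component (k : Type u) [Field k]
    (eU : G.U ≅ Spec (CommRingCat.of k)) (r : G.R) (Z₁ Z₂ : Set G.R)
    (h₁ : Z₁ ∈ irreducibleComponents G.R) (h₂ : Z₂ ∈ irreducibleComponents G.R)
    (hr₁ : r ∈ Z₁) (hr₂ : r ∈ Z₂) : Z₁ = Z₂ := by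
  obtain ⟨ρ, hρ⟩ : ∃ ρ, ρ = G.R.fromSpecResidueField r := ⟨_, rfl⟩
  have hρpt : ∀ z, ρ z = r := by
    intro z; rw [hρ]; exact Scheme.fromSpecResidueField_apply r z
  have SP := IsPullback.of_hasPullback (pullback.snd G.s G.t) ρ
  have S0 := IsPullback.of_hasPullback G.s G.t
  have hpb : IsPullback G.c (pullback.snd G.s G.t) G.s G.s := (Groth.Agent.S7457.result S G).2
  have sqA := SP.paste_horiz S0
  have sqB := SP.paste_horiz hpb
  haveI hflat : Flat (pullback.fst (pullback.snd G.s G.t) ρ ≫ G.c) :=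
    MorphismProperty.of_isPullback (P := @Flat) sqB.flip (flat_of_iso_spec_field k eU _)
  have hw : (ρ ≫ G.t ≫ G.e) ≫ G.s = ρ ≫ G.t := by
    rw [Category.assoc, Category.assoc, G.e_s, Category.comp_id]
  have hw' : pullback.lift (ρ ≫ G.t ≫ G.e) ρ hw ≫ pullback.snd G.s G.t = 𝟙 _ ≫ ρ := by
    rw [pullback.lift_snd, Category.id_comp]
  obtain ⟨θ, hθ1, hθ2⟩ : ∃ θ : Spec (G.R.residueField r) ⟶
      pullback (pullback.snd G.s G.t) ρ,
      θ ≫ pullback.fst _ _ = pullback.lift (ρ ≫ G.t ≫ G.e) ρ hw ∧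
      θ ≫ pullback.snd _ _ = 𝟙 _ :=
    ⟨pullback.lift _ _ hw', pullback.lift_fst _ _ _, pullback.lift_snd _ _ _⟩
  obtain ⟨y, hy⟩ : ∃ y, y = θ (IsLocalRing.closedPoint (G.R.residueField r)) := ⟨_, rfl⟩
  have hyA : (pullback.fst (pullback.snd G.s G.t) ρ ≫ pullback.fst G.s G.t) y =
      G.e (G.t r) := by
    rw [hy, ← Scheme.Hom.comp_apply, ← Category.assoc, hθ1, pullback.lift_fst,
      Scheme.Hom.comp_apply, Scheme.Hom.comp_apply, hρpt]
  have hyB : (pullback.fst (pullback.snd G.s G.t) ρ ≫ G.c) y = r := by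
    rw [hy, ← Scheme.Hom.comp_apply, ← Category.assoc, hθ1, G.e_comp ρ, hρpt]
  refine unique_component_of_flat (pullback.fst (pullback.snd G.s G.t) ρ ≫ G.c) y ?_ Z₁ Z₂
    h₁ h₂ (by rw [hyB]; exact hr₁) (by rw [hyB]; exact hr₂)
  intro D₁ D₂ hD₁ hD₂ h1 h2
  exact unique_component_of_isPullback_s G sqA (G.R.residueField r) (Iso.refl _) k eU y
    (G.t r) hyA D₁ D₂ hD₁ hD₂ h1 h2

theorem grpd_minimalPrimes_stalk_subsingleton (k : Type u) [Field k]
    (eU : G.U ≅ Spec (CommRingCat.of k)) (r : G.R) :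
    (minimalPrimes (G.R.presheaf.stalk r)).Subsingleton :=
  minimalPrimes_stalk_subsingleton_of_unique r
    (fun Z₁ Z₂ h₁ h₂ hr₁ hr₂ => grpd_unique_component G k eU r Z₁ Z₂ h₁ h₂ hr₁ hr₂)

/-- The irreducible component through an identity is geometrically irreducible via `s`. -/
theorem grpd_geomIrr_s (k : Type u) [Field k]
    (eU : G.U ≅ Spec (CommRingCat.of k)) {Z : Scheme.{u}} (ι : Z ⟶ G.R) [IsClosedImmersion ι]
    (hZ : Set.range ⇑ι ∈ irreducibleComponents ↥G.R) (u : G.U) (he : G.e u ∈ Set.range ⇑ι) :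
    GeometricallyIrreducible (ι ≫ G.s ≫ eU.hom) := by
  letI inst : G.R.Over (Spec (CommRingCat.of k)) := ⟨G.s ≫ eU.hom⟩
  haveI : Subsingleton G.U := (integral_subsingleton_of_iso_spec_field k eU).2
  haveI : Subsingleton ↥(Spec (CommRingCat.of (SeparableClosure k))) :=
    inferInstanceAs (Subsingleton (PrimeSpectrum (SeparableClosure k)))
  have sq0 : IsPullback (Curv2.bcFst k G.R (SeparableClosure k))
      (Curv2.bcSnd k G.R (SeparableClosure k)) (G.s ≫ eU.hom)
      (Spec.map (CommRingCat.ofHom (algebraMap k (SeparableClosure k)))) :=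
    IsPullback.of_hasPullback _ _
  have hbot : IsPullback
      (Spec.map (CommRingCat.ofHom (algebraMap k (SeparableClosure k))) ≫ eU.inv) (𝟙 _) eU.hom
      (Spec.map (CommRingCat.ofHom (algebraMap k (SeparableClosure k)))) :=
    IsPullback.of_vert_isIso
      ⟨by rw [Category.assoc, eU.inv_hom_id, Category.comp_id, Category.id_comp]⟩
  have hp : Curv2.bcFst k G.R (SeparableClosure k) ≫ G.s =
      Curv2.bcSnd k G.R (SeparableClosure k) ≫
        Spec.map (CommRingCat.ofHom (algebraMap k (SeparableClosure k))) ≫ eU.inv := by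
    have h := sq0.w
    calc Curv2.bcFst k G.R (SeparableClosure k) ≫ G.s
        = (Curv2.bcFst k G.R (SeparableClosure k) ≫ G.s ≫ eU.hom) ≫ eU.inv := by
          rw [Category.assoc, Category.assoc, eU.hom_inv_id, Category.comp_id]
      _ = (Curv2.bcSnd k G.R (SeparableClosure k) ≫
            Spec.map (CommRingCat.ofHom (algebraMap k (SeparableClosure k)))) ≫ eU.inv := by
          rw [h]
      _ = _ := Category.assoc _ _ _
  have sqW : IsPullback (Curv2.bcFst k G.R (SeparableClosure k))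
      (Curv2.bcSnd k G.R (SeparableClosure k)) G.s
      (Spec.map (CommRingCat.ofHom (algebraMap k (SeparableClosure k))) ≫ eU.inv) := by
    refine IsPullback.of_bot ?_ hp hbot
    rw [Category.comp_id]; exact sq0
  haveI hsurj : Surjective (Curv2.bcFst k G.R (SeparableClosure k)) :=
    MorphismProperty.pullback_fst (P := @Surjective) _ _ surjective_specMap_field
  obtain ⟨y₀, hy₀⟩ := hsurj.surj (G.e u)
  have hsec : (eU.inv ≫ G.e) ≫ G.s ≫ eU.hom = 𝟙 _ := by
    rw [Category.assoc, ← Category.assoc G.e, G.e_s, Category.id_comp, eU.inv_hom_id]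
  have hsecpt : ∀ s, (eU.inv ≫ G.e) s = G.e u := by
    intro s
    rw [Scheme.Hom.comp_apply]
    exact congrArg _ (Subsingleton.elim _ _)
  have hpre := preimage_eq_sUnion_compsOver k G.R (SeparableClosure k) (Set.range ⇑ι) hZ
  have hmem : y₀ ∈ (Curv2.bcFst k G.R (SeparableClosure k)).base ⁻¹' Set.range ⇑ι := by
    show Curv2.bcFst k G.R (SeparableClosure k) y₀ ∈ Set.range ⇑ι
    rw [hy₀]; exact he
  rw [hpre] at hmem
  obtain ⟨T₀, ⟨hT₀, hsub₀⟩, hyT₀⟩ := hmem
  have hall : ⋃₀ compsOver k G.R (SeparableClosure k) (Set.range ⇑ι) = T₀ := by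
    apply Set.Subset.antisymm
    · rintro y ⟨T', ⟨hT', hsub'⟩, hy⟩
      have himg' := image_eq_of_subset k G.R (SeparableClosure k) _ hZ T' hT' hsub'
      have hmem' : G.e u ∈ (Curv2.bcFst k G.R (SeparableClosure k)).base '' T' := by
        rw [himg']; exact he
      obtain ⟨y', hy'T', hy'e⟩ := hmem'
      have hy'y₀ : y' = y₀ :=
        eq_of_fst_eq_section (G.s ≫ eU.hom)
          (Spec.map (CommRingCat.ofHom (algebraMap k (SeparableClosure k)))) (eU.inv ≫ G.e) hsec
          y' y₀ (eU.hom u) (eU.hom u) (hy'e.trans (hsecpt _).symm) (hy₀.trans (hsecpt _).symm)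
      have hT'T₀ : T' = T₀ :=
        unique_component_of_isPullback_s G sqW (SeparableClosure k) (Iso.refl _) k eU y₀ u hy₀
          T' T₀ hT' hT₀ (hy'y₀ ▸ hy'T') hyT₀
      rw [← hT'T₀]; exact hy
    · intro y hy
      exact ⟨T₀, ⟨hT₀, hsub₀⟩, hy⟩
  have hirr : IsIrreducible
      (⇑(Curv2.bcFst k G.R (SeparableClosure k)) ⁻¹' Set.range ⇑ι) := by
    show IsIrreducible ((Curv2.bcFst k G.R (SeparableClosure k)).base ⁻¹' Set.range ⇑ι)
    rw [hpre, hall]; exact hT₀.1
  exact geomIrr_of_isPullback (SeparableClosure k) sq0 ι hirr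

/-- The irreducible component through an identity is geometrically irreducible via `t`. -/
theorem grpd_geomIrr_t (k : Type u) [Field k]
    (eU : G.U ≅ Spec (CommRingCat.of k)) {Z : Scheme.{u}} (ι : Z ⟶ G.R) [IsClosedImmersion ι]
    (hZ : Set.range ⇑ι ∈ irreducibleComponents ↥G.R) (u : G.U) (he : G.e u ∈ Set.range ⇑ι) :
    GeometricallyIrreducible (ι ≫ G.t ≫ eU.hom) := by
  haveI : IsClosedImmersion (ι ≫ G.i) := inferInstance
  have hrange : Set.range ⇑(ι ≫ G.i) = ⇑G.i.homeomorph '' Set.range ⇑ι := by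
    ext z
    constructor
    · rintro ⟨w, rfl⟩
      exact ⟨ι w, ⟨w, rfl⟩, (Scheme.Hom.comp_apply ι G.i w).symm⟩
    · rintro ⟨_, ⟨w, rfl⟩, rfl⟩
      exact ⟨w, Scheme.Hom.comp_apply ι G.i w⟩
  have hZ' : Set.range ⇑(ι ≫ G.i) ∈ irreducibleComponents ↥G.R := by
    rw [hrange]; exact image_mem_irreducibleComponents G.i.homeomorph hZ
  have he' : G.e u ∈ Set.range ⇑(ι ≫ G.i) := by
    obtain ⟨w, hw⟩ := he
    exact ⟨w, by rw [Scheme.Hom.comp_apply, hw, ← Scheme.Hom.comp_apply, e_i]⟩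
  have h := grpd_geomIrr_s G k eU (ι ≫ G.i) hZ' u he'
  have heq : (ι ≫ G.i) ≫ G.s ≫ eU.hom = ι ≫ G.t ≫ eU.hom := by
    rw [Category.assoc, ← Category.assoc G.i, G.i_s]
  rw [← heq]; exact h

end Main

end Groth.Agent.H37
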