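import Groth.Agent.H37.GrpdComp
import Groth.Agent.S1889

/-!
# Groupoid schemes over a field: the connected component of the identity

`Z₀` denotes the irreducible component of `R` through the identity.  We show `Z₀ · Z = Z` for
every irreducible component `Z`, `Z₀ · r` is the irreducible component through `r`, `Z₀` is
quasi-compact and (for `R` quasi-separated) `Z₀` is the connected component of the identity.
-/

set_option autoImplicit false
universe u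
open CategoryTheory CategoryTheory.Limits AlgebraicGeometry
open Grpd

namespace Groth.Agent.H37

section Topology

/-- The preimage of an irreducible component under a flat morphism is an irreducible component
as soon as it is irreducible. -/
theorem preimage_mem_irreducibleComponents_of_flat {X Y : Scheme.{u}} (p : Y ⟶ X) [Flat p]
    (Z : Set X) (hZ : Z ∈ irreducibleComponents X) (hirr : IsIrreducible (⇑p ⁻¹' Z)) :
    ⇑p ⁻¹' Z ∈ irreducibleComponents Y := by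
  refine ⟨hirr, fun T hT hsub => ?_⟩
  obtain ⟨y₀, hy₀⟩ := hirr.nonempty
  have hZcl := isClosed_of_mem_irreducibleComponents Z hZ
  obtain ⟨ξ, hξ⟩ := QuasiSober.sober hZ.1 hZcl
  have hspec : ξ ⤳ p y₀ := by
    rw [specializes_iff_mem_closure, hξ.def]; exact hy₀
  obtain ⟨y', -, hy'ξ⟩ := Flat.generalizingMap p hspec
  have hy'Z : y' ∈ ⇑p ⁻¹' Z := by
    show p y' ∈ Z
    rw [hy'ξ, ← hξ.def]; exact subset_closure rfl
  obtain ⟨ζ, hζ⟩ := QuasiSober.sober hT.closure isClosed_closure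
  have hζy' : ζ ⤳ y' := by
    rw [specializes_iff_mem_closure, hζ.def]; exact subset_closure (hsub hy'Z)
  have h1 : p ζ ⤳ ξ := by
    rw [← hy'ξ]; exact hζy'.map p.continuous
  have h2 : Z ⊆ closure {p ζ} := by
    rw [← hξ.def]; exact specializes_iff_closure_subset.mp h1
  have h3 : closure {p ζ} ⊆ Z := hZ.2 isIrreducible_singleton.closure h2
  intro y hy
  show p y ∈ Z
  apply h3
  have h4 : y ∈ closure {ζ} := by rw [hζ.def]; exact subset_closure hy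
  have h5 := image_closure_subset_closure_image p.continuous ⟨y, h4, rfl⟩
  rwa [Set.image_singleton] at h5

/-- The image of an irreducible component under the base change of a field extension is an
irreducible component (for any cartesian square). -/
theorem image_mem_irreducibleComponents_of_isPullback {k : Type u} [Field k]
    {X W V : Scheme.{u}} {f : X ⟶ Spec (CommRingCat.of k)} {π : W ⟶ X} {w : W ⟶ V}
    {a : V ⟶ Spec (CommRingCat.of k)} (sq : IsPullback π w f a) (K : Type u) [Field K]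
    (eV : V ≅ Spec (CommRingCat.of K)) (T : Set W) (hT : T ∈ irreducibleComponents W) :
    ⇑π '' T ∈ irreducibleComponents X := by
  obtain ⟨ψ, hψ⟩ := Spec.map_surjective (eV.inv ≫ a)
  letI : Algebra k K := ψ.hom.toAlgebra
  letI : X.Over (Spec (CommRingCat.of k)) := ⟨f⟩
  have hψ' : Spec.map (CommRingCat.ofHom (algebraMap k K)) = eV.inv ≫ a := hψ
  have sq' : IsPullback π (w ≫ eV.hom) f (Spec.map (CommRingCat.ofHom (algebraMap k K))) := by
    refine sq.of_iso (Iso.refl _) (Iso.refl _) eV (Iso.refl _) ?_ ?_ ?_ ?_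
    · simp
    · simp
    · simp
    · rw [hψ']; simp
  obtain ⟨h, hh⟩ : ∃ h : ↥W ≃ₜ ↥(Curv2.bc k X K),
      ∀ z, Curv2.bcFst k X K (h z) = π z := by
    refine ⟨sq'.isoPullback.hom.homeomorph, fun z => ?_⟩
    show (pullback.fst f (Spec.map (CommRingCat.ofHom (algebraMap k K))))
      (sq'.isoPullback.hom z) = π z
    rw [← Scheme.Hom.comp_apply, sq'.isoPullback_hom_fst]
  have e1 := image_mem_irreducibleComponents h hT
  have e2 := (Groth.Agent.S1546.result k X K).1 _ e1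
  have e3 : (Curv2.bcFst k X K).base '' (⇑h '' T) = ⇑π '' T := by
    ext x
    constructor
    · rintro ⟨_, ⟨z, hz, rfl⟩, rfl⟩
      exact ⟨z, hz, (hh z).symm⟩
    · rintro ⟨z, hz, rfl⟩
      exact ⟨h z, ⟨z, hz, rfl⟩, hh z⟩
  rw [← e3]; exact e2

end Topology

section Main

open GrpdCalc

variable {S : Scheme.{u}} (G : Grpd.GroupoidScheme S)

/-- Step 0: a closed immersion onto the irreducible component through an identity; it is
geometrically irreducible via `s` and via `t`. -/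
theorem exists_idComp_immersion (k : Type u) [Field k] (eU : G.U ≅ Spec (CommRingCat.of k))
    (Z₀ : Set G.R) (hZ₀ : Z₀ ∈ irreducibleComponents G.R) (u₀ : G.U) (he : G.e u₀ ∈ Z₀) :
    ∃ (W₀ : Scheme.{u}) (ι₀ : W₀ ⟶ G.R), IsClosedImmersion ι₀ ∧ Set.range ⇑ι₀ = Z₀ ∧
      IrreducibleSpace W₀ ∧ GeometricallyIrreducible (ι₀ ≫ G.s) ∧
      GeometricallyIrreducible (ι₀ ≫ G.t) := by
  obtain ⟨W₀, ι₀, hι₀, hr₀⟩ :=
    exists_closedImmersion_range Z₀ (isClosed_of_mem_irreducibleComponents Z₀ hZ₀)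
  haveI := hι₀
  have hirr : IrreducibleSpace W₀ :=
    (irreducibleSpace_iff_of_range ι₀.isEmbedding hr₀).mpr hZ₀.1
  have hZ' : Set.range ⇑ι₀ ∈ irreducibleComponents ↥G.R := by rw [hr₀]; exact hZ₀
  have he' : G.e u₀ ∈ Set.range ⇑ι₀ := by rw [hr₀]; exact he
  have h1 := grpd_geomIrr_s G k eU ι₀ hZ' u₀ he'
  have h2 := grpd_geomIrr_t G k eU ι₀ hZ' u₀ he'
  rw [← Category.assoc] at h1 h2
  exact ⟨W₀, ι₀, hι₀, hr₀, hirr,
    (MorphismProperty.cancel_right_of_respectsIso (P := @GeometricallyIrreducible)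
      (ι₀ ≫ G.s) eU.hom).mp h1,
    (MorphismProperty.cancel_right_of_respectsIso (P := @GeometricallyIrreducible)
      (ι₀ ≫ G.t) eU.hom).mp h2⟩

/-- Step 1: `Z₀ · Z ⊆ Z` for every irreducible component `Z`. -/
theorem idComp_mul_mem (k : Type u) [Field k] (eU : G.U ≅ Spec (CommRingCat.of k))
    (Z₀ : Set G.R) (hZ₀ : Z₀ ∈ irreducibleComponents G.R) (u₀ : G.U) (he : G.e u₀ ∈ Z₀)
    (Z : Set G.R) (hZ : Z ∈ irreducibleComponents G.R)
    (q : ↥(pullback G.s G.t)) (h1 : pullback.fst G.s G.t q ∈ Z₀)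
    (h2 : pullback.snd G.s G.t q ∈ Z) : G.c q ∈ Z := by
  haveI : Subsingleton G.U := (integral_subsingleton_of_iso_spec_field k eU).2
  obtain ⟨W₀, ι₀, hι₀, hr₀, hirr₀, hgis, -⟩ := exists_idComp_immersion G k eU Z₀ hZ₀ u₀ he
  obtain ⟨W, ι, hι, hr⟩ :=
    exists_closedImmersion_range Z (isClosed_of_mem_irreducibleComponents Z hZ)
  haveI := hι₀
  haveI := hι
  haveI := hirr₀
  haveI := hgis
  haveI : IrreducibleSpace W := (irreducibleSpace_iff_of_range ι.isEmbedding hr).mpr hZ.1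
  haveI huo : UniversallyOpen (ι₀ ≫ G.s) := univOpen_of_iso_spec_field k eU _
  haveI hirr : IrreducibleSpace ↥(pullback (ι₀ ≫ G.s) (ι ≫ G.t)) := inferInstance
  have e1 : (ι₀ ≫ G.s) ≫ 𝟙 G.U = ι₀ ≫ G.s := Category.comp_id _
  have e2 : (ι ≫ G.t) ≫ 𝟙 G.U = ι ≫ G.t := Category.comp_id _
  obtain ⟨m, hm⟩ : ∃ m : pullback (ι₀ ≫ G.s) (ι ≫ G.t) ⟶ pullback G.s G.t,
      Set.range ⇑m = pullback.fst G.s G.t ⁻¹' Z₀ ∩ pullback.snd G.s G.t ⁻¹' Z := by
    refine ⟨pullback.map (ι₀ ≫ G.s) (ι ≫ G.t) G.s G.t ι₀ ι (𝟙 G.U) e1 e2, ?_⟩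
    rw [← hr₀, ← hr]
    exact Scheme.Pullback.range_map (ι₀ ≫ G.s) (ι ≫ G.t) G.s G.t ι₀ ι (𝟙 G.U) e1 e2
  have hIirr : IsIrreducible (Set.range ⇑(m ≫ G.c)) :=
    isIrreducible_range_of_irreducibleSpace (m ≫ G.c).continuous
  have hsub : Z ⊆ Set.range ⇑(m ≫ G.c) := by
    intro x hx
    obtain ⟨a, ha⟩ : ∃ a, a = G.R.fromSpecResidueField x := ⟨_, rfl⟩
    have hapt : ∀ z, a z = x := by
      intro z; rw [ha]; exact Scheme.fromSpecResidueField_apply x z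
    have hw : (a ≫ G.t ≫ G.e) ≫ G.s = a ≫ G.t := by
      rw [Category.assoc, Category.assoc, G.e_s, Category.comp_id]
    obtain ⟨q', hq'⟩ : ∃ q', q' = (pullback.lift (a ≫ G.t ≫ G.e) a hw)
        (IsLocalRing.closedPoint (G.R.residueField x)) := ⟨_, rfl⟩
    have hq1 : pullback.fst G.s G.t q' = G.e u₀ := by
      rw [hq', ← Scheme.Hom.comp_apply, pullback.lift_fst, Scheme.Hom.comp_apply,
        Scheme.Hom.comp_apply]
      exact congrArg _ (Subsingleton.elim _ _)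
    have hq2 : pullback.snd G.s G.t q' = x := by
      rw [hq', ← Scheme.Hom.comp_apply, pullback.lift_snd, hapt]
    have hq3 : G.c q' = x := by
      rw [hq', ← Scheme.Hom.comp_apply, G.e_comp a, hapt]
    have hqm : q' ∈ Set.range ⇑m := by
      rw [hm]
      refine ⟨?_, ?_⟩
      · show pullback.fst G.s G.t q' ∈ Z₀
        rw [hq1]; exact he
      · show pullback.snd G.s G.t q' ∈ Z
        rw [hq2]; exact hx
    obtain ⟨w, hw'⟩ := hqm
    exact ⟨w, by rw [Scheme.Hom.comp_apply, hw', hq3]⟩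
  have hc : closure (Set.range ⇑(m ≫ G.c)) ⊆ Z :=
    hZ.2 hIirr.closure (hsub.trans subset_closure)
  have hqm : q ∈ Set.range ⇑m := by
    rw [hm]; exact ⟨h1, h2⟩
  obtain ⟨w, hw⟩ := hqm
  exact hc (subset_closure ⟨w, by rw [Scheme.Hom.comp_apply, hw]⟩)

/-- Step 2: `Z₀ · r` is the irreducible component through `r`. -/
theorem exists_mul_eq_of_mem_component (k : Type u) [Field k]
    (eU : G.U ≅ Spec (CommRingCat.of k))
    (Z₀ : Set G.R) (hZ₀ : Z₀ ∈ irreducibleComponents G.R) (u₀ : G.U) (he : G.e u₀ ∈ Z₀)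
    (Z : Set G.R) (hZ : Z ∈ irreducibleComponents G.R) (r x : G.R) (hr : r ∈ Z) (hx : x ∈ Z) :
    ∃ q : ↥(pullback G.s G.t), pullback.fst G.s G.t q ∈ Z₀ ∧ pullback.snd G.s G.t q = r ∧
      G.c q = x := by
  haveI : Subsingleton G.U := (integral_subsingleton_of_iso_spec_field k eU).2
  obtain ⟨W₀, ι₀, hι₀, hr₀, hirr₀, hgis, -⟩ := exists_idComp_immersion G k eU Z₀ hZ₀ u₀ he
  haveI := hι₀
  haveI := hirr₀
  obtain ⟨ρ, hρ⟩ : ∃ ρ, ρ = G.R.fromSpecResidueField r := ⟨_, rfl⟩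
  have hρpt : ∀ z, ρ z = r := by
    intro z; rw [hρ]; exact Scheme.fromSpecResidueField_apply r z
  have SP := IsPullback.of_hasPullback (pullback.snd G.s G.t) ρ
  have S0 := IsPullback.of_hasPullback G.s G.t
  have hpb : IsPullback G.c (pullback.snd G.s G.t) G.s G.s := (Groth.Agent.S7457.result S G).2
  have sqA := SP.paste_horiz S0
  have sqB := SP.paste_horiz hpb
  obtain ⟨πA, hπA⟩ : ∃ πA, πA = pullback.fst (pullback.snd G.s G.t) ρ ≫ pullback.fst G.s G.t :=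
    ⟨_, rfl⟩
  obtain ⟨πB, hπB⟩ : ∃ πB, πB = pullback.fst (pullback.snd G.s G.t) ρ ≫ G.c := ⟨_, rfl⟩
  rw [← hπA] at sqA
  rw [← hπB] at sqB
  haveI hflatA : Flat πA :=
    MorphismProperty.of_isPullback (P := @Flat) sqA.flip (flat_of_iso_spec_field k eU _)
  have hw : (ρ ≫ G.t ≫ G.e) ≫ G.s = ρ ≫ G.t := by
    rw [Category.assoc, Category.assoc, G.e_s, Category.comp_id]
  have hw' : pullback.lift (ρ ≫ G.t ≫ G.e) ρ hw ≫ pullback.snd G.s G.t = 𝟙 _ ≫ ρ := by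
    rw [pullback.lift_snd, Category.id_comp]
  obtain ⟨θ, hθ1, hθ2⟩ : ∃ θ : Spec (G.R.residueField r) ⟶
      pullback (pullback.snd G.s G.t) ρ,
      θ ≫ pullback.fst _ _ = pullback.lift (ρ ≫ G.t ≫ G.e) ρ hw ∧
      θ ≫ pullback.snd _ _ = 𝟙 _ :=
    ⟨pullback.lift _ _ hw', pullback.lift_fst _ _ _, pullback.lift_snd _ _ _⟩
  obtain ⟨y, hy⟩ : ∃ y, y = θ (IsLocalRing.closedPoint (G.R.residueField r)) := ⟨_, rfl⟩
  have hyA : πA y = G.e u₀ := by
    rw [hπA, hy, ← Scheme.Hom.comp_apply, ← Category.assoc, hθ1, pullback.lift_fst,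
      Scheme.Hom.comp_apply, Scheme.Hom.comp_apply]
    exact congrArg _ (Subsingleton.elim _ _)
  have hyB : πB y = r := by
    rw [hπB, hy, ← Scheme.Hom.comp_apply, ← Category.assoc, hθ1, G.e_comp ρ, hρpt]
  have hQ : IsPullback (pullback.fst ι₀ πA)
      (pullback.snd ι₀ πA ≫ pullback.snd (pullback.snd G.s G.t) ρ) (ι₀ ≫ G.s) (ρ ≫ G.t) :=
    (IsPullback.of_hasPullback ι₀ πA).paste_vert sqA
  haveI hQirr : IrreducibleSpace ↥(pullback ι₀ πA) :=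
    hgis.geometrically_irreducibleSpace (ρ ≫ G.t) _ _ hQ
  have hAirr : IsIrreducible (⇑πA ⁻¹' Z₀) := by
    have h := isIrreducible_range_of_irreducibleSpace (pullback.snd ι₀ πA).continuous
    rw [Scheme.Pullback.range_snd, hr₀] at h
    exact h
  have hA := preimage_mem_irreducibleComponents_of_flat πA Z₀ hZ₀ hAirr
  have sqB' : IsPullback πB (pullback.snd (pullback.snd G.s G.t) ρ) (G.s ≫ eU.hom)
      ((ρ ≫ G.s) ≫ eU.hom) := by
    refine sqB.of_iso (Iso.refl _) (Iso.refl _) (Iso.refl _) eU ?_ ?_ ?_ ?_ <;> simp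
  have hB := image_mem_irreducibleComponents_of_isPullback sqB' (G.R.residueField r)
    (Iso.refl _) _ hA
  have hrB : r ∈ ⇑πB '' (⇑πA ⁻¹' Z₀) :=
    ⟨y, by show πA y ∈ Z₀; rw [hyA]; exact he, hyB⟩
  have hEq : ⇑πB '' (⇑πA ⁻¹' Z₀) = Z := grpd_unique_component G k eU r _ _ hB hZ hrB hr
  rw [← hEq] at hx
  obtain ⟨y', hy'A, hy'B⟩ := hx
  refine ⟨pullback.fst (pullback.snd G.s G.t) ρ y', ?_, ?_, ?_⟩
  · rw [← Scheme.Hom.comp_apply, ← hπA]; exact hy'A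
  · rw [← Scheme.Hom.comp_apply, pullback.condition, Scheme.Hom.comp_apply, hρpt]
  · rw [← Scheme.Hom.comp_apply, ← hπB]; exact hy'B

/-- the saturation map `Z₀ ×_{s,t} U → R` -/
noncomputable def satMap {W₀ : Scheme.{u}} (ι₀ : W₀ ⟶ G.R) (U : G.R.Opens) :
    pullback (ι₀ ≫ G.s) (U.ι ≫ G.t) ⟶ G.R :=
  pullback.map (ι₀ ≫ G.s) (U.ι ≫ G.t) G.s G.t ι₀ U.ι (𝟙 G.U) (Category.comp_id _)
    (Category.comp_id _) ≫ G.c

theorem isOpen_range_satMap (k : Type u) [Field k] (eU : G.U ≅ Spec (CommRingCat.of k))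
    {W₀ : Scheme.{u}} (ι₀ : W₀ ⟶ G.R) (U : G.R.Opens) :
    IsOpen (Set.range ⇑(satMap G ι₀ U)) :=
  Groth.Agent.S1889.result S G k eU U W₀ ι₀

theorem range_satMap (k : Type u) [Field k] (eU : G.U ≅ Spec (CommRingCat.of k))
    (Z₀ : Set G.R) (hZ₀ : Z₀ ∈ irreducibleComponents G.R) (u₀ : G.U) (he : G.e u₀ ∈ Z₀)
    {W₀ : Scheme.{u}} (ι₀ : W₀ ⟶ G.R) (hr₀ : Set.range ⇑ι₀ = Z₀) (U : G.R.Opens) :
    Set.range ⇑(satMap G ι₀ U) =
      {x | ∃ u ∈ U, ∃ Z ∈ irreducibleComponents G.R, u ∈ Z ∧ x ∈ Z} := by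
  obtain ⟨m, hm, hrm⟩ : ∃ m : pullback (ι₀ ≫ G.s) (U.ι ≫ G.t) ⟶ pullback G.s G.t,
      satMap G ι₀ U = m ≫ G.c ∧
      Set.range ⇑m = pullback.fst G.s G.t ⁻¹' Z₀ ∩ pullback.snd G.s G.t ⁻¹' (U : Set G.R) := by
    refine ⟨pullback.map (ι₀ ≫ G.s) (U.ι ≫ G.t) G.s G.t ι₀ U.ι (𝟙 G.U) (Category.comp_id _)
      (Category.comp_id _), rfl, ?_⟩
    have h := Scheme.Pullback.range_map (ι₀ ≫ G.s) (U.ι ≫ G.t) G.s G.t ι₀ U.ι (𝟙 G.U)
      (Category.comp_id _) (Category.comp_id _)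
    rw [Scheme.Opens.range_ι, hr₀] at h
    exact h
  ext x
  constructor
  · rintro ⟨w, rfl⟩
    have hmw : m w ∈ Set.range ⇑m := ⟨w, rfl⟩
    rw [hrm] at hmw
    obtain ⟨hw1, hw2⟩ := hmw
    refine ⟨pullback.snd G.s G.t (m w), hw2, irreducibleComponent _,
      irreducibleComponent_mem_irreducibleComponents _, mem_irreducibleComponent, ?_⟩
    rw [hm, Scheme.Hom.comp_apply]
    exact idComp_mul_mem G k eU Z₀ hZ₀ u₀ he _
      (irreducibleComponent_mem_irreducibleComponents _) (m w) hw1 mem_irreducibleComponent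
  · rintro ⟨r, hrU, Z, hZ, hrZ, hxZ⟩
    obtain ⟨q, hq1, hq2, hq3⟩ :=
      exists_mul_eq_of_mem_component G k eU Z₀ hZ₀ u₀ he Z hZ r x hrZ hxZ
    have hqm : q ∈ Set.range ⇑m := by
      rw [hrm]
      refine ⟨hq1, ?_⟩
      show pullback.snd G.s G.t q ∈ U
      rw [hq2]; exact hrU
    obtain ⟨w, hw⟩ := hqm
    exact ⟨w, by rw [hm, Scheme.Hom.comp_apply, hw, hq3]⟩

/-- Step 3: the irreducible component through an identity is quasi-compact. -/
theorem isCompact_idComp (k : Type u) [Field k] (eU : G.U ≅ Spec (CommRingCat.of k))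
    (Z₀ : Set G.R) (hZ₀ : Z₀ ∈ irreducibleComponents G.R) (u₀ : G.U) (he : G.e u₀ ∈ Z₀) :
    IsCompact Z₀ := by
  haveI : Subsingleton G.U := (integral_subsingleton_of_iso_spec_field k eU).2
  haveI : IsAffine G.U := IsAffine.of_isIso eU.hom
  obtain ⟨W₀, ι₀, hι₀, hr₀, hirr₀, -, hgit⟩ := exists_idComp_immersion G k eU Z₀ hZ₀ u₀ he
  haveI := hι₀
  haveI := hirr₀
  obtain ⟨V, hVaff, heV, -⟩ :=
    exists_isAffineOpen_mem_and_subset (x := G.e u₀) (U := ⊤) trivial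
  haveI : IsAffine V.toScheme := hVaff
  have e1 : (V.ι ≫ G.s) ≫ 𝟙 G.U = V.ι ≫ G.s := Category.comp_id _
  have e2 : (V.ι ≫ G.t) ≫ 𝟙 G.U = V.ι ≫ G.t := Category.comp_id _
  obtain ⟨m, hm⟩ : ∃ m : pullback (V.ι ≫ G.s) (V.ι ≫ G.t) ⟶ pullback G.s G.t,
      Set.range ⇑m = pullback.fst G.s G.t ⁻¹' (V : Set G.R) ∩
        pullback.snd G.s G.t ⁻¹' (V : Set G.R) := by
    refine ⟨pullback.map (V.ι ≫ G.s) (V.ι ≫ G.t) G.s G.t V.ι V.ι (𝟙 G.U) e1 e2, ?_⟩
    have h := Scheme.Pullback.range_map (V.ι ≫ G.s) (V.ι ≫ G.t) G.s G.t V.ι V.ι (𝟙 G.U) e1 e2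
    rw [Scheme.Opens.range_ι] at h
    exact h
  haveI : CompactSpace ↥(pullback (V.ι ≫ G.s) (V.ι ≫ G.t)) := inferInstance
  have hcpt : IsCompact (Set.range ⇑(m ≫ G.c)) := isCompact_range (m ≫ G.c).continuous
  refine hcpt.of_isClosed_subset (isClosed_of_mem_irreducibleComponents Z₀ hZ₀) ?_
  intro x hx
  rw [← hr₀] at hx
  obtain ⟨w₀, rfl⟩ := hx
  have he' : G.e u₀ ∈ Set.range ⇑ι₀ := by rw [hr₀]; exact he
  obtain ⟨we, hwe⟩ := he'
  obtain ⟨τ, hτ⟩ : ∃ τ, τ = W₀.fromSpecResidueField w₀ := ⟨_, rfl⟩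
  have hτpt : ∀ z, τ z = w₀ := by
    intro z; rw [hτ]; exact Scheme.fromSpecResidueField_apply w₀ z
  obtain ⟨α, hα⟩ : ∃ α, α = τ ≫ ι₀ := ⟨_, rfl⟩
  have hαpt : ∀ z, α z = ι₀ w₀ := by
    intro z; rw [hα, Scheme.Hom.comp_apply, hτpt]
  haveI hQirr : IrreducibleSpace ↥(pullback (ι₀ ≫ G.t) (α ≫ G.t)) :=
    hgit.geometrically_irreducibleSpace (α ≫ G.t) _ _ (IsPullback.of_hasPullback _ _)
  obtain ⟨π₁, hπ₁⟩ : ∃ π₁, π₁ = pullback.fst (ι₀ ≫ G.t) (α ≫ G.t) := ⟨_, rfl⟩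
  obtain ⟨π₂, hπ₂⟩ : ∃ π₂, π₂ = pullback.snd (ι₀ ≫ G.t) (α ≫ G.t) := ⟨_, rfl⟩
  have hcond : (π₁ ≫ ι₀) ≫ G.t = (π₂ ≫ α) ≫ G.t := by
    rw [hπ₁, hπ₂, Category.assoc, Category.assoc]; exact pullback.condition
  obtain ⟨z, hz⟩ : ∃ z, z = π₁ ≫ ι₀ := ⟨_, rfl⟩
  obtain ⟨xQ, hxQ⟩ : ∃ xQ, xQ = π₂ ≫ α := ⟨_, rfl⟩
  rw [← hz, ← hxQ] at hcond
  have h₁ : (z ≫ G.i) ≫ G.s = xQ ≫ G.t := by rw [Category.assoc, G.i_s, hcond]
  obtain ⟨ψ₂, hψ₂⟩ : ∃ ψ₂, ψ₂ = mul G (z ≫ G.i) xQ := ⟨_, rfl⟩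
  have hmul : mul G z ψ₂ = xQ := by rw [hψ₂]; exact mul_i_mul' hcond rfl
  have hcomp : z ≫ G.s = ψ₂ ≫ G.t := by
    rw [hψ₂, mul_t h₁, Category.assoc, G.i_t]
  have hO₁ : IsOpen (⇑z ⁻¹' (V : Set G.R)) := V.isOpen.preimage z.continuous
  have hO₂ : IsOpen (⇑ψ₂ ⁻¹' (V : Set G.R)) := V.isOpen.preimage ψ₂.continuous
  have hne₁ : (⇑z ⁻¹' (V : Set G.R)).Nonempty := by
    have hsurj0 : Surjective (α ≫ G.t) :=
      ⟨fun y => ⟨IsLocalRing.closedPoint (W₀.residueField w₀), Subsingleton.elim _ _⟩⟩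
    have hsurj : Surjective π₁ := by
      rw [hπ₁]; exact MorphismProperty.pullback_fst (P := @Surjective) _ _ hsurj0
    obtain ⟨p₁, hp₁⟩ := hsurj.surj we
    refine ⟨p₁, ?_⟩
    show z p₁ ∈ V
    rw [hz, Scheme.Hom.comp_apply, hp₁, hwe]; exact heV
  have hne₂ : (⇑ψ₂ ⁻¹' (V : Set G.R)).Nonempty := by
    have hσc : τ ≫ ι₀ ≫ G.t = 𝟙 _ ≫ α ≫ G.t := by
      rw [Category.id_comp, hα, Category.assoc]
    obtain ⟨σ, hσ1, hσ2⟩ : ∃ σ : Spec (W₀.residueField w₀) ⟶ pullback (ι₀ ≫ G.t) (α ≫ G.t),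
        σ ≫ π₁ = τ ∧ σ ≫ π₂ = 𝟙 _ := by
      rw [hπ₁, hπ₂]
      exact ⟨pullback.lift τ (𝟙 _) hσc, pullback.lift_fst _ _ _, pullback.lift_snd _ _ _⟩
    have hσz : σ ≫ z = α := by rw [hz, ← Category.assoc, hσ1, hα]
    have hσx : σ ≫ xQ = α := by rw [hxQ, ← Category.assoc, hσ2, Category.id_comp]
    have hσψ : σ ≫ ψ₂ = α ≫ G.s ≫ G.e := by
      rw [hψ₂, comp_mul σ h₁, ← Category.assoc, hσz, hσx]
      exact i_mul rfl
    refine ⟨σ (IsLocalRing.closedPoint (W₀.residueField w₀)), ?_⟩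
    show ψ₂ (σ (IsLocalRing.closedPoint (W₀.residueField w₀))) ∈ V
    rw [← Scheme.Hom.comp_apply, hσψ, Scheme.Hom.comp_apply, Scheme.Hom.comp_apply]
    have hu : G.s (α (IsLocalRing.closedPoint (W₀.residueField w₀))) = u₀ :=
      Subsingleton.elim _ _
    rw [hu]; exact heV
  obtain ⟨p, hp1, hp2⟩ := nonempty_preirreducible_inter hO₁ hO₂ hne₁ hne₂
  have hqm : (pullback.lift z ψ₂ hcomp) p ∈ Set.range ⇑m := by
    rw [hm]
    refine ⟨?_, ?_⟩
    · show pullback.fst G.s G.t ((pullback.lift z ψ₂ hcomp) p) ∈ V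
      rw [← Scheme.Hom.comp_apply, pullback.lift_fst]; exact hp1
    · show pullback.snd G.s G.t ((pullback.lift z ψ₂ hcomp) p) ∈ V
      rw [← Scheme.Hom.comp_apply, pullback.lift_snd]; exact hp2
  obtain ⟨w, hw⟩ := hqm
  refine ⟨w, ?_⟩
  rw [Scheme.Hom.comp_apply, hw, ← Scheme.Hom.comp_apply, lift_c hcomp, hmul, hxQ,
    Scheme.Hom.comp_apply, hαpt]

/-- Step 4: for quasi-separated `R`, the connected component of an identity is the irreducible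
component through it. -/
theorem connectedComponent_eq_idComp [QuasiSeparatedSpace G.R] (k : Type u) [Field k]
    (eU : G.U ≅ Spec (CommRingCat.of k))
    (Z₀ : Set G.R) (hZ₀ : Z₀ ∈ irreducibleComponents G.R) (u₀ : G.U) (he : G.e u₀ ∈ Z₀) :
    connectedComponent (G.e u₀) = Z₀ := by
  haveI : Subsingleton G.U := (integral_subsingleton_of_iso_spec_field k eU).2
  haveI : IsAffine G.U := IsAffine.of_isIso eU.hom
  apply Set.Subset.antisymm
  swap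
  · exact hZ₀.1.isPreirreducible.isPreconnected.subset_connectedComponent he
  intro x hxC
  by_contra hxZ₀
  obtain ⟨Z', hZ', hxZ'⟩ : ∃ Z' ∈ irreducibleComponents G.R, x ∈ Z' :=
    ⟨irreducibleComponent x, irreducibleComponent_mem_irreducibleComponents x,
      mem_irreducibleComponent⟩
  have hdisj : ∀ y ∈ Z₀, y ∉ Z' := by
    intro y hy hy'
    have h := grpd_unique_component G k eU y Z₀ Z' hZ₀ hZ' hy hy'
    exact hxZ₀ (h ▸ hxZ')
  have hZ'cl := isClosed_of_mem_irreducibleComponents Z' hZ'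
  have hZ₀c := isCompact_idComp G k eU Z₀ hZ₀ u₀ he
  have hex : ∀ z : G.R, ∃ V : G.R.Opens,
      z ∈ Z₀ → IsAffineOpen V ∧ z ∈ V ∧ (V : Set G.R) ⊆ Z'ᶜ := by
    intro z
    by_cases hz : z ∈ Z₀
    · obtain ⟨V, h1, h2, h3⟩ := exists_isAffineOpen_mem_and_subset (x := z)
        (U := ⟨Z'ᶜ, hZ'cl.isOpen_compl⟩) (hdisj z hz)
      exact ⟨V, fun _ => ⟨h1, h2, h3⟩⟩
    · exact ⟨⊤, fun h => absurd h hz⟩
  choose V hV using hex
  obtain ⟨t, ht, hcov⟩ := hZ₀c.elim_nhds_subcover (fun z => (V z : Set G.R))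
    (fun z hz => (V z).isOpen.mem_nhds (hV z hz).2.1)
  obtain ⟨Uo, hUo⟩ : ∃ Uo : G.R.Opens, (Uo : Set G.R) = ⋃ z ∈ t, (V z : Set G.R) :=
    ⟨⟨_, isOpen_biUnion (fun z _ => (V z).isOpen)⟩, rfl⟩
  have hUoc : IsCompact (Uo : Set G.R) := by
    rw [hUo]; exact t.isCompact_biUnion (fun z hz => (hV z (ht z hz)).1.isCompact)
  have hUoZ' : ∀ y ∈ Uo, y ∉ Z' := by
    intro y hy hy'
    have hy2 : y ∈ (Uo : Set G.R) := hy
    rw [hUo] at hy2
    simp only [Set.mem_iUnion] at hy2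
    obtain ⟨z, hz, hyz⟩ := hy2
    exact (hV z (ht z hz)).2.2 hyz hy'
  have hZ₀Uo : Z₀ ⊆ (Uo : Set G.R) := by rw [hUo]; exact hcov
  obtain ⟨W₀, ι₀, hι₀, hr₀, hirr₀, -, -⟩ := exists_idComp_immersion G k eU Z₀ hZ₀ u₀ he
  haveI := hι₀
  have hsat := range_satMap G k eU Z₀ hZ₀ u₀ he ι₀ hr₀ Uo
  have hopen := isOpen_range_satMap G k eU ι₀ Uo
  haveI hW₀c : CompactSpace W₀ := by
    rw [← isCompact_univ_iff, ι₀.isEmbedding.isCompact_iff, Set.image_univ, hr₀]; exact hZ₀c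
  haveI : CompactSpace ↥(Uo.toScheme) := isCompact_iff_compactSpace.mp hUoc
  haveI : QuasiCompact (ι₀ ≫ G.s) :=
    (HasAffineProperty.iff_of_isAffine (P := @QuasiCompact)).mpr hW₀c
  haveI : CompactSpace ↥(pullback (ι₀ ≫ G.s) (Uo.ι ≫ G.t)) := inferInstance
  have hcpt : IsCompact (Set.range ⇑(satMap G ι₀ Uo)) :=
    isCompact_range (satMap G ι₀ Uo).continuous
  have hspec : StableUnderSpecialization (Set.range ⇑(satMap G ι₀ Uo)) := by
    intro a b hab ha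
    rw [hsat] at ha ⊢
    obtain ⟨r, hr, Z, hZ, hrZ, haZ⟩ := ha
    exact ⟨r, hr, Z, hZ, hrZ,
      (isClosed_of_mem_irreducibleComponents Z hZ).stableUnderSpecialization hab haZ⟩
  have hclosed : IsClosed (Set.range ⇑(satMap G ι₀ Uo)) := by
    obtain ⟨Wo, hWo⟩ : ∃ Wo : G.R.Opens, (Wo : Set G.R) = Set.range ⇑(satMap G ι₀ Uo) :=
      ⟨⟨_, hopen⟩, rfl⟩
    haveI : CompactSpace ↥(Wo.toScheme) :=
      isCompact_iff_compactSpace.mp (by rw [hWo]; exact hcpt)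
    haveI : QuasiCompact Wo.ι := quasiCompact_of_compactSpace _
    have hsm : SpecializingMap ⇑Wo.ι := by
      apply Wo.ι.isOpenEmbedding.isInducing.specializingMap
      rw [Scheme.Opens.range_ι, hWo]; exact hspec
    have hcm := (isClosedMap_iff_specializingMap Wo.ι).mpr hsm
    have h := hcm.isClosed_range
    rwa [Scheme.Opens.range_ι, hWo] at h
  have hclopen : IsClopen (Set.range ⇑(satMap G ι₀ Uo)) := ⟨hclosed, hopen⟩
  have heW : G.e u₀ ∈ Set.range ⇑(satMap G ι₀ Uo) := by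
    rw [hsat]
    exact ⟨G.e u₀, hZ₀Uo he, Z₀, hZ₀, he, he⟩
  have hxW := hclopen.connectedComponent_subset heW hxC
  rw [hsat] at hxW
  obtain ⟨r, hr, Z, hZ, hrZ, hxZ⟩ := hxW
  have h := grpd_unique_component G k eU x Z Z' hZ hZ' hxZ hxZ'
  exact hUoZ' r hr (h ▸ hrZ)

end Main

end Groth.Agent.H37
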