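import Groth.Agent.H37.GrpdCalc2
import Mathlib

/-!
# Groupoid schemes over a "point-like" base: the product of two dense opens is everything
-/

set_option autoImplicit false
universe u
open CategoryTheory CategoryTheory.Limits AlgebraicGeometry
open Grpd

namespace Groth.Agent.H37.GrpdCalc

/-- If every morphism to `U` is universally open (e.g. `U` the spectrum of a field), then for dense
opens `A`, `B` of `R` every point of `R` is a composite of a point over `A` and a point over `B`. -/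
theorem exists_mul_of_dense {S : Scheme.{u}} (G : Grpd.GroupoidScheme S)
    (hUO : ∀ {X : Scheme.{u}} (f : X ⟶ G.U), UniversallyOpen f)
    (A B : G.R.Opens) (hA : Dense (A : Set G.R)) (hB : Dense (B : Set G.R)) (g : G.R) :
    ∃ ζ : ↑(pullback G.s G.t), pullback.fst G.s G.t ζ ∈ A ∧ pullback.snd G.s G.t ζ ∈ B ∧
      G.c ζ = g := by
  obtain ⟨ρ, hρ⟩ : ∃ ρ, ρ = G.R.fromSpecResidueField g := ⟨_, rfl⟩
  have hρpt : ∀ z, ρ z = g := by
    intro z; rw [hρ]; exact Scheme.fromSpecResidueField_apply g z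
  have sqF : IsPullback (pullback.fst ρ G.c) (pullback.snd ρ G.c) ρ G.c :=
    IsPullback.of_hasPullback _ _
  have sq1 := sqF.paste_vert (isPullback_c_fst G)
  have sq2 := sqF.paste_vert (Groth.Agent.S7457.result S G).2
  haveI : UniversallyOpen (ρ ≫ G.t) := hUO _
  haveI : UniversallyOpen (ρ ≫ G.s) := hUO _
  haveI h1 : UniversallyOpen (pullback.snd ρ G.c ≫ pullback.fst G.s G.t) :=
    MorphismProperty.of_isPullback (P := @UniversallyOpen) sq1 inferInstance
  haveI h2 : UniversallyOpen (pullback.snd ρ G.c ≫ pullback.snd G.s G.t) :=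
    MorphismProperty.of_isPullback (P := @UniversallyOpen) sq2 inferInstance
  have hA' : Dense (⇑(pullback.snd ρ G.c ≫ pullback.fst G.s G.t) ⁻¹' (A : Set G.R)) :=
    hA.preimage (pullback.snd ρ G.c ≫ pullback.fst G.s G.t).isOpenMap
  have hB' : Dense (⇑(pullback.snd ρ G.c ≫ pullback.snd G.s G.t) ⁻¹' (B : Set G.R)) :=
    hB.preimage (pullback.snd ρ G.c ≫ pullback.snd G.s G.t).isOpenMap
  have hA'o : IsOpen (⇑(pullback.snd ρ G.c ≫ pullback.fst G.s G.t) ⁻¹' (A : Set G.R)) :=
    A.2.preimage (pullback.snd ρ G.c ≫ pullback.fst G.s G.t).continuous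
  -- the fibre is nonempty
  have hcomp : ρ ≫ G.s = (ρ ≫ G.s ≫ G.e) ≫ G.t := by
    rw [Category.assoc, Category.assoc, G.e_t, Category.comp_id]
  have hζ₀ : 𝟙 _ ≫ ρ = pullback.lift ρ (ρ ≫ G.s ≫ G.e) hcomp ≫ G.c := by
    rw [lift_c, Category.id_comp]
    exact (mul_e rfl).symm
  haveI : Nonempty ↑(pullback ρ G.c) := ⟨(pullback.lift (𝟙 _) _ hζ₀) default⟩
  obtain ⟨ζ', hζ'A, hζ'B⟩ := (hA'.inter_of_isOpen_left hB' hA'o).nonempty
  refine ⟨pullback.snd ρ G.c ζ', ?_, ?_, ?_⟩
  · rw [← Scheme.Hom.comp_apply]; exact hζ'A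
  · rw [← Scheme.Hom.comp_apply]; exact hζ'B
  · rw [← Scheme.Hom.comp_apply, ← pullback.condition, Scheme.Hom.comp_apply]
    exact hρpt _

end Groth.Agent.H37.GrpdCalc
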