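import Groth.Agent.H37.GrpdCalc2
import Groth.Agent.H37.FieldBase
import Mathlib

/-!
# Morphisms of groupoid schemes: compatibility with identities, images
-/

set_option autoImplicit false
universe u
open CategoryTheory CategoryTheory.Limits AlgebraicGeometry
open Grpd

namespace Groth.Agent.H37.GrpdCalc

variable {S : Scheme.{u}} {G₁ G₂ : Grpd.GroupoidScheme S} (f : Grpd.GroupoidScheme.Hom G₁ G₂)

lemma comm_mul {T : Scheme.{u}} {α β : T ⟶ G₁.R} (h : α ≫ G₁.s = β ≫ G₁.t) :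
    mul G₁ α β ≫ f.fR = mul G₂ (α ≫ f.fR) (β ≫ f.fR) := by
  rw [← lift_c h, f.comm_c α β h, lift_c]

/-- a morphism of groupoid schemes respects the identities -/
theorem comm_e : G₁.e ≫ f.fR = f.fU ≫ G₂.e := by
  obtain ⟨g, hg⟩ : ∃ g, g = G₁.e ≫ f.fR := ⟨_, rfl⟩
  have hgs : g ≫ G₂.s = f.fU := by
    rw [hg, Category.assoc, f.comm_s, ← Category.assoc, G₁.e_s, Category.id_comp]
  have hgt : g ≫ G₂.t = f.fU := by
    rw [hg, Category.assoc, f.comm_t, ← Category.assoc, G₁.e_t, Category.id_comp]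
  have hee : mul G₁ G₁.e G₁.e = G₁.e :=
    mul_e (by rw [← Category.assoc, G₁.e_s, Category.id_comp])
  have hgg : mul G₂ g g = g := by
    rw [hg, ← comm_mul f (by rw [G₁.e_s, G₁.e_t]), hee]
  have hcomp : g ≫ G₂.s = g ≫ G₂.t := hgs.trans hgt.symm
  rw [← hg]
  calc g = mul G₂ (mul G₂ g g) (g ≫ G₂.i) := (mul_mul_i hcomp rfl).symm
    _ = mul G₂ g (g ≫ G₂.i) := by rw [hgg]
    _ = g ≫ G₂.t ≫ G₂.e := mul_i rfl
    _ = f.fU ≫ G₂.e := by rw [← Category.assoc, hgt]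

/-- identities lie in the image of a morphism of groupoid schemes that is surjective on objects -/
lemma e_mem_range [IsIso f.fU] (u : G₂.U) : G₂.e u ∈ Set.range ⇑f.fR := by
  have hu : f.fU ((inv f.fU) u) = u := by
    rw [← Scheme.Hom.comp_apply, IsIso.inv_hom_id]; rfl
  refine ⟨G₁.e ((inv f.fU) u), ?_⟩
  rw [← Scheme.Hom.comp_apply, comm_e f, Scheme.Hom.comp_apply, hu]

/-- "division": if `β` and `α β` lie in the image then so does `α` (on points of `R ×_{s,t} R`) -/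
theorem fst_mem_range [IsIso f.fU] (q : ↑(pullback G₂.s G₂.t))
    (h2 : pullback.snd G₂.s G₂.t q ∈ Set.range ⇑f.fR) (hc : G₂.c q ∈ Set.range ⇑f.fR) :
    pullback.fst G₂.s G₂.t q ∈ Set.range ⇑f.fR := by
  obtain ⟨x1, hx1⟩ := hc
  obtain ⟨x2, hx2⟩ := h2
  obtain ⟨T1, a1, w1, e1, hs1⟩ := Groth.Agent.H37.exists_bc f.fR G₂.c
  obtain ⟨τ1, hτ1a, hτ1b⟩ := hs1 x1 q hx1
  obtain ⟨T2, a2, w2, e2, hs2⟩ :=
    Groth.Agent.H37.exists_bc f.fR (w1 ≫ pullback.snd G₂.s G₂.t)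
  obtain ⟨τ2, hτ2a, hτ2b⟩ := hs2 x2 τ1 (by rw [Scheme.Hom.comp_apply, hτ1b]; exact hx2)
  have hX1 : (w2 ≫ a1) ≫ f.fR = (w2 ≫ w1) ≫ G₂.c := by simp only [Category.assoc, e1]
  have hX2 : a2 ≫ f.fR = (w2 ≫ w1) ≫ pullback.snd G₂.s G₂.t := by
    rw [e2]; simp only [Category.assoc]
  have hss : (w2 ≫ a1) ≫ G₁.s = a2 ≫ G₁.s := by
    rw [← cancel_mono f.fU]
    calc ((w2 ≫ a1) ≫ G₁.s) ≫ f.fU = ((w2 ≫ a1) ≫ f.fR) ≫ G₂.s := by
          simp only [Category.assoc, f.comm_s]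
      _ = ((w2 ≫ w1) ≫ G₂.c) ≫ G₂.s := by rw [hX1]
      _ = ((w2 ≫ w1) ≫ pullback.snd G₂.s G₂.t) ≫ G₂.s := by
          simp only [Category.assoc, c_s]
      _ = (a2 ≫ f.fR) ≫ G₂.s := by rw [hX2]
      _ = (a2 ≫ G₁.s) ≫ f.fU := by simp only [Category.assoc, f.comm_s]
  have sq2₁ : IsPullback G₁.c (pullback.snd G₁.s G₁.t) G₁.s G₁.s :=
    (Groth.Agent.S7457.result S G₁).2
  have sq2₂ : IsPullback G₂.c (pullback.snd G₂.s G₂.t) G₂.s G₂.s :=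
    (Groth.Agent.S7457.result S G₂).2
  obtain ⟨Y, hY1, hY2⟩ : ∃ Y : T2 ⟶ pullback G₁.s G₁.t,
      Y ≫ G₁.c = w2 ≫ a1 ∧ Y ≫ pullback.snd G₁.s G₁.t = a2 :=
    ⟨sq2₁.lift _ _ hss, sq2₁.lift_fst _ _ _, sq2₁.lift_snd _ _ _⟩
  have hcond : (Y ≫ pullback.fst G₁.s G₁.t) ≫ G₁.s = a2 ≫ G₁.t := by
    rw [Category.assoc, pullback.condition, ← Category.assoc, hY2]
  have hYc : mul G₁ (Y ≫ pullback.fst G₁.s G₁.t) a2 = w2 ≫ a1 := by
    rw [← hY1, comp_c, hY2]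
  have hcond' : ((Y ≫ pullback.fst G₁.s G₁.t) ≫ f.fR) ≫ G₂.s = (a2 ≫ f.fR) ≫ G₂.t := by
    calc ((Y ≫ pullback.fst G₁.s G₁.t) ≫ f.fR) ≫ G₂.s
        = ((Y ≫ pullback.fst G₁.s G₁.t) ≫ G₁.s) ≫ f.fU := by
          simp only [Category.assoc, f.comm_s]
      _ = (a2 ≫ G₁.t) ≫ f.fU := by rw [hcond]
      _ = (a2 ≫ f.fR) ≫ G₂.t := by simp only [Category.assoc, f.comm_t]
  have hQ : pullback.lift ((Y ≫ pullback.fst G₁.s G₁.t) ≫ f.fR) (a2 ≫ f.fR) hcond' =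
      w2 ≫ w1 := by
    apply sq2₂.hom_ext
    · rw [lift_c, ← comm_mul f hcond, hYc, hX1]
    · rw [pullback.lift_snd, hX2]
  have key : (Y ≫ pullback.fst G₁.s G₁.t) ≫ f.fR = (w2 ≫ w1) ≫ pullback.fst G₂.s G₂.t := by
    rw [← hQ, pullback.lift_fst]
  refine ⟨(Y ≫ pullback.fst G₁.s G₁.t) τ2, ?_⟩
  rw [← Scheme.Hom.comp_apply, key, Scheme.Hom.comp_apply, Scheme.Hom.comp_apply, hτ2b, hτ1b]

end Groth.Agent.H37.GrpdCalc
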