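import Groth.Agent.H37.GrpdHom
import Groth.Agent.S1889
import Mathlib

/-!
# Morphisms of groupoid schemes: inverses; translating a point into a set it is adherent to
-/

set_option autoImplicit false
universe u
open CategoryTheory CategoryTheory.Limits AlgebraicGeometry
open Grpd

namespace Groth.Agent.H37.GrpdCalc

section
variable {S : Scheme.{u}} {G₁ G₂ : Grpd.GroupoidScheme S} (f : Grpd.GroupoidScheme.Hom G₁ G₂)

/-- a morphism of groupoid schemes respects inverses -/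
theorem comm_i : G₁.i ≫ f.fR = f.fR ≫ G₂.i := by
  obtain ⟨g, hg⟩ : ∃ g, g = G₁.i ≫ f.fR := ⟨_, rfl⟩
  obtain ⟨h, hh⟩ : ∃ h, h = f.fR := ⟨_, rfl⟩
  have hgs : g ≫ G₂.s = h ≫ G₂.t := by
    rw [hg, hh, Category.assoc, f.comm_s, ← Category.assoc, G₁.i_s, f.comm_t]
  have h0 : G₁.i ≫ G₁.s = 𝟙 G₁.R ≫ G₁.t := by rw [G₁.i_s, Category.id_comp]
  have hmul : mul G₂ g h = h ≫ G₂.s ≫ G₂.e := by
    have h1 := comm_mul f h0
    rw [i_mul (Category.id_comp _).symm] at h1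
    simp only [Category.id_comp] at h1
    rw [hg, hh, ← h1, Category.assoc, comm_e f, ← Category.assoc, ← f.comm_s, Category.assoc]
  have h1 : g ≫ G₂.s ≫ G₂.e = mul G₂ h (h ≫ G₂.i) := by
    rw [mul_i rfl, ← Category.assoc, hgs, Category.assoc]
  have h2 : h ≫ G₂.s = (h ≫ G₂.i) ≫ G₂.t := by rw [Category.assoc, G₂.i_t]
  rw [← hg, ← hh]
  calc g = mul G₂ g (g ≫ G₂.s ≫ G₂.e) := (mul_e rfl).symm
    _ = mul G₂ g (mul G₂ h (h ≫ G₂.i)) := by rw [h1]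
    _ = mul G₂ (mul G₂ g h) (h ≫ G₂.i) := (mul_assoc hgs h2).symm
    _ = mul G₂ (h ≫ G₂.s ≫ G₂.e) (h ≫ G₂.i) := by rw [hmul]
    _ = h ≫ G₂.i := e_mul (by rw [← Category.assoc (h ≫ G₂.i), ← h2, Category.assoc])

lemma i_mem_range (w : G₂.R) (hw : w ∈ Set.range ⇑f.fR) : G₂.i w ∈ Set.range ⇑f.fR := by
  obtain ⟨x, rfl⟩ := hw
  exact ⟨G₁.i x, by rw [← Scheme.Hom.comp_apply, comm_i f, Scheme.Hom.comp_apply]⟩

lemma i_mem_closure_range (z : G₂.R) (hz : z ∈ closure (Set.range ⇑f.fR)) :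
    G₂.i z ∈ closure (Set.range ⇑f.fR) := by
  have h1 := image_closure_subset_closure_image G₂.i.continuous ⟨z, hz, rfl⟩
  refine closure_mono ?_ h1
  rintro _ ⟨w, hw, rfl⟩
  exact i_mem_range f w hw

end

/-- over a field: if `r'` is adherent to `A` and `O` is an open set containing the identities,
then some `o ∈ O` composable with `r'` has `r' ∘ o ∈ A` -/
theorem exists_point_translate {S : Scheme.{u}} (G : Grpd.GroupoidScheme S) (k : Type u) [Field k]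
    (eU : G.U ≅ Spec (CommRingCat.of k)) (O : G.R.Opens) (hO : ∀ u : G.U, G.e u ∈ O)
    (r' : G.R) (A : Set G.R) (hr' : r' ∈ closure A) :
    ∃ q : ↑(pullback G.s G.t), pullback.fst G.s G.t q = r' ∧
      pullback.snd G.s G.t q ∈ O ∧ G.c q ∈ A := by
  obtain ⟨ρ, hρ⟩ : ∃ ρ, ρ = G.R.fromSpecResidueField r' := ⟨_, rfl⟩
  have hρpt : ∀ z, ρ z = r' := by
    intro z; rw [hρ]; exact Scheme.fromSpecResidueField_apply r' z
  have hmopen := Groth.Agent.S1889.result S G k eU O _ ρ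
  obtain ⟨m', hm'1, hm'2⟩ : ∃ m' : pullback (ρ ≫ G.s) (O.ι ≫ G.t) ⟶ pullback G.s G.t,
      m' ≫ pullback.fst G.s G.t = pullback.fst (ρ ≫ G.s) (O.ι ≫ G.t) ≫ ρ ∧
      m' ≫ pullback.snd G.s G.t = pullback.snd (ρ ≫ G.s) (O.ι ≫ G.t) ≫ O.ι :=
    ⟨pullback.lift _ _ ((Category.assoc _ _ _).trans
      (pullback.condition.trans (Category.assoc _ _ _).symm)),
      pullback.lift_fst _ _ _, pullback.lift_snd _ _ _⟩
  have hm'eq : ∀ w, pullback.lift (pullback.fst (ρ ≫ G.s) (O.ι ≫ G.t) ≫ ρ)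
      (pullback.snd (ρ ≫ G.s) (O.ι ≫ G.t) ≫ O.ι) w = m' := by
    intro w
    apply pullback.hom_ext
    · rw [pullback.lift_fst, hm'1]
    · rw [pullback.lift_snd, hm'2]
  rw [hm'eq] at hmopen
  have hε₀ : Set.range ⇑(ρ ≫ G.s ≫ G.e) ⊆ Set.range ⇑O.ι := by
    rw [Scheme.Opens.range_ι]
    rintro _ ⟨z, rfl⟩
    rw [Scheme.Hom.comp_apply, Scheme.Hom.comp_apply]
    exact hO _
  obtain ⟨ε₁, hε₁⟩ : ∃ ε₁, ε₁ ≫ O.ι = ρ ≫ G.s ≫ G.e :=
    ⟨IsOpenImmersion.lift O.ι _ hε₀, IsOpenImmersion.lift_fac _ _ _⟩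
  have hw : 𝟙 _ ≫ ρ ≫ G.s = ε₁ ≫ O.ι ≫ G.t := by
    rw [← Category.assoc ε₁, hε₁, Category.id_comp, Category.assoc, Category.assoc, G.e_t,
      Category.comp_id]
  have hr'mem : r' ∈ Set.range ⇑(m' ≫ G.c) := by
    have hcomp : pullback.lift (𝟙 _) ε₁ hw ≫ m' ≫ G.c = ρ := by
      rw [← Category.assoc, comp_c, Category.assoc, Category.assoc, hm'1, hm'2,
        pullback.lift_fst_assoc, pullback.lift_snd_assoc, Category.id_comp, hε₁]
      exact mul_e rfl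
    refine ⟨(pullback.lift (𝟙 _) ε₁ hw) default, ?_⟩
    rw [← Scheme.Hom.comp_apply, hcomp]
    exact hρpt _
  obtain ⟨y, ⟨ζ, hζ⟩, hyA⟩ := mem_closure_iff.mp hr' _ hmopen hr'mem
  refine ⟨m' ζ, ?_, ?_, ?_⟩
  · rw [← Scheme.Hom.comp_apply, hm'1, Scheme.Hom.comp_apply]
    exact hρpt _
  · rw [← Scheme.Hom.comp_apply, hm'2, Scheme.Hom.comp_apply]
    have := Set.mem_range_self (f := ⇑O.ι) (pullback.snd (ρ ≫ G.s) (O.ι ≫ G.t) ζ)
    rwa [Scheme.Opens.range_ι] at this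
  · rw [← Scheme.Hom.comp_apply, hζ]
    exact hyA

end Groth.Agent.H37.GrpdCalc
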