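import Groth.Agent.H37.SubGrpd2
import Groth.Agent.H47.MaximalPoints
import Mathlib

/-!
# A quasi-compact dominant morphism of groupoid schemes over a field is surjective
(SGA3 VI_B 1.2 in groupoid form), and sub-groupoid data for an arbitrary factorization.
-/

set_option autoImplicit false
set_option linter.unusedSimpArgs false
universe u
open CategoryTheory CategoryTheory.Limits AlgebraicGeometry
open Grpd

namespace Groth.Agent.H37.SubGrpd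

open Groth.Agent.H37.GrpdCalc

/-- a quasi-compact morphism of groupoid schemes over a field (iso on objects) with dense image
is surjective -/
theorem surjective_of_denseRange {S : Scheme.{u}} {G₁ G₂ : Grpd.GroupoidScheme S}
    (f : Grpd.GroupoidScheme.Hom G₁ G₂) [IsIso f.fU] [QuasiCompact f.fR] (k : Type u) [Field k]
    (eU : G₂.U ≅ Spec (CommRingCat.of k)) (hd : DenseRange ⇑f.fR) :
    Function.Surjective ⇑f.fR := by
  intro r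
  obtain ⟨ρ, hρ⟩ : ∃ ρ, ρ = G₂.R.fromSpecResidueField r := ⟨_, rfl⟩
  have hρpt : ∀ z, ρ z = r := fun z => by rw [hρ]; exact Scheme.fromSpecResidueField_apply r z
  have hfl : ∀ {Y : Scheme.{u}} (g : Y ⟶ G₂.U), Flat g := fun g => by
    obtain ⟨h1, h2⟩ := integral_subsingleton_of_iso_spec_field k eU
    infer_instance
  have hE : ∀ η : G₂.R, closure {η} ∈ irreducibleComponents G₂.R → η ∈ Set.range ⇑f.fR :=
    fun η hη => Groth.Agent.H47.mem_range_of_mem_closure_range f.fR η hη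
      (by rw [hd.closure_range]; trivial)
  obtain ⟨a, ha⟩ : ∃ a, a = pullback.fst (ρ ≫ G₂.s) G₂.t := ⟨_, rfl⟩
  obtain ⟨b, hb⟩ : ∃ b, b = pullback.snd (ρ ≫ G₂.s) G₂.t := ⟨_, rfl⟩
  obtain ⟨a', ha'⟩ : ∃ a', a' = pullback.fst (ρ ≫ G₂.t) G₂.t := ⟨_, rfl⟩
  obtain ⟨b', hb'⟩ : ∃ b', b' = pullback.snd (ρ ≫ G₂.t) G₂.t := ⟨_, rfl⟩
  have hcond : (a ≫ ρ) ≫ G₂.s = b ≫ G₂.t := by
    rw [ha, hb, Category.assoc]; exact pullback.condition
  have hcond' : (a' ≫ ρ) ≫ G₂.t = b' ≫ G₂.t := by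
    rw [ha', hb', Category.assoc]; exact pullback.condition
  have hcondi : ((a' ≫ ρ) ≫ G₂.i) ≫ G₂.s = b' ≫ G₂.t := by
    rw [Category.assoc, G₂.i_s, hcond']
  obtain ⟨Θ, hΘ1, hΘ2⟩ : ∃ Θ : pullback (ρ ≫ G₂.s) G₂.t ⟶ pullback (ρ ≫ G₂.t) G₂.t,
      Θ ≫ a' = a ∧ Θ ≫ b' = mul G₂ (a ≫ ρ) b := by
    refine ⟨pullback.lift a (mul G₂ (a ≫ ρ) b) (by rw [mul_t hcond, Category.assoc]), ?_, ?_⟩
    · rw [ha']; exact pullback.lift_fst _ _ _
    · rw [hb']; exact pullback.lift_snd _ _ _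
  obtain ⟨Θ', hΘ'1, hΘ'2⟩ : ∃ Θ' : pullback (ρ ≫ G₂.t) G₂.t ⟶ pullback (ρ ≫ G₂.s) G₂.t,
      Θ' ≫ a = a' ∧ Θ' ≫ b = mul G₂ ((a' ≫ ρ) ≫ G₂.i) b' := by
    refine ⟨pullback.lift a' (mul G₂ ((a' ≫ ρ) ≫ G₂.i) b') (by
      rw [mul_t hcondi]; simp only [Category.assoc, G₂.i_t]), ?_, ?_⟩
    · rw [ha]; exact pullback.lift_fst _ _ _
    · rw [hb]; exact pullback.lift_snd _ _ _
  have hΘΘ' : Θ ≫ Θ' = 𝟙 _ := by
    apply pullback.hom_ext
    · rw [← ha, Category.assoc, hΘ'1, hΘ1, Category.id_comp]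
    · rw [← hb, Category.assoc, hΘ'2, comp_mul Θ hcondi, hΘ2, Category.id_comp]
      have e1 : Θ ≫ (a' ≫ ρ) ≫ G₂.i = (a ≫ ρ) ≫ G₂.i := by
        simp only [Category.assoc, reassoc_of% hΘ1]
      rw [e1]
      exact i_mul_mul hcond rfl
  have hΘ'Θ : Θ' ≫ Θ = 𝟙 _ := by
    apply pullback.hom_ext
    · rw [← ha', Category.assoc, hΘ1, hΘ'1, Category.id_comp]
    · rw [← hb', Category.assoc, hΘ2, comp_mul Θ' hcond, hΘ'2, Category.id_comp]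
      have e1 : Θ' ≫ a ≫ ρ = a' ≫ ρ := by
        simp only [reassoc_of% hΘ'1]
      rw [e1]
      exact mul_i_mul' hcond' rfl
  haveI : IsIso Θ := ⟨Θ', hΘΘ', hΘ'Θ⟩
  -- a maximal point of the source
  obtain ⟨τ₀⟩ : Nonempty ↥(Spec (G₂.R.residueField r)) := inferInstance
  obtain ⟨p₀, -, -⟩ := Scheme.Pullback.exists_preimage_pullback (f := ρ ≫ G₂.s) (g := G₂.t) τ₀
    (G₂.e ((ρ ≫ G₂.s) τ₀)) (by rw [← Scheme.Hom.comp_apply G₂.e, G₂.e_t]; rfl)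
  obtain ⟨ξ, hξ, -⟩ := Groth.Agent.H47.exists_maximal_point_specializes p₀
  haveI : Flat b := by
    rw [hb]; exact MorphismProperty.pullback_snd (P := @Flat) _ _ (hfl _)
  haveI : Flat b' := by
    rw [hb']; exact MorphismProperty.pullback_snd (P := @Flat) _ _ (hfl _)
  have hbξ : b ξ ∈ Set.range ⇑f.fR :=
    hE _ (Groth.Agent.H47.mem_irreducibleComponents_of_generalizingMap b
      (Flat.generalizingMap b) ξ hξ)
  have hΘξ : closure {Θ ξ} ∈ irreducibleComponents ↥(pullback (ρ ≫ G₂.t) G₂.t) :=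
    Groth.Agent.H47.mem_irreducibleComponents_of_generalizingMap Θ (Flat.generalizingMap Θ) ξ hξ
  have hb'ξ : b' (Θ ξ) ∈ Set.range ⇑f.fR :=
    hE _ (Groth.Agent.H47.mem_irreducibleComponents_of_generalizingMap b'
      (Flat.generalizingMap b') _ hΘξ)
  obtain ⟨ζ, hζ⟩ : ∃ ζ, ζ = (pullback.lift (a ≫ ρ) b hcond) ξ := ⟨_, rfl⟩
  have h1 : pullback.fst G₂.s G₂.t ζ = r := by
    rw [hζ, ← Scheme.Hom.comp_apply, pullback.lift_fst, Scheme.Hom.comp_apply]; exact hρpt _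
  have h2 : pullback.snd G₂.s G₂.t ζ = b ξ := by
    rw [hζ, ← Scheme.Hom.comp_apply, pullback.lift_snd]
  have h3 : G₂.c ζ = b' (Θ ξ) := by
    rw [hζ, ← Scheme.Hom.comp_apply, lift_c hcond, ← hΘ2, Scheme.Hom.comp_apply]
  rw [← h1]
  exact fst_mem_range f ζ (h2 ▸ hbξ) (h3 ▸ hb'ξ)

/-- sub-groupoid data on an arbitrary factorization `f.fR = q ≫ ι` with `ι` a closed immersion and
`q` scheme theoretically dominant and quasi-compact, over a field -/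
theorem exists_sub_data_of_factor {S : Scheme.{u}} {G₁ G₂ : Grpd.GroupoidScheme S}
    (f : Grpd.GroupoidScheme.Hom G₁ G₂) [IsIso f.fU] (k : Type u) [Field k]
    (eU : G₂.U ≅ Spec (CommRingCat.of k)) {Z : Scheme.{u}} (ι : Z ⟶ G₂.R) [IsClosedImmersion ι]
    (q : G₁.R ⟶ Z) [IsSchemeTheoreticallyDominant q] [QuasiCompact q] (hq : q ≫ ι = f.fR) :
    ∃ (c' : pullback (ι ≫ G₂.s) (ι ≫ G₂.t) ⟶ Z)
      (_ : c' ≫ ι = mul G₂ (pullback.fst (ι ≫ G₂.s) (ι ≫ G₂.t) ≫ ι)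
        (pullback.snd (ι ≫ G₂.s) (ι ≫ G₂.t) ≫ ι))
      (e' : G₂.U ⟶ Z) (_ : e' ≫ ι = G₂.e) (i' : Z ⟶ Z), i' ≫ ι = ι ≫ G₂.i := by
  have he : (inv f.fU ≫ G₁.e ≫ q) ≫ ι = G₂.e := by
    simp only [Category.assoc, hq, comm_e f, IsIso.inv_hom_id_assoc]
  obtain ⟨i', hi'⟩ := exists_factor q ι (ι ≫ G₂.i) (G₁.i ≫ q) (by
    rw [← Category.assoc, hq, Category.assoc, hq, comm_i f])
  obtain ⟨m, hmd, hm1, hm2⟩ := exists_dominant_prod k eU q (ι ≫ G₂.s) (ι ≫ G₂.t)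
  haveI := hmd
  obtain ⟨α, hα⟩ : ∃ α, α = pullback.fst (q ≫ ι ≫ G₂.s) (q ≫ ι ≫ G₂.t) := ⟨_, rfl⟩
  obtain ⟨β, hβ⟩ : ∃ β, β = pullback.snd (q ≫ ι ≫ G₂.s) (q ≫ ι ≫ G₂.t) := ⟨_, rfl⟩
  rw [← hα] at hm1
  rw [← hβ] at hm2
  have hαβ : α ≫ G₁.s = β ≫ G₁.t := by
    rw [← cancel_mono f.fU, Category.assoc, Category.assoc, ← f.comm_s, ← f.comm_t, ← hq,
      hα, hβ]
    simp only [Category.assoc]
    exact pullback.condition
  have hcond : (pullback.fst (ι ≫ G₂.s) (ι ≫ G₂.t) ≫ ι) ≫ G₂.s =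
      (pullback.snd (ι ≫ G₂.s) (ι ≫ G₂.t) ≫ ι) ≫ G₂.t := by
    simp only [Category.assoc]; exact pullback.condition
  obtain ⟨h, hh⟩ : ∃ h, h = mul G₂ (pullback.fst (ι ≫ G₂.s) (ι ≫ G₂.t) ≫ ι)
      (pullback.snd (ι ≫ G₂.s) (ι ≫ G₂.t) ≫ ι) := ⟨_, rfl⟩
  have hmh : m ≫ h = (mul G₁ α β ≫ q) ≫ ι := by
    rw [hh, comp_mul m hcond]
    simp only [Category.assoc, reassoc_of% hm1, reassoc_of% hm2, hq]
    exact (comm_mul f hαβ).symm
  obtain ⟨c', hc'⟩ := exists_factor m ι h (mul G₁ α β ≫ q) hmh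
  rw [hh] at hc'
  exact ⟨c', hc', _, he, i', hi'⟩

end Groth.Agent.H37.SubGrpd
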