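import Groth.Prelude.Def_HTop
import Mathlib.AlgebraicGeometry.AffineScheme
import Mathlib.AlgebraicGeometry.Pullbacks

/-!
# Standard V coverings and V coverings: base change and composition
-/

set_option autoImplicit false
universe w w' u
open CategoryTheory CategoryTheory.Limits AlgebraicGeometry HTop

namespace Groth.Agent.H37

lemma isExtVal_comp {V W W' : CommRingCat.{u}} [IsDomain V] [ValuationRing V] [IsDomain W]
    [ValuationRing W] [IsDomain W'] [ValuationRing W'] (φ : V ⟶ W) (ψ : W ⟶ W')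
    (h1 : IsExtVal V W φ) (h2 : IsExtVal W W' ψ) : IsExtVal V W' (φ ≫ ψ) := by
  obtain ⟨h1i, h1l⟩ := h1
  obtain ⟨h2i, h2l⟩ := h2
  refine ⟨?_, ?_⟩
  · rw [CommRingCat.hom_comp, RingHom.coe_comp]
    exact h2i.comp h1i
  · rw [CommRingCat.hom_comp]
    exact RingHom.isLocalHom_comp _ _

theorem standardV_pullback {T T' : Scheme.{u}} [IsAffine T'] (g : T' ⟶ T)
    (E : PreZeroHypercover.{w} T) (hE : IsStandardV E) : IsStandardV (E.pullback₁ g) := by
  have := hE.isAffine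
  refine ⟨inferInstance, hE.finite_index, fun j => ?_, ?_⟩
  · haveI := hE.isAffine_obj j
    show IsAffine (pullback g (E.f j))
    infer_instance
  · intro V _ _ h
    obtain ⟨W, hWd, hWv, φ, hφ, j, g', hg'⟩ := hE.lift V (h ≫ g)
    refine ⟨W, hWd, hWv, φ, hφ, j,
      pullback.lift (Spec.map φ ≫ h) g' (by rw [Category.assoc, hg']), ?_⟩
    show pullback.lift _ _ _ ≫ pullback.fst _ _ = _
    rw [pullback.lift_fst]

theorem standardV_bind {T : Scheme.{u}} (E : PreZeroHypercover.{w} T) (hE : IsStandardV E)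
    (F : ∀ j, PreZeroHypercover.{w'} (E.X j)) (hF : ∀ j, IsStandardV (F j)) :
    IsStandardV (E.bind F) := by
  refine ⟨hE.isAffine, ?_, fun ⟨j, i⟩ => (hF j).isAffine_obj i, ?_⟩
  · haveI := hE.finite_index
    have : ∀ j, Finite (F j).I₀ := fun j => (hF j).finite_index
    show Finite (Σ j, (F j).I₀)
    infer_instance
  · intro V _ _ g
    obtain ⟨W, hWd, hWv, φ, hφ, j, g', hg'⟩ := hE.lift V g
    obtain ⟨W', hW'd, hW'v, ψ, hψ, i, g'', hg''⟩ := (hF j).lift W g'
    refine ⟨W', hW'd, hW'v, φ ≫ ψ, isExtVal_comp φ ψ hφ hψ, ⟨j, i⟩, g'', ?_⟩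
    show g'' ≫ (F j).f i ≫ E.f j = Spec.map (φ ≫ ψ) ≫ g
    rw [← Category.assoc, hg'', Category.assoc, hg', Spec.map_comp, Category.assoc]

/-- A morphism from the spectrum of a local ring factors through any open containing the image of
the closed point. -/
lemma range_subset_of_closedPoint_mem {R : CommRingCat.{u}} [IsLocalRing R] {X : Scheme.{u}}
    (h : Spec R ⟶ X) (U : X.Opens) (hU : h (IsLocalRing.closedPoint R) ∈ U) :
    Set.range h ⊆ Set.range U.ι := by
  have h1 : IsLocalRing.closedPoint R ∈ h ⁻¹ᵁ U := hU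
  have h2 : h ⁻¹ᵁ U = ⊤ := (IsLocalRing.closedPoint_mem_iff (R := R) (h ⁻¹ᵁ U)).mp h1
  rintro _ ⟨y, rfl⟩
  rw [Scheme.Opens.range_ι]
  have : y ∈ h ⁻¹ᵁ U := by rw [h2]; trivial
  exact this

/-- Key lemma: a V covering of `T` can be refined, over any morphism from an affine scheme, by a
standard V covering. -/
theorem exists_standardV_refinesOver {T T' : Scheme.{u}} [IsAffine T'] (g : T' ⟶ T)
    (E : PreZeroHypercover.{w} T) (hE : IsVCover E) :
    ∃ F : PreZeroHypercover.{0} T', IsStandardV F ∧ RefinesOver g F E := by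
  classical
  have h1 : ∀ x : T', ∃ (U : T.affineOpens) (U' : T'.affineOpens),
      x ∈ U'.1 ∧ U'.1 ≤ g ⁻¹ᵁ U.1 := by
    intro x
    obtain ⟨U, hU, hxU, -⟩ :=
      exists_isAffineOpen_mem_and_subset (x := g x) (U := ⊤) trivial
    obtain ⟨U', hU', hxU', hle⟩ :=
      exists_isAffineOpen_mem_and_subset (x := x) (U := g ⁻¹ᵁ U) hxU
    exact ⟨⟨U, hU⟩, ⟨U', hU'⟩, hxU', hle⟩
  choose U U' hxU' hle using h1
  have h2 : ∀ x : T', ∃ F : PreZeroHypercover.{0} ((U x : T.Opens) : Scheme.{u}),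
      IsStandardV F ∧ RefinesOver (U x : T.Opens).ι F E := fun x => hE (U x)
  choose Fx hFx hFxr using h2
  obtain ⟨t, ht⟩ := isCompact_univ.elim_finite_subcover
    (fun x : T' => ((U' x).1 : Set T')) (fun x => (U' x).1.2)
    (fun y _ => Set.mem_iUnion.2 ⟨y, hxU' y⟩)
  let pt : Fin t.card → T' := fun k => (t.equivFin.symm k).1
  have hcov : ∀ y : T', ∃ k, y ∈ (U' (pt k)).1 := by
    intro y
    have := ht (Set.mem_univ y)
    simp only [Set.mem_iUnion] at this
    obtain ⟨x, hx, hy⟩ := this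
    refine ⟨t.equivFin ⟨x, hx⟩, ?_⟩
    simpa [pt] using hy
  let gk : ∀ x : T', ((U' x).1 : Scheme.{u}) ⟶ ((U x).1 : Scheme.{u}) := fun x =>
    g.resLE (U x).1 (U' x).1 (hle x)
  have hgk : ∀ x, gk x ≫ (U x).1.ι = (U' x).1.ι ≫ g := fun x => Scheme.Hom.resLE_comp_ι _ _
  have haffU : ∀ x, IsAffine ((U x).1 : Scheme.{u}) := fun x => (U x).2
  have haffU' : ∀ x, IsAffine ((U' x).1 : Scheme.{u}) := fun x => (U' x).2
  let F : PreZeroHypercover.{0} T' :=
    { I₀ := Σ k : Fin t.card, (Fx (pt k)).I₀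
      X := fun ki => pullback (gk (pt ki.1)) ((Fx (pt ki.1)).f ki.2)
      f := fun ki => pullback.fst _ _ ≫ (U' (pt ki.1)).1.ι }
  refine ⟨F, ⟨inferInstance, ?_, ?_, ?_⟩, ?_⟩
  · haveI : ∀ k : Fin t.card, Finite (Fx (pt k)).I₀ := fun k => (hFx (pt k)).finite_index
    show Finite (Σ k : Fin t.card, (Fx (pt k)).I₀)
    infer_instance
  · rintro ⟨k, i⟩
    have := haffU (pt k)
    have := haffU' (pt k)
    have := (hFx (pt k)).isAffine_obj i
    show IsAffine (pullback (gk (pt k)) ((Fx (pt k)).f i))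
    infer_instance
  · intro V _ _ h
    obtain ⟨k, hk⟩ := hcov (h (IsLocalRing.closedPoint V))
    let hk' : Spec V ⟶ ((U' (pt k)).1 : Scheme.{u}) :=
      IsOpenImmersion.lift (U' (pt k)).1.ι h (range_subset_of_closedPoint_mem h _ hk)
    have hhk' : hk' ≫ (U' (pt k)).1.ι = h := IsOpenImmersion.lift_fac _ _ _
    obtain ⟨W, hWd, hWv, φ, hφ, i, g', hg'⟩ := (hFx (pt k)).lift V (hk' ≫ gk (pt k))
    refine ⟨W, hWd, hWv, φ, hφ, ⟨k, i⟩,
      pullback.lift (Spec.map φ ≫ hk') g' (by rw [Category.assoc, hg']), ?_⟩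
    show pullback.lift _ _ _ ≫ pullback.fst _ _ ≫ (U' (pt k)).1.ι = _
    rw [pullback.lift_fst_assoc, Category.assoc, hhk']
  · rintro ⟨k, i⟩
    obtain ⟨i', h', hh'⟩ := hFxr (pt k) i
    refine ⟨i', pullback.snd _ _ ≫ h', ?_⟩
    show (pullback.snd (gk (pt k)) ((Fx (pt k)).f i) ≫ h') ≫ E.f i' =
      (pullback.fst (gk (pt k)) ((Fx (pt k)).f i) ≫ (U' (pt k)).1.ι) ≫ g
    rw [Category.assoc, hh', ← Category.assoc, ← pullback.condition, Category.assoc, hgk,
      Category.assoc]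

theorem isVCover_pullback {T T' : Scheme.{u}} (g : T' ⟶ T) (E : PreZeroHypercover.{w} T)
    (hE : IsVCover E) : IsVCover (E.pullback₁ g) := by
  intro U'
  have : IsAffine ((U' : T'.Opens) : Scheme.{u}) := U'.2
  obtain ⟨F, hF, hFr⟩ := exists_standardV_refinesOver ((U' : T'.Opens).ι ≫ g) E hE
  refine ⟨F, hF, fun j => ?_⟩
  obtain ⟨i, h, hh⟩ := hFr j
  refine ⟨i, pullback.lift (F.f j ≫ (U' : T'.Opens).ι) h (by rw [hh, Category.assoc]), ?_⟩
  show pullback.lift _ _ _ ≫ pullback.fst _ _ = _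
  rw [pullback.lift_fst]

theorem isVCover_bind {T : Scheme.{u}} (E : PreZeroHypercover.{w} T) (hE : IsVCover E)
    (F : ∀ i, PreZeroHypercover.{w'} (E.X i)) (hF : ∀ i, IsVCover (F i)) :
    IsVCover (E.bind F) := by
  intro U
  obtain ⟨G, hG, hGr⟩ := hE U
  choose i h hh using hGr
  have key : ∀ j : G.I₀, ∃ H : PreZeroHypercover.{0} (G.X j),
      IsStandardV H ∧ RefinesOver (h j) H (F (i j)) := by
    intro j
    have := hG.isAffine_obj j
    exact exists_standardV_refinesOver (h j) (F (i j)) (hF (i j))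
  choose H hH hHr using key
  refine ⟨G.bind H, standardV_bind G hG H hH, ?_⟩
  rintro ⟨j, l⟩
  obtain ⟨i2, h2, hh2⟩ := hHr j l
  refine ⟨⟨i j, i2⟩, h2, ?_⟩
  show h2 ≫ (F (i j)).f i2 ≫ E.f (i j) = ((H j).f l ≫ G.f j) ≫ (U : T.Opens).ι
  rw [← Category.assoc, hh2, Category.assoc, hh, Category.assoc]

end Groth.Agent.H37
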