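import Groth.Prelude.Def_HTop
import Groth.Agent.H37.HTopV
import Mathlib

/-!
# Sheaf conditions for families refined by standard families

* `isSheafFor_of_refined`: a Zariski sheaf which is a sheaf for a base-change-stable class of
  "standard" families (with affine members) is a sheaf for every family which over each affine
  open of the target is refined by a standard family.
* `isSheafFor_comp`: Zariski sheaf + sheaf for a single arrow `p` ⇒ sheaf for `{ι_j ≫ p}` where
  `ι_j` is a Zariski covering of the source of `p`.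
* Zariski coverings and standard V coverings are V coverings.
-/

set_option autoImplicit false
universe w w' w'' u
open CategoryTheory CategoryTheory.Limits AlgebraicGeometry HTop Opposite

namespace Groth.Agent.H37.HTopSheaf

variable {F : Scheme.{u}ᵒᵖ ⥤ Type w}

lemma map_comp' {X Y Z : Scheme.{u}} (g1 : X ⟶ Y) (g2 : Y ⟶ Z) (a : F.obj (op Z)) :
    F.map (g1 ≫ g2).op a = F.map g1.op (F.map g2.op a) := by
  rw [op_comp, F.map_comp]
  rfl

lemma exists_affineOpens_mem_le {X : Scheme.{u}} (x : X) (V : X.Opens) (hx : x ∈ V) :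
    ∃ U : X.affineOpens, x ∈ (U : X.Opens) ∧ (U : X.Opens) ≤ V := by
  obtain ⟨W, hW, hxW, hle⟩ := exists_isAffineOpen_mem_and_subset (x := x) (U := V) hx
  exact ⟨⟨W, hW⟩, hxW, hle⟩

lemma exists_affineOpens_mem {X : Scheme.{u}} (x : X) :
    ∃ U : X.affineOpens, x ∈ (U : X.Opens) := by
  obtain ⟨U, hU, -⟩ := exists_affineOpens_mem_le x ⊤ trivial
  exact ⟨U, hU⟩

theorem isSheafFor_of_openImmersions (hZ : Presieve.IsSheaf Scheme.zariskiTopology F)
    {Y : Scheme.{u}} {ι : Type w'} (X : ι → Scheme.{u}) (f : ∀ i, X i ⟶ Y)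
    (hf : ∀ i, IsOpenImmersion (f i)) (hs : ∀ y : Y, ∃ i, y ∈ Set.range (f i).base) :
    Presieve.IsSheafFor F (Presieve.ofArrows X f) := by
  rw [Presieve.isSheafFor_iff_generate]
  apply hZ
  apply Precoverage.generate_mem_toGrothendieck
  rw [Scheme.ofArrows_mem_precoverage_iff]
  exact ⟨hs, hf⟩

theorem zar_ext (hZ : Presieve.IsSheaf Scheme.zariskiTopology F) {Y : Scheme.{u}}
    (a b : F.obj (op Y))
    (h : ∀ y : Y, ∃ W : Y.Opens, y ∈ W ∧ F.map W.ι.op a = F.map W.ι.op b) : a = b := by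
  choose W hyW hW using h
  have hsh := isSheafFor_of_openImmersions hZ (fun y : Y => ((W y : Y.Opens) : Scheme.{u}))
    (fun y => (W y).ι) (fun y => inferInstance)
    (fun y => ⟨y, by
      show y ∈ Set.range (W y).ι
      rw [Scheme.Opens.range_ι]; exact hyW y⟩)
  refine hsh.isSeparatedFor.ext ?_
  rintro Z g ⟨y⟩
  exact hW y

/-- The generic refinement theorem. -/
theorem isSheafFor_of_refined
    (Std : ∀ ⦃T : Scheme.{u}⦄, PreZeroHypercover.{0} T → Prop)
    (hA : ∀ ⦃T : Scheme.{u}⦄ (G : PreZeroHypercover.{0} T), Std G → ∀ j, IsAffine (G.X j))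
    (hP : ∀ ⦃T T' : Scheme.{u}⦄ [IsAffine T'] (g : T' ⟶ T) (G : PreZeroHypercover.{0} T),
      Std G → Std (G.pullback₁ g))
    (hZ : Presieve.IsSheaf Scheme.zariskiTopology F)
    (hS : ∀ ⦃T : Scheme.{u}⦄ (G : PreZeroHypercover.{0} T), Std G →
      Presieve.IsSheafFor F G.presieve₀)
    {T : Scheme.{u}} (E : PreZeroHypercover.{w'} T)
    (hE : ∀ U : T.affineOpens, ∃ G : PreZeroHypercover.{0} ((U : T.Opens) : Scheme.{u}),
      Std G ∧ RefinesOver (U : T.Opens).ι G E) :
    Presieve.IsSheafFor F E.presieve₀ := by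
  choose G hG hGr using hE
  choose i r hr using hGr
  -- separatedness for `E`
  have hsep : ∀ a b : F.obj (op T), (∀ k, F.map (E.f k).op a = F.map (E.f k).op b) → a = b := by
    intro a b hab
    apply zar_ext hZ
    intro t
    obtain ⟨U, htU⟩ := exists_affineOpens_mem t
    refine ⟨U, htU, ?_⟩
    refine (hS (G U) (hG U)).isSeparatedFor.ext ?_
    rintro Z g ⟨j⟩
    calc F.map ((G U).f j).op (F.map (U : T.Opens).ι.op a)
        = F.map ((G U).f j ≫ (U : T.Opens).ι).op a := (map_comp' _ _ _).symm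
      _ = F.map (r U j ≫ E.f (i U j)).op a := by rw [hr U j]
      _ = F.map (r U j).op (F.map (E.f (i U j)).op a) := map_comp' _ _ _
      _ = F.map (r U j).op (F.map (E.f (i U j)).op b) := by rw [hab]
      _ = F.map (r U j ≫ E.f (i U j)).op b := (map_comp' _ _ _).symm
      _ = F.map ((G U).f j ≫ (U : T.Opens).ι).op b := by rw [hr U j]
      _ = F.map ((G U).f j).op (F.map (U : T.Opens).ι.op b) := map_comp' _ _ _
  rw [Presieve.isSheafFor_arrows_iff]
  intro x hx
  -- the local sections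
  have hcompat : ∀ U : T.affineOpens, Presieve.Arrows.Compatible F (G U).f
      (fun j => F.map (r U j).op (x (i U j))) := by
    intro U j j' Z g1 g2 h
    show F.map g1.op (F.map (r U j).op (x (i U j))) =
      F.map g2.op (F.map (r U j').op (x (i U j')))
    rw [← map_comp', ← map_comp']
    refine hx _ _ _ _ _ ?_
    calc (g1 ≫ r U j) ≫ E.f (i U j) = g1 ≫ ((G U).f j ≫ (U : T.Opens).ι) := by
          rw [Category.assoc, hr U j]
      _ = g2 ≫ ((G U).f j' ≫ (U : T.Opens).ι) := by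
          rw [← Category.assoc, h, Category.assoc]
      _ = (g2 ≫ r U j') ≫ E.f (i U j') := by rw [Category.assoc, hr U j']
  have hz : ∀ U : T.affineOpens, ∃ t : F.obj (op ((U : T.Opens) : Scheme.{u})),
      ∀ j, F.map ((G U).f j).op t = F.map (r U j).op (x (i U j)) := fun U =>
    ((Presieve.isSheafFor_arrows_iff (P := F) (π := (G U).f)).mp (hS (G U) (hG U)) _
      (hcompat U)).exists
  choose z hz using hz
  -- the key comparison
  have key : ∀ (U : T.affineOpens) (W : Scheme.{u}) [IsAffine W]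
      (q : W ⟶ ((U : T.Opens) : Scheme.{u})) (i0 : E.I₀) (p : W ⟶ E.X i0),
      p ≫ E.f i0 = q ≫ (U : T.Opens).ι → F.map q.op (z U) = F.map p.op (x i0) := by
    intro U W _ q i0 p hpq
    have hStd : Std ((G U).pullback₁ q) := hP q (G U) (hG U)
    refine (hS _ hStd).isSeparatedFor.ext ?_
    rintro Z g ⟨j⟩
    show F.map (pullback.fst q ((G U).f j)).op (F.map q.op (z U)) =
      F.map (pullback.fst q ((G U).f j)).op (F.map p.op (x i0))
    have e1 : (pullback.snd q ((G U).f j) ≫ r U j) ≫ E.f (i U j) =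
        (pullback.fst q ((G U).f j) ≫ p) ≫ E.f i0 := by
      calc (pullback.snd q ((G U).f j) ≫ r U j) ≫ E.f (i U j)
          = pullback.snd q ((G U).f j) ≫ ((G U).f j ≫ (U : T.Opens).ι) := by
            rw [Category.assoc, hr U j]
        _ = (pullback.fst q ((G U).f j) ≫ q) ≫ (U : T.Opens).ι := by
            rw [← Category.assoc, pullback.condition]
        _ = (pullback.fst q ((G U).f j) ≫ p) ≫ E.f i0 := by
            rw [Category.assoc, Category.assoc, hpq]
    calc F.map (pullback.fst q ((G U).f j)).op (F.map q.op (z U))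
        = F.map (pullback.fst q ((G U).f j) ≫ q).op (z U) := (map_comp' _ _ _).symm
      _ = F.map (pullback.snd q ((G U).f j) ≫ (G U).f j).op (z U) := by rw [pullback.condition]
      _ = F.map (pullback.snd q ((G U).f j)).op (F.map ((G U).f j).op (z U)) := map_comp' _ _ _
      _ = F.map (pullback.snd q ((G U).f j)).op (F.map (r U j).op (x (i U j))) := by rw [hz U j]
      _ = F.map (pullback.snd q ((G U).f j) ≫ r U j).op (x (i U j)) := (map_comp' _ _ _).symm
      _ = F.map (pullback.fst q ((G U).f j) ≫ p).op (x i0) := hx _ _ _ _ _ e1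
      _ = F.map (pullback.fst q ((G U).f j)).op (F.map p.op (x i0)) := map_comp' _ _ _
  -- compatibility with restriction
  have hres : ∀ (U U' : T.affineOpens) (hle : (U' : T.Opens) ≤ (U : T.Opens)),
      F.map (T.homOfLE hle).op (z U) = z U' := by
    intro U U' hle
    refine (hS (G U') (hG U')).isSeparatedFor.ext ?_
    rintro Z g ⟨j⟩
    haveI := hA (G U') (hG U') j
    calc F.map ((G U').f j).op (F.map (T.homOfLE hle).op (z U))
        = F.map ((G U').f j ≫ T.homOfLE hle).op (z U) := (map_comp' _ _ _).symm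
      _ = F.map (r U' j).op (x (i U' j)) :=
          key U ((G U').X j) ((G U').f j ≫ T.homOfLE hle) (i U' j) (r U' j)
            (by rw [hr U' j, Category.assoc, Scheme.homOfLE_ι])
      _ = F.map ((G U').f j).op (z U') := (hz U' j).symm
  -- gluing
  have hglue : Presieve.Arrows.Compatible F (fun U : T.affineOpens => (U : T.Opens).ι) z := by
    intro U1 U2 Z g1 g2 h
    apply zar_ext hZ
    intro y
    have hy1 : (g1 ≫ (U1 : T.Opens).ι) y ∈ (U1 : T.Opens) := by
      have : (g1 ≫ (U1 : T.Opens).ι) y ∈ Set.range (U1 : T.Opens).ι :=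
        ⟨g1 y, (Scheme.Hom.comp_apply _ _ _).symm⟩
      rwa [Scheme.Opens.range_ι] at this
    have hy2 : (g1 ≫ (U1 : T.Opens).ι) y ∈ (U2 : T.Opens) := by
      rw [h]
      have : (g2 ≫ (U2 : T.Opens).ι) y ∈ Set.range (U2 : T.Opens).ι :=
        ⟨g2 y, (Scheme.Hom.comp_apply _ _ _).symm⟩
      rwa [Scheme.Opens.range_ι] at this
    obtain ⟨U3, hyU3, hle3⟩ := exists_affineOpens_mem_le _ ((U1 : T.Opens) ⊓ (U2 : T.Opens))
      ⟨hy1, hy2⟩
    have le1 : (U3 : T.Opens) ≤ (U1 : T.Opens) := le_trans hle3 inf_le_left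
    have le2 : (U3 : T.Opens) ≤ (U2 : T.Opens) := le_trans hle3 inf_le_right
    obtain ⟨W, hW⟩ : ∃ W : Z.Opens, W = (g1 ≫ (U1 : T.Opens).ι) ⁻¹ᵁ (U3 : T.Opens) := ⟨_, rfl⟩
    have hyW : y ∈ W := by rw [hW]; exact hyU3
    have hWle : W ≤ (g1 ≫ (U1 : T.Opens).ι) ⁻¹ᵁ (U3 : T.Opens) := hW.le
    obtain ⟨k, hk⟩ : ∃ k : (W : Scheme.{u}) ⟶ ((U3 : T.Opens) : Scheme.{u}),
        k ≫ (U3 : T.Opens).ι = W.ι ≫ g1 ≫ (U1 : T.Opens).ι :=
      ⟨(g1 ≫ (U1 : T.Opens).ι).resLE (U3 : T.Opens) W hWle, Scheme.Hom.resLE_comp_ι _ _⟩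
    have e1 : W.ι ≫ g1 = k ≫ T.homOfLE le1 := by
      rw [← cancel_mono (U1 : T.Opens).ι, Category.assoc, Category.assoc, Scheme.homOfLE_ι, hk]
    have e2 : W.ι ≫ g2 = k ≫ T.homOfLE le2 := by
      rw [← cancel_mono (U2 : T.Opens).ι, Category.assoc, Category.assoc, Scheme.homOfLE_ι, hk, h]
    refine ⟨W, hyW, ?_⟩
    calc F.map W.ι.op (F.map g1.op (z U1)) = F.map (W.ι ≫ g1).op (z U1) := (map_comp' _ _ _).symm
      _ = F.map (k ≫ T.homOfLE le1).op (z U1) := by rw [e1]
      _ = F.map k.op (F.map (T.homOfLE le1).op (z U1)) := map_comp' _ _ _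
      _ = F.map k.op (z U3) := by rw [hres U1 U3 le1]
      _ = F.map k.op (F.map (T.homOfLE le2).op (z U2)) := by rw [hres U2 U3 le2]
      _ = F.map (k ≫ T.homOfLE le2).op (z U2) := (map_comp' _ _ _).symm
      _ = F.map (W.ι ≫ g2).op (z U2) := by rw [e2]
      _ = F.map W.ι.op (F.map g2.op (z U2)) := map_comp' _ _ _
  have hshT := isSheafFor_of_openImmersions hZ
    (fun U : T.affineOpens => ((U : T.Opens) : Scheme.{u}))
    (fun U => (U : T.Opens).ι) (fun U => inferInstance)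
    (fun t => by
      obtain ⟨U, hU⟩ := exists_affineOpens_mem t
      refine ⟨U, ?_⟩
      show t ∈ Set.range (U : T.Opens).ι
      rw [Scheme.Opens.range_ι]; exact hU)
  obtain ⟨z0, hz0, -⟩ := (Presieve.isSheafFor_arrows_iff (P := F)
    (π := fun U : T.affineOpens => (U : T.Opens).ι)).mp hshT z hglue
  have hb : ∀ i0, F.map (E.f i0).op z0 = x i0 := by
    intro i0
    apply zar_ext hZ
    intro y
    obtain ⟨U, hU⟩ := exists_affineOpens_mem (E.f i0 y)
    obtain ⟨W, hyW, hleW⟩ := exists_affineOpens_mem_le y ((E.f i0) ⁻¹ᵁ (U : T.Opens)) hU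
    refine ⟨W, hyW, ?_⟩
    haveI : IsAffine ((W : (E.X i0).Opens) : Scheme.{u}) := W.2
    obtain ⟨q, hq⟩ : ∃ q : ((W : (E.X i0).Opens) : Scheme.{u}) ⟶ ((U : T.Opens) : Scheme.{u}),
        q ≫ (U : T.Opens).ι = (W : (E.X i0).Opens).ι ≫ E.f i0 :=
      ⟨(E.f i0).resLE (U : T.Opens) (W : (E.X i0).Opens) hleW, Scheme.Hom.resLE_comp_ι _ _⟩
    calc F.map (W : (E.X i0).Opens).ι.op (F.map (E.f i0).op z0)
        = F.map ((W : (E.X i0).Opens).ι ≫ E.f i0).op z0 := (map_comp' _ _ _).symm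
      _ = F.map (q ≫ (U : T.Opens).ι).op z0 := by rw [hq]
      _ = F.map q.op (F.map (U : T.Opens).ι.op z0) := map_comp' _ _ _
      _ = F.map q.op (z U) := by rw [hz0 U]
      _ = F.map (W : (E.X i0).Opens).ι.op (x i0) := key U _ q i0 _ hq.symm
  exact ⟨z0, hb, fun z1 hz1 => hsep z1 z0 (fun k => by rw [hz1 k, hb k])⟩

/-- Zariski sheaf + sheaf for the single arrow `p` ⇒ sheaf for `{ι_j ≫ p}` for a Zariski covering
`{ι_j}` of the source of `p`. -/
theorem isSheafFor_comp (hZ : Presieve.IsSheaf Scheme.zariskiTopology F)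
    {T U : Scheme.{u}} (p : U ⟶ T) {ι : Type w'} (X : ι → Scheme.{u}) (j : ∀ i, X i ⟶ U)
    (hj : ∀ i, IsOpenImmersion (j i)) (hs : ∀ y : U, ∃ i, y ∈ Set.range (j i).base)
    (hp : Presieve.IsSheafFor F (Presieve.singleton p)) :
    Presieve.IsSheafFor F (Presieve.ofArrows X (fun i => j i ≫ p)) := by
  have hcov := isSheafFor_of_openImmersions hZ X j hj hs
  rw [← Presieve.ofArrows_pUnit.{0}] at hp
  rw [Presieve.isSheafFor_arrows_iff] at hp hcov ⊢
  intro x hx
  have hxj : Presieve.Arrows.Compatible F j x := by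
    intro i i' Z g1 g2 h
    exact hx i i' Z g1 g2 (by rw [← Category.assoc, h, Category.assoc])
  obtain ⟨y, hy, hyu⟩ := hcov x hxj
  have hyp : Presieve.Arrows.Compatible F (fun _ : PUnit.{1} => p) (fun _ => y) := by
    intro _ _ Z g1 g2 h
    show F.map g1.op y = F.map g2.op y
    apply zar_ext hZ
    intro z
    obtain ⟨i, hi⟩ := hs (g1 z)
    obtain ⟨i', hi'⟩ := hs (g2 z)
    haveI := hj i
    haveI := hj i'
    obtain ⟨W, hW⟩ : ∃ W : Z.Opens,
        W = g1 ⁻¹ᵁ (j i).opensRange ⊓ g2 ⁻¹ᵁ (j i').opensRange := ⟨_, rfl⟩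
    have hzW : z ∈ W := by rw [hW]; exact ⟨hi, hi'⟩
    have hW1 : W ≤ g1 ⁻¹ᵁ (j i).opensRange := by rw [hW]; exact inf_le_left
    have hW2 : W ≤ g2 ⁻¹ᵁ (j i').opensRange := by rw [hW]; exact inf_le_right
    obtain ⟨a, ha⟩ : ∃ a : (W : Scheme.{u}) ⟶ X i, a ≫ j i = W.ι ≫ g1 :=
      ⟨g1.resLE (j i).opensRange W hW1 ≫ (j i).isoOpensRange.inv, by
        rw [Category.assoc, Scheme.Hom.isoOpensRange_inv_comp, Scheme.Hom.resLE_comp_ι]⟩
    obtain ⟨b, hb⟩ : ∃ b : (W : Scheme.{u}) ⟶ X i', b ≫ j i' = W.ι ≫ g2 :=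
      ⟨g2.resLE (j i').opensRange W hW2 ≫ (j i').isoOpensRange.inv, by
        rw [Category.assoc, Scheme.Hom.isoOpensRange_inv_comp, Scheme.Hom.resLE_comp_ι]⟩
    have hab : a ≫ (j i ≫ p) = b ≫ (j i' ≫ p) := by
      rw [← Category.assoc, ha, ← Category.assoc, hb, Category.assoc, Category.assoc, h]
    refine ⟨W, hzW, ?_⟩
    calc F.map W.ι.op (F.map g1.op y) = F.map (W.ι ≫ g1).op y := (map_comp' _ _ _).symm
      _ = F.map (a ≫ j i).op y := by rw [ha]
      _ = F.map a.op (F.map (j i).op y) := map_comp' _ _ _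
      _ = F.map a.op (x i) := by rw [hy i]
      _ = F.map b.op (x i') := hx i i' _ a b hab
      _ = F.map b.op (F.map (j i').op y) := by rw [hy i']
      _ = F.map (b ≫ j i').op y := (map_comp' _ _ _).symm
      _ = F.map (W.ι ≫ g2).op y := by rw [hb]
      _ = F.map W.ι.op (F.map g2.op y) := map_comp' _ _ _
  obtain ⟨t, ht, htu⟩ := hp (fun _ => y) hyp
  refine ⟨t, fun i => ?_, fun t' ht' => ?_⟩
  · rw [map_comp', ht PUnit.unit, hy i]
  · apply htu
    intro _
    apply hyu
    intro i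
    rw [← map_comp', ht' i]

/-! ### V coverings -/

theorem standardV_reindex {T : Scheme.{u}} (E : PreZeroHypercover.{w'} T) {ι : Type w''}
    (e : ι ≃ E.I₀) (hE : IsStandardV E) : IsStandardV (E.reindex e) := by
  refine ⟨hE.isAffine, ?_, fun j => hE.isAffine_obj (e j), ?_⟩
  · haveI := hE.finite_index
    exact Finite.of_equiv _ e.symm
  · intro V _ _ g
    obtain ⟨W, hWd, hWv, φ, hφ, j, g', hg'⟩ := hE.lift V g
    obtain ⟨j', rfl⟩ := e.surjective j
    exact ⟨W, hWd, hWv, φ, hφ, j', g', hg'⟩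

theorem isVCover_of_standardV {T : Scheme.{u}} (E : PreZeroHypercover.{w'} T)
    (hE : IsStandardV E) : IsVCover E := by
  intro U
  haveI : IsAffine ((U : T.Opens) : Scheme.{u}) := U.2
  haveI := hE.finite_index
  let e : Fin (Nat.card E.I₀) ≃ (E.pullback₁ (U : T.Opens).ι).I₀ := (Finite.equivFin E.I₀).symm
  refine ⟨(E.pullback₁ (U : T.Opens).ι).reindex e,
    standardV_reindex _ e (Groth.Agent.H37.standardV_pullback _ E hE), ?_⟩
  intro k
  refine ⟨e k, pullback.snd _ _, ?_⟩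
  show pullback.snd (U : T.Opens).ι (E.f (e k)) ≫ E.f (e k) =
    pullback.fst (U : T.Opens).ι (E.f (e k)) ≫ (U : T.Opens).ι
  exact pullback.condition.symm

lemma isExtVal_id (V : CommRingCat.{u}) [IsDomain V] [ValuationRing V] : IsExtVal V V (𝟙 V) := by
  constructor
  · intro a b hab
    simpa using hab
  · rw [CommRingCat.hom_id]
    infer_instance

/-- If the closed point of `Spec R` (`R` local) maps into the range of an open immersion `j`,
then the whole morphism factors through `j`. -/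
lemma exists_lift_of_closedPoint_mem {R : CommRingCat.{u}} [IsLocalRing R] {X X' : Scheme.{u}}
    (h : Spec R ⟶ X) (j : X' ⟶ X) [IsOpenImmersion j]
    (hj : h (IsLocalRing.closedPoint R) ∈ Set.range j) : ∃ h' : Spec R ⟶ X', h' ≫ j = h := by
  have hsub : Set.range h ⊆ Set.range j := by
    have := Groth.Agent.H37.range_subset_of_closedPoint_mem h j.opensRange hj
    rwa [Scheme.Opens.range_ι, Scheme.Hom.coe_opensRange] at this
  exact ⟨IsOpenImmersion.lift j h hsub, IsOpenImmersion.lift_fac _ _ _⟩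

theorem isVCover_of_zariski {T : Scheme.{u}} (E : PreZeroHypercover.{w'} T)
    (hoi : ∀ i, IsOpenImmersion (E.f i)) (hs : ∀ t : T, ∃ i, t ∈ Set.range (E.f i).base) :
    IsVCover E := by
  classical
  intro U
  haveI : IsAffine ((U : T.Opens) : Scheme.{u}) := U.2
  have h1 : ∀ t : (U : T.Opens), ∃ (i : E.I₀) (W : T.affineOpens), t.1 ∈ (W : T.Opens) ∧
      (W : T.Opens) ≤ (U : T.Opens) ∧ (W : T.Opens) ≤ (haveI := hoi i; (E.f i).opensRange) := by
    intro t
    obtain ⟨i, hi⟩ := hs t.1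
    haveI := hoi i
    obtain ⟨W, htW, hle⟩ := exists_affineOpens_mem_le t.1 ((U : T.Opens) ⊓ (E.f i).opensRange)
      ⟨t.2, hi⟩
    exact ⟨i, W, htW, le_trans hle inf_le_left, le_trans hle inf_le_right⟩
  choose i W htW hWU hWr using h1
  obtain ⟨s, hs'⟩ := U.2.isCompact.elim_finite_subcover
    (fun t : (U : T.Opens) => ((W t : T.Opens) : Set T)) (fun t => (W t : T.Opens).2)
    (fun y hy => Set.mem_iUnion.2 ⟨⟨y, hy⟩, htW ⟨y, hy⟩⟩)
  let pt : Fin s.card → (U : T.Opens) := fun k => (s.equivFin.symm k).1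
  have hcov : ∀ y : T, y ∈ (U : T.Opens) → ∃ k, y ∈ (W (pt k) : T.Opens) := by
    intro y hy
    have := hs' hy
    simp only [Set.mem_iUnion] at this
    obtain ⟨x, hx, hyx⟩ := this
    refine ⟨s.equivFin ⟨x, hx⟩, ?_⟩
    simpa [pt] using hyx
  let G : PreZeroHypercover.{0} ((U : T.Opens) : Scheme.{u}) :=
    { I₀ := Fin s.card
      X := fun k => ((W (pt k) : T.Opens) : Scheme.{u})
      f := fun k => T.homOfLE (hWU (pt k)) }
  refine ⟨G, ⟨inferInstance, ?_, ?_, ?_⟩, ?_⟩
  · show Finite (Fin s.card)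
    infer_instance
  · intro k
    exact (W (pt k)).2
  · intro V _ _ g
    have hu : (U : T.Opens).ι (g (IsLocalRing.closedPoint V)) ∈ (U : T.Opens) := by
      have : (U : T.Opens).ι (g (IsLocalRing.closedPoint V)) ∈ Set.range (U : T.Opens).ι :=
        ⟨_, rfl⟩
      rwa [Scheme.Opens.range_ι] at this
    obtain ⟨k, hk⟩ := hcov _ hu
    have hmem : g (IsLocalRing.closedPoint V) ∈ Set.range (T.homOfLE (hWU (pt k))) := by
      have hk' : (U : T.Opens).ι (g (IsLocalRing.closedPoint V)) ∈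
          Set.range (W (pt k) : T.Opens).ι := by
        rw [Scheme.Opens.range_ι]; exact hk
      obtain ⟨w, hw⟩ := hk'
      refine ⟨w, ?_⟩
      apply (U : T.Opens).ι.isOpenEmbedding.injective
      rw [← hw, ← Scheme.Hom.comp_apply, Scheme.homOfLE_ι]
    obtain ⟨g', hg'⟩ := exists_lift_of_closedPoint_mem g (T.homOfLE (hWU (pt k))) hmem
    refine ⟨V, inferInstance, inferInstance, 𝟙 V, isExtVal_id V, k, g', ?_⟩
    show g' ≫ T.homOfLE (hWU (pt k)) = Spec.map (𝟙 V) ≫ g
    rw [Spec.map_id, Category.id_comp, hg']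
  · intro k
    haveI := hoi (i (pt k))
    refine ⟨i (pt k), T.homOfLE (hWr (pt k)) ≫ (E.f (i (pt k))).isoOpensRange.inv, ?_⟩
    show (T.homOfLE (hWr (pt k)) ≫ (E.f (i (pt k))).isoOpensRange.inv) ≫ E.f (i (pt k)) =
      T.homOfLE (hWU (pt k)) ≫ (U : T.Opens).ι
    rw [Category.assoc, Scheme.Hom.isoOpensRange_inv_comp, Scheme.homOfLE_ι, Scheme.homOfLE_ι]

/-- A V sheaf is a Zariski sheaf. -/
theorem isSheaf_zariski_of_isVSheaf (h : IsVSheaf F) :
    Presieve.IsSheaf Scheme.zariskiTopology F := by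
  rw [Precoverage.isSheaf_toGrothendieck_iff_of_isStableUnderBaseChange]
  intro X R hR
  obtain ⟨E, rfl⟩ := R.exists_eq_preZeroHypercover
  apply h
  rw [presieve₀_mem_vPrecoverage_iff]
  rw [Scheme.ofArrows_mem_precoverage_iff] at hR
  exact isVCover_of_zariski E hR.2 hR.1

/-- Zariski sheaf + sheaf for standard V coverings (indexed in universe `0`) ⇒ V sheaf. -/
theorem isVSheaf_of_zariski_of_standard (hZ : Presieve.IsSheaf Scheme.zariskiTopology F)
    (hS : ∀ ⦃T : Scheme.{u}⦄ (G : PreZeroHypercover.{0} T), IsStandardV G →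
      Presieve.IsSheafFor F G.presieve₀) : IsVSheaf F := by
  intro X R hR
  obtain ⟨E, rfl⟩ := R.exists_eq_preZeroHypercover
  rw [presieve₀_mem_vPrecoverage_iff] at hR
  exact isSheafFor_of_refined (fun T G => IsStandardV G) (fun T G hG => hG.isAffine_obj)
    (fun T T' _ g G hG => Groth.Agent.H37.standardV_pullback g G hG) hZ hS E hR

end Groth.Agent.H37.HTopSheaf
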