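import Groth.Agent.H37.HTopSheaf
import Mathlib

/-!
# Standard ph coverings are standard V coverings
-/

set_option autoImplicit false
universe w w' u
open CategoryTheory CategoryTheory.Limits AlgebraicGeometry HTop Opposite

namespace Groth.Agent.H37

set_option backward.isDefEq.respectTransparency.types false in
theorem standardV_of_standardPh {T : Scheme.{u}} (E : PreZeroHypercover.{w} T)
    (hE : IsStandardPh E) : IsStandardV E := by
  obtain ⟨U, f, ι, hprop, hsurj, hoi, hι, hcov⟩ := hE.exists_proper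
  refine ⟨hE.isAffine, hE.finite_index, hE.isAffine_obj, ?_⟩
  intro V _ _ g
  let K := FractionRing V
  let gK : Spec (CommRingCat.of K) ⟶ T := Spec.map (CommRingCat.ofHom (algebraMap V K)) ≫ g
  haveI hsP : Surjective (pullback.fst gK f) :=
    MorphismProperty.pullback_fst (P := @Surjective) gK f hsurj
  obtain ⟨z, -⟩ := (pullback.fst gK f).surjective (IsLocalRing.closedPoint K)
  let L := (pullback gK f).residueField z
  let iL : Spec L ⟶ pullback gK f := (pullback gK f).fromSpecResidueField z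
  let ψ : CommRingCat.of K ⟶ L := Spec.preimage (iL ≫ pullback.fst gK f)
  have hψ : Spec.map ψ = iL ≫ pullback.fst gK f := Spec.map_preimage _
  let χ : V →+* L := (ψ.hom : K →+* L).comp (algebraMap V K)
  have hχ : Function.Injective χ :=
    ((ψ.hom : K →+* L).injective).comp (IsFractionRing.injective V K)
  obtain ⟨A, hA, hAloc⟩ := IsLocalRing.exists_factor_valuationRing χ
  let φ : V ⟶ CommRingCat.of A := CommRingCat.ofHom (χ.codRestrict _ hA)
  have hext : IsExtVal V (CommRingCat.of A) φ := by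
    refine ⟨?_, hAloc⟩
    intro a b hab
    apply hχ
    exact congrArg Subtype.val hab
  have hVC : ValuativeCriterion.Existence f := by
    have h : UniversallyClosed f := inferInstance
    rw [UniversallyClosed.eq_valuativeCriterion] at h
    exact h.1
  have w : (iL ≫ pullback.snd gK f) ≫ f =
      Spec.map (CommRingCat.ofHom (algebraMap A L)) ≫ (Spec.map φ ≫ g) := by
    have e : CommRingCat.ofHom (algebraMap V K) ≫ ψ =
        φ ≫ CommRingCat.ofHom (algebraMap A L) := by
      ext x; rfl
    calc (iL ≫ pullback.snd gK f) ≫ f = iL ≫ (pullback.fst gK f ≫ gK) := by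
          rw [Category.assoc, pullback.condition]
      _ = Spec.map ψ ≫ gK := by rw [← Category.assoc, hψ]
      _ = Spec.map (CommRingCat.ofHom (algebraMap V K) ≫ ψ) ≫ g := by
          rw [Spec.map_comp, Category.assoc]
      _ = Spec.map (φ ≫ CommRingCat.ofHom (algebraMap A L)) ≫ g := by rw [e]
      _ = Spec.map (CommRingCat.ofHom (algebraMap A L)) ≫ (Spec.map φ ≫ g) := by
          rw [Spec.map_comp, Category.assoc]
  let S : ValuativeCommSq f :=
    { R := A
      K := L
      i₁ := iL ≫ pullback.snd gK f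
      i₂ := Spec.map φ ≫ g
      commSq := ⟨w⟩ }
  obtain ⟨l, hl₁, hl₂⟩ := (hVC S).exists_lift
  change Spec (CommRingCat.of A) ⟶ U at l
  change l ≫ f = Spec.map φ ≫ g at hl₂
  obtain ⟨j, hj⟩ := hcov (l (IsLocalRing.closedPoint A))
  haveI := hoi j
  obtain ⟨l', hl'⟩ := HTopSheaf.exists_lift_of_closedPoint_mem l (ι j) hj
  refine ⟨CommRingCat.of A, inferInstance, inferInstance, φ, hext, j, l', ?_⟩
  rw [← hι j, ← Category.assoc, hl', hl₂]

/-- A proper surjective morphism is, as a one-member family, a V covering. -/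
theorem isVCover_singleton_of_proper_surjective {X Y : Scheme.{u}} (f : Y ⟶ X) [IsProper f]
    [Surjective f] : IsVCover (PreZeroHypercover.singleton.{w} f) := by
  intro U
  haveI : IsAffine ((U : X.Opens) : Scheme.{u}) := U.2
  haveI hp : IsProper (f ∣_ (U : X.Opens)) :=
    MorphismProperty.of_isPullback (P := @IsProper) (isPullback_morphismRestrict f U).flip
      inferInstance
  haveI hs : Surjective (f ∣_ (U : X.Opens)) :=
    MorphismProperty.of_isPullback (P := @Surjective) (isPullback_morphismRestrict f U).flip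
      inferInstance
  haveI : CompactSpace ((f ⁻¹ᵁ (U : X.Opens) : Y.Opens) : Scheme.{u}) :=
    QuasiCompact.compactSpace_of_compactSpace (f ∣_ (U : X.Opens))
  let 𝒱 := ((f ⁻¹ᵁ (U : X.Opens) : Y.Opens) : Scheme.{u}).affineCover.finiteSubcover
  haveI : Finite 𝒱.I₀ := Finite.of_fintype _
  let e : Fin (Nat.card 𝒱.I₀) ≃ 𝒱.I₀ := (Finite.equivFin 𝒱.I₀).symm
  let G : PreZeroHypercover.{0} ((U : X.Opens) : Scheme.{u}) :=
    { I₀ := Fin (Nat.card 𝒱.I₀)
      X := fun k => 𝒱.X (e k)
      f := fun k => 𝒱.f (e k) ≫ (f ∣_ (U : X.Opens)) }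
  have hG : IsStandardPh G := by
    refine ⟨inferInstance, ?_, ?_, ⟨_, f ∣_ (U : X.Opens), fun k => 𝒱.f (e k), hp, hs,
      fun k => inferInstance, fun k => rfl, ?_⟩⟩
    · show Finite (Fin (Nat.card 𝒱.I₀))
      infer_instance
    · intro k
      show IsAffine (𝒱.X (e k))
      dsimp only [𝒱, Scheme.OpenCover.finiteSubcover_X]
      infer_instance
    · intro x
      obtain ⟨i, y, hy⟩ := 𝒱.exists_eq x
      obtain ⟨k, rfl⟩ := e.surjective i
      exact ⟨k, y, hy⟩
  refine ⟨G, standardV_of_standardPh G hG, ?_⟩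
  intro k
  refine ⟨PUnit.unit, 𝒱.f (e k) ≫ (f ⁻¹ᵁ (U : X.Opens)).ι, ?_⟩
  show (𝒱.f (e k) ≫ (f ⁻¹ᵁ (U : X.Opens)).ι) ≫ f =
    (𝒱.f (e k) ≫ (f ∣_ (U : X.Opens))) ≫ (U : X.Opens).ι
  rw [Category.assoc, Category.assoc, morphismRestrict_ι]

end Groth.Agent.H37
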