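import Groth.Agent.H37.HTopSheaf
import Groth.Agent.H37.HTopV2
import Mathlib

/-!
# Flat covers are V covers
-/

set_option autoImplicit false
universe w w' w'' u
open CategoryTheory CategoryTheory.Limits AlgebraicGeometry HTop

namespace Groth.Agent.H37

set_option backward.isDefEq.respectTransparency.types false in
/-- A specialization `z' ⤳ z` in a scheme over `Spec V` lying over the generic and the closed
point of the valuation ring `V` is realized by an extension of valuation rings. -/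
theorem exists_extVal_of_specializes {V : CommRingCat.{u}} [IsDomain V] [ValuationRing V]
    {P : Scheme.{u}} (p : P ⟶ Spec V) (z z' : P) (h : z' ⤳ z)
    (hz : p z = IsLocalRing.closedPoint V) (hz' : p z' = (⊥ : PrimeSpectrum V)) :
    ∃ (W : CommRingCat.{u}) (_ : IsDomain W) (_ : ValuationRing W) (φ : V ⟶ W),
      IsExtVal V W φ ∧ ∃ q : Spec W ⟶ P, q ≫ p = Spec.map φ := by
  obtain ⟨ψ, hψ⟩ : ∃ ψ : P.presheaf.stalk z ⟶ P.residueField z',
      ψ = P.presheaf.stalkSpecializes h ≫ P.residue z' := ⟨_, rfl⟩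
  obtain ⟨A, hA, hA_local⟩ := IsLocalRing.exists_factor_valuationRing ψ.hom
  obtain ⟨ψA, hψA⟩ : ∃ ψA : P.presheaf.stalk z ⟶ CommRingCat.of A,
      ψA = CommRingCat.ofHom (ψ.hom.codRestrict _ hA) := ⟨_, rfl⟩
  have hfac : ψA ≫ CommRingCat.ofHom (algebraMap A (P.residueField z')) = ψ := by
    subst hψA
    rfl
  obtain ⟨q, hq⟩ : ∃ q : Spec (CommRingCat.of A) ⟶ P, q = Spec.map ψA ≫ P.fromSpecStalk z :=
    ⟨_, rfl⟩
  obtain ⟨φ, hφ⟩ : ∃ φ : V ⟶ CommRingCat.of A, Spec.map φ = q ≫ p :=
    ⟨Spec.preimage (q ≫ p), Spec.map_preimage _⟩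
  haveI : IsDomain (CommRingCat.of A) := inferInstanceAs (IsDomain A)
  haveI : ValuationRing (CommRingCat.of A) := inferInstanceAs (ValuationRing A)
  refine ⟨CommRingCat.of A, inferInstance, inferInstance, φ, ⟨?_, ?_⟩, q, hφ.symm⟩
  · -- injective
    have hχ : Spec.map (CommRingCat.ofHom (algebraMap A (P.residueField z'))) ≫ q =
        P.fromSpecResidueField z' := by
      rw [hq, ← Spec.map_comp_assoc, hfac, hψ, Spec.map_comp_assoc,
        Scheme.SpecMap_stalkSpecializes_fromSpecStalk, Scheme.fromSpecResidueField]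
    have hpt : (Spec.map (φ ≫ CommRingCat.ofHom (algebraMap A (P.residueField z'))))
        (⊥ : PrimeSpectrum (P.residueField z')) = (⊥ : PrimeSpectrum V) := by
      rw [Spec.map_comp, hφ, ← Category.assoc, hχ, Scheme.Hom.comp_apply,
        Scheme.fromSpecResidueField_apply, hz']
    have hker : RingHom.ker (φ ≫ CommRingCat.ofHom (algebraMap A (P.residueField z'))).hom
        = ⊥ := by
      rw [RingHom.ker_eq_comap_bot]
      exact congrArg PrimeSpectrum.asIdeal hpt
    have hinj := (RingHom.injective_iff_ker_eq_bot _).mpr hker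
    intro a b hab
    apply hinj
    show algebraMap A (P.residueField z') (φ.hom a) = algebraMap A (P.residueField z') (φ.hom b)
    rw [hab]
  · -- local
    refine (IsLocalRing.isLocalHom_iff_comap_closedPoint φ.hom).mpr ?_
    have h2 : Spec.map ψA (IsLocalRing.closedPoint A) =
        IsLocalRing.closedPoint (P.presheaf.stalk z) := by
      subst hψA
      exact IsLocalRing.comap_closedPoint (S := A) (ψ.hom.codRestrict A.toSubring hA)
    have h1 : (Spec.map φ) (IsLocalRing.closedPoint A) = IsLocalRing.closedPoint V := by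
      rw [hφ, hq, Scheme.Hom.comp_apply, Scheme.Hom.comp_apply, h2,
        Scheme.fromSpecStalk_closedPoint, hz]
    exact h1

/-- A jointly surjective family of flat morphisms has the valuation-ring lifting property. -/
theorem hasValLift_of_flat {T : Scheme.{u}} (E : PreZeroHypercover.{w} T)
    (hflat : ∀ j, Flat (E.f j)) (hsurj : ∀ t : T, ∃ (j : E.I₀) (x : E.X j), E.f j x = t) :
    HasValLift E := by
  intro V _ _ g
  obtain ⟨j, x, hx⟩ := hsurj (g (IsLocalRing.closedPoint V))
  haveI := hflat j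
  obtain ⟨z, hz1, hz2⟩ := Scheme.Pullback.exists_preimage_pullback (f := g) (g := E.f j)
    (IsLocalRing.closedPoint V) x hx.symm
  have hgen := Flat.generalizingMap (pullback.fst g (E.f j))
  have hbot : @Specializes (Spec V) _ (⊥ : PrimeSpectrum V) (pullback.fst g (E.f j) z) :=
    (PrimeSpectrum.le_iff_specializes _ _).mp bot_le
  obtain ⟨z', hz'z, hz'⟩ := hgen hbot
  obtain ⟨W, hW1, hW2, φ, hφ, q, hq⟩ :=
    exists_extVal_of_specializes (pullback.fst g (E.f j)) z z' hz'z hz1 hz'
  exact ⟨W, hW1, hW2, φ, hφ, j, q ≫ pullback.snd g (E.f j), by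
    rw [Category.assoc, ← pullback.condition, ← Category.assoc, hq]⟩

theorem standardV_of_flat {T : Scheme.{u}} [IsAffine T] (E : PreZeroHypercover.{w} T)
    (hfin : Finite E.I₀) (haff : ∀ j, IsAffine (E.X j)) (hflat : ∀ j, Flat (E.f j))
    (hsurj : ∀ t : T, ∃ (j : E.I₀) (x : E.X j), E.f j x = t) : IsStandardV E :=
  ⟨inferInstance, hfin, haff, hasValLift_of_flat E hflat hsurj⟩

/-- A quasi-compact cover by flat morphisms is a V cover. -/
theorem isVCover_of_qc_flat {T : Scheme.{u}} (E : PreZeroHypercover.{w} T) [QuasiCompactCover E]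
    (hflat : ∀ i, Flat (E.f i)) : IsVCover E := by
  intro U
  obtain ⟨n, a, V, hV, hU⟩ := QuasiCompactCover.exists_isAffineOpen_of_isCompact E
    (U := (U : T.Opens)) U.2.isCompact
  haveI : IsAffine ((U : T.Opens) : Scheme.{u}) := U.2
  have hrange : ∀ i, Set.range ((V i).ι ≫ E.f (a i)) ⊆ Set.range (U : T.Opens).ι := by
    intro i
    rw [Scheme.Opens.range_ι, ← hU]
    rintro _ ⟨v, rfl⟩
    refine Set.mem_iUnion.mpr ⟨i, ?_⟩
    exact ⟨(V i).ι v, v.2, rfl⟩
  let F : PreZeroHypercover.{0} ((U : T.Opens) : Scheme.{u}) :=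
    { I₀ := Fin n
      X := fun i => ((V i : (E.X (a i)).Opens) : Scheme.{u})
      f := fun i => IsOpenImmersion.lift (U : T.Opens).ι ((V i).ι ≫ E.f (a i)) (hrange i) }
  have hfac : ∀ i, F.f i ≫ (U : T.Opens).ι = (V i).ι ≫ E.f (a i) :=
    fun i => IsOpenImmersion.lift_fac _ _ _
  refine ⟨F, standardV_of_flat F (inferInstanceAs (Finite (Fin n))) (fun i => hV i)
    (fun i => ?_) (fun t => ?_), fun i => ⟨a i, (V i).ι, (hfac i).symm⟩⟩
  · haveI := hflat (a i)
    have h1 : Flat (F.f i ≫ (U : T.Opens).ι) := by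
      rw [hfac]
      infer_instance
    exact MorphismProperty.of_postcomp (W := @Flat) (W' := @IsOpenImmersion) (F.f i)
      (U : T.Opens).ι inferInstance h1
  · have ht : (U : T.Opens).ι t ∈ ((U : T.Opens) : Set T) := by
      have := Set.mem_range_self (f := (U : T.Opens).ι) t
      rwa [Scheme.Opens.range_ι] at this
    rw [← hU] at ht
    obtain ⟨i, v, hv, hvt⟩ := Set.mem_iUnion.mp ht
    refine ⟨i, ⟨v, hv⟩, ?_⟩
    apply (U : T.Opens).ι.isOpenEmbedding.injective
    rw [← Scheme.Hom.comp_apply, hfac, Scheme.Hom.comp_apply]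
    exact hvt

theorem isVCover_of_hom {T : Scheme.{u}} {E : PreZeroHypercover.{w} T}
    {E' : PreZeroHypercover.{w'} T} (h : IsVCover E) (φ : E.Hom E') : IsVCover E' := by
  intro U
  obtain ⟨F, hF, hr⟩ := h U
  exact ⟨F, hF, hr.of_hom φ⟩

/-- A family is a V cover iff the induced morphism from the coproduct is. -/
theorem isVCover_sigma_iff {T : Scheme.{u}} (E : PreZeroHypercover.{u} T) :
    IsVCover E ↔ IsVCover (PreZeroHypercover.singleton.{0} (Sigma.desc E.f)) := by
  constructor
  · intro hV U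
    obtain ⟨F, hF, hr⟩ := hV U
    refine ⟨F, hF, fun j => ?_⟩
    obtain ⟨i, h, hh⟩ := hr j
    refine ⟨PUnit.unit, h ≫ Sigma.ι E.X i, ?_⟩
    show (h ≫ Sigma.ι E.X i) ≫ Sigma.desc E.f = _
    rw [Category.assoc, Sigma.ι_desc, hh]
  · intro hV
    let G : PreZeroHypercover.{u} (∐ E.X : Scheme.{u}) :=
      { I₀ := E.I₀
        X := E.X
        f := fun i => Sigma.ι E.X i }
    have hG : IsVCover G := by
      refine HTopSheaf.isVCover_of_zariski G
        (fun i => (AlgebraicGeometry.sigmaOpenCover E.X).map_prop i) (fun t => ?_)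
      obtain ⟨i, z, hz⟩ := (AlgebraicGeometry.sigmaOpenCover E.X).exists_eq t
      exact ⟨i, z, hz⟩
    have hb := isVCover_bind (PreZeroHypercover.singleton.{0} (Sigma.desc E.f)) hV
      (fun _ => G) (fun _ => hG)
    intro U
    obtain ⟨F, hF, hr⟩ := hb U
    refine ⟨F, hF, fun j => ?_⟩
    obtain ⟨⟨_, i⟩, h, hh⟩ := hr j
    have e : Sigma.ι E.X i ≫ Sigma.desc E.f = E.f i := Sigma.ι_desc E.f i
    let h' : F.X j ⟶ E.X i := h
    have hh' : h' ≫ (Sigma.ι E.X i ≫ Sigma.desc E.f) = F.f j ≫ (U : T.Opens).ι := hh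
    refine ⟨i, h', ?_⟩
    rw [← hh', e]

end Groth.Agent.H37
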