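import Groth.Agent.H37.HTopV3
import Mathlib

/-!
# V coverings, valuation-ring lifting and lifting of specializations
-/

set_option autoImplicit false
universe w w' w'' u
open CategoryTheory CategoryTheory.Limits AlgebraicGeometry HTop

namespace Groth.Agent.H37

set_option backward.isDefEq.respectTransparency.types false in
/-- Every specialization in a scheme is realized by a morphism from the spectrum of a valuation
ring. -/
theorem exists_valuationRing_of_specializes {P : Scheme.{u}} (z z' : P) (h : z' ⤳ z) :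
    ∃ (W : CommRingCat.{u}) (_ : IsDomain W) (_ : ValuationRing W) (q : Spec W ⟶ P),
      q (IsLocalRing.closedPoint W) = z ∧ q (⊥ : PrimeSpectrum W) = z' := by
  obtain ⟨ψ, hψ⟩ : ∃ ψ : P.presheaf.stalk z ⟶ P.residueField z',
      ψ = P.presheaf.stalkSpecializes h ≫ P.residue z' := ⟨_, rfl⟩
  obtain ⟨A, hA, hA_local⟩ := IsLocalRing.exists_factor_valuationRing ψ.hom
  obtain ⟨ψA, hψA⟩ : ∃ ψA : P.presheaf.stalk z ⟶ CommRingCat.of A,
      ψA = CommRingCat.ofHom (ψ.hom.codRestrict _ hA) := ⟨_, rfl⟩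
  have hfac : ψA ≫ CommRingCat.ofHom (algebraMap A (P.residueField z')) = ψ := by
    subst hψA
    rfl
  obtain ⟨q, hq⟩ : ∃ q : Spec (CommRingCat.of A) ⟶ P, q = Spec.map ψA ≫ P.fromSpecStalk z :=
    ⟨_, rfl⟩
  haveI : IsDomain (CommRingCat.of A) := inferInstanceAs (IsDomain A)
  haveI : ValuationRing (CommRingCat.of A) := inferInstanceAs (ValuationRing A)
  refine ⟨CommRingCat.of A, inferInstance, inferInstance, q, ?_, ?_⟩
  · have h2 : Spec.map ψA (IsLocalRing.closedPoint A) =
        IsLocalRing.closedPoint (P.presheaf.stalk z) := by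
      subst hψA
      exact IsLocalRing.comap_closedPoint (S := A) (ψ.hom.codRestrict A.toSubring hA)
    have h1 : q (IsLocalRing.closedPoint A) = z := by
      rw [hq, Scheme.Hom.comp_apply, h2, Scheme.fromSpecStalk_closedPoint]
    exact h1
  · have hχ : Spec.map (CommRingCat.ofHom (algebraMap A (P.residueField z'))) ≫ q =
        P.fromSpecResidueField z' := by
      rw [hq, ← Spec.map_comp_assoc, hfac, hψ, Spec.map_comp_assoc,
        Scheme.SpecMap_stalkSpecializes_fromSpecStalk, Scheme.fromSpecResidueField]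
    have hbot : Spec.map (CommRingCat.ofHom (algebraMap A (P.residueField z')))
        (⊥ : PrimeSpectrum (P.residueField z')) = (⊥ : PrimeSpectrum A) := by
      apply PrimeSpectrum.ext
      show Ideal.comap (algebraMap A (P.residueField z')) ⊥ = ⊥
      rw [← RingHom.ker_eq_comap_bot]
      exact (RingHom.injective_iff_ker_eq_bot _).mp
        (IsFractionRing.injective A (P.residueField z'))
    have e1 : q (Spec.map (CommRingCat.ofHom (algebraMap A (P.residueField z')))
        (⊥ : PrimeSpectrum (P.residueField z'))) = z' := by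
      rw [← Scheme.Hom.comp_apply, hχ, Scheme.fromSpecResidueField_apply]
    rw [hbot] at e1
    exact e1

/-- A V covering has the valuation-ring lifting property. -/
theorem hasValLift_of_isVCover {T : Scheme.{u}} (E : PreZeroHypercover.{w} T)
    (hE : IsVCover E) : HasValLift E := by
  intro V _ _ g
  obtain ⟨F, hF, hr⟩ := exists_standardV_refinesOver g E hE
  obtain ⟨W, hW1, hW2, φ, hφ, j, g', hg'⟩ := hF.lift V (𝟙 (Spec V))
  obtain ⟨i, h, hh⟩ := hr j
  exact ⟨W, hW1, hW2, φ, hφ, i, g' ≫ h, by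
    rw [Category.assoc, hh, ← Category.assoc, hg', Category.comp_id]⟩

/-- For a quasi-compact morphism, the valuation-ring lifting property gives a V covering. -/
theorem isVCover_singleton_of_hasValLift {X Y : Scheme.{u}} (f : X ⟶ Y) [QuasiCompact f]
    (hf : HasValLift (PreZeroHypercover.singleton f)) :
    IsVCover (PreZeroHypercover.singleton f) := by
  intro U
  haveI : IsAffine ((U : Y.Opens) : Scheme.{u}) := U.2
  have hc : IsCompact ((f ⁻¹ᵁ (U : Y.Opens) : X.Opens) : Set X) :=
    QuasiCompact.isCompact_preimage (f := f) _ (U : Y.Opens).2 U.2.isCompact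
  obtain ⟨Us, hUs, hUf, hUc⟩ := X.isBasis_affineOpens.exists_finite_of_isCompact hc
  haveI : Finite ↥Us := Set.finite_coe_iff.mpr hUf
  let e : Fin (Nat.card Us) ≃ Us := (Finite.equivFin Us).symm
  let Uk : Fin (Nat.card Us) → X.Opens := fun k => (e k).1
  have hle : ∀ k, Uk k ≤ f ⁻¹ᵁ (U : Y.Opens) := by
    intro k
    rw [hUc]
    exact le_sSup (e k).2
  let F : PreZeroHypercover.{0} ((U : Y.Opens) : Scheme.{u}) :=
    { I₀ := Fin (Nat.card Us)
      X := fun k => ((Uk k : X.Opens) : Scheme.{u})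
      f := fun k => f.resLE (U : Y.Opens) (Uk k) (hle k) }
  have hfac : ∀ k, F.f k ≫ (U : Y.Opens).ι = (Uk k).ι ≫ f :=
    fun k => Scheme.Hom.resLE_comp_ι _ _
  refine ⟨F, ⟨inferInstance, inferInstanceAs (Finite (Fin _)), fun k => hUs (e k).2, ?_⟩,
    fun k => ⟨PUnit.unit, (Uk k).ι, (hfac k).symm⟩⟩
  intro V _ _ g
  obtain ⟨W, hW1, hW2, φ, hφ, j, g', hg'⟩ := hf V (g ≫ (U : Y.Opens).ι)
  haveI := hW1
  haveI := hW2
  let g'' : Spec W ⟶ X := g'
  have hg'' : g'' ≫ f = Spec.map φ ≫ g ≫ (U : Y.Opens).ι := hg'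
  have hmem : g'' (IsLocalRing.closedPoint W) ∈ f ⁻¹ᵁ (U : Y.Opens) := by
    show f (g'' (IsLocalRing.closedPoint W)) ∈ (U : Y.Opens)
    rw [← Scheme.Hom.comp_apply, hg'', Scheme.Hom.comp_apply, Scheme.Hom.comp_apply]
    have := Set.mem_range_self (f := (U : Y.Opens).ι)
      (g (Spec.map φ (IsLocalRing.closedPoint W)))
    rwa [Scheme.Opens.range_ι] at this
  rw [hUc] at hmem
  obtain ⟨W0, hW0, hmem0⟩ := TopologicalSpace.Opens.mem_sSup.mp hmem
  obtain ⟨k, hk⟩ := e.surjective ⟨W0, hW0⟩
  have hmemk : g'' (IsLocalRing.closedPoint W) ∈ Uk k := by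
    show g'' (IsLocalRing.closedPoint W) ∈ (e k).1
    rw [hk]
    exact hmem0
  obtain ⟨h', hh'⟩ := HTopSheaf.exists_lift_of_closedPoint_mem g'' (Uk k).ι
    (by rw [Scheme.Opens.range_ι]; exact hmemk)
  refine ⟨W, hW1, hW2, φ, hφ, k, h', ?_⟩
  rw [← cancel_mono (U : Y.Opens).ι, Category.assoc, hfac, ← Category.assoc, hh', hg'',
    Category.assoc]

/-- The valuation-ring lifting property implies lifting of specializations after any base
change. -/
theorem specializes_lift_of_hasValLift {X Y : Scheme.{u}} (f : X ⟶ Y)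
    (hf : HasValLift (PreZeroHypercover.singleton f)) (Z : Scheme.{u}) (g : Z ⟶ Y) (z' z : Z)
    (h : z' ⤳ z) :
    ∃ w' w : ↑(pullback g f), w' ⤳ w ∧ pullback.fst g f w' = z' ∧ pullback.fst g f w = z := by
  obtain ⟨V, hV1, hV2, a, ha1, ha2⟩ := exists_valuationRing_of_specializes z z' h
  haveI := hV1
  haveI := hV2
  obtain ⟨W, hW1, hW2, φ, hφ, j, g', hg'⟩ := hf V (a ≫ g)
  haveI := hW1
  haveI := hW2
  let g'' : Spec W ⟶ X := g'
  have hg'' : g'' ≫ f = Spec.map φ ≫ a ≫ g := hg'
  let l : Spec W ⟶ pullback g f := pullback.lift (Spec.map φ ≫ a) g''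
    (by rw [Category.assoc, hg''])
  have hl : l ≫ pullback.fst g f = Spec.map φ ≫ a := pullback.lift_fst _ _ _
  refine ⟨l (⊥ : PrimeSpectrum W), l (IsLocalRing.closedPoint W), ?_, ?_, ?_⟩
  · have hs : @Specializes (Spec W) _ (⊥ : PrimeSpectrum W) (IsLocalRing.closedPoint W) :=
      IsLocalRing.specializes_closedPoint _
    exact hs.map l.continuous
  · rw [← Scheme.Hom.comp_apply, hl, Scheme.Hom.comp_apply]
    have hb : Spec.map φ (⊥ : PrimeSpectrum W) = (⊥ : PrimeSpectrum V) := by
      apply PrimeSpectrum.ext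
      show Ideal.comap φ.hom ⊥ = ⊥
      rw [← RingHom.ker_eq_comap_bot]
      exact (RingHom.injective_iff_ker_eq_bot _).mp hφ.1
    rw [hb, ha2]
  · rw [← Scheme.Hom.comp_apply, hl, Scheme.Hom.comp_apply]
    haveI : IsLocalHom φ.hom := hφ.2
    have hb : Spec.map φ (IsLocalRing.closedPoint W) = IsLocalRing.closedPoint V :=
      IsLocalRing.comap_closedPoint φ.hom
    rw [hb, ha1]

/-- Lifting of specializations after base change to spectra of valuation rings gives the
valuation-ring lifting property. -/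
theorem hasValLift_of_specializes_lift {X Y : Scheme.{u}} (f : X ⟶ Y)
    (H : ∀ (Z : Scheme.{u}) (g : Z ⟶ Y) (z' z : Z), z' ⤳ z →
      ∃ w' w : ↑(pullback g f), w' ⤳ w ∧ pullback.fst g f w' = z' ∧ pullback.fst g f w = z) :
    HasValLift (PreZeroHypercover.singleton f) := by
  intro V _ _ g
  have hs : @Specializes (Spec V) _ (⊥ : PrimeSpectrum V) (IsLocalRing.closedPoint V) :=
    IsLocalRing.specializes_closedPoint _
  obtain ⟨w', w, hw, hw', hw0⟩ := H (Spec V) g _ _ hs
  obtain ⟨W, hW1, hW2, φ, hφ, q, hq⟩ :=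
    exists_extVal_of_specializes (pullback.fst g f) w w' hw hw0 hw'
  refine ⟨W, hW1, hW2, φ, hφ, PUnit.unit, q ≫ pullback.snd g f, ?_⟩
  show (q ≫ pullback.snd g f) ≫ f = _
  rw [Category.assoc, ← pullback.condition, ← Category.assoc, hq]

/-- The lifting property of a one-member family does not depend on the universe of its index. -/
theorem hasValLift_singleton_univ {X Y : Scheme.{u}} (f : X ⟶ Y)
    (h : HasValLift (PreZeroHypercover.singleton.{w} f)) :
    HasValLift (PreZeroHypercover.singleton.{w'} f) := by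
  intro V _ _ g
  obtain ⟨W, hW1, hW2, φ, hφ, j, g', hg'⟩ := h V g
  exact ⟨W, hW1, hW2, φ, hφ, PUnit.unit, g', hg'⟩

end Groth.Agent.H37
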