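import Groth.Agent.H37.HTopV4
import Groth.Prelude.Def_SGA1
import Mathlib

/-!
# V coverings are universally submersive
-/

set_option autoImplicit false
universe w w' w'' u
open CategoryTheory CategoryTheory.Limits AlgebraicGeometry HTop

namespace Groth.Agent.H37

/-- The image of a closed set under a quasi-compact morphism to an affine scheme is closed as
soon as it is stable under specialization (extracted from Mathlib's proof of
`isClosedMap_iff_specializingMap`). -/
lemma isClosed_image_of_stableUnderSpecialization' {X : Scheme.{u}} {S : CommRingCat.{u}}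
    (f : X ⟶ Spec S) [QuasiCompact f] (Z : Set X) (hZ : IsClosed Z)
    (H : StableUnderSpecialization (f '' Z)) : IsClosed (f '' Z) := by
  wlog hX : ∃ R, X = Spec R
  · obtain ⟨R, g, hg⟩ := compactSpace_iff_exists.mp (QuasiCompact.compactSpace_of_compactSpace f)
    have inst : QuasiCompact (g ≫ f) := HasAffineProperty.iff_of_isAffine.mpr (by infer_instance)
    have := this (g ≫ f) (g ⁻¹' Z) (hZ.preimage g.continuous)
    simp_rw [Scheme.Hom.comp_base, TopCat.comp_app, ← Set.image_image,
      Set.image_preimage_eq _ hg] at this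
    exact this H ⟨_, rfl⟩
  obtain ⟨R, rfl⟩ := hX
  obtain ⟨φ, rfl⟩ := Spec.homEquiv.symm.surjective f
  exact PrimeSpectrum.isClosed_image_of_stableUnderSpecialization φ.hom Z hZ H

theorem surjective_of_hasValLift {P Y : Scheme.{u}} (q : P ⟶ Y)
    (h : HasValLift (PreZeroHypercover.singleton.{w} q)) : Function.Surjective q := by
  intro y
  obtain ⟨W, hW1, hW2, φ, hφ, j, g', hg'⟩ := h (Y.residueField y) (Y.fromSpecResidueField y)
  haveI := hW1
  haveI := hW2
  let g'' : Spec W ⟶ P := g'
  have hg'' : g'' ≫ q = Spec.map φ ≫ Y.fromSpecResidueField y := hg'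
  refine ⟨g'' (IsLocalRing.closedPoint W), ?_⟩
  rw [← Scheme.Hom.comp_apply, hg'', Scheme.Hom.comp_apply, Scheme.fromSpecResidueField_apply]

theorem hasValLift_of_isPullback {P X Y Y' : Scheme.{u}} {g' : P ⟶ X} {p' : P ⟶ Y'}
    {p : X ⟶ Y} {g : Y' ⟶ Y} (sq : IsPullback g' p' p g)
    (h : HasValLift (PreZeroHypercover.singleton.{w} p)) :
    HasValLift (PreZeroHypercover.singleton.{w'} p') := by
  intro V _ _ a
  obtain ⟨W, hW1, hW2, φ, hφ, j, b, hb⟩ := h V (a ≫ g)
  let b' : Spec W ⟶ X := b
  have hb' : b' ≫ p = Spec.map φ ≫ a ≫ g := hb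
  refine ⟨W, hW1, hW2, φ, hφ, PUnit.unit,
    sq.lift b' (Spec.map φ ≫ a) (by rw [hb', Category.assoc]), ?_⟩
  exact sq.lift_snd _ _ _

/-- Specializations lift along a morphism with the valuation-ring lifting property. -/
theorem specializes_lift_base {X Y : Scheme.{u}} (f : X ⟶ Y)
    (hf : HasValLift (PreZeroHypercover.singleton.{w} f)) (z' z : Y) (h : z' ⤳ z) :
    ∃ x' x : X, x' ⤳ x ∧ f x' = z' ∧ f x = z := by
  obtain ⟨w', w, hw, hw', hw0⟩ := specializes_lift_of_hasValLift f hf Y (𝟙 Y) z' z h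
  refine ⟨pullback.snd (𝟙 Y) f w', pullback.snd (𝟙 Y) f w,
    hw.map (pullback.snd (𝟙 Y) f).continuous, ?_, ?_⟩
  · rw [← Scheme.Hom.comp_apply, ← pullback.condition, Scheme.Hom.comp_apply, hw']
    rfl
  · rw [← Scheme.Hom.comp_apply, ← pullback.condition, Scheme.Hom.comp_apply, hw0]
    rfl

/-- A quasi-compact morphism to an affine scheme with the valuation-ring lifting property is a
quotient map. -/
theorem isQuotientMap_of_hasValLift {T : Scheme.{u}} {R : CommRingCat.{u}} (r : T ⟶ Spec R)
    [QuasiCompact r] (h : HasValLift (PreZeroHypercover.singleton.{w} r)) :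
    Topology.IsQuotientMap r := by
  have hsurj : Function.Surjective r := surjective_of_hasValLift r h
  rw [Topology.isQuotientMap_iff_isClosed]
  refine ⟨hsurj, fun s => ⟨fun hs => hs.preimage r.continuous, fun hsc => ?_⟩⟩
  have h1 : StableUnderSpecialization s := by
    intro z' z hz hz's
    obtain ⟨x', x, hx, hx', hx0⟩ := specializes_lift_base r h z' z hz
    have h3 : x' ∈ r ⁻¹' s := by
      rw [Set.mem_preimage, hx']
      exact hz's
    have h4 := hx.mem_closed hsc h3
    rwa [Set.mem_preimage, hx0] at h4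
  have h2 := isClosed_image_of_stableUnderSpecialization' r (r ⁻¹' s) hsc
    (by rwa [Set.image_preimage_eq s hsurj])
  rwa [Set.image_preimage_eq s hsurj] at h2

/-- A one-member V covering is a quotient map. -/
theorem isQuotientMap_of_isVCover_singleton {P Y : Scheme.{u}} (q : P ⟶ Y)
    (hq : IsVCover (PreZeroHypercover.singleton.{0} q)) : Topology.IsQuotientMap q := by
  have hVL : HasValLift (PreZeroHypercover.singleton.{0} q) := hasValLift_of_isVCover _ hq
  have hsurj : Function.Surjective q := surjective_of_hasValLift q hVL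
  rw [Topology.isQuotientMap_iff]
  refine ⟨.of_isOpen_preimage_iff_isOpen fun o =>
    ⟨fun ho => ?_, fun ho => ho.preimage q.continuous⟩, hsurj⟩
  rw [isOpen_iff_forall_mem_open]
  intro y hy
  obtain ⟨y0, hy0⟩ := Y.affineOpenCover.covers y
  obtain ⟨g, hgdef⟩ : ∃ g : Spec (Y.affineOpenCover.X (Y.affineOpenCover.idx y)) ⟶ Y,
      g = Y.affineOpenCover.f (Y.affineOpenCover.idx y) := ⟨_, rfl⟩
  haveI : IsOpenImmersion g := hgdef ▸ Y.affineOpenCover.map_prop _
  rw [← hgdef] at hy0
  obtain ⟨F, hF, hr⟩ := exists_standardV_refinesOver g (PreZeroHypercover.singleton.{0} q) hq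
  haveI := hF.finite_index
  haveI : ∀ j, IsAffine (F.X j) := hF.isAffine_obj
  choose i h hh using hr
  let h' : ∀ j, F.X j ⟶ P := fun j => h j
  have hh' : ∀ j, h' j ≫ q = F.f j ≫ g := hh
  have hcomm : Sigma.desc h' ≫ q = Sigma.desc F.f ≫ g := by
    refine Sigma.hom_ext _ _ (fun j => ?_)
    rw [← Category.assoc, ← Category.assoc, Sigma.ι_desc, Sigma.ι_desc]
    exact hh' j
  have hVLr : HasValLift (PreZeroHypercover.singleton.{0} (Sigma.desc F.f)) := by
    intro V _ _ a
    obtain ⟨W, hWd, hWv, φ, hφ, j, a', ha'⟩ := hF.lift V a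
    refine ⟨W, hWd, hWv, φ, hφ, PUnit.unit, a' ≫ Sigma.ι F.X j, ?_⟩
    show (a' ≫ Sigma.ι F.X j) ≫ Sigma.desc F.f = _
    rw [Category.assoc, Sigma.ι_desc, ha']
  haveI : IsAffine (∐ F.X : Scheme.{u}) := inferInstance
  haveI : QuasiCompact (Sigma.desc F.f) := inferInstance
  have hrq : Topology.IsQuotientMap (Sigma.desc F.f) :=
    isQuotientMap_of_hasValLift (Sigma.desc F.f) hVLr
  have ho' : IsOpen (g ⁻¹' o) := by
    have hpre : (Sigma.desc F.f) ⁻¹' (g ⁻¹' o) = (Sigma.desc h') ⁻¹' (q ⁻¹' o) := by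
      ext t
      simp only [Set.mem_preimage]
      rw [← Scheme.Hom.comp_apply, ← Scheme.Hom.comp_apply, hcomm]
    rw [← hrq.isOpen_preimage, hpre]
    exact ho.preimage (Sigma.desc h').continuous
  refine ⟨g '' (g ⁻¹' o), Set.image_preimage_subset _ _,
    g.isOpenEmbedding.isOpenMap _ ho', ⟨y0, ?_, hy0⟩⟩
  show g y0 ∈ o
  rw [hy0]
  exact hy

/-- A V covering induces a universally submersive morphism from the coproduct. -/
theorem univSubmersive_of_isVCover {X : Scheme.{u}} (E : PreZeroHypercover.{u} X)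
    (hE : IsVCover E) : SGA1.UnivSubmersive (Sigma.desc E.f) := by
  have h1 : IsVCover (PreZeroHypercover.singleton.{0} (Sigma.desc E.f)) :=
    (isVCover_sigma_iff E).mp hE
  intro X' Y' i₁ i₂ f' sq
  have h2 := isVCover_pullback i₂ (PreZeroHypercover.singleton.{0} (Sigma.desc E.f)) h1
  haveI := sq.hasPullback
  let φ : ((PreZeroHypercover.singleton.{0} (Sigma.desc E.f)).pullback₁ i₂).Hom
      (PreZeroHypercover.singleton.{0} f') :=
    { s₀ := fun _ => PUnit.unit
      h₀ := fun _ => sq.isoPullback.inv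
      w₀ := fun _ => sq.isoPullback_inv_fst }
  exact isQuotientMap_of_isVCover_singleton f' (isVCover_of_hom h2 φ)

end Groth.Agent.H37
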