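import Groth.Agent.H37.HTopV2
import Mathlib

/-!
# Proper surjective morphisms as ph coverings; sheaves and monomorphic coverings
-/

set_option autoImplicit false
universe w w' v' u' u
open CategoryTheory CategoryTheory.Limits AlgebraicGeometry HTop Opposite

namespace Groth.Agent.H37

/-- A proper surjective morphism is, as a one-member family, a ph covering. -/
theorem isPhCover_singleton_of_proper_surjective {X Y : Scheme.{u}} (f : Y ⟶ X) [IsProper f]
    [Surjective f] : IsPhCover (PreZeroHypercover.singleton.{w} f) := by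
  refine ⟨fun _ => (inferInstance : LocallyOfFiniteType f), ?_⟩
  intro U
  haveI : IsAffine ((U : X.Opens) : Scheme.{u}) := U.2
  haveI hp : IsProper (f ∣_ (U : X.Opens)) :=
    MorphismProperty.of_isPullback (P := @IsProper) (isPullback_morphismRestrict f U).flip
      inferInstance
  haveI hs : Surjective (f ∣_ (U : X.Opens)) :=
    MorphismProperty.of_isPullback (P := @Surjective) (isPullback_morphismRestrict f U).flip
      inferInstance
  haveI : CompactSpace ((f ⁻¹ᵁ (U : X.Opens) : Y.Opens) : Scheme.{u}) :=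
    QuasiCompact.compactSpace_of_compactSpace (f ∣_ (U : X.Opens))
  let 𝒱 := ((f ⁻¹ᵁ (U : X.Opens) : Y.Opens) : Scheme.{u}).affineCover.finiteSubcover
  haveI : Finite 𝒱.I₀ := Finite.of_fintype _
  let e : Fin (Nat.card 𝒱.I₀) ≃ 𝒱.I₀ := (Finite.equivFin 𝒱.I₀).symm
  let G : PreZeroHypercover.{0} ((U : X.Opens) : Scheme.{u}) :=
    { I₀ := Fin (Nat.card 𝒱.I₀)
      X := fun k => 𝒱.X (e k)
      f := fun k => 𝒱.f (e k) ≫ (f ∣_ (U : X.Opens)) }
  have hG : IsStandardPh G := by
    refine ⟨inferInstance, ?_, ?_, ⟨_, f ∣_ (U : X.Opens), fun k => 𝒱.f (e k), hp, hs,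
      fun k => inferInstance, fun k => rfl, ?_⟩⟩
    · show Finite (Fin (Nat.card 𝒱.I₀))
      infer_instance
    · intro k
      show IsAffine (𝒱.X (e k))
      dsimp only [𝒱, Scheme.OpenCover.finiteSubcover_X]
      infer_instance
    · intro x
      obtain ⟨i, y, hy⟩ := 𝒱.exists_eq x
      obtain ⟨k, rfl⟩ := e.surjective i
      exact ⟨k, y, hy⟩
  refine ⟨G, hG, ?_⟩
  intro k
  refine ⟨PUnit.unit, 𝒱.f (e k) ≫ (f ⁻¹ᵁ (U : X.Opens)).ι, ?_⟩
  show (𝒱.f (e k) ≫ (f ⁻¹ᵁ (U : X.Opens)).ι) ≫ f =
    (𝒱.f (e k) ≫ (f ∣_ (U : X.Opens))) ≫ (U : X.Opens).ι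
  rw [Category.assoc, Category.assoc, morphismRestrict_ι]

/-- A sheaf of types takes a monomorphism generating a covering sieve to a bijection. -/
theorem bijective_map_of_mono_of_mem {C : Type u'} [Category.{v'} C] (J : GrothendieckTopology C)
    (F : Sheaf J (Type w)) {X Y : C} (f : X ⟶ Y) [Mono f]
    (h : Sieve.generate (Presieve.singleton f) ∈ J Y) : Function.Bijective (F.obj.map f.op) := by
  have hF : Presieve.IsSheaf J F.obj := (isSheaf_iff_isSheaf_of_type J F.obj).mp F.property
  have h1 : Presieve.IsSheafFor F.obj (Presieve.singleton f) := by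
    rw [Presieve.isSheafFor_iff_generate]
    exact hF _ h
  rw [Presieve.isSheafFor_singleton] at h1
  rw [Function.bijective_iff_existsUnique]
  intro x
  exact h1 x (fun p₁ p₂ hp => by rw [(cancel_mono f).mp hp])

/-- A one-member covering of the underlying scheme gives a one-member covering over `S`. -/
theorem generate_singleton_mem_over {S : Scheme.{u}} (J : GrothendieckTopology Scheme.{u})
    {X X' : Over S} (f : X ⟶ X')
    (h : Sieve.generate (Presieve.singleton f.left) ∈ J X'.left) :
    Sieve.generate (Presieve.singleton f) ∈ (J.over S) X' := by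
  rw [GrothendieckTopology.mem_over_iff, Sieve.overEquiv_generate]
  refine J.superset_covering ?_ h
  rw [Sieve.generate_le_iff]
  rintro Z g ⟨⟩
  exact Sieve.le_generate _ _ _ ⟨X, f, 𝟙 _, Presieve.singleton.mk, by simp⟩

end Groth.Agent.H37
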