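import Mathlib
import Groth.Agent.H61.HilbTanDefs
import Groth.Prelude.Def_DCoh4
import Groth.Prelude.Def_ClSub2
import Groth.Prelude.Def_Omega2

/-!
# (TSb) for S12265: points of a `k`-scheme with values in Artinian local `k`-algebras based at a
`k`-point = points of the local ring (helper37, for helper61's squad)
-/

set_option autoImplicit false
set_option linter.style.haveILetI false
universe u v
open CategoryTheory CategoryTheory.Limits AlgebraicGeometry
open ArtFun ArtFun.Art
open Groth.Agent.H61.HilbTan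

namespace Groth.Agent.H37.HilbTan_TSb

section General

variable {X : Scheme.{u}}

/-- a morphism from the spectrum of a local ring sending the closed point to `p` factors through
`Spec O_{X,p}` -/
theorem exists_factor (p : X) (A : CommRingCat.{u}) [IsLocalRing A] (f : Spec A ⟶ X)
    (hx : f (IsLocalRing.closedPoint A) = p) :
    ∃ φ : X.presheaf.stalk p ⟶ A, Spec.map φ ≫ X.fromSpecStalk p = f := by
  refine ⟨X.presheaf.stalkSpecializes (specializes_of_eq hx) ≫ Scheme.stalkClosedPointTo f, ?_⟩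
  rw [Spec.map_comp, Category.assoc, Scheme.SpecMap_stalkSpecializes_fromSpecStalk,
    Scheme.Spec_stalkClosedPointTo_fromSpecStalk]

theorem factor_unique (p : X) {A : CommRingCat.{u}} (φ φ' : X.presheaf.stalk p ⟶ A)
    (h : Spec.map φ ≫ X.fromSpecStalk p = Spec.map φ' ≫ X.fromSpecStalk p) : φ = φ' :=
  Spec.map_injective ((cancel_mono (X.fromSpecStalk p)).mp h)

end General

theorem spec_ofHom_comp {R S T : Type u} [CommRing R] [CommRing S] [CommRing T] (f : R →+* S)
    (g : S →+* T) :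
    Spec.map (CommRingCat.ofHom (g.comp f)) =
      Spec.map (CommRingCat.ofHom g) ≫ Spec.map (CommRingCat.ofHom f) := by
  rw [CommRingCat.ofHom_comp, Spec.map_comp]

theorem spec_ofHom_inj {R S : Type u} [CommRing R] [CommRing S] {f g : R →+* S}
    (h : Spec.map (CommRingCat.ofHom f) = Spec.map (CommRingCat.ofHom g)) : f = g :=
  congrArg CommRingCat.Hom.hom (Spec.map_injective h)

variable {k : Type u} [Field k]

theorem specRes_closedPoint (A : Art k k) :
    (specRes A) (IsLocalRing.closedPoint k) = IsLocalRing.closedPoint A := by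
  haveI : IsLocalHom (CommRingCat.ofHom A.res.toRingHom).hom :=
    IsLocalHom.of_surjective A.res.toRingHom A.res_surjective
  exact Spec_closedPoint (f := CommRingCat.ofHom A.res.toRingHom)

/-- (TSb) -/
theorem TSb (H : Over (Spec (CommRingCat.of k)))
    (h : Over.mk (𝟙 (Spec (CommRingCat.of k))) ⟶ H) :
    ∃ (s : k →+* (H.left.presheaf.stalk (h.left.base (IsLocalRing.closedPoint k))))
      (e : (H.left.presheaf.stalk (h.left.base (IsLocalRing.closedPoint k))) →+* k),
      e.comp s = RingHom.id k ∧ IsLocalHom e ∧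
      ∃ Φ : ∀ A : Art k k, TV H h A ≃ DPt s e A,
        ∀ (A B : Art k k) (g : A ⟶ B) (t : TV H h A), Φ B (TV.map g t) = DPt.map g (Φ A t) := by
  have hw : h.left ≫ H.hom = 𝟙 (Spec (CommRingCat.of k)) := Over.w h
  obtain ⟨ι, hι⟩ : ∃ ι : Spec (H.left.presheaf.stalk (h.left.base (IsLocalRing.closedPoint k))) ⟶
      H.left, ι = H.left.fromSpecStalk _ := ⟨_, rfl⟩
  haveI hmono : Mono ι := by rw [hι]; infer_instance
  -- the augmentation and the structure map
  obtain ⟨eC, heCloc, heC⟩ : ∃ eC : H.left.presheaf.stalk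
      (h.left.base (IsLocalRing.closedPoint k)) ⟶ CommRingCat.of k,
      IsLocalHom eC.hom ∧ Spec.map eC ≫ ι = h.left := by
    rw [hι]
    exact ⟨Scheme.stalkClosedPointTo h.left, Scheme.isLocalHom_stalkClosedPointTo' (R := k) h.left,
      Scheme.Spec_stalkClosedPointTo_fromSpecStalk h.left⟩
  obtain ⟨sC, hsC⟩ : ∃ sC : CommRingCat.of k ⟶
      H.left.presheaf.stalk (h.left.base (IsLocalRing.closedPoint k)),
      Spec.map sC = ι ≫ H.hom :=
    ⟨Spec.preimage (ι ≫ H.hom : Spec (H.left.presheaf.stalk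
      (h.left.base (IsLocalRing.closedPoint k))) ⟶ Spec (CommRingCat.of k)), Spec.map_preimage _⟩
  have hes : sC ≫ eC = 𝟙 _ := by
    apply Spec.map_injective
    rw [Spec.map_comp, hsC, ← Category.assoc, heC, hw, Spec.map_id]
  refine ⟨sC.hom, eC.hom, congrArg CommRingCat.Hom.hom hes, heCloc, ?_⟩
  -- the map `DPt → TV`
  have hover : ∀ (A : Art k k) (φ : DPt sC.hom eC.hom A),
      (Spec.map (CommRingCat.ofHom φ.1) ≫ ι) ≫ H.hom = specOver A := by
    intro A φ
    rw [Category.assoc, ← hsC]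
    have h1 : Spec.map (CommRingCat.ofHom φ.1) ≫ Spec.map sC =
        Spec.map (CommRingCat.ofHom (φ.1.comp sC.hom)) := (spec_ofHom_comp sC.hom φ.1).symm
    rw [h1, φ.2.1]
    rfl
  have hpt : ∀ (A : Art k k) (φ : DPt sC.hom eC.hom A),
      specRes A ≫ Spec.map (CommRingCat.ofHom φ.1) ≫ ι = h.left := by
    intro A φ
    have e1 : Spec.map (CommRingCat.ofHom ((A.res : A →+* k).comp φ.1)) = Spec.map eC :=
      congrArg (fun r => Spec.map (CommRingCat.ofHom r)) φ.2.2
    have h2 : specRes A ≫ Spec.map (CommRingCat.ofHom φ.1) = Spec.map eC :=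
      (spec_ofHom_comp φ.1 (A.res : A →+* k)).symm.trans e1
    rw [← Category.assoc, h2, heC]
  obtain ⟨Ψ, hΨ⟩ : ∃ Ψ : ∀ A : Art k k, DPt sC.hom eC.hom A → TV H h A,
      ∀ A φ, (Ψ A φ).1.left = Spec.map (CommRingCat.ofHom φ.1) ≫ ι :=
    ⟨fun A φ => ⟨Over.homMk (Spec.map (CommRingCat.ofHom φ.1) ≫ ι) (hover A φ),
      Over.OverMorphism.ext (hpt A φ)⟩, fun A φ => rfl⟩
  have hinj : ∀ A, Function.Injective (Ψ A) := by
    intro A φ φ' hφ
    have h3 : Spec.map (CommRingCat.ofHom φ.1) ≫ ι = Spec.map (CommRingCat.ofHom φ'.1) ≫ ι := by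
      rw [← hΨ, ← hΨ, hφ]
    exact Subtype.ext (spec_ofHom_inj ((cancel_mono ι).mp h3))
  have hsurj : ∀ A, Function.Surjective (Ψ A) := by
    intro A t
    have hleft : specRes A ≫ t.1.left = h.left := congrArg CommaMorphism.left t.2
    have hx : t.1.left (IsLocalRing.closedPoint A) =
        h.left.base (IsLocalRing.closedPoint k) := by
      rw [← specRes_closedPoint A, ← Scheme.Hom.comp_apply, hleft]
    obtain ⟨φC, hφC⟩ := exists_factor (h.left.base (IsLocalRing.closedPoint k))
      (CommRingCat.of A) t.1.left hx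
    rw [← hι] at hφC
    have c1 : φC.hom.comp sC.hom = algebraMap k A := by
      apply spec_ofHom_inj
      rw [spec_ofHom_comp]
      show Spec.map φC ≫ Spec.map sC = specOver A
      rw [hsC, ← Category.assoc, hφC]
      exact Over.w t.1
    have c2 : (A.res : A →+* k).comp φC.hom = eC.hom := by
      apply spec_ofHom_inj
      rw [spec_ofHom_comp]
      show specRes A ≫ Spec.map φC = Spec.map eC
      apply (cancel_mono ι).mp
      rw [Category.assoc, hφC, hleft, heC]
    refine ⟨⟨φC.hom, c1, c2⟩, ?_⟩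
    apply Subtype.ext
    apply Over.OverMorphism.ext
    rw [hΨ]
    exact hφC
  refine ⟨fun A => (Equiv.ofBijective (Ψ A) ⟨hinj A, hsurj A⟩).symm, ?_⟩
  intro A B g t
  apply (Equiv.ofBijective (Ψ B) ⟨hinj B, hsurj B⟩).injective
  rw [Equiv.apply_symm_apply]
  obtain ⟨φ, hφ⟩ : ∃ φ, φ = (Equiv.ofBijective (Ψ A) ⟨hinj A, hsurj A⟩).symm t := ⟨_, rfl⟩
  have ht : t = Ψ A φ := by
    rw [hφ]; exact ((Equiv.ofBijective (Ψ A) ⟨hinj A, hsurj A⟩).apply_symm_apply t).symm
  rw [← hφ, ht]
  apply Subtype.ext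
  apply Over.OverMorphism.ext
  show specMap g ≫ (Ψ A φ).1.left = (Ψ B (DPt.map g φ)).1.left
  rw [hΨ, hΨ, ← Category.assoc]
  congr 1
  exact (spec_ofHom_comp φ.1 (g.toAlgHom : A →+* B)).symm

end Groth.Agent.H37.HilbTan_TSb
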