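import Mathlib

/-!
# Idempotent matrices: the multiplicative polynomial `det (1 - (1 - w) M)`

For an idempotent matrix `M` over a commutative ring `T`, `δ M w = det (1 - (1 - w) M)` is
multiplicative in `w`; the coefficients of the polynomial `P M = δ (M.map C) X` are orthogonal
idempotents summing to one (the rank decomposition).
-/

set_option autoImplicit false
open Polynomial

namespace Groth.Agent.H37.IdemDet

variable {T : Type*} [CommRing T] {n : ℕ}

/-- `det (1 - (1 - w) M)`. -/
noncomputable def δ (M : Matrix (Fin n) (Fin n) T) (w : T) : T := (1 - (1 - w) • M).det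

lemma δ_one (M : Matrix (Fin n) (Fin n) T) : δ M 1 = 1 := by
  unfold δ
  rw [sub_self, zero_smul, sub_zero, Matrix.det_one]

lemma δ_mul {M : Matrix (Fin n) (Fin n) T} (hM : M * M = M) (w w' : T) :
    δ M w * δ M w' = δ M (w * w') := by
  unfold δ
  rw [← Matrix.det_mul]
  congr 1
  simp only [sub_mul, mul_sub, one_mul, mul_one, smul_mul_smul_comm, hM]
  module

lemma δ_map {T' : Type*} [CommRing T'] (φ : T →+* T') (M : Matrix (Fin n) (Fin n) T) (w : T) :
    φ (δ M w) = δ (M.map φ) (φ w) := by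
  unfold δ
  rw [RingHom.map_det]
  congr 1
  rw [RingHom.mapMatrix_apply]
  ext i j
  rcases eq_or_ne i j with hij | hij <;> simp [hij]

/-- The polynomial `det (1 - (1 - X) M)`. -/
noncomputable def P (M : Matrix (Fin n) (Fin n) T) : T[X] := δ (M.map C) X

lemma P_eval₂ {T' : Type*} [CommRing T'] (ψ : T →+* T') (M : Matrix (Fin n) (Fin n) T) (w' : T') :
    (P M).eval₂ ψ w' = δ (M.map ψ) w' := by
  have h := δ_map (Polynomial.eval₂RingHom ψ w') (M.map C) X
  simp only [Polynomial.coe_eval₂RingHom, Polynomial.eval₂_X] at h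
  rw [P, h, Matrix.map_map]
  congr 1
  ext i j
  simp

lemma P_eval (M : Matrix (Fin n) (Fin n) T) (w : T) : (P M).eval w = δ M w := by
  have h := P_eval₂ (RingHom.id T) M w
  rw [Polynomial.eval₂_id] at h
  rw [h]
  congr 1

lemma coeff_mul_coeff {M : Matrix (Fin n) (Fin n) T} (hM : M * M = M) (i j : ℕ) :
    (P M).coeff i * (P M).coeff j = if i = j then (P M).coeff j else 0 := by
  have hM' : M.map ((C : T[X] →+* T[X][X]).comp (C : T →+* T[X])) *
      M.map ((C : T[X] →+* T[X][X]).comp (C : T →+* T[X])) =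
      M.map ((C : T[X] →+* T[X][X]).comp (C : T →+* T[X])) := by
    rw [← Matrix.map_mul, hM]
  have key := δ_mul hM' (C X : T[X][X]) (X : T[X][X])
  rw [← P_eval₂, ← P_eval₂, ← P_eval₂] at key
  have e1 : (P M).eval₂ ((C : T[X] →+* T[X][X]).comp (C : T →+* T[X])) (C X) = C (P M) := by
    rw [← Polynomial.hom_eval₂, Polynomial.eval₂_C_X]
  have e2 : (P M).eval₂ ((C : T[X] →+* T[X][X]).comp (C : T →+* T[X])) X = (P M).map C := rfl
  have e3 : (P M).eval₂ ((C : T[X] →+* T[X][X]).comp (C : T →+* T[X])) (C X * X) =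
      ((P M).map C).comp (C X * X) := by
    unfold Polynomial.comp
    rw [Polynomial.eval₂_map]
  rw [e1, e2, e3] at key
  have key2 := congrArg (fun q : T[X][X] => (q.coeff j).coeff i) key
  simp only [coeff_C_mul, coeff_map, comp_C_mul_X_coeff, coeff_mul_C] at key2
  rw [key2, Polynomial.coeff_X_pow]
  split_ifs <;> simp

lemma sum_coeff (M : Matrix (Fin n) (Fin n) T) :
    ∑ r ∈ Finset.range ((P M).natDegree + 1), (P M).coeff r = 1 := by
  have h := P_eval M 1
  rw [δ_one, Polynomial.eval_eq_sum_range] at h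
  simpa using h

/-- If `δ M w` and the coefficients of `P M` lie in a subring and `δ M 0 = 0`, a power of `w`
lies in that subring. -/
theorem pow_mem {M : Matrix (Fin n) (Fin n) T} (hM : M * M = M) (h0 : δ M 0 = 0) (S : Subring T)
    (hS : ∀ r, (P M).coeff r ∈ S) (w : T) (hw : δ M w ∈ S) : ∃ N : ℕ, 0 < N ∧ w ^ N ∈ S := by
  obtain ⟨p, hp⟩ : ∃ p, p = P M := ⟨_, rfl⟩
  obtain ⟨d, hd⟩ : ∃ d, d = p.natDegree := ⟨_, rfl⟩
  have hcc : ∀ i j, p.coeff i * p.coeff j = if i = j then p.coeff j else 0 := by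
    rw [hp]; exact coeff_mul_coeff hM
  have he0 : p.coeff 0 = 0 := by
    have h := P_eval M 0
    rw [h0, ← hp, ← Polynomial.coeff_zero_eq_eval_zero] at h
    exact h
  have hW : δ M w = ∑ j ∈ Finset.range (d + 1), p.coeff j * w ^ j := by
    rw [← P_eval, ← hp, Polynomial.eval_eq_sum_range, hd]
  have h1 : ∀ r ∈ Finset.range (d + 1), p.coeff r * δ M w = p.coeff r * w ^ r := by
    intro r hr
    rw [hW, Finset.mul_sum, Finset.sum_eq_single r]
    · rw [← mul_assoc, hcc, if_pos rfl]
    · intro j _ hjr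
      rw [← mul_assoc, hcc, if_neg (Ne.symm hjr), zero_mul]
    · intro hr'
      exact absurd hr hr'
  have h2 : ∀ r ∈ Finset.range (d + 1), ∀ k : ℕ,
      p.coeff r * δ M w ^ k = p.coeff r * w ^ (r * k) := by
    intro r hr k
    induction k with
    | zero => simp
    | succ k ih =>
      calc p.coeff r * δ M w ^ (k + 1) = (p.coeff r * δ M w ^ k) * δ M w := by ring
        _ = (p.coeff r * w ^ (r * k)) * δ M w := by rw [ih]
        _ = w ^ (r * k) * (p.coeff r * δ M w) := by ring
        _ = w ^ (r * k) * (p.coeff r * w ^ r) := by rw [h1 r hr]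
        _ = p.coeff r * w ^ (r * (k + 1)) := by ring
  refine ⟨d.factorial, Nat.factorial_pos d, ?_⟩
  have hsum : ∑ r ∈ Finset.range (d + 1), p.coeff r = 1 := by
    rw [hp, hd, hp]; exact sum_coeff M
  have h3 : w ^ d.factorial =
      ∑ r ∈ Finset.range (d + 1), p.coeff r * δ M w ^ (d.factorial / r) := by
    calc w ^ d.factorial = (∑ r ∈ Finset.range (d + 1), p.coeff r) * w ^ d.factorial := by
          rw [hsum, one_mul]
      _ = ∑ r ∈ Finset.range (d + 1), p.coeff r * w ^ d.factorial := Finset.sum_mul _ _ _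
      _ = _ := by
        refine Finset.sum_congr rfl fun r hr => ?_
        rcases Nat.eq_zero_or_pos r with rfl | hrpos
        · rw [he0, zero_mul, zero_mul]
        · rw [h2 r hr, Nat.mul_div_cancel' (Nat.dvd_factorial hrpos
            (Nat.lt_succ_iff.mp (Finset.mem_range.mp hr)))]
  rw [h3]
  refine Subring.sum_mem _ fun r _ => Subring.mul_mem _ ?_ (Subring.pow_mem _ hw _)
  rw [hp]; exact hS r

lemma P_eq (M : Matrix (Fin n) (Fin n) T) : P M = M.charpolyRev.comp (1 - X) := by
  have h := δ_map (Polynomial.compRingHom (1 - X : T[X])) (M.map C) (1 - X)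
  have e1 : δ (M.map C) (1 - X) = M.charpolyRev := by
    unfold δ Matrix.charpolyRev
    rw [sub_sub_cancel]
  have e2 : (M.map C).map (Polynomial.compRingHom (1 - X : T[X])) = M.map C := by
    rw [Matrix.map_map]
    congr 1
    funext a
    simp
  have e3 : Polynomial.compRingHom (1 - X : T[X]) (1 - X) = X := by simp
  rw [e1, e2, e3] at h
  rw [P, ← h]
  rfl

lemma coeff_P_mem (M : Matrix (Fin n) (Fin n) T) (S : Subring T)
    (h : ∀ k, M.charpoly.coeff k ∈ S) (r : ℕ) : (P M).coeff r ∈ S := by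
  have h1 : ∀ k, M.charpolyRev.coeff k ∈ S := by
    intro k
    rw [← Matrix.reverse_charpoly, Polynomial.coeff_reverse]
    exact h _
  have hsub : (↑M.charpolyRev.coeffs : Set T) ⊆ ↑S := by
    intro a ha
    obtain ⟨k, -, rfl⟩ := Polynomial.mem_coeffs_iff.mp ha
    exact h1 k
  have h2 : (M.charpolyRev.toSubring S hsub).map S.subtype = M.charpolyRev :=
    Polynomial.map_toSubring _ _ _
  have h3 : P M = ((M.charpolyRev.toSubring S hsub).comp (1 - X)).map S.subtype := by
    rw [Polynomial.map_comp, h2, P_eq]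
    simp
  rw [h3, Polynomial.coeff_map]
  exact SetLike.coe_mem _

end Groth.Agent.H37.IdemDet
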