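import Mathlib
import Groth.Agent.H69.DirColim
import Groth.Agent.H15.NilPair.Base
import Groth.Agent.H15.NilPair.Sys
import Groth.Agent.H15.IntPair.Sys

/-! (Ma) for helper15's S18014 squad: if `A → B` is surjective so is `A → B_j`. -/

set_option autoImplicit false
universe u
open CategoryTheory MvPolynomial Limits
open Groth.Agent.H69 Groth.Agent.H15.IntPair
open Groth.Agent.H15.NilPair (PS IT Cq mkq mkq_surjective mkq_eq_zero mkq_eq_zero_iff fp tr tr_mkq
  tr_refl tr_trans toE toE_mkq toE_tr gen_top X_mem_PS PS_mono dirNat)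
open scoped Classical

namespace Groth.Agent.H37.IntPair_Ma

variable {A B C : Type u} [CommRing A] [CommRing B] [CommRing C] [Algebra A B] [Algebra A C]
  [Algebra B C] [IsScalarTower A B C]

/-- (Ma) -/
theorem surj_A_FB (h : Function.Surjective (algebraMap A B)) (j : J A B C) :
    Function.Surjective (algebraMap A (FB j)) := by
  obtain ⟨c1, c2, c3, c4, c5, c6, c7, c8⟩ := j.2
  have hG : (⊥ : Subalgebra A (FB j)) = ⊤ := by
    refine gen_top (⊥ : Subalgebra A (Cq (A := A) j.1.WB j.1.TB)) ?_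
    intro v hv
    have hv' : v ∈ j.1.Z.disjSum (∅ : Finset C) := hv
    rcases Finset.mem_disjSum.mp hv' with ⟨b, hb, rfl⟩ | ⟨d, hd, rfl⟩
    · exact c5 h b hb
    · exact absurd hd (Finset.notMem_empty d)
  exact Algebra.surjective_algebraMap_iff.mpr hG.symm

/-- (Mc) -/
theorem surj_A_FC (h : Function.Surjective (algebraMap A C)) (j : J A B C) :
    Function.Surjective (algebraMap A (FC j)) := by
  obtain ⟨c1, c2, c3, c4, c5, c6, c7, c8⟩ := j.2
  have hBC : Function.Surjective (algebraMap B C) := by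
    intro c
    obtain ⟨a, rfl⟩ := h c
    exact ⟨algebraMap A B a, (IsScalarTower.algebraMap_apply A B C a).symm⟩
  have hS : j.1.S = ∅ := c6 hBC
  have hG : (⊥ : Subalgebra A (FC j)) = ⊤ := by
    refine gen_top (⊥ : Subalgebra A (Cq (A := A) j.1.WC j.1.TCC)) ?_
    intro v hv
    have hv' : v ∈ j.1.Z.disjSum j.1.S := hv
    rcases Finset.mem_disjSum.mp hv' with ⟨b, hb, rfl⟩ | ⟨d, hd, rfl⟩
    · exact c7 h b hb
    · rw [hS] at hd
      exact absurd hd (Finset.notMem_empty d)
  exact Algebra.surjective_algebraMap_iff.mpr hG.symm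

end Groth.Agent.H37.IntPair_Ma
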