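import Mathlib
import Groth.Agent.H69.DirColim
import Groth.Agent.H15.NilPair.Base
import Groth.Agent.H15.NilPair.Sys
import Groth.Agent.H15.IntPair.Sys

/-! (Mdf) for helper15's S18014 squad: nilpotency of the kernels of the stage algebras. -/

set_option autoImplicit false
universe u
open CategoryTheory MvPolynomial Limits
open Groth.Agent.H69 Groth.Agent.H15.IntPair
open Groth.Agent.H15.NilPair (PS IT Cq mkq mkq_surjective mkq_eq_zero mkq_eq_zero_iff fp tr tr_mkq
  tr_refl tr_trans toE toE_mkq toE_tr gen_top X_mem_PS PS_mono dirNat)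
open scoped Classical

namespace Groth.Agent.H37.IntPair_Mdf

variable {A B C : Type u} [CommRing A] [CommRing B] [CommRing C] [Algebra A B] [Algebra A C]
  [Algebra B C] [IsScalarTower A B C]

lemma isNilpotent_of_le {R : Type*} [CommRing R] {I I' : Ideal R} (h : I' ≤ I)
    (hI : IsNilpotent I) : IsNilpotent I' := by
  obtain ⟨n, hn⟩ := hI
  refine ⟨n, ?_⟩
  have h1 : I' ^ n ≤ I ^ n := Ideal.pow_right_mono h n
  rw [hn, Ideal.zero_eq_bot] at h1
  rw [Ideal.zero_eq_bot]
  exact le_bot_iff.mp h1

/-- (Mdf) -/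
theorem nil_ker_stage (j : J A B C) :
    (IsNilpotent (RingHom.ker (algebraMap A B)) → IsNilpotent (RingHom.ker (algebraMap A (FB j)))) ∧
    (IsNilpotent (RingHom.ker (algebraMap A C)) → IsNilpotent (RingHom.ker (algebraMap A (FC j)))) := by
  constructor
  · intro h
    refine isNilpotent_of_le ?_ h
    intro a ha
    rw [RingHom.mem_ker] at ha ⊢
    have h1 := (toB j).commutes a
    rw [← h1, ha, map_zero]
  · intro h
    refine isNilpotent_of_le ?_ h
    intro a ha
    rw [RingHom.mem_ker] at ha ⊢
    have h1 := (toC j).commutes a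
    rw [← h1, ha, map_zero]

end Groth.Agent.H37.IntPair_Mdf
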