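import Mathlib
import Groth.Prelude.Def_DDual2

/-! (XFUN) for helper46's S11187 squad: the functor `M ↦ Q (K ⊗ M)` with its additive and linear
structure. -/

set_option autoImplicit false
universe u
open CategoryTheory Limits MonoidalCategory
attribute [local instance] HasDerivedCategory.standard

namespace Groth.Agent.H37.Inv2_XFUN

/-- complex-level map -/
noncomputable abbrev cmap (A : Type u) [CommRing A] (K : CochainComplex (ModuleCat.{u} A) ℤ)
    {M N : ModuleCat.{u} A} (f : M ⟶ N) :=
  (NatTrans.mapHomologicalComplex ((tensoringRight (ModuleCat.{u} A)).map f) (ComplexShape.up ℤ)).app K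

lemma cmap_add (A : Type u) [CommRing A] (K : CochainComplex (ModuleCat.{u} A) ℤ)
    {M N : ModuleCat.{u} A} (f g : M ⟶ N) :
    cmap A K (f + g) = cmap A K f + cmap A K g := by
  ext i : 1
  simp [cmap]
  rfl

lemma cmap_smul (A : Type u) [CommRing A] (K : CochainComplex (ModuleCat.{u} A) ℤ)
    {M N : ModuleCat.{u} A} (r : A) (f : M ⟶ N) :
    cmap A K (r • f) = r • cmap A K f := by
  ext i : 1
  simp [cmap]
  rfl

noncomputable def XK (A : Type u) [CommRing A] (K : CochainComplex (ModuleCat.{u} A) ℤ) :
    ModuleCat.{u} A ⥤ Dual.D A where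
  obj M := DerivedCategory.Q.obj (((tensorRight M).mapHomologicalComplex (ComplexShape.up ℤ)).obj K)
  map f := DerivedCategory.Q.map
    ((NatTrans.mapHomologicalComplex ((tensoringRight (ModuleCat.{u} A)).map f) (ComplexShape.up ℤ)).app K)
  map_id M := by
    rw [(tensoringRight (ModuleCat.{u} A)).map_id M, NatTrans.mapHomologicalComplex_id,
      NatTrans.id_app]
    exact DerivedCategory.Q.map_id _
  map_comp f g := by
    rw [(tensoringRight (ModuleCat.{u} A)).map_comp f g, NatTrans.mapHomologicalComplex_comp,
      NatTrans.comp_app]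
    exact DerivedCategory.Q.map_comp _ _

instance (A : Type u) [CommRing A] (K : CochainComplex (ModuleCat.{u} A) ℤ) :
    (XK A K).Additive where
  map_add {M N} {f g} := by
    change DerivedCategory.Q.map (cmap A K (f + g)) =
      DerivedCategory.Q.map (cmap A K f) + DerivedCategory.Q.map (cmap A K g)
    rw [cmap_add, Functor.map_add]

instance (A : Type u) [CommRing A] (K : CochainComplex (ModuleCat.{u} A) ℤ) :
    (XK A K).Linear A where
  map_smul {M N} f r := by
    change DerivedCategory.Q.map (cmap A K (r • f)) = r • DerivedCategory.Q.map (cmap A K f)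
    rw [cmap_smul, Functor.map_smul]

end Groth.Agent.H37.Inv2_XFUN
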