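import Mathlib

/-!
# Base change of pushout squares of commutative algebras along `- ⊗[C] D`
-/

set_option autoImplicit false
universe u
open CategoryTheory CategoryTheory.Limits TensorProduct

namespace Groth.Agent.H37.PushoutBC

variable {C : Type u} [CommRing C]

/-- The square `R → T`, `R → R ⊗ D`, `T → T ⊗ D`, `R ⊗ D → T ⊗ D` is a pushout. -/
theorem base {R T : Type u} [CommRing R] [CommRing T] [Algebra C R] [Algebra C T]
    (g : R →ₐ[C] T) (D : Type u) [CommRing D] [Algebra C D] :
    IsPushout (CommRingCat.ofHom g.toRingHom)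
      (CommRingCat.ofHom (Algebra.TensorProduct.includeLeft : R →ₐ[C] R ⊗[C] D).toRingHom)
      (CommRingCat.ofHom (Algebra.TensorProduct.includeLeft : T →ₐ[C] T ⊗[C] D).toRingHom)
      (CommRingCat.ofHom (Algebra.TensorProduct.map g (AlgHom.id C D)).toRingHom) := by
  letI : Algebra R T := g.toRingHom.toAlgebra
  haveI : IsScalarTower C R T := IsScalarTower.of_algebraMap_eq fun x => (g.commutes x).symm
  letI : Algebra (R ⊗[C] D) (T ⊗[C] D) :=
    (Algebra.TensorProduct.map g (AlgHom.id C D)).toRingHom.toAlgebra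
  haveI : IsScalarTower R (R ⊗[C] D) (T ⊗[C] D) := IsScalarTower.of_algebraMap_eq fun x => by
    show (g x) ⊗ₜ[C] (1 : D) = Algebra.TensorProduct.map g (AlgHom.id C D) (x ⊗ₜ[C] (1 : D))
    simp
  have H : (algebraMap (R ⊗[C] D) (T ⊗[C] D)).comp
      (Algebra.TensorProduct.includeRight : D →ₐ[C] R ⊗[C] D).toRingHom =
      (Algebra.TensorProduct.includeRight : D →ₐ[C] T ⊗[C] D).toRingHom := by
    ext d
    show Algebra.TensorProduct.map g (AlgHom.id C D) ((1 : R) ⊗ₜ[C] d) = (1 : T) ⊗ₜ[C] d
    simp
  have hp : Algebra.IsPushout R T (R ⊗[C] D) (T ⊗[C] D) :=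
    Algebra.IsPushout.tensorProduct_tensorProduct C D R T H
  have h := (CommRingCat.isPushout_iff_isPushout (R := R) (R' := T) (S := R ⊗[C] D)
    (S' := T ⊗[C] D)).mpr hp
  exact h

variable {R S T P : Type u} [CommRing R] [CommRing S] [CommRing T] [CommRing P]
  [Algebra C R] [Algebra C S] [Algebra C T] [Algebra C P]

/-- Tensoring a pushout square of `C`-algebras with `D` gives a pushout square. -/
theorem tensor (f : R →ₐ[C] S) (g : R →ₐ[C] T) (inl : S →ₐ[C] P) (inr : T →ₐ[C] P)
    (h : IsPushout (CommRingCat.ofHom f.toRingHom) (CommRingCat.ofHom g.toRingHom)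
      (CommRingCat.ofHom inl.toRingHom) (CommRingCat.ofHom inr.toRingHom))
    (D : Type u) [CommRing D] [Algebra C D] :
    IsPushout (CommRingCat.ofHom (Algebra.TensorProduct.map f (AlgHom.id C D)).toRingHom)
      (CommRingCat.ofHom (Algebra.TensorProduct.map g (AlgHom.id C D)).toRingHom)
      (CommRingCat.ofHom (Algebra.TensorProduct.map inl (AlgHom.id C D)).toRingHom)
      (CommRingCat.ofHom (Algebra.TensorProduct.map inr (AlgHom.id C D)).toRingHom) := by
  have big1 := h.paste_horiz (base inl D).flip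
  have e1 : CommRingCat.ofHom f.toRingHom ≫
      CommRingCat.ofHom (Algebra.TensorProduct.includeLeft : S →ₐ[C] S ⊗[C] D).toRingHom =
      CommRingCat.ofHom (Algebra.TensorProduct.includeLeft : R →ₐ[C] R ⊗[C] D).toRingHom ≫
      CommRingCat.ofHom (Algebra.TensorProduct.map f (AlgHom.id C D)).toRingHom := by
    refine CommRingCat.hom_ext (RingHom.ext fun x => ?_)
    show (f x) ⊗ₜ[C] (1 : D) = Algebra.TensorProduct.map f (AlgHom.id C D) (x ⊗ₜ[C] (1 : D))
    simp
  have e2 : CommRingCat.ofHom inr.toRingHom ≫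
      CommRingCat.ofHom (Algebra.TensorProduct.includeLeft : P →ₐ[C] P ⊗[C] D).toRingHom =
      CommRingCat.ofHom (Algebra.TensorProduct.includeLeft : T →ₐ[C] T ⊗[C] D).toRingHom ≫
      CommRingCat.ofHom (Algebra.TensorProduct.map inr (AlgHom.id C D)).toRingHom := by
    refine CommRingCat.hom_ext (RingHom.ext fun x => ?_)
    show (inr x) ⊗ₜ[C] (1 : D) = Algebra.TensorProduct.map inr (AlgHom.id C D) (x ⊗ₜ[C] (1 : D))
    simp
  rw [e1, e2] at big1
  have hw : ∀ x, inl (f x) = inr (g x) := fun x => by
    have := congrArg (fun φ => φ.hom x) h.w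
    simpa using this
  have p : CommRingCat.ofHom (Algebra.TensorProduct.map f (AlgHom.id C D)).toRingHom ≫
      CommRingCat.ofHom (Algebra.TensorProduct.map inl (AlgHom.id C D)).toRingHom =
      CommRingCat.ofHom (Algebra.TensorProduct.map g (AlgHom.id C D)).toRingHom ≫
      CommRingCat.ofHom (Algebra.TensorProduct.map inr (AlgHom.id C D)).toRingHom := by
    refine CommRingCat.hom_ext (RingHom.ext fun x => ?_)
    show Algebra.TensorProduct.map inl (AlgHom.id C D)
        (Algebra.TensorProduct.map f (AlgHom.id C D) x) =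
      Algebra.TensorProduct.map inr (AlgHom.id C D)
        (Algebra.TensorProduct.map g (AlgHom.id C D) x)
    induction x using TensorProduct.induction_on with
    | zero => simp
    | tmul a d => simp [hw a]
    | add a b ha hb => simp only [map_add, ha, hb]
  exact IsPushout.of_left big1 p (base g D).flip

/-- Base change of the square `base` along an algebra map `D₁ → D₂`. -/
theorem change {R T : Type u} [CommRing R] [CommRing T] [Algebra C R] [Algebra C T]
    (g : R →ₐ[C] T) {D₁ D₂ : Type u} [CommRing D₁] [Algebra C D₁] [CommRing D₂] [Algebra C D₂]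
    (ev : D₁ →ₐ[C] D₂) :
    IsPushout (CommRingCat.ofHom (Algebra.TensorProduct.map g (AlgHom.id C D₁)).toRingHom)
      (CommRingCat.ofHom (Algebra.TensorProduct.map (AlgHom.id C R) ev).toRingHom)
      (CommRingCat.ofHom (Algebra.TensorProduct.map (AlgHom.id C T) ev).toRingHom)
      (CommRingCat.ofHom (Algebra.TensorProduct.map g (AlgHom.id C D₂)).toRingHom) := by
  have left := (base g D₁).flip
  have big := (base g D₂).flip
  have e1 : CommRingCat.ofHom (Algebra.TensorProduct.includeLeft : R →ₐ[C] R ⊗[C] D₂).toRingHom =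
      CommRingCat.ofHom (Algebra.TensorProduct.includeLeft : R →ₐ[C] R ⊗[C] D₁).toRingHom ≫
      CommRingCat.ofHom (Algebra.TensorProduct.map (AlgHom.id C R) ev).toRingHom := by
    refine CommRingCat.hom_ext (RingHom.ext fun x => ?_)
    show x ⊗ₜ[C] (1 : D₂) = Algebra.TensorProduct.map (AlgHom.id C R) ev (x ⊗ₜ[C] (1 : D₁))
    simp
  have e2 : CommRingCat.ofHom (Algebra.TensorProduct.includeLeft : T →ₐ[C] T ⊗[C] D₂).toRingHom =
      CommRingCat.ofHom (Algebra.TensorProduct.includeLeft : T →ₐ[C] T ⊗[C] D₁).toRingHom ≫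
      CommRingCat.ofHom (Algebra.TensorProduct.map (AlgHom.id C T) ev).toRingHom := by
    refine CommRingCat.hom_ext (RingHom.ext fun x => ?_)
    show x ⊗ₜ[C] (1 : D₂) = Algebra.TensorProduct.map (AlgHom.id C T) ev (x ⊗ₜ[C] (1 : D₁))
    simp
  rw [e1, e2] at big
  have p : CommRingCat.ofHom (Algebra.TensorProduct.map (AlgHom.id C R) ev).toRingHom ≫
      CommRingCat.ofHom (Algebra.TensorProduct.map g (AlgHom.id C D₂)).toRingHom =
      CommRingCat.ofHom (Algebra.TensorProduct.map g (AlgHom.id C D₁)).toRingHom ≫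
      CommRingCat.ofHom (Algebra.TensorProduct.map (AlgHom.id C T) ev).toRingHom := by
    refine CommRingCat.hom_ext (RingHom.ext fun x => ?_)
    show Algebra.TensorProduct.map g (AlgHom.id C D₂)
        (Algebra.TensorProduct.map (AlgHom.id C R) ev x) =
      Algebra.TensorProduct.map (AlgHom.id C T) ev
        (Algebra.TensorProduct.map g (AlgHom.id C D₁) x)
    induction x using TensorProduct.induction_on with
    | zero => simp
    | tmul a d => simp
    | add a b ha hb => simp only [map_add, ha, hb]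
  exact (IsPushout.of_left big p left).flip

end Groth.Agent.H37.PushoutBC
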