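import Mathlib
import Groth.Agent.H37.CharpolyBC
import Groth.Agent.H49.ProjNorm
import Groth.Agent.H49.FinGrpdRing
import Groth.Agent.H37.IdemDet
import Groth.Agent.H37.PushoutBC

/-!
# Invariants of a finite locally free affine groupoid under base change (ring level)
-/

set_option autoImplicit false
universe u
open CategoryTheory CategoryTheory.Limits TensorProduct AlgebraicGeometry

namespace Groth.Agent.H37.InvBC

open Groth.Agent.H37.CharpolyBC Groth.Agent.H49.ProjNorm Groth.Agent.H37.IdemDet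

/-- The norm of a scalar is `δ` of the idempotent matrix of the presentation. -/
lemma nrm_algebraMap {A B : Type*} [CommRing A] [CommRing B] [Algebra A B] {n : ℕ}
    (π : (Fin n → A) →ₗ[A] B) (σ : B →ₗ[A] (Fin n → A)) (y : A) :
    nrm π σ (algebraMap A B y) = δ (LinearMap.toMatrix' (σ ∘ₗ π)) y := by
  unfold nrm psi δ
  rw [← LinearMap.det_toMatrix']
  congr 1
  have h1 : (1 : Module.End A (Fin n → A)) + σ ∘ₗ (Algebra.lmul A B (algebraMap A B y) - 1) ∘ₗ π =
      1 - (1 - y) • (σ ∘ₗ π) := by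
    refine LinearMap.ext fun v => ?_
    have h2 : (Algebra.lmul A B (algebraMap A B y)) (π v) = y • π v := by
      simp [Algebra.smul_def]
    simp only [LinearMap.add_apply, Module.End.one_apply, LinearMap.comp_apply,
      LinearMap.sub_apply, LinearMap.smul_apply, h2, map_sub, map_smul]
    module
  rw [h1, map_sub, map_smul, LinearMap.toMatrix'_one]

section nil

/-- The kernel of `C' → A ⊗[C] C'` is nil when `Spec A → Spec C` is surjective. -/
theorem nil_ker {C A C' : Type u} [CommRing C] [CommRing A] [CommRing C'] [Algebra C A]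
    [Algebra C C'] (hsurj : Function.Surjective (PrimeSpectrum.comap (algebraMap C A)))
    (x : C') (hx : (Algebra.TensorProduct.includeRight : C' →ₐ[C] A ⊗[C] C') x = 0) :
    IsNilpotent x := by
  haveI : Surjective (Spec.map (CommRingCat.ofHom (algebraMap C A))) := ⟨hsurj⟩
  have h2 : Surjective (Spec.map (CommRingCat.ofHom (R := C') (S := A ⊗[C] C')
      (RingHomClass.toRingHom (Algebra.TensorProduct.includeRight : C' →ₐ[C] A ⊗[C] C')))) := by
    rw [← pullbackSpecIso_inv_snd]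
    infer_instance
  rw [nilpotent_iff_mem_prime]
  intro q hq
  obtain ⟨Q, hQ⟩ := h2.surj ⟨q, hq⟩
  have h3 : x ∈ (PrimeSpectrum.comap
      (Algebra.TensorProduct.includeRight : C' →ₐ[C] A ⊗[C] C').toRingHom Q).asIdeal := by
    show (Algebra.TensorProduct.includeRight : C' →ₐ[C] A ⊗[C] C') x ∈ Q.asIdeal
    rw [hx]
    exact Q.asIdeal.zero_mem
  have h4 : PrimeSpectrum.comap
      (Algebra.TensorProduct.includeRight : C' →ₐ[C] A ⊗[C] C').toRingHom Q = ⟨q, hq⟩ := hQ
  rw [h4] at h3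
  exact h3

end nil

section flat

variable {C A B : Type u} [CommRing C] [CommRing A] [CommRing B] [Algebra C A] [Algebra C B]

theorem flat_range (s t : A →ₐ[C] B)
    (hker : ∀ a, s a = t a → a ∈ Set.range (algebraMap C A))
    (D : Type u) [CommRing D] [Algebra C D] [Module.Flat C D] (g : A ⊗[C] D)
    (h : Algebra.TensorProduct.map s (AlgHom.id C D) g =
      Algebra.TensorProduct.map t (AlgHom.id C D) g) :
    g ∈ Set.range (Algebra.TensorProduct.includeRight : D →ₐ[C] A ⊗[C] D) := by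
  have hex : Function.Exact (Algebra.linearMap C A) (s.toLinearMap - t.toLinearMap) := by
    intro a
    constructor
    · intro h0
      have h1 : s a = t a := sub_eq_zero.mp h0
      exact hker a h1
    · rintro ⟨x, rfl⟩
      show s (algebraMap C A x) - t (algebraMap C A x) = 0
      rw [s.commutes, t.commutes, sub_self]
  have hex' := Module.Flat.rTensor_exact D hex
  have e1 : ∀ (u : A →ₐ[C] B) (g : A ⊗[C] D),
      u.toLinearMap.rTensor D g = Algebra.TensorProduct.map u (AlgHom.id C D) g := by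
    intro u g
    induction g using TensorProduct.induction_on with
    | zero => simp
    | tmul a d => simp
    | add a b ha hb => simp only [map_add, ha, hb]
  have hg : (s.toLinearMap - t.toLinearMap).rTensor D g = 0 := by
    rw [LinearMap.rTensor_sub, LinearMap.sub_apply, e1, e1, h, sub_self]
  obtain ⟨z, hz⟩ := (hex' g).mp hg
  rw [← hz]
  clear hz hg h
  induction z using TensorProduct.induction_on with
  | zero => exact ⟨0, by simp⟩
  | tmul x d =>
    refine ⟨x • d, ?_⟩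
    rw [Algebra.TensorProduct.includeRight_apply, LinearMap.rTensor_tmul, Algebra.linearMap_apply,
      Algebra.algebraMap_eq_smul_one, TensorProduct.tmul_smul, TensorProduct.smul_tmul']
  | add a b ha hb =>
    obtain ⟨u, hu⟩ := ha
    obtain ⟨v, hv⟩ := hb
    exact ⟨u + v, by rw [map_add, map_add, hu, hv]⟩

theorem flat_injective (hinj : Function.Injective (algebraMap C A))
    (D : Type u) [CommRing D] [Algebra C D] [Module.Flat C D] :
    Function.Injective (Algebra.TensorProduct.includeRight : D →ₐ[C] A ⊗[C] D) := by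
  have h1 : Function.Injective ((Algebra.linearMap C A).rTensor D) :=
    Module.Flat.rTensor_preserves_injective_linearMap _ hinj
  have e : ∀ d : D, (Algebra.TensorProduct.includeRight : D →ₐ[C] A ⊗[C] D) d =
      (Algebra.linearMap C A).rTensor D ((TensorProduct.lid C D).symm d) := by
    intro d
    simp
  intro d d' hdd
  rw [e, e] at hdd
  exact (TensorProduct.lid C D).symm.injective (h1 hdd)

end flat

section core

variable {C A B B₂ : Type u} [CommRing C] [CommRing A] [CommRing B] [CommRing B₂]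
  [Algebra C A] [Algebra C B] [Algebra C B₂]

/-- base change of an algebra map along `C → D` -/
noncomputable abbrev bc {X Y : Type u} [CommRing X] [CommRing Y] [Algebra C X] [Algebra C Y]
    (u : X →ₐ[C] Y) (D : Type u) [CommRing D] [Algebra C D] : X ⊗[C] D →ₐ[C] Y ⊗[C] D :=
  Algebra.TensorProduct.map u (AlgHom.id C D)

variable (s t : A →ₐ[C] B) (p₀ p₁ c : B →ₐ[C] B₂)
  (hct : ∀ a, c (t a) = p₀ (t a))
  (hP1 : IsPushout (CommRingCat.ofHom s.toRingHom) (CommRingCat.ofHom s.toRingHom)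
    (CommRingCat.ofHom c.toRingHom) (CommRingCat.ofHom p₁.toRingHom))
  (hP2 : IsPushout (CommRingCat.ofHom s.toRingHom) (CommRingCat.ofHom t.toRingHom)
    (CommRingCat.ofHom p₀.toRingHom) (CommRingCat.ofHom p₁.toRingHom))

include hct hP1 hP2 in
theorem coeff_mem_eqLocus (D : Type u) [CommRing D] [Algebra C D] (n : ℕ)
    (π : letI := (bc s D).toRingHom.toAlgebra; (Fin n → A ⊗[C] D) →ₗ[A ⊗[C] D] B ⊗[C] D)
    (σ : letI := (bc s D).toRingHom.toAlgebra; B ⊗[C] D →ₗ[A ⊗[C] D] (Fin n → A ⊗[C] D))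
    (hπσ : letI := (bc s D).toRingHom.toAlgebra; π ∘ₗ σ = LinearMap.id)
    (g : A ⊗[C] D) (k : ℕ) :
    letI := (bc s D).toRingHom.toAlgebra
    (σ ∘ₗ Algebra.lmul (A ⊗[C] D) (B ⊗[C] D) ((bc t D).toRingHom g) ∘ₗ π).charpoly.coeff k ∈
      RingHom.eqLocus (bc s D).toRingHom (bc t D).toRingHom := by
  letI := (bc s D).toRingHom.toAlgebra
  have hctD : ∀ a, (bc c D).toRingHom ((bc t D).toRingHom a) =
      (bc p₀ D).toRingHom ((bc t D).toRingHom a) := by
    intro a
    show bc c D (bc t D a) = bc p₀ D (bc t D a)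
    induction a using TensorProduct.induction_on with
    | zero => simp
    | tmul a d => simp [hct]
    | add a b ha hb => simp only [map_add, ha, hb]
  have H1 := fun x => charpoly_of_isPushout (PushoutBC.tensor s s c p₁ hP1 D) n π σ hπσ x
  have H2 := fun x => charpoly_of_isPushout (PushoutBC.tensor s t p₀ p₁ hP2 D) n π σ hπσ x
  exact Groth.Agent.H49.FinGrpdRing.coeff_mem (bc s D).toRingHom (bc t D).toRingHom
    (bc p₀ D).toRingHom (bc p₁ D).toRingHom (bc c D).toRingHom hctD n π σ H1 H2 g k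

theorem exists_pres (n : ℕ) (π : letI := s.toRingHom.toAlgebra; (Fin n → A) →ₗ[A] B)
    (σ : letI := s.toRingHom.toAlgebra; B →ₗ[A] (Fin n → A))
    (hπσ : letI := s.toRingHom.toAlgebra; π ∘ₗ σ = LinearMap.id)
    (D : Type u) [CommRing D] [Algebra C D] :
    letI := (bc s D).toRingHom.toAlgebra
    ∃ (π' : (Fin n → A ⊗[C] D) →ₗ[A ⊗[C] D] B ⊗[C] D)
      (σ' : B ⊗[C] D →ₗ[A ⊗[C] D] (Fin n → A ⊗[C] D)), π' ∘ₗ σ' = LinearMap.id := by
  obtain ⟨π', σ', h', -⟩ := charpoly_of_isPushout (PushoutBC.base s D) n π σ hπσ 0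
  exact ⟨π', σ', h'⟩

include hct hP1 hP2 in
theorem coeff_mem_range (hker : ∀ a, s a = t a → a ∈ Set.range (algebraMap C A))
    (n : ℕ) (π : letI := s.toRingHom.toAlgebra; (Fin n → A) →ₗ[A] B)
    (σ : letI := s.toRingHom.toAlgebra; B →ₗ[A] (Fin n → A))
    (hπσ : letI := s.toRingHom.toAlgebra; π ∘ₗ σ = LinearMap.id)
    (D : Type u) [CommRing D] [Algebra C D]
    (πD : letI := (bc s D).toRingHom.toAlgebra; (Fin n → A ⊗[C] D) →ₗ[A ⊗[C] D] B ⊗[C] D)
    (σD : letI := (bc s D).toRingHom.toAlgebra; B ⊗[C] D →ₗ[A ⊗[C] D] (Fin n → A ⊗[C] D))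
    (hD : letI := (bc s D).toRingHom.toAlgebra; πD ∘ₗ σD = LinearMap.id)
    (g : A ⊗[C] D) (k : ℕ) :
    letI := (bc s D).toRingHom.toAlgebra
    (σD ∘ₗ Algebra.lmul (A ⊗[C] D) (B ⊗[C] D) (bc t D g) ∘ₗ πD).charpoly.coeff k ∈
      Set.range (Algebra.TensorProduct.includeRight : D →ₐ[C] A ⊗[C] D) := by
  obtain ⟨ev, hev⟩ : ∃ ev : MvPolynomial D C →ₐ[C] D, Function.Surjective ev :=
    ⟨MvPolynomial.aeval (fun d => d), fun d => ⟨MvPolynomial.X d, by simp⟩⟩
  have hevA : Function.Surjective (Algebra.TensorProduct.map (AlgHom.id C A) ev) := by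
    intro y
    induction y using TensorProduct.induction_on with
    | zero => exact ⟨0, map_zero _⟩
    | tmul a d =>
      obtain ⟨d', rfl⟩ := hev d
      exact ⟨a ⊗ₜ d', by simp⟩
    | add y z hy hz =>
      obtain ⟨y', rfl⟩ := hy
      obtain ⟨z', rfl⟩ := hz
      exact ⟨y' + z', map_add _ _ _⟩
  obtain ⟨G, rfl⟩ := hevA g
  obtain ⟨π', σ', h'⟩ := exists_pres s n π σ hπσ (MvPolynomial D C)
  have hc := coeff_mem_eqLocus s t p₀ p₁ c hct hP1 hP2 (MvPolynomial D C) n π' σ' h' G k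
  obtain ⟨π'', σ'', h'', e''⟩ := charpoly_of_isPushout (PushoutBC.change s ev) n π' σ' h'
    (bc t (MvPolynomial D C) G)
  have hnat : ∀ G : A ⊗[C] MvPolynomial D C,
      Algebra.TensorProduct.map (AlgHom.id C B) ev (bc t (MvPolynomial D C) G) =
      bc t D (Algebra.TensorProduct.map (AlgHom.id C A) ev G) := by
    intro G
    induction G using TensorProduct.induction_on with
    | zero => simp
    | tmul a d => simp
    | add a b ha hb => simp only [map_add, ha, hb]
  letI := (bc s D).toRingHom.toAlgebra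
  have e3 : (σ'' ∘ₗ Algebra.lmul (A ⊗[C] D) (B ⊗[C] D)
        (bc t D (Algebra.TensorProduct.map (AlgHom.id C A) ev G)) ∘ₗ π'').charpoly =
      letI := (bc s (MvPolynomial D C)).toRingHom.toAlgebra
      (σ' ∘ₗ Algebra.lmul (A ⊗[C] MvPolynomial D C) (B ⊗[C] MvPolynomial D C)
        (bc t (MvPolynomial D C) G) ∘ₗ π').charpoly.map
        (Algebra.TensorProduct.map (AlgHom.id C A) ev).toRingHom := by
    rw [← hnat]
    exact e''
  have hl := lchar πD π'' σD σ'' hD h'' (Algebra.lmul (A ⊗[C] D) (B ⊗[C] D)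
    (bc t D (Algebra.TensorProduct.map (AlgHom.id C A) ev G)))
  rw [hl, e3, Polynomial.coeff_map]
  have hc' : bc s (MvPolynomial D C) _ = bc t (MvPolynomial D C) _ := hc
  obtain ⟨d', hd'⟩ := flat_range s t hker (MvPolynomial D C) _ hc'
  refine ⟨ev d', ?_⟩
  have h6 := congrArg (Algebra.TensorProduct.map (AlgHom.id C A) ev) hd'
  have h7 : Algebra.TensorProduct.map (AlgHom.id C A) ev
      ((Algebra.TensorProduct.includeRight : MvPolynomial D C →ₐ[C] A ⊗[C] MvPolynomial D C) d') =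
      (Algebra.TensorProduct.includeRight : D →ₐ[C] A ⊗[C] D) (ev d') := by
    simp
  exact h7.symm.trans h6

end core

section final

variable {C A B B₂ : Type u} [CommRing C] [CommRing A] [CommRing B] [CommRing B₂]
  [Algebra C A] [Algebra C B] [Algebra C B₂]
  (s t : A →ₐ[C] B) (p₀ p₁ c : B →ₐ[C] B₂)
  (hct : ∀ a, c (t a) = p₀ (t a))
  (hP1 : IsPushout (CommRingCat.ofHom s.toRingHom) (CommRingCat.ofHom s.toRingHom)
    (CommRingCat.ofHom c.toRingHom) (CommRingCat.ofHom p₁.toRingHom))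
  (hP2 : IsPushout (CommRingCat.ofHom s.toRingHom) (CommRingCat.ofHom t.toRingHom)
    (CommRingCat.ofHom p₀.toRingHom) (CommRingCat.ofHom p₁.toRingHom))

open Polynomial in
include hct hP1 hP2 in
theorem part_a (e : B →ₐ[C] A) (hes : ∀ a, e (s a) = a)
    (hker : ∀ a, s a = t a → a ∈ Set.range (algebraMap C A))
    (n : ℕ) (π : letI := s.toRingHom.toAlgebra; (Fin n → A) →ₗ[A] B)
    (σ : letI := s.toRingHom.toAlgebra; B →ₗ[A] (Fin n → A))
    (hπσ : letI := s.toRingHom.toAlgebra; π ∘ₗ σ = LinearMap.id)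
    (C' : Type u) [CommRing C'] [Algebra C C'] (f : A ⊗[C] C')
    (hf : bc s C' f = bc t C' f) :
    ∃ (N : ℕ) (Q : Polynomial C'), 0 < N ∧
      Q.map (Algebra.TensorProduct.includeRight : C' →ₐ[C] A ⊗[C] C').toRingHom =
        (Polynomial.X - Polynomial.C f) ^ N := by
  obtain ⟨πD, σD, hD⟩ := exists_pres s n π σ hπσ C'[X]
  letI := (bc s C'[X]).toRingHom.toAlgebra
  -- the inclusion of constants
  obtain ⟨ι, hι⟩ : ∃ ι : A ⊗[C] C' →ₐ[C] A ⊗[C] C'[X],
      ∀ a c', ι (a ⊗ₜ c') = a ⊗ₜ (Polynomial.C c') :=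
    ⟨Algebra.TensorProduct.map (AlgHom.id C A) Polynomial.CAlgHom, fun a c' => by simp⟩
  obtain ⟨ιB, hιB⟩ : ∃ ιB : B ⊗[C] C' →ₐ[C] B ⊗[C] C'[X],
      ∀ a c', ιB (a ⊗ₜ c') = a ⊗ₜ (Polynomial.C c') :=
    ⟨Algebra.TensorProduct.map (AlgHom.id C B) Polynomial.CAlgHom, fun a c' => by simp⟩
  have hnat : ∀ (u : A →ₐ[C] B) (y : A ⊗[C] C'), bc u C'[X] (ι y) = ιB (bc u C' y) := by
    intro u y
    induction y using TensorProduct.induction_on with
    | zero => simp
    | tmul a d => simp [hι, hιB]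
    | add a b ha hb => simp only [map_add, ha, hb]
  obtain ⟨g, hg⟩ : ∃ g : A ⊗[C] C'[X], g = (1 : A) ⊗ₜ (Polynomial.X : C'[X]) - ι f := ⟨_, rfl⟩
  have hinv : bc s C'[X] g = bc t C'[X] g := by
    rw [hg, map_sub, map_sub, hnat, hnat, hf]
    simp
  have heD : ∀ x : A ⊗[C] C'[X], bc e C'[X] (bc s C'[X] x) = x := by
    intro x
    induction x using TensorProduct.induction_on with
    | zero => simp
    | tmul a d => simp [hes]
    | add a b ha hb => simp only [map_add, ha, hb]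
  -- the idempotent matrix
  obtain ⟨M, hMdef⟩ : ∃ M, M = LinearMap.toMatrix' (σD ∘ₗ πD) := ⟨_, rfl⟩
  have hε : (σD ∘ₗ πD) ∘ₗ (σD ∘ₗ πD) = σD ∘ₗ πD := by
    refine LinearMap.ext fun v => ?_
    have h1 := LinearMap.congr_fun hD (πD v)
    simp only [LinearMap.comp_apply, LinearMap.id_apply] at h1
    simp only [LinearMap.comp_apply, h1]
  have hM : M * M = M := by
    rw [hMdef, ← LinearMap.toMatrix'_comp, hε]
  obtain ⟨S, hSdef⟩ : ∃ S : Subring (A ⊗[C] C'[X]), S =
      (Algebra.TensorProduct.includeRight : C'[X] →ₐ[C] A ⊗[C] C'[X]).toRingHom.range := ⟨_, rfl⟩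
  have hrange : ∀ (y : A ⊗[C] C'[X]) (k : ℕ),
      (σD ∘ₗ Algebra.lmul (A ⊗[C] C'[X]) (B ⊗[C] C'[X]) (bc t C'[X] y) ∘ₗ πD).charpoly.coeff k
        ∈ S := by
    intro y k
    obtain ⟨d, hd⟩ := coeff_mem_range s t p₀ p₁ c hct hP1 hP2 hker n π σ hπσ C'[X] πD σD hD y k
    rw [hSdef]
    exact ⟨d, hd⟩
  have hS : ∀ r, (P M).coeff r ∈ S := by
    apply coeff_P_mem
    intro k
    have h1 := hrange 1 k
    have e0 : σD ∘ₗ Algebra.lmul (A ⊗[C] C'[X]) (B ⊗[C] C'[X]) (bc t C'[X] 1) ∘ₗ πD =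
        σD ∘ₗ πD := by
      refine LinearMap.ext fun v => ?_
      simp
    rw [e0] at h1
    have e1 : M.charpoly = (σD ∘ₗ πD).charpoly := by
      rw [hMdef, ← LinearMap.charpoly_toMatrix (σD ∘ₗ πD) (Pi.basisFun _ _),
        LinearMap.toMatrix_eq_toMatrix']
    rw [e1]
    exact h1
  have h00 : nrm πD σD (0 : B ⊗[C] C'[X]) = 0 := by
    have hd := dvd_nrm hD (0 : B ⊗[C] C'[X])
    rw [zero_dvd_iff] at hd
    have h2 := congrArg (bc e C'[X]) hd
    rw [map_zero] at h2
    exact (heD _).symm.trans h2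
  have h0 : δ M 0 = 0 := by
    rw [hMdef, ← nrm_algebraMap, map_zero, h00]
  have hw : δ M g ∈ S := by
    rw [hMdef, ← nrm_algebraMap, nrm_eq]
    have e1 : algebraMap (A ⊗[C] C'[X]) (B ⊗[C] C'[X]) g - 1 = bc t C'[X] (g - 1) := by
      rw [map_sub (bc t C'[X]), map_one, ← hinv]
      rfl
    rw [e1]
    refine Subring.mul_mem _ (Subring.pow_mem _ (Subring.neg_mem _ (Subring.one_mem _)) _) ?_
    rw [Polynomial.eval_eq_sum_range]
    refine Subring.sum_mem _ fun k _ => Subring.mul_mem _ (hrange (g - 1) k)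
      (Subring.pow_mem _ (Subring.neg_mem _ (Subring.one_mem _)) _)
  obtain ⟨N, hN, hmem⟩ := pow_mem hM h0 S hS g hw
  rw [hSdef] at hmem
  obtain ⟨Pol, hPol⟩ := hmem
  refine ⟨N, Pol, hN, ?_⟩
  -- the map to polynomials over `A ⊗ C'`
  obtain ⟨Φ, hΦ⟩ : ∃ Φ : A ⊗[C] C'[X] →ₐ[C] (A ⊗[C] C')[X], ∀ a h, Φ (a ⊗ₜ h) =
      Polynomial.C (a ⊗ₜ (1 : C')) *
        h.map (Algebra.TensorProduct.includeRight : C' →ₐ[C] A ⊗[C] C').toRingHom :=
    ⟨Algebra.TensorProduct.lift
      ((Polynomial.CAlgHom).comp Algebra.TensorProduct.includeLeft)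
      (Polynomial.mapAlgHom Algebra.TensorProduct.includeRight) (fun _ _ => Commute.all _ _),
      fun a h => by simp⟩
  have hone : Polynomial.C ((1 : A) ⊗ₜ[C] (1 : C')) = (1 : (A ⊗[C] C')[X]) := by
    rw [← Algebra.TensorProduct.one_def, Polynomial.C_1]
  have hΦι : ∀ y, Φ (ι y) = Polynomial.C y := by
    intro y
    induction y using TensorProduct.induction_on with
    | zero => simp
    | tmul a c' =>
      rw [hι, hΦ, Polynomial.map_C, ← Polynomial.C_mul]
      simp
    | add y z hy hz => simp only [map_add, hy, hz]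
  have hΦ1 : Φ ((Algebra.TensorProduct.includeRight : C'[X] →ₐ[C] A ⊗[C] C'[X]).toRingHom Pol) =
      Pol.map (Algebra.TensorProduct.includeRight : C' →ₐ[C] A ⊗[C] C').toRingHom := by
    show Φ ((1 : A) ⊗ₜ Pol) = _
    rw [hΦ, hone, one_mul]
  have hΦ2 : Φ g = Polynomial.X - Polynomial.C f := by
    rw [hg, map_sub, hΦ, hΦι, hone, one_mul, Polynomial.map_X]
  have h5 := congrArg Φ hPol
  rw [map_pow, hΦ1, hΦ2] at h5
  exact h5

end final

open Polynomial in
/-- Ring-level form of the base change theorem for invariants. -/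
theorem ring_main {A B B₂ : Type u} [CommRing A] [CommRing B] [CommRing B₂]
    (s t : A →+* B) (e : B →+* A) (p₀ p₁ c : B →+* B₂)
    (hes : ∀ a, e (s a) = a) (hct : ∀ a, c (t a) = p₀ (t a))
    (hP1 : IsPushout (CommRingCat.ofHom s) (CommRingCat.ofHom s) (CommRingCat.ofHom c)
      (CommRingCat.ofHom p₁))
    (hP2 : IsPushout (CommRingCat.ofHom s) (CommRingCat.ofHom t) (CommRingCat.ofHom p₀)
      (CommRingCat.ofHom p₁))
    (n : ℕ) (π : letI := s.toAlgebra; (Fin n → A) →ₗ[A] B)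
    (σ : letI := s.toAlgebra; B →ₗ[A] (Fin n → A))
    (hπσ : letI := s.toAlgebra; π ∘ₗ σ = LinearMap.id)
    (C : Type u) [CommRing C] [Algebra C A] [Algebra C B] [Algebra.IsIntegral C A]
    (hCs : ∀ x : C, algebraMap C B x = s (algebraMap C A x))
    (hCst : ∀ x : C, s (algebraMap C A x) = t (algebraMap C A x))
    (hCinj : Function.Injective (algebraMap C A))
    (hker : ∀ a : A, s a = t a → a ∈ Set.range (algebraMap C A))
    (C' : Type u) [CommRing C'] [Algebra C C']
    (sT tT : A ⊗[C] C' →ₐ[C] B ⊗[C] C')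
    (hsT : ∀ (a : A) (c' : C'), sT (a ⊗ₜ c') = s a ⊗ₜ c')
    (htT : ∀ (a : A) (c' : C'), tT (a ⊗ₜ c') = t a ⊗ₜ c') :
    (∀ f, sT f = tT f → ∃ (N : ℕ) (Q : Polynomial C'), 0 < N ∧
      Q.map (Algebra.TensorProduct.includeRight : C' →ₐ[C] A ⊗[C] C').toRingHom =
        (Polynomial.X - Polynomial.C f) ^ N) ∧
    (∀ x : C', (Algebra.TensorProduct.includeRight : C' →ₐ[C] A ⊗[C] C') x = 0 →
      IsNilpotent x) ∧
    (Module.Flat C C' →
      Function.Injective (Algebra.TensorProduct.includeRight : C' →ₐ[C] A ⊗[C] C') ∧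
      ∀ f, sT f = tT f →
        f ∈ Set.range (Algebra.TensorProduct.includeRight : C' →ₐ[C] A ⊗[C] C')) := by
  letI : Algebra C B₂ := (p₁.comp (algebraMap C B)).toAlgebra
  have hcs : ∀ a, c (s a) = p₁ (s a) := fun a => by
    have := congrArg (fun φ => φ.hom a) hP1.w
    simpa using this
  have hp : ∀ a, p₀ (s a) = p₁ (t a) := fun a => by
    have := congrArg (fun φ => φ.hom a) hP2.w
    simpa using this
  let sC : A →ₐ[C] B := ⟨s, fun x => (hCs x).symm⟩
  let tC : A →ₐ[C] B := ⟨t, fun x => by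
    show t (algebraMap C A x) = algebraMap C B x
    rw [hCs, hCst]⟩
  let eC : B →ₐ[C] A := ⟨e, fun x => by
    show e (algebraMap C B x) = algebraMap C A x
    rw [hCs, hes]⟩
  let p₁C : B →ₐ[C] B₂ := ⟨p₁, fun x => rfl⟩
  let cC : B →ₐ[C] B₂ := ⟨c, fun x => by
    show c (algebraMap C B x) = p₁ (algebraMap C B x)
    rw [hCs, hcs]⟩
  let p₀C : B →ₐ[C] B₂ := ⟨p₀, fun x => by
    show p₀ (algebraMap C B x) = p₁ (algebraMap C B x)
    rw [hCs, hp, hCst]⟩
  have hsT' : sT = bc sC C' := Algebra.TensorProduct.ext' fun a c' => by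
    rw [hsT, Algebra.TensorProduct.map_tmul]
    rfl
  have htT' : tT = bc tC C' := Algebra.TensorProduct.ext' fun a c' => by
    rw [htT, Algebra.TensorProduct.map_tmul]
    rfl
  refine ⟨?_, ?_, ?_⟩
  · intro f hf
    rw [hsT', htT'] at hf
    exact part_a sC tC p₀C p₁C cC hct hP1 hP2 eC hes hker n π σ hπσ C' f hf
  · intro x hx
    haveI : FaithfulSMul C A := (faithfulSMul_iff_algebraMap_injective C A).mpr hCinj
    exact nil_ker (Algebra.IsIntegral.comap_surjective C A) x hx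
  · intro hflat
    haveI := hflat
    refine ⟨flat_injective hCinj C', fun f hf => ?_⟩
    rw [hsT', htT'] at hf
    exact flat_range sC tC hker C' f hf

end Groth.Agent.H37.InvBC
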