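import Mathlib
import Groth.Agent.H37.InvBC

/-!
# Orbits of field-valued points of a finite locally free affine groupoid (ring level)

Two `K`-points `ξ₀ ξ₁ : A → K` of `U = Spec A` which agree on the invariants `C` are related by a
point of `R = Spec B` with values in a field extension of `K` (in `K` itself if `K` is
algebraically closed).
-/

set_option autoImplicit false
universe u
open CategoryTheory CategoryTheory.Limits TensorProduct

namespace Groth.Agent.H37.InvBC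

open Groth.Agent.H37.CharpolyBC Groth.Agent.H49.ProjNorm Groth.Agent.H37.IdemDet

section orbit

variable {C A B B₂ : Type u} [CommRing C] [CommRing A] [CommRing B] [CommRing B₂]
  [Algebra C A] [Algebra C B] [Algebra C B₂]
  (s t : A →ₐ[C] B) (p₀ p₁ c : B →ₐ[C] B₂)
  (hct : ∀ a, c (t a) = p₀ (t a))
  (hP1 : IsPushout (CommRingCat.ofHom s.toRingHom) (CommRingCat.ofHom s.toRingHom)
    (CommRingCat.ofHom c.toRingHom) (CommRingCat.ofHom p₁.toRingHom))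
  (hP2 : IsPushout (CommRingCat.ofHom s.toRingHom) (CommRingCat.ofHom t.toRingHom)
    (CommRingCat.ofHom p₀.toRingHom) (CommRingCat.ofHom p₁.toRingHom))

open Polynomial in
include hct hP1 hP2 in
/-- `K`-points agree on the invariants of the base change to `K`. -/
theorem eq_on_invariants (e : B →ₐ[C] A) (hes : ∀ a, e (s a) = a)
    (hker : ∀ a, s a = t a → a ∈ Set.range (algebraMap C A))
    (n : ℕ) (π : letI := s.toRingHom.toAlgebra; (Fin n → A) →ₗ[A] B)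
    (σ : letI := s.toRingHom.toAlgebra; B →ₗ[A] (Fin n → A))
    (hπσ : letI := s.toRingHom.toAlgebra; π ∘ₗ σ = LinearMap.id)
    (K : Type u) [Field K] [Algebra C K] (ξ₀' ξ₁' : A ⊗[C] K →ₐ[C] K)
    (h0 : ∀ l : K, ξ₀' ((1 : A) ⊗ₜ l) = l) (h1 : ∀ l : K, ξ₁' ((1 : A) ⊗ₜ l) = l)
    (f : A ⊗[C] K) (hf : bc s K f = bc t K f) : ξ₀' f = ξ₁' f := by
  obtain ⟨N, Q, hN, hQ⟩ := part_a s t p₀ p₁ c hct hP1 hP2 e hes hker n π σ hπσ K f hf
  have key : ∀ ξ' : A ⊗[C] K →ₐ[C] K, (∀ l : K, ξ' ((1 : A) ⊗ₜ l) = l) →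
      Q = (Polynomial.X - Polynomial.C (ξ' f)) ^ N := by
    intro ξ' hξ'
    have h1 := congrArg (Polynomial.map ξ'.toRingHom) hQ
    rw [Polynomial.map_map] at h1
    have h2 : ξ'.toRingHom.comp
        (Algebra.TensorProduct.includeRight : K →ₐ[C] A ⊗[C] K).toRingHom = RingHom.id K :=
      RingHom.ext hξ'
    rw [h2, Polynomial.map_id] at h1
    rw [h1]
    simp
  have ha := key ξ₀' h0
  have hb := key ξ₁' h1
  have h3 := congrArg (Polynomial.eval (ξ₀' f)) (ha.symm.trans hb)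
  rw [Polynomial.eval_pow, Polynomial.eval_sub, Polynomial.eval_X, Polynomial.eval_C, sub_self,
    zero_pow hN.ne', Polynomial.eval_pow, Polynomial.eval_sub, Polynomial.eval_X,
    Polynomial.eval_C] at h3
  exact sub_eq_zero.mp ((pow_eq_zero_iff hN.ne').mp h3.symm)

include hct hP1 hP2 in
/-- Two `K`-points agreeing on the invariants are the target and source of a prime of `B ⊗ K`. -/
theorem exists_prime_orbit_field (e : B →ₐ[C] A) (hes : ∀ a, e (s a) = a)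
    (het : ∀ a, e (t a) = a)
    (hker : ∀ a, s a = t a → a ∈ Set.range (algebraMap C A))
    (n : ℕ) (π : letI := s.toRingHom.toAlgebra; (Fin n → A) →ₗ[A] B)
    (σ : letI := s.toRingHom.toAlgebra; B →ₗ[A] (Fin n → A))
    (hπσ : letI := s.toRingHom.toAlgebra; π ∘ₗ σ = LinearMap.id)
    (K : Type u) [Field K] [Algebra C K] (ξ₀ ξ₁ : A →ₐ[C] K) :
    ∃ 𝔮 : Ideal (B ⊗[C] K), 𝔮.IsPrime ∧
      (∀ a : A, (t a) ⊗ₜ[C] (1 : K) - (1 : B) ⊗ₜ[C] (ξ₀ a) ∈ 𝔮) ∧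
      (∀ a : A, (s a) ⊗ₜ[C] (1 : K) - (1 : B) ⊗ₜ[C] (ξ₁ a) ∈ 𝔮) ∧
      (RingHom.comp (Ideal.Quotient.mk 𝔮)
        (Algebra.TensorProduct.includeRight : K →ₐ[C] B ⊗[C] K).toRingHom).IsIntegral := by
  obtain ⟨πK, σK, hK⟩ := exists_pres s n π σ hπσ K
  letI := (bc s K).toRingHom.toAlgebra
  obtain ⟨ξ₀', hξ₀'⟩ : ∃ ξ' : A ⊗[C] K →ₐ[C] K, ∀ a l, ξ' (a ⊗ₜ l) = ξ₀ a * l :=
    ⟨Algebra.TensorProduct.lift ξ₀ (AlgHom.id C K) (fun _ _ => Commute.all _ _),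
      fun a l => by simp⟩
  obtain ⟨ξ₁', hξ₁'⟩ : ∃ ξ' : A ⊗[C] K →ₐ[C] K, ∀ a l, ξ' (a ⊗ₜ l) = ξ₁ a * l :=
    ⟨Algebra.TensorProduct.lift ξ₁ (AlgHom.id C K) (fun _ _ => Commute.all _ _),
      fun a l => by simp⟩
  have h0 : ∀ l : K, ξ₀' ((1 : A) ⊗ₜ l) = l := fun l => by rw [hξ₀', map_one, one_mul]
  have h1 : ∀ l : K, ξ₁' ((1 : A) ⊗ₜ l) = l := fun l => by rw [hξ₁', map_one, one_mul]
  have heq := eq_on_invariants s t p₀ p₁ c hct hP1 hP2 e hes hker n π σ hπσ K ξ₀' ξ₁' h0 h1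
  -- base-changed data
  have hesK : ∀ a, (bc e K).toRingHom ((bc s K).toRingHom a) = a := by
    intro a
    show bc e K (bc s K a) = a
    induction a using TensorProduct.induction_on with
    | zero => simp
    | tmul a d => simp [hes]
    | add a b ha hb => simp only [map_add, ha, hb]
  have hetK : ∀ a, (bc e K).toRingHom ((bc t K).toRingHom a) = a := by
    intro a
    show bc e K (bc t K a) = a
    induction a using TensorProduct.induction_on with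
    | zero => simp
    | tmul a d => simp [het]
    | add a b ha hb => simp only [map_add, ha, hb]
  have hctK : ∀ a, (bc c K).toRingHom ((bc t K).toRingHom a) =
      (bc p₀ K).toRingHom ((bc t K).toRingHom a) := by
    intro a
    show bc c K (bc t K a) = bc p₀ K (bc t K a)
    induction a using TensorProduct.induction_on with
    | zero => simp
    | tmul a d => simp [hct]
    | add a b ha hb => simp only [map_add, ha, hb]
  have H1 := fun x => charpoly_of_isPushout (PushoutBC.tensor s s c p₁ hP1 K) n πK σK hK x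
  have H2 := fun x => charpoly_of_isPushout (PushoutBC.tensor s t p₀ p₁ hP2 K) n πK σK hK x
  have hsurj : Function.Surjective πK := fun y =>
    ⟨σK y, by rw [← LinearMap.comp_apply, hK, LinearMap.id_apply]⟩
  have hfin : Module.Finite (A ⊗[C] K) (B ⊗[C] K) := Module.Finite.of_surjective πK hsurj
  haveI hp1 : (RingHom.ker ξ₁'.toRingHom).IsPrime := RingHom.ker_isPrime _
  haveI hp0 : (RingHom.ker ξ₀'.toRingHom).IsPrime := RingHom.ker_isPrime _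
  have hcond : ∀ x ∈ RingHom.eqLocus (bc s K).toRingHom (bc t K).toRingHom,
      x ∈ RingHom.ker ξ₁'.toRingHom ↔ x ∈ RingHom.ker ξ₀'.toRingHom := by
    intro x hx
    rw [RingHom.mem_ker, RingHom.mem_ker]
    show ξ₁' x = 0 ↔ ξ₀' x = 0
    rw [heq x hx]
  obtain ⟨𝔮, h𝔮, hs, ht⟩ := Groth.Agent.H49.FinGrpdRing.exists_prime_orbit (bc s K).toRingHom
    (bc t K).toRingHom (bc e K).toRingHom (bc p₀ K).toRingHom (bc p₁ K).toRingHom
    (bc c K).toRingHom hesK hetK hctK n πK σK hK H1 H2 hfin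
    (RingHom.ker ξ₁'.toRingHom) (RingHom.ker ξ₀'.toRingHom) hcond
  refine ⟨𝔮, h𝔮, fun a => ?_, fun a => ?_, ?_⟩
  · have hm : (a ⊗ₜ[C] (1 : K) - (1 : A) ⊗ₜ[C] (ξ₀ a) : A ⊗[C] K) ∈
        𝔮.comap (bc t K).toRingHom := by
      rw [ht, RingHom.mem_ker]
      show ξ₀' _ = 0
      rw [map_sub, hξ₀', hξ₀', map_one, one_mul, mul_one, sub_self]
    have hm2 := Ideal.mem_comap.mp hm
    have e1 : (bc t K).toRingHom (a ⊗ₜ[C] (1 : K) - (1 : A) ⊗ₜ[C] (ξ₀ a)) =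
        (t a) ⊗ₜ[C] (1 : K) - (1 : B) ⊗ₜ[C] (ξ₀ a) := by
      show bc t K _ = _
      simp
    rw [e1] at hm2
    exact hm2
  · have hm : (a ⊗ₜ[C] (1 : K) - (1 : A) ⊗ₜ[C] (ξ₁ a) : A ⊗[C] K) ∈
        𝔮.comap (bc s K).toRingHom := by
      rw [hs, RingHom.mem_ker]
      show ξ₁' _ = 0
      rw [map_sub, hξ₁', hξ₁', map_one, one_mul, mul_one, sub_self]
    have hm2 := Ideal.mem_comap.mp hm
    have e1 : (bc s K).toRingHom (a ⊗ₜ[C] (1 : K) - (1 : A) ⊗ₜ[C] (ξ₁ a)) =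
        (s a) ⊗ₜ[C] (1 : K) - (1 : B) ⊗ₜ[C] (ξ₁ a) := by
      show bc s K _ = _
      simp
    rw [e1] at hm2
    exact hm2
  · -- integrality of `K → (B ⊗ K) / 𝔮`
    have hint1 : (bc s K).toRingHom.IsIntegral := RingHom.Finite.to_isIntegral hfin
    have hint2 : ((Ideal.Quotient.mk 𝔮).comp (bc s K).toRingHom).IsIntegral :=
      hint1.trans _ _ (RingHom.isIntegral_of_surjective _ Ideal.Quotient.mk_surjective)
    have hfac : (Ideal.Quotient.mk 𝔮).comp (bc s K).toRingHom =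
        ((Ideal.Quotient.mk 𝔮).comp
          (Algebra.TensorProduct.includeRight : K →ₐ[C] B ⊗[C] K).toRingHom).comp
          ξ₁'.toRingHom := by
      refine RingHom.ext fun x => ?_
      show Ideal.Quotient.mk 𝔮 (bc s K x) = Ideal.Quotient.mk 𝔮 ((1 : B) ⊗ₜ[C] (ξ₁' x))
      rw [Ideal.Quotient.eq]
      have hm : (x - (1 : A) ⊗ₜ[C] (ξ₁' x) : A ⊗[C] K) ∈ 𝔮.comap (bc s K).toRingHom := by
        rw [hs, RingHom.mem_ker]
        show ξ₁' _ = 0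
        rw [map_sub, h1, sub_self]
      have hm2 := Ideal.mem_comap.mp hm
      have e1 : (bc s K).toRingHom (x - (1 : A) ⊗ₜ[C] (ξ₁' x)) =
          bc s K x - (1 : B) ⊗ₜ[C] (ξ₁' x) := by
        show bc s K _ = _
        simp
      rw [e1] at hm2
      exact hm2
    rw [hfac] at hint2
    exact RingHom.IsIntegral.tower_top _ _ hint2

include hct hP1 hP2 in
/-- Field-valued form: a point of `R` with values in an extension of `K`. -/
theorem exists_field_point (e : B →ₐ[C] A) (hes : ∀ a, e (s a) = a)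
    (het : ∀ a, e (t a) = a)
    (hker : ∀ a, s a = t a → a ∈ Set.range (algebraMap C A))
    (n : ℕ) (π : letI := s.toRingHom.toAlgebra; (Fin n → A) →ₗ[A] B)
    (σ : letI := s.toRingHom.toAlgebra; B →ₗ[A] (Fin n → A))
    (hπσ : letI := s.toRingHom.toAlgebra; π ∘ₗ σ = LinearMap.id)
    (K : Type u) [Field K] [Algebra C K] (ξ₀ ξ₁ : A →ₐ[C] K) :
    ∃ (L : Type u) (_ : Field L) (i : K →+* L) (ρ : B →+* L),
      (∀ a, ρ (t a) = i (ξ₀ a)) ∧ (∀ a, ρ (s a) = i (ξ₁ a)) := by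
  obtain ⟨𝔮, h𝔮, ht, hs, -⟩ := exists_prime_orbit_field s t p₀ p₁ c hct hP1 hP2 e hes het hker
    n π σ hπσ K ξ₀ ξ₁
  haveI := h𝔮
  refine ⟨FractionRing ((B ⊗[C] K) ⧸ 𝔮), inferInstance,
    ((algebraMap ((B ⊗[C] K) ⧸ 𝔮) (FractionRing ((B ⊗[C] K) ⧸ 𝔮))).comp
      (Ideal.Quotient.mk 𝔮)).comp
      (Algebra.TensorProduct.includeRight : K →ₐ[C] B ⊗[C] K).toRingHom,
    ((algebraMap ((B ⊗[C] K) ⧸ 𝔮) (FractionRing ((B ⊗[C] K) ⧸ 𝔮))).comp
      (Ideal.Quotient.mk 𝔮)).comp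
      (Algebra.TensorProduct.includeLeft : B →ₐ[C] B ⊗[C] K).toRingHom, fun a => ?_, fun a => ?_⟩
  · show algebraMap ((B ⊗[C] K) ⧸ 𝔮) (FractionRing ((B ⊗[C] K) ⧸ 𝔮))
        (Ideal.Quotient.mk 𝔮 ((t a) ⊗ₜ[C] (1 : K))) =
      algebraMap ((B ⊗[C] K) ⧸ 𝔮) (FractionRing ((B ⊗[C] K) ⧸ 𝔮))
        (Ideal.Quotient.mk 𝔮 ((1 : B) ⊗ₜ[C] (ξ₀ a)))
    rw [(Ideal.Quotient.eq).mpr (ht a)]
  · show algebraMap ((B ⊗[C] K) ⧸ 𝔮) (FractionRing ((B ⊗[C] K) ⧸ 𝔮))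
        (Ideal.Quotient.mk 𝔮 ((s a) ⊗ₜ[C] (1 : K))) =
      algebraMap ((B ⊗[C] K) ⧸ 𝔮) (FractionRing ((B ⊗[C] K) ⧸ 𝔮))
        (Ideal.Quotient.mk 𝔮 ((1 : B) ⊗ₜ[C] (ξ₁ a)))
    rw [(Ideal.Quotient.eq).mpr (hs a)]

include hct hP1 hP2 in
/-- Algebraically closed form: a `K`-point of `R`. -/
theorem exists_point_algClosed (e : B →ₐ[C] A) (hes : ∀ a, e (s a) = a)
    (het : ∀ a, e (t a) = a)
    (hker : ∀ a, s a = t a → a ∈ Set.range (algebraMap C A))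
    (n : ℕ) (π : letI := s.toRingHom.toAlgebra; (Fin n → A) →ₗ[A] B)
    (σ : letI := s.toRingHom.toAlgebra; B →ₗ[A] (Fin n → A))
    (hπσ : letI := s.toRingHom.toAlgebra; π ∘ₗ σ = LinearMap.id)
    (K : Type u) [Field K] [IsAlgClosed K] [Algebra C K] (ξ₀ ξ₁ : A →ₐ[C] K) :
    ∃ ρ : B →+* K, (∀ a, ρ (t a) = ξ₀ a) ∧ (∀ a, ρ (s a) = ξ₁ a) := by
  obtain ⟨𝔮, h𝔮, ht, hs, hint⟩ := exists_prime_orbit_field s t p₀ p₁ c hct hP1 hP2 e hes het
    hker n π σ hπσ K ξ₀ ξ₁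
  haveI := h𝔮
  have hbij := IsAlgClosed.ringHom_bijective_of_isIntegral _ hint
  obtain ⟨ψ, hψ⟩ : ∃ ψ : K ≃+* (B ⊗[C] K) ⧸ 𝔮, ∀ l, ψ l =
      Ideal.Quotient.mk 𝔮 ((1 : B) ⊗ₜ[C] l) := ⟨RingEquiv.ofBijective _ hbij, fun l => rfl⟩
  refine ⟨(ψ.symm.toRingHom.comp (Ideal.Quotient.mk 𝔮)).comp
    (Algebra.TensorProduct.includeLeft : B →ₐ[C] B ⊗[C] K).toRingHom, fun a => ?_, fun a => ?_⟩
  · show ψ.symm (Ideal.Quotient.mk 𝔮 ((t a) ⊗ₜ[C] (1 : K))) = ξ₀ a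
    rw [(Ideal.Quotient.eq).mpr (ht a), ← hψ, RingEquiv.symm_apply_apply]
  · show ψ.symm (Ideal.Quotient.mk 𝔮 ((s a) ⊗ₜ[C] (1 : K))) = ξ₁ a
    rw [(Ideal.Quotient.eq).mpr (hs a), ← hψ, RingEquiv.symm_apply_apply]

end orbit

end Groth.Agent.H37.InvBC
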