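import Mathlib
import Groth.Agent.H37.InvBC2

/-!
# Extending a point with values in an algebraically closed field along an integral injection
-/

set_option autoImplicit false
universe u
open CategoryTheory CategoryTheory.Limits TensorProduct

namespace Groth.Agent.H37.InvBC

theorem exists_extension_algClosed {C A k : Type u} [CommRing C] [CommRing A] [Field k]
    [IsAlgClosed k] [Algebra C A] [Algebra.IsIntegral C A]
    (hinj : Function.Injective (algebraMap C A)) (μ : C →+* k) :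
    ∃ ξ : A →+* k, ∀ x, ξ (algebraMap C A x) = μ x := by
  letI : Algebra C k := μ.toAlgebra
  haveI : FaithfulSMul C A := (faithfulSMul_iff_algebraMap_injective C A).mpr hinj
  haveI : Nontrivial (k ⊗[C] A) := by
    by_contra hnt
    rw [not_nontrivial_iff_subsingleton] at hnt
    have h1 : (Algebra.TensorProduct.includeRight : k →ₐ[C] A ⊗[C] k) 1 = 0 := by
      apply (Algebra.TensorProduct.comm C A k).injective
      exact Subsingleton.elim _ _
    have h2 := nil_ker (Algebra.IsIntegral.comap_surjective C A) (1 : k) h1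
    exact one_ne_zero h2.eq_zero
  obtain ⟨𝔪, h𝔪⟩ := Ideal.exists_maximal (k ⊗[C] A)
  haveI := h𝔪
  letI : Field ((k ⊗[C] A) ⧸ 𝔪) := Ideal.Quotient.field 𝔪
  have hint : ((Ideal.Quotient.mk 𝔪).comp (algebraMap k (k ⊗[C] A))).IsIntegral :=
    RingHom.IsIntegral.trans _ _ (fun x => Algebra.IsIntegral.isIntegral x)
      (RingHom.isIntegral_of_surjective _ Ideal.Quotient.mk_surjective)
  have hbij := IsAlgClosed.ringHom_bijective_of_isIntegral _ hint
  obtain ⟨ψ, hψ⟩ : ∃ ψ : k ≃+* (k ⊗[C] A) ⧸ 𝔪, ∀ l, ψ l =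
      Ideal.Quotient.mk 𝔪 (l ⊗ₜ[C] (1 : A)) := ⟨RingEquiv.ofBijective _ hbij, fun l => rfl⟩
  refine ⟨(ψ.symm.toRingHom.comp (Ideal.Quotient.mk 𝔪)).comp
    (Algebra.TensorProduct.includeRight : A →ₐ[C] k ⊗[C] A).toRingHom, fun x => ?_⟩
  show ψ.symm (Ideal.Quotient.mk 𝔪 ((1 : k) ⊗ₜ[C] (algebraMap C A x))) = μ x
  have h3 : (1 : k) ⊗ₜ[C] (algebraMap C A x) = (μ x) ⊗ₜ[C] (1 : A) := by
    rw [Algebra.algebraMap_eq_smul_one, TensorProduct.tmul_smul, TensorProduct.smul_tmul',
      Algebra.smul_def, mul_one]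
    rfl
  rw [h3, ← hψ, RingEquiv.symm_apply_apply]

end Groth.Agent.H37.InvBC
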