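import Mathlib

/-!
# A nonzero rational function is a unit at almost all codimension one points (helper37, for S1920)
-/

set_option autoImplicit false
universe u
open CategoryTheory AlgebraicGeometry TopologicalSpace Opposite

namespace Groth.Agent.H37.KeyF1

variable {X : Scheme.{u}} [IsIntegral X]

/-- (F1), with `UnitAt` unfolded. -/
theorem finite_not_unitAt' [IsLocallyNoetherian X] (x : X) (ψ : X.functionField) (hψ : ψ ≠ 0) :
    ∃ U : X.Opens, x ∈ U ∧ {ξ : X | ξ ∈ U ∧ ringKrullDim (X.presheaf.stalk ξ) = 1 ∧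
      ¬ ∃ c : X.presheaf.stalk ξ, IsUnit c ∧
        algebraMap (X.presheaf.stalk ξ) X.functionField c = ψ}.Finite := by
  obtain ⟨V, hV, hxV, -⟩ := exists_isAffineOpen_mem_and_subset (x := x) (U := ⊤) (by trivial)
  haveI : Nonempty V := ⟨⟨x, hxV⟩⟩
  haveI : IsNoetherianRing Γ(X, V) := IsLocallyNoetherian.component_noetherian ⟨V, hV⟩
  haveI := functionField_isFractionRing_of_isAffineOpen X V hV
  obtain ⟨f1, f2, hf2, hψ12⟩ := IsFractionRing.div_surjective (A := Γ(X, V)) ψ
  have hf1 : f1 ≠ 0 := by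
    rintro rfl
    rw [map_zero, zero_div] at hψ12
    exact hψ hψ12.symm
  have hf : f1 * f2 ∈ nonZeroDivisors Γ(X, V) :=
    mul_mem (mem_nonZeroDivisors_of_ne_zero hf1) hf2
  have hfin := Ideal.finite_minimalPrimes_of_isNoetherianRing Γ(X, V) (Ideal.span {f1 * f2})
  refine ⟨V, hxV, ?_⟩
  have hfin' : {p : PrimeSpectrum Γ(X, V) |
      p.asIdeal ∈ (Ideal.span {f1 * f2}).minimalPrimes}.Finite :=
    hfin.preimage (fun p _ q _ h => PrimeSpectrum.ext h)
  refine (hfin'.image (fun p => hV.fromSpec p)).subset ?_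
  rintro ξ ⟨hξV, hdim, hnu⟩
  obtain ⟨y, rfl⟩ : ∃ y : V, y.1 = ξ := ⟨⟨ξ, hξV⟩, rfl⟩
  refine ⟨hV.primeIdealOf y, ?_, hV.fromSpec_primeIdealOf y⟩
  haveI hloc := hV.isLocalization_stalk y
  have hht : (hV.primeIdealOf y).asIdeal.height = 1 := by
    have h := IsLocalization.AtPrime.ringKrullDim_eq_height (hV.primeIdealOf y).asIdeal
      (X.presheaf.stalk y.1)
    rw [hdim] at h
    exact_mod_cast h.symm
  have hmem : f1 * f2 ∈ (hV.primeIdealOf y).asIdeal := by
    by_contra hnot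
    apply hnu
    have h1 : f1 ∈ (hV.primeIdealOf y).asIdeal.primeCompl :=
      fun h => hnot (Ideal.mul_mem_right _ _ h)
    have h2 : f2 ∈ (hV.primeIdealOf y).asIdeal.primeCompl :=
      fun h => hnot (Ideal.mul_mem_left _ _ h)
    have u1 : IsUnit (algebraMap Γ(X, V) (X.presheaf.stalk y.1) f1) :=
      IsLocalization.map_units (X.presheaf.stalk y.1) ⟨f1, h1⟩
    have u2 : IsUnit (algebraMap Γ(X, V) (X.presheaf.stalk y.1) f2) :=
      IsLocalization.map_units (X.presheaf.stalk y.1) ⟨f2, h2⟩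
    refine ⟨algebraMap Γ(X, V) (X.presheaf.stalk y.1) f1 * ↑(u2.unit⁻¹),
      u1.mul (Units.isUnit _), ?_⟩
    rw [map_mul, ← IsScalarTower.algebraMap_apply, ← hψ12, div_eq_mul_inv]
    congr 1
    apply eq_inv_of_mul_eq_one_left
    rw [IsScalarTower.algebraMap_apply Γ(X, V) (X.presheaf.stalk y.1) X.functionField f2,
      ← map_mul, IsUnit.val_inv_mul, map_one]
  haveI hfh : (hV.primeIdealOf y).asIdeal.FiniteHeight :=
    ⟨Or.inr (by rw [hht]; exact ENat.one_ne_top)⟩
  show (hV.primeIdealOf y).asIdeal ∈ (Ideal.span {f1 * f2}).minimalPrimes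
  refine Ideal.mem_minimalPrimes_of_height_le
    (Ideal.span_le.mpr (Set.singleton_subset_iff.mpr hmem)) ?_
  rw [hht]
  exact Ideal.one_le_height_span_singleton_of_mem_nonZeroDivisors hf

end Groth.Agent.H37.KeyF1
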