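import Groth.Agent.H37.KeyRelT5
import Groth.Agent.H16.KeyRelT2
import Groth.Agent.H84.KeyRelT4

/-!
# (T5) for the relative key formula, closed form (helper37, for helper34's squad)
-/

set_option autoImplicit false
set_option linter.style.haveILetI false
universe u
open CategoryTheory AlgebraicGeometry TopologicalSpace Opposite

namespace Groth.Agent.H37.KeyRelT5

open Groth.Agent.H34.Key Groth.Agent.H34.KeyRel

variable {X : Scheme.{u}}

open Classical in
/-- (T5) the key lemma on the closure of `ζ`, for elements of the local ring at `x`. -/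
theorem skl_elem_rel (δ : X → ℤ) (hX : Cyc.IsSetup X δ) {ζ x : X} (hx : ζ ⤳ x)
    (hδ : δ x + 2 = δ ζ) (a b : X.presheaf.stalk x)
    (ha : Cyc.specMap x ζ hx a ≠ 0) (hb : Cyc.specMap x ζ hx b ≠ 0) :
    ∑ᶠ ξ : X, (if h : ζ ⤳ ξ ∧ ξ ⤳ x ∧ δ x + 1 = δ ξ then
      Cyc.ordAt x ξ h.2.1 (resLQEquiv h.1 (CycAlg.tameSymbol (Cyc.LocQuot ξ ζ h.1)
        (Ideal.Quotient.mk (RingHom.ker (Cyc.specMap ξ ζ h.1))
          ((X.presheaf.stalkSpecializes h.2.1).hom a))
        (Ideal.Quotient.mk (RingHom.ker (Cyc.specMap ξ ζ h.1))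
          ((X.presheaf.stalkSpecializes h.2.1).hom b))))
      else 0) = 0 := by
  haveI : IsLocallyNoetherian X := hX.1
  exact skl_elem_rel_of δ hX
    (fun ζ x h => Groth.Agent.H16.KeyRelT2.exists_dim_locQuot δ hX h)
    (fun ζ ξ x h₁ h₂ hx hξ a b ha hb q _ hq =>
      Groth.Agent.H84.KeyRelT4.skl_term_rel h₁ h₂ hx hξ a b ha hb q hq)
    hx hδ a b ha hb

end Groth.Agent.H37.KeyRelT5
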