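import Mathlib

/-! (LEAD) for helper7's S14471 squad: leading coefficients in a DVR. -/

set_option autoImplicit false
universe u

namespace Groth.Agent.H37.LSO_LEAD

open IsDiscreteValuationRing in
/-- (LEAD) leading coefficients in a DVR whose residue field is the coefficient field. -/
theorem exists_lead {k O : Type u} [Field k] [CommRing O] [IsDomain O]
    [IsDiscreteValuationRing O] (ι : k →+* O)
    (hι : Function.Bijective ((IsLocalRing.residue O).comp ι)) (x y : O) (hx : x ≠ 0)
    (h : IsDiscreteValuationRing.addVal O x = IsDiscreteValuationRing.addVal O y) :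
    ∃ a : k, a ≠ 0 ∧
      IsDiscreteValuationRing.addVal O x < IsDiscreteValuationRing.addVal O (x - ι a * y) := by
  have hyx : y ∣ x := addVal_le_iff_dvd.mp h.ge
  have hxy : x ∣ y := addVal_le_iff_dvd.mp h.le
  obtain ⟨u, hu⟩ : Associated y x := associated_of_dvd_dvd hyx hxy
  have hy : y ≠ 0 := by
    rintro rfl
    apply hx
    rw [← hu, zero_mul]
  have hyT : addVal O y ≠ ⊤ := fun hT => hy (addVal_eq_top_iff.mp hT)
  have hru : IsLocalRing.residue O (u : O) ≠ 0 :=
    (u.isUnit.map (IsLocalRing.residue O)).ne_zero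
  obtain ⟨a, ha⟩ := hι.2 (IsLocalRing.residue O (u : O))
  have ha' : IsLocalRing.residue O (ι a) = IsLocalRing.residue O (u : O) := ha
  have ha0 : a ≠ 0 := by
    rintro rfl
    apply hru
    rw [← ha', map_zero, map_zero]
  refine ⟨a, ha0, ?_⟩
  have hmem : (u : O) - ι a ∈ IsLocalRing.maximalIdeal O := by
    rw [← IsLocalRing.residue_eq_zero_iff, map_sub, ha', sub_self]
  obtain ⟨ϖ, hϖ⟩ := IsDiscreteValuationRing.exists_irreducible O
  have hdvd : ϖ ∣ (u : O) - ι a := by
    rw [hϖ.maximalIdeal_eq] at hmem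
    exact Ideal.mem_span_singleton.mp hmem
  have h1 : (1 : ℕ∞) ≤ addVal O ((u : O) - ι a) := by
    rw [← addVal_uniformizer hϖ]
    exact addVal_le_iff_dvd.mpr hdvd
  have hfac : x - ι a * y = y * ((u : O) - ι a) := by
    rw [← hu]; ring
  rw [hfac, h, AddValuation.map_mul]
  exact (ENat.add_one_le_iff hyT).mp (add_le_add le_rfl h1)

end Groth.Agent.H37.LSO_LEAD
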