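import Mathlib.AlgebraicGeometry.Sites.Etale
import Mathlib.AlgebraicGeometry.Sites.Fpqc
import Mathlib.AlgebraicGeometry.Morphisms.UniversallyOpen
import Mathlib.CategoryTheory.MorphismProperty.Local

/-!
# The largest open on which a morphism has a property local on the source
-/

set_option autoImplicit false
universe u
open CategoryTheory AlgebraicGeometry MorphismProperty

namespace Groth.Agent.H37

variable {Q : MorphismProperty Scheme.{u}}

/-- If `P` is local at the source for the precoverage of jointly surjective families of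
`Q`-morphisms and identities are `Q`, then `P` is stable under precomposition with `Q`-morphisms. -/
lemma comp_of_Q (hQid : ∀ X : Scheme.{u}, Q (𝟙 X)) (P : MorphismProperty Scheme.{u})
    [P.IsLocalAtSource (Scheme.precoverage Q)] {U X Y : Scheme.{u}} (g : U ⟶ X) (hg : Q g)
    (f : X ⟶ Y) (hf : P f) : P (g ≫ f) := by
  let Z : Bool → Scheme.{u} := fun b => cond b U X
  let φ : ∀ b, Z b ⟶ X := fun b =>
    match b with
    | false => 𝟙 X
    | true => g
  have hR : Presieve.ofArrows Z φ ∈ Scheme.precoverage Q X := by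
    rw [Scheme.ofArrows_mem_precoverage_iff]
    refine ⟨fun x => ⟨false, ⟨x, ?_⟩⟩, fun b => ?_⟩
    · show (𝟙 X : X ⟶ X) x = x
      simp
    · cases b
      · exact hQid X
      · exact hg
  exact IsLocalAtSource.comp hR (φ true) (Presieve.ofArrows.mk true) hf

theorem largest_open_of_localAtSource
    [Q.IsStableUnderComposition] [Q.IsStableUnderBaseChange]
    (hQoi : ∀ {X Y : Scheme.{u}} (f : X ⟶ Y), IsOpenImmersion f → Q f)
    (hQom : ∀ {X Y : Scheme.{u}} (g : X ⟶ Y), Q g → IsOpenMap g)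
    (P : MorphismProperty Scheme.{u}) [P.IsLocalAtSource (Scheme.precoverage Q)]
    {X Y : Scheme.{u}} (f : X ⟶ Y) :
    ∃ W : X.Opens, (P (W.ι ≫ f) ∧ ∀ W' : X.Opens, P (W'.ι ≫ f) → W' ≤ W) ∧
      ∀ (X' : Scheme.{u}) (g : X' ⟶ X), Q g → ∀ (V : X'.Opens),
        (P (V.ι ≫ g ≫ f) ∧ ∀ V' : X'.Opens, P (V'.ι ≫ g ≫ f) → V' ≤ V) → V = g ⁻¹ᵁ W := by
  have hQid : ∀ X : Scheme.{u}, Q (𝟙 X) := fun X => hQoi _ inferInstance
  let S : Set X.Opens := {W' | P (W'.ι ≫ f)}
  let W : X.Opens := sSup S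
  have hWmax : ∀ W' : X.Opens, P (W'.ι ≫ f) → W' ≤ W := fun W' h => le_sSup h
  have hW : P (W.ι ≫ f) := by
    let Z : S → Scheme.{u} := fun W' => (W'.1 : Scheme.{u})
    let φ : ∀ W' : S, Z W' ⟶ (W : Scheme.{u}) := fun W' => X.homOfLE (le_sSup W'.2)
    have hR : Presieve.ofArrows Z φ ∈ Scheme.precoverage Q (W : Scheme.{u}) := by
      rw [Scheme.ofArrows_mem_precoverage_iff]
      refine ⟨fun x => ?_, fun W' => hQoi _ inferInstance⟩
      have hx : x.1 ∈ sSup S := x.2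
      obtain ⟨W', hW', hxW'⟩ := TopologicalSpace.Opens.mem_sSup.mp hx
      refine ⟨⟨W', hW'⟩, ⟨⟨x.1, hxW'⟩, ?_⟩⟩
      exact Subtype.ext (Scheme.homOfLE_apply _ _)
    refine IsLocalAtSource.of_forall_comp hR ?_
    rintro U g ⟨W'⟩
    show P (X.homOfLE _ ≫ W.ι ≫ f)
    rw [Scheme.homOfLE_ι_assoc]
    exact W'.2
  refine ⟨W, ⟨hW, hWmax⟩, ?_⟩
  rintro X' g hg V ⟨hV, hVmax⟩
  apply le_antisymm
  · -- V ≤ g⁻¹ W
    let V0 : X.Opens := ⟨g.base '' (V : Set X'), hQom g hg _ V.2⟩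
    have hVV0 : V ≤ g ⁻¹ᵁ V0 := fun x hx => ⟨x, hx, rfl⟩
    let h : (V : Scheme.{u}) ⟶ (V0 : Scheme.{u}) := X'.homOfLE hVV0 ≫ g ∣_ V0
    have hh : h ≫ V0.ι = V.ι ≫ g := by
      simp only [h, Category.assoc, morphismRestrict_ι, Scheme.homOfLE_ι_assoc]
    have hQh : Q h := Q.comp_mem _ _ (hQoi _ inferInstance)
      (Q.of_isPullback (isPullback_morphismRestrict g V0).flip hg)
    have hsurj : Function.Surjective h.base := by
      intro y
      have hy : y.1 ∈ g.base '' (V : Set X') := y.2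
      obtain ⟨x, hx, hxy⟩ := hy
      refine ⟨⟨x, hx⟩, ?_⟩
      apply Subtype.ext
      have e : (h ≫ V0.ι) ⟨x, hx⟩ = (V.ι ≫ g) ⟨x, hx⟩ := by rw [hh]
      simp only [Scheme.Hom.comp_apply, Scheme.Opens.ι_apply] at e
      exact e.trans hxy
    have hR : Presieve.singleton h ∈ Scheme.precoverage Q (V0 : Scheme.{u}) := by
      rw [Scheme.singleton_mem_precoverage_iff]
      exact ⟨hsurj, hQh⟩
    have hPV0 : P (V0.ι ≫ f) := by
      refine IsLocalAtSource.of_forall_comp hR ?_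
      rintro U k ⟨⟩
      rw [← Category.assoc, hh, Category.assoc]
      exact hV
    have hle : V0 ≤ W := hWmax V0 hPV0
    exact hVV0.trans (fun x hx => hle hx)
  · -- g⁻¹ W ≤ V
    apply hVmax
    have e : (g ⁻¹ᵁ W).ι ≫ g ≫ f = (g ∣_ W) ≫ W.ι ≫ f := by
      rw [← Category.assoc, ← morphismRestrict_ι, Category.assoc]
    rw [e]
    exact comp_of_Q hQid P _ (Q.of_isPullback (isPullback_morphismRestrict g W).flip hg) _ hW

end Groth.Agent.H37
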