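import Mathlib

/-!
Generic "weighted root extraction" property of commutative rings and its Zariski-local nature:
it passes to localizations `A_f` and glues along a finite family generating the unit ideal.
Instances: seminormal rings (`x^3 = y^2 → ∃! a, x = a^2 ∧ y = a^3`) and the `p`-part of absolute
weak normality (`p^p x = y^p → ∃! a, x = a^p ∧ y = p a`).
-/

set_option autoImplicit false
universe u

namespace Groth.Agent.H37.LocGlue

/-- The weighted root extraction property with weights `w1 w2`, constants `c1 c2`, and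
constraint `d0 * x^e1 = y^e2`. -/
def P (w1 w2 c1 c2 d0 e1 e2 : ℕ) (R : Type u) [CommRing R] : Prop :=
  ∀ x y : R, (d0 : R) * x ^ e1 = y ^ e2 →
    ∃! a : R, x = (c1 : R) * a ^ w1 ∧ y = (c2 : R) * a ^ w2

variable {w1 w2 c1 c2 d0 e1 e2 : ℕ}

theorem uniq_of_P (hD : w1 * e1 = w2 * e2) (hC : d0 * c1 ^ e1 = c2 ^ e2)
    {R : Type u} [CommRing R] (h : P w1 w2 c1 c2 d0 e1 e2 R) (u v : R)
    (h1 : (c1 : R) * u ^ w1 = (c1 : R) * v ^ w1) (h2 : (c2 : R) * u ^ w2 = (c2 : R) * v ^ w2) :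
    u = v := by
  have hC' : (d0 : R) * (c1 : R) ^ e1 = (c2 : R) ^ e2 := by
    exact_mod_cast congrArg (Nat.cast : ℕ → R) hC
  have hcons : (d0 : R) * ((c1 : R) * u ^ w1) ^ e1 = ((c2 : R) * u ^ w2) ^ e2 := by
    calc (d0 : R) * ((c1 : R) * u ^ w1) ^ e1
        = ((d0 : R) * (c1 : R) ^ e1) * u ^ (w1 * e1) := by ring
      _ = (c2 : R) ^ e2 * u ^ (w2 * e2) := by rw [hC', hD]
      _ = ((c2 : R) * u ^ w2) ^ e2 := by ring
  obtain ⟨a, _, ha⟩ := h _ _ hcons
  exact (ha u ⟨rfl, rfl⟩).trans (ha v ⟨h1, h2⟩).symm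

section away

variable {A B : Type u} [CommRing A] [CommRing B] [Algebra A B]

theorem cancel_pow (f : A) [IsLocalization.Away f B] (j : ℕ) {U V : B}
    (h : U * algebraMap A B f ^ j = V * algebraMap A B f ^ j) : U = V :=
  (IsLocalization.Away.algebraMap_pow_isUnit f j).mul_left_injective h

theorem uniq_away (hD : w1 * e1 = w2 * e2) (hC : d0 * c1 ^ e1 = c2 ^ e2)
    (f : A) [IsLocalization.Away f B] (hw1 : 0 < w1) (hw2 : 0 < w2)
    (h : P w1 w2 c1 c2 d0 e1 e2 A) (U V : B)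
    (h1 : (c1 : B) * U ^ w1 = (c1 : B) * V ^ w1) (h2 : (c2 : B) * U ^ w2 = (c2 : B) * V ^ w2) :
    U = V := by
  obtain ⟨n, u0, hu0⟩ := IsLocalization.Away.surj f U
  obtain ⟨m, v0, hv0⟩ := IsLocalization.Away.surj f V
  obtain ⟨u, hu⟩ : ∃ u : A, U * algebraMap A B f ^ (n + m) = algebraMap A B u :=
    ⟨u0 * f ^ m, by rw [map_mul, map_pow, ← hu0, pow_add]; ring⟩
  obtain ⟨v, hv⟩ : ∃ v : A, V * algebraMap A B f ^ (n + m) = algebraMap A B v :=
    ⟨v0 * f ^ n, by rw [map_mul, map_pow, ← hv0, pow_add]; ring⟩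
  have q1 : algebraMap A B ((c1 : A) * u ^ w1) = algebraMap A B ((c1 : A) * v ^ w1) := by
    calc algebraMap A B ((c1 : A) * u ^ w1) = (c1 : B) * (algebraMap A B u) ^ w1 := by
          simp only [map_mul, map_pow, map_natCast]
      _ = (c1 : B) * (U * algebraMap A B f ^ (n + m)) ^ w1 := by rw [hu]
      _ = ((c1 : B) * U ^ w1) * algebraMap A B f ^ ((n + m) * w1) := by ring
      _ = ((c1 : B) * V ^ w1) * algebraMap A B f ^ ((n + m) * w1) := by rw [h1]
      _ = (c1 : B) * (V * algebraMap A B f ^ (n + m)) ^ w1 := by ring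
      _ = (c1 : B) * (algebraMap A B v) ^ w1 := by rw [hv]
      _ = algebraMap A B ((c1 : A) * v ^ w1) := by simp only [map_mul, map_pow, map_natCast]
  have q2 : algebraMap A B ((c2 : A) * u ^ w2) = algebraMap A B ((c2 : A) * v ^ w2) := by
    calc algebraMap A B ((c2 : A) * u ^ w2) = (c2 : B) * (algebraMap A B u) ^ w2 := by
          simp only [map_mul, map_pow, map_natCast]
      _ = (c2 : B) * (U * algebraMap A B f ^ (n + m)) ^ w2 := by rw [hu]
      _ = ((c2 : B) * U ^ w2) * algebraMap A B f ^ ((n + m) * w2) := by ring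
      _ = ((c2 : B) * V ^ w2) * algebraMap A B f ^ ((n + m) * w2) := by rw [h2]
      _ = (c2 : B) * (V * algebraMap A B f ^ (n + m)) ^ w2 := by ring
      _ = (c2 : B) * (algebraMap A B v) ^ w2 := by rw [hv]
      _ = algebraMap A B ((c2 : A) * v ^ w2) := by simp only [map_mul, map_pow, map_natCast]
  obtain ⟨k1, hk1⟩ := IsLocalization.Away.exists_of_eq (S := B) f q1
  obtain ⟨k2, hk2⟩ := IsLocalization.Away.exists_of_eq (S := B) f q2
  obtain ⟨r1, hr1⟩ : ∃ r, (k1 + k2) * w1 = k1 + r :=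
    Nat.exists_eq_add_of_le (le_trans (Nat.le_add_right k1 k2) (Nat.le_mul_of_pos_right _ hw1))
  obtain ⟨r2, hr2⟩ : ∃ r, (k1 + k2) * w2 = k2 + r :=
    Nat.exists_eq_add_of_le (le_trans (Nat.le_add_left k2 k1) (Nat.le_mul_of_pos_right _ hw2))
  have key1 : ∀ t : A, (c1 : A) * (f ^ (k1 + k2) * t) ^ w1 = f ^ r1 * (f ^ k1 * ((c1 : A) * t ^ w1)) := by
    intro t
    calc (c1 : A) * (f ^ (k1 + k2) * t) ^ w1 = f ^ ((k1 + k2) * w1) * ((c1 : A) * t ^ w1) := by ring
      _ = f ^ r1 * (f ^ k1 * ((c1 : A) * t ^ w1)) := by rw [hr1, pow_add]; ring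
  have key2 : ∀ t : A, (c2 : A) * (f ^ (k1 + k2) * t) ^ w2 = f ^ r2 * (f ^ k2 * ((c2 : A) * t ^ w2)) := by
    intro t
    calc (c2 : A) * (f ^ (k1 + k2) * t) ^ w2 = f ^ ((k1 + k2) * w2) * ((c2 : A) * t ^ w2) := by ring
      _ = f ^ r2 * (f ^ k2 * ((c2 : A) * t ^ w2)) := by rw [hr2, pow_add]; ring
  have huv : f ^ (k1 + k2) * u = f ^ (k1 + k2) * v := by
    apply uniq_of_P hD hC h
    · rw [key1 u, key1 v, hk1]
    · rw [key2 u, key2 v, hk2]
  have h3 : algebraMap A B u = algebraMap A B v := by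
    have := congrArg (algebraMap A B) huv
    rw [map_mul, map_mul, map_pow] at this
    exact (IsLocalization.Away.algebraMap_pow_isUnit f (k1 + k2)).mul_right_injective this
  exact cancel_pow f (n + m) (by rw [hu, hv, h3])

theorem P_away (hD : w1 * e1 = w2 * e2) (hC : d0 * c1 ^ e1 = c2 ^ e2)
    (f : A) [IsLocalization.Away f B] (hw1 : 0 < w1) (hw2 : 0 < w2) (he1 : 0 < e1)
    (h : P w1 w2 c1 c2 d0 e1 e2 A) : P w1 w2 c1 c2 d0 e1 e2 B := by
  intro X Y hXY
  obtain ⟨n, x0, hx0⟩ := IsLocalization.Away.surj f X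
  obtain ⟨m, y0, hy0⟩ := IsLocalization.Away.surj f Y
  obtain ⟨r1, hr1⟩ : ∃ r, w1 * (n + m) = n + r :=
    Nat.exists_eq_add_of_le (le_trans (Nat.le_add_right n m) (Nat.le_mul_of_pos_left _ hw1))
  obtain ⟨r2, hr2⟩ : ∃ r, w2 * (n + m) = m + r :=
    Nat.exists_eq_add_of_le (le_trans (Nat.le_add_left m n) (Nat.le_mul_of_pos_left _ hw2))
  obtain ⟨x1, hx1⟩ : ∃ x1 : A, X * algebraMap A B f ^ (w1 * (n + m)) = algebraMap A B x1 :=
    ⟨x0 * f ^ r1, by rw [hr1, pow_add, ← mul_assoc, hx0, map_mul, map_pow]⟩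
  obtain ⟨y1, hy1⟩ : ∃ y1 : A, Y * algebraMap A B f ^ (w2 * (n + m)) = algebraMap A B y1 :=
    ⟨y0 * f ^ r2, by rw [hr2, pow_add, ← mul_assoc, hy0, map_mul, map_pow]⟩
  have hc : algebraMap A B ((d0 : A) * x1 ^ e1) = algebraMap A B (y1 ^ e2) := by
    calc algebraMap A B ((d0 : A) * x1 ^ e1) = (d0 : B) * (algebraMap A B x1) ^ e1 := by
          simp only [map_mul, map_pow, map_natCast]
      _ = (d0 : B) * (X * algebraMap A B f ^ (w1 * (n + m))) ^ e1 := by rw [hx1]
      _ = ((d0 : B) * X ^ e1) * algebraMap A B f ^ ((w1 * e1) * (n + m)) := by ring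
      _ = Y ^ e2 * algebraMap A B f ^ ((w2 * e2) * (n + m)) := by rw [hXY, hD]
      _ = (Y * algebraMap A B f ^ (w2 * (n + m))) ^ e2 := by ring
      _ = (algebraMap A B y1) ^ e2 := by rw [hy1]
      _ = algebraMap A B (y1 ^ e2) := by simp only [map_pow]
  obtain ⟨k, hk⟩ := IsLocalization.Away.exists_of_eq (S := B) f hc
  have hDpos : 0 < w1 * e1 := Nat.mul_pos hw1 he1
  obtain ⟨r, hr⟩ : ∃ r, (w1 * e1) * k = k + r :=
    Nat.exists_eq_add_of_le (Nat.le_mul_of_pos_left _ hDpos)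
  have hcons : (d0 : A) * (x1 * f ^ (w1 * k)) ^ e1 = (y1 * f ^ (w2 * k)) ^ e2 := by
    calc (d0 : A) * (x1 * f ^ (w1 * k)) ^ e1 = f ^ ((w1 * e1) * k) * ((d0 : A) * x1 ^ e1) := by ring
      _ = f ^ r * (f ^ k * ((d0 : A) * x1 ^ e1)) := by rw [hr, pow_add]; ring
      _ = f ^ r * (f ^ k * y1 ^ e2) := by rw [hk]
      _ = f ^ ((w1 * e1) * k) * y1 ^ e2 := by rw [hr, pow_add]; ring
      _ = (y1 * f ^ (w2 * k)) ^ e2 := by rw [hD]; ring
  obtain ⟨a0, ⟨ha1, ha2⟩, -⟩ := h _ _ hcons
  obtain ⟨Finv, hFi⟩ : ∃ Finv : B, algebraMap A B f * Finv = 1 :=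
    ⟨IsLocalization.Away.invSelf f, IsLocalization.Away.mul_invSelf f⟩
  have hX : X = (c1 : B) * (algebraMap A B a0 * Finv ^ (n + m + k)) ^ w1 := by
    apply cancel_pow f (w1 * (n + m + k))
    calc X * algebraMap A B f ^ (w1 * (n + m + k))
        = (X * algebraMap A B f ^ (w1 * (n + m))) * algebraMap A B f ^ (w1 * k) := by ring
      _ = algebraMap A B (x1 * f ^ (w1 * k)) := by rw [hx1]; simp only [map_mul, map_pow]
      _ = algebraMap A B ((c1 : A) * a0 ^ w1) := by rw [← ha1]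
      _ = (c1 : B) * (algebraMap A B a0) ^ w1 := by simp only [map_mul, map_pow, map_natCast]
      _ = (c1 : B) * (algebraMap A B a0) ^ w1 * (algebraMap A B f * Finv) ^ (w1 * (n + m + k)) := by
          rw [hFi, one_pow, mul_one]
      _ = (c1 : B) * (algebraMap A B a0 * Finv ^ (n + m + k)) ^ w1 *
            algebraMap A B f ^ (w1 * (n + m + k)) := by ring
  have hY : Y = (c2 : B) * (algebraMap A B a0 * Finv ^ (n + m + k)) ^ w2 := by
    apply cancel_pow f (w2 * (n + m + k))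
    calc Y * algebraMap A B f ^ (w2 * (n + m + k))
        = (Y * algebraMap A B f ^ (w2 * (n + m))) * algebraMap A B f ^ (w2 * k) := by ring
      _ = algebraMap A B (y1 * f ^ (w2 * k)) := by rw [hy1]; simp only [map_mul, map_pow]
      _ = algebraMap A B ((c2 : A) * a0 ^ w2) := by rw [← ha2]
      _ = (c2 : B) * (algebraMap A B a0) ^ w2 := by simp only [map_mul, map_pow, map_natCast]
      _ = (c2 : B) * (algebraMap A B a0) ^ w2 * (algebraMap A B f * Finv) ^ (w2 * (n + m + k)) := by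
          rw [hFi, one_pow, mul_one]
      _ = (c2 : B) * (algebraMap A B a0 * Finv ^ (n + m + k)) ^ w2 *
            algebraMap A B f ^ (w2 * (n + m + k)) := by ring
  exact ⟨_, ⟨hX, hY⟩, fun a' ha' =>
    uniq_away hD hC f hw1 hw2 h a' _ (ha'.1.symm.trans hX) (ha'.2.symm.trans hY)⟩

end away

theorem P_of_span (hD : w1 * e1 = w2 * e2) (hC : d0 * c1 ^ e1 = c2 ^ e2)
    (hw1 : 0 < w1) (hw2 : 0 < w2) {A : Type u} [CommRing A] (s : Finset A)
    (hs : Ideal.span (s : Set A) = ⊤)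
    (H : ∀ f ∈ s, P w1 w2 c1 c2 d0 e1 e2 (Localization.Away f)) :
    P w1 w2 c1 c2 d0 e1 e2 A := by
  have hzero : ∀ z : A, (∀ f ∈ s, ∃ n : ℕ, f ^ n * z = 0) → z = 0 := by
    intro z hz
    have := Submodule.mem_of_span_eq_top_of_smul_pow_mem (⊥ : Submodule A A) (s : Set A) hs z
      (fun r => by
        obtain ⟨n, hn⟩ := hz r.1 (Finset.mem_coe.mp r.2)
        exact ⟨n, by rw [Submodule.mem_bot, smul_eq_mul]; exact hn⟩)
    simpa using this
  have hU : ∀ u v : A, (c1 : A) * u ^ w1 = (c1 : A) * v ^ w1 →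
      (c2 : A) * u ^ w2 = (c2 : A) * v ^ w2 → u = v := by
    intro u v h1 h2
    have : u - v = 0 := by
      apply hzero
      intro f hf
      have hloc : algebraMap A (Localization.Away f) u = algebraMap A (Localization.Away f) v := by
        apply uniq_of_P hD hC (H f hf)
        · have := congrArg (algebraMap A (Localization.Away f)) h1
          simpa only [map_mul, map_pow, map_natCast] using this
        · have := congrArg (algebraMap A (Localization.Away f)) h2
          simpa only [map_mul, map_pow, map_natCast] using this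
      obtain ⟨k, hk⟩ := IsLocalization.Away.exists_of_eq (S := Localization.Away f) f hloc
      exact ⟨k, by rw [mul_sub, hk, sub_self]⟩
    exact sub_eq_zero.mp this
  intro x y hxy
  have step1 : ∀ f ∈ s, ∃ (n : ℕ) (b : A), (c1 : A) * b ^ w1 = x * f ^ (w1 * n) ∧
      (c2 : A) * b ^ w2 = y * f ^ (w2 * n) := by
    intro f hf
    have hxy' : (d0 : Localization.Away f) * (algebraMap A (Localization.Away f) x) ^ e1 =
        (algebraMap A (Localization.Away f) y) ^ e2 := by
      have := congrArg (algebraMap A (Localization.Away f)) hxy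
      simpa only [map_mul, map_pow, map_natCast] using this
    obtain ⟨af, ⟨haf1, haf2⟩, -⟩ := H f hf _ _ hxy'
    obtain ⟨m, b0, hb0⟩ := IsLocalization.Away.surj f af
    have q1 : algebraMap A (Localization.Away f) ((c1 : A) * b0 ^ w1) =
        algebraMap A (Localization.Away f) (x * f ^ (m * w1)) := by
      calc algebraMap A (Localization.Away f) ((c1 : A) * b0 ^ w1)
          = (c1 : Localization.Away f) * (algebraMap A (Localization.Away f) b0) ^ w1 := by
            simp only [map_mul, map_pow, map_natCast]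
        _ = (c1 : Localization.Away f) * (af * algebraMap A (Localization.Away f) f ^ m) ^ w1 := by
            rw [hb0]
        _ = ((c1 : Localization.Away f) * af ^ w1) *
              algebraMap A (Localization.Away f) f ^ (m * w1) := by ring
        _ = algebraMap A (Localization.Away f) x *
              algebraMap A (Localization.Away f) f ^ (m * w1) := by rw [← haf1]
        _ = algebraMap A (Localization.Away f) (x * f ^ (m * w1)) := by
            simp only [map_mul, map_pow]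
    have q2 : algebraMap A (Localization.Away f) ((c2 : A) * b0 ^ w2) =
        algebraMap A (Localization.Away f) (y * f ^ (m * w2)) := by
      calc algebraMap A (Localization.Away f) ((c2 : A) * b0 ^ w2)
          = (c2 : Localization.Away f) * (algebraMap A (Localization.Away f) b0) ^ w2 := by
            simp only [map_mul, map_pow, map_natCast]
        _ = (c2 : Localization.Away f) * (af * algebraMap A (Localization.Away f) f ^ m) ^ w2 := by
            rw [hb0]
        _ = ((c2 : Localization.Away f) * af ^ w2) *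
              algebraMap A (Localization.Away f) f ^ (m * w2) := by ring
        _ = algebraMap A (Localization.Away f) y *
              algebraMap A (Localization.Away f) f ^ (m * w2) := by rw [← haf2]
        _ = algebraMap A (Localization.Away f) (y * f ^ (m * w2)) := by
            simp only [map_mul, map_pow]
    obtain ⟨k1, hk1⟩ := IsLocalization.Away.exists_of_eq (S := Localization.Away f) f q1
    obtain ⟨k2, hk2⟩ := IsLocalization.Away.exists_of_eq (S := Localization.Away f) f q2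
    obtain ⟨r1, hr1⟩ : ∃ r, (k1 + k2) * w1 = k1 + r :=
      Nat.exists_eq_add_of_le (le_trans (Nat.le_add_right k1 k2) (Nat.le_mul_of_pos_right _ hw1))
    obtain ⟨r2, hr2⟩ : ∃ r, (k1 + k2) * w2 = k2 + r :=
      Nat.exists_eq_add_of_le (le_trans (Nat.le_add_left k2 k1) (Nat.le_mul_of_pos_right _ hw2))
    refine ⟨m + (k1 + k2), b0 * f ^ (k1 + k2), ?_, ?_⟩
    · calc (c1 : A) * (b0 * f ^ (k1 + k2)) ^ w1
          = f ^ ((k1 + k2) * w1) * ((c1 : A) * b0 ^ w1) := by ring
        _ = f ^ r1 * (f ^ k1 * ((c1 : A) * b0 ^ w1)) := by rw [hr1, pow_add]; ring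
        _ = f ^ r1 * (f ^ k1 * (x * f ^ (m * w1))) := by rw [hk1]
        _ = x * f ^ (m * w1) * f ^ ((k1 + k2) * w1) := by rw [hr1, pow_add]; ring
        _ = x * f ^ (w1 * (m + (k1 + k2))) := by ring
    · calc (c2 : A) * (b0 * f ^ (k1 + k2)) ^ w2
          = f ^ ((k1 + k2) * w2) * ((c2 : A) * b0 ^ w2) := by ring
        _ = f ^ r2 * (f ^ k2 * ((c2 : A) * b0 ^ w2)) := by rw [hr2, pow_add]; ring
        _ = f ^ r2 * (f ^ k2 * (y * f ^ (m * w2))) := by rw [hk2]
        _ = y * f ^ (m * w2) * f ^ ((k1 + k2) * w2) := by rw [hr2, pow_add]; ring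
        _ = y * f ^ (w2 * (m + (k1 + k2))) := by ring
  choose! n b hb using step1
  obtain ⟨N, hN⟩ : ∃ N : ℕ, N = ∑ f ∈ s, n f := ⟨_, rfl⟩
  have hnN : ∀ f ∈ s, n f ≤ N := fun f hf => by
    rw [hN]; exact Finset.single_le_sum (f := n) (fun _ _ => Nat.zero_le _) hf
  obtain ⟨b', hb'def⟩ : ∃ b' : A → A, ∀ f, b' f = b f * f ^ (N - n f) := ⟨_, fun _ => rfl⟩
  have hb' : ∀ f ∈ s, (c1 : A) * (b' f) ^ w1 = x * f ^ (w1 * N) ∧
      (c2 : A) * (b' f) ^ w2 = y * f ^ (w2 * N) := by
    intro f hf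
    have hNf : n f + (N - n f) = N := Nat.add_sub_cancel' (hnN f hf)
    rw [hb'def]
    constructor
    · calc (c1 : A) * (b f * f ^ (N - n f)) ^ w1
          = ((c1 : A) * (b f) ^ w1) * f ^ ((N - n f) * w1) := by ring
        _ = x * f ^ (w1 * n f) * f ^ ((N - n f) * w1) := by rw [(hb f hf).1]
        _ = x * f ^ (w1 * (n f + (N - n f))) := by ring
        _ = x * f ^ (w1 * N) := by rw [hNf]
    · calc (c2 : A) * (b f * f ^ (N - n f)) ^ w2
          = ((c2 : A) * (b f) ^ w2) * f ^ ((N - n f) * w2) := by ring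
        _ = y * f ^ (w2 * n f) * f ^ ((N - n f) * w2) := by rw [(hb f hf).2]
        _ = y * f ^ (w2 * (n f + (N - n f))) := by ring
        _ = y * f ^ (w2 * N) := by rw [hNf]
  have hcompat : ∀ f ∈ s, ∀ g ∈ s, b' f * g ^ N = b' g * f ^ N := by
    intro f hf g hg
    apply hU
    · calc (c1 : A) * (b' f * g ^ N) ^ w1 = ((c1 : A) * (b' f) ^ w1) * g ^ (w1 * N) := by ring
        _ = x * f ^ (w1 * N) * g ^ (w1 * N) := by rw [(hb' f hf).1]
        _ = (x * g ^ (w1 * N)) * f ^ (w1 * N) := by ring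
        _ = ((c1 : A) * (b' g) ^ w1) * f ^ (w1 * N) := by rw [(hb' g hg).1]
        _ = (c1 : A) * (b' g * f ^ N) ^ w1 := by ring
    · calc (c2 : A) * (b' f * g ^ N) ^ w2 = ((c2 : A) * (b' f) ^ w2) * g ^ (w2 * N) := by ring
        _ = y * f ^ (w2 * N) * g ^ (w2 * N) := by rw [(hb' f hf).2]
        _ = (y * g ^ (w2 * N)) * f ^ (w2 * N) := by ring
        _ = ((c2 : A) * (b' g) ^ w2) * f ^ (w2 * N) := by rw [(hb' g hg).2]
        _ = (c2 : A) * (b' g * f ^ N) ^ w2 := by ring
  have hspan := Ideal.span_range_pow_eq_top (s : Set A) hs (fun _ => N)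
  have h1mem : (1 : A) ∈ Ideal.span (Set.range fun x : (s : Set A) => (x : A) ^ N) := by
    rw [hspan]; trivial
  obtain ⟨c, hc⟩ := Ideal.mem_span_range_iff_exists_fun.mp h1mem
  obtain ⟨a, ha⟩ : ∃ a : A, a = ∑ i, c i * b' (i : A) := ⟨_, rfl⟩
  have hfa : ∀ f ∈ s, f ^ N * a = b' f := by
    intro f hf
    calc f ^ N * a = ∑ i, c i * (b' (i : A) * f ^ N) := by
          rw [ha, Finset.mul_sum]; exact Finset.sum_congr rfl (fun i _ => by ring)
      _ = ∑ i, c i * (b' f * (i : A) ^ N) :=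
          Finset.sum_congr rfl (fun i _ => by rw [hcompat i (Finset.mem_coe.mp i.2) f hf])
      _ = b' f * ∑ i, c i * (i : A) ^ N := by
          rw [Finset.mul_sum]; exact Finset.sum_congr rfl (fun i _ => by ring)
      _ = b' f := by rw [hc, mul_one]
  have hx : x = (c1 : A) * a ^ w1 := by
    have : (c1 : A) * a ^ w1 - x = 0 := by
      apply hzero
      intro f hf
      refine ⟨w1 * N, ?_⟩
      calc f ^ (w1 * N) * ((c1 : A) * a ^ w1 - x)
          = (c1 : A) * (f ^ N * a) ^ w1 - x * f ^ (w1 * N) := by ring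
        _ = 0 := by rw [hfa f hf, (hb' f hf).1, sub_self]
    exact (sub_eq_zero.mp this).symm
  have hy : y = (c2 : A) * a ^ w2 := by
    have : (c2 : A) * a ^ w2 - y = 0 := by
      apply hzero
      intro f hf
      refine ⟨w2 * N, ?_⟩
      calc f ^ (w2 * N) * ((c2 : A) * a ^ w2 - y)
          = (c2 : A) * (f ^ N * a) ^ w2 - y * f ^ (w2 * N) := by ring
        _ = 0 := by rw [hfa f hf, (hb' f hf).2, sub_self]
    exact (sub_eq_zero.mp this).symm
  exact ⟨a, ⟨hx, hy⟩, fun a' ha' => hU a' a (ha'.1.symm.trans hx) (ha'.2.symm.trans hy)⟩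

end Groth.Agent.H37.LocGlue
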