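import Mathlib

/-!
# Properties local on the target for the Zariski/étale/smooth/fppf topology: largest opens

If `f : X ⟶ U` has two base changes, along `s` and along `t`, which are isomorphic over `R`, and
`W` is the largest open of `U` over which `f` has `P`, then `t⁻¹ W ≤ s⁻¹ W`.
-/

set_option autoImplicit false
universe u
open CategoryTheory CategoryTheory.Limits AlgebraicGeometry

namespace Groth.Agent.H37.LocTarget

section
variable {P : MorphismProperty Scheme.{u}} {K : Precoverage Scheme.{u}} [P.IsLocalAtTarget K]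

lemma P_snd_of_isPullback {X Y X' Y' : Scheme.{u}} {f : X ⟶ Y} {g : Y' ⟶ Y} {a : X' ⟶ X}
    {b : X' ⟶ Y'} (sq : IsPullback a b f g) (hg : Presieve.singleton g ∈ K Y) (hf : P f) :
    P b := by
  haveI : HasPullback f g := sq.hasPullback
  rw [← P.cancel_left_of_respectsIso sq.isoPullback.inv, sq.isoPullback_inv_snd]
  exact MorphismProperty.IsLocalAtTarget.pullbackSnd hg Presieve.singleton.mk hf

lemma P_of_isPullback_snd {X Y X' Y' : Scheme.{u}} {f : X ⟶ Y} {g : Y' ⟶ Y} {a : X' ⟶ X}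
    {b : X' ⟶ Y'} (sq : IsPullback a b f g) (hg : Presieve.singleton g ∈ K Y) (hb : P b) :
    P f := by
  refine MorphismProperty.IsLocalAtTarget.of_forall_pullbackSnd hg ?_
  intro U g' _ hg'
  cases hg'
  rw [← P.cancel_left_of_respectsIso sq.isoPullback.hom, sq.isoPullback_hom_snd]
  exact hb

end

lemma exists_isPullback_restrict {X Y Z A : Scheme.{u}} (f : X ⟶ Y) (W : Y.Opens)
    (g : Z ⟶ (W : Scheme.{u})) {a : A ⟶ X} {b : A ⟶ Z} (sq : IsPullback a b f (g ≫ W.ι)) :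
    ∃ a' : A ⟶ ((f ⁻¹ᵁ W : X.Opens) : Scheme.{u}), IsPullback a' b (f ∣_ W) g := by
  have hres : IsPullback (f ⁻¹ᵁ W).ι (f ∣_ W) f W.ι := (isPullback_morphismRestrict f W).flip
  have hw : a ≫ f = (b ≫ g) ≫ W.ι := by rw [sq.w, Category.assoc]
  refine ⟨hres.lift a (b ≫ g) hw, ?_⟩
  have e1 : hres.lift a (b ≫ g) hw ≫ (f ⁻¹ᵁ W).ι = a := hres.lift_fst _ _ _
  have e2 : hres.lift a (b ≫ g) hw ≫ (f ∣_ W) = b ≫ g := hres.lift_snd _ _ _
  refine IsPullback.of_right ?_ e2 hres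
  rw [e1]
  exact sq

theorem preimage_le_aux {X R U RR A : Scheme.{u}} {f : X ⟶ U} {s t : R ⟶ U} {p1 c : RR ⟶ X}
    {p2 : RR ⟶ R}
    (sq1 : IsPullback p1 p2 f t) (sq2 : IsPullback c p2 f s)
    (Q : MorphismProperty Scheme.{u}) [Q.IsStableUnderBaseChange] [Q.IsStableUnderComposition]
    (hQoi : ∀ {X Y : Scheme.{u}} (f : X ⟶ Y), IsOpenImmersion f → Q f)
    (hQopen : ∀ {X Y : Scheme.{u}} (f : X ⟶ Y), Q f → IsOpenMap f)
    (P : MorphismProperty Scheme.{u}) [P.IsLocalAtTarget (Scheme.precoverage Q)]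
    (hs : Presieve.singleton s ∈ Scheme.precoverage Q U)
    (ht : Presieve.singleton t ∈ Scheme.precoverage Q U)
    (W : U.Opens) (hW : P (f ∣_ W)) (hmax : ∀ W' : U.Opens, P (f ∣_ W') → W' ≤ W)
    {q1 : A ⟶ ((t ⁻¹ᵁ W : R.Opens) : Scheme.{u})} {q2 : A ⟶ RR}
    (sq0 : IsPullback q1 q2 (t ⁻¹ᵁ W).ι p2) :
    t ⁻¹ᵁ W ≤ s ⁻¹ᵁ W := by
  obtain ⟨-, hsQ⟩ := (Scheme.singleton_mem_precoverage_iff Q s).1 hs
  obtain ⟨htsurj, htQ⟩ := (Scheme.singleton_mem_precoverage_iff Q t).1 ht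
  have sqt : IsPullback (q2 ≫ p1) q1 f ((t ⁻¹ᵁ W).ι ≫ t) := sq0.flip.paste_horiz sq1
  have sqs : IsPullback (q2 ≫ c) q1 f ((t ⁻¹ᵁ W).ι ≫ s) := sq0.flip.paste_horiz sq2
  -- step 1: `q1` has `P`
  have sqt' : IsPullback (q2 ≫ p1) q1 f ((t ∣_ W) ≫ W.ι) := by
    rw [morphismRestrict_ι]; exact sqt
  obtain ⟨a1, ha1⟩ := exists_isPullback_restrict f W (t ∣_ W) sqt'
  have hpb : IsPullback (t ⁻¹ᵁ W).ι (t ∣_ W) t W.ι := (isPullback_morphismRestrict t W).flip
  have htW : Presieve.singleton (t ∣_ W) ∈ Scheme.precoverage Q W := by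
    rw [Scheme.singleton_mem_precoverage_iff]
    refine ⟨?_, MorphismProperty.of_isPullback (P := Q) hpb htQ⟩
    haveI : Surjective t := ⟨htsurj⟩
    exact (MorphismProperty.of_isPullback (P := @Surjective) hpb inferInstance).surj
  have hPq1 : P q1 := P_snd_of_isPullback ha1 htW hW
  -- step 2: the open `W' = s(t⁻¹W)`
  obtain ⟨W', hW'⟩ : ∃ W' : U.Opens, (W' : Set U) = s '' (t ⁻¹ᵁ W : Set R) :=
    ⟨⟨_, hQopen s hsQ _ (t ⁻¹ᵁ W).2⟩, rfl⟩
  have hle : t ⁻¹ᵁ W ≤ s ⁻¹ᵁ W' := by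
    intro x hx
    show s x ∈ (W' : Set U)
    rw [hW']
    exact ⟨x, hx, rfl⟩
  have sqs' : IsPullback (q2 ≫ c) q1 f (s.resLE W' (t ⁻¹ᵁ W) hle ≫ W'.ι) := by
    rw [Scheme.Hom.resLE_comp_ι]; exact sqs
  obtain ⟨a2, ha2⟩ := exists_isPullback_restrict f W' (s.resLE W' (t ⁻¹ᵁ W) hle) sqs'
  have hcov : Presieve.singleton (s.resLE W' (t ⁻¹ᵁ W) hle) ∈ Scheme.precoverage Q W' := by
    rw [Scheme.singleton_mem_precoverage_iff]
    refine ⟨?_, ?_⟩
    · intro y
      have hy : (W'.ι y) ∈ (W' : Set U) := by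
        have := Set.mem_range_self (f := W'.ι) y
        rwa [Scheme.Opens.range_ι] at this
      rw [hW'] at hy
      obtain ⟨x, hx, hxy⟩ := hy
      have hx' : x ∈ Set.range (t ⁻¹ᵁ W).ι := by rw [Scheme.Opens.range_ι]; exact hx
      obtain ⟨x', rfl⟩ := hx'
      refine ⟨x', ?_⟩
      apply W'.ι.isOpenEmbedding.injective
      rw [← Scheme.Hom.comp_apply, Scheme.Hom.resLE_comp_ι, Scheme.Hom.comp_apply]
      exact hxy
    · have h1 : Q ((t ⁻¹ᵁ W).ι ≫ s) := Q.comp_mem _ _ (hQoi _ inferInstance) hsQ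
      rw [← Scheme.Hom.resLE_comp_ι s hle] at h1
      exact MorphismProperty.of_postcomp (W := Q) (W' := @IsOpenImmersion) _ W'.ι
        inferInstance h1
  have hPW' : P (f ∣_ W') := P_of_isPullback_snd ha2 hcov hPq1
  have hW'W : W' ≤ W := hmax W' hPW'
  intro x hx
  exact hW'W (show s x ∈ W' from hle hx)

theorem preimage_le_of_Q {X R U RR : Scheme.{u}} {f : X ⟶ U} {s t : R ⟶ U} {p1 c : RR ⟶ X}
    {p2 : RR ⟶ R}
    (sq1 : IsPullback p1 p2 f t) (sq2 : IsPullback c p2 f s)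
    (Q : MorphismProperty Scheme.{u}) [Q.IsStableUnderBaseChange] [Q.IsStableUnderComposition]
    (hQoi : ∀ {X Y : Scheme.{u}} (f : X ⟶ Y), IsOpenImmersion f → Q f)
    (hQopen : ∀ {X Y : Scheme.{u}} (f : X ⟶ Y), Q f → IsOpenMap f)
    (P : MorphismProperty Scheme.{u}) [P.IsLocalAtTarget (Scheme.precoverage Q)]
    (hs : Presieve.singleton s ∈ Scheme.precoverage Q U)
    (ht : Presieve.singleton t ∈ Scheme.precoverage Q U)
    (W : U.Opens) (hW : P (f ∣_ W)) (hmax : ∀ W' : U.Opens, P (f ∣_ W') → W' ≤ W) :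
    t ⁻¹ᵁ W ≤ s ⁻¹ᵁ W :=
  preimage_le_aux sq1 sq2 Q hQoi hQopen P hs ht W hW hmax
    (IsPullback.of_hasPullback (t ⁻¹ᵁ W).ι p2)

set_option backward.isDefEq.respectTransparency.types false in
/-- the four classical topologies -/
theorem preimage_le_of_K {X R U RR : Scheme.{u}} {f : X ⟶ U} {s t : R ⟶ U} {p1 c : RR ⟶ X}
    {p2 : RR ⟶ R}
    (sq1 : IsPullback p1 p2 f t) (sq2 : IsPullback c p2 f s)
    (K : Precoverage Scheme.{u})
    (hK : K = Scheme.zariskiPrecoverage ∨ K = Scheme.etalePrecoverage ∨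
      K = Scheme.precoverage @Smooth ∨ K = Scheme.fppfPrecoverage)
    (P : MorphismProperty Scheme.{u}) [P.IsLocalAtTarget K]
    (hs : Presieve.singleton s ∈ K U) (ht : Presieve.singleton t ∈ K U)
    (W : U.Opens) (hW : P (f ∣_ W)) (hmax : ∀ W' : U.Opens, P (f ∣_ W') → W' ≤ W) :
    t ⁻¹ᵁ W ≤ s ⁻¹ᵁ W := by
  rcases hK with rfl | rfl | rfl | rfl
  · exact preimage_le_of_Q sq1 sq2 @IsOpenImmersion (fun f hf => hf)
      (fun f hf => by haveI : IsOpenImmersion f := hf; exact f.isOpenEmbedding.isOpenMap)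
      P hs ht W hW hmax
  · haveI : P.IsLocalAtTarget (Scheme.precoverage @Etale) := ‹_›
    exact preimage_le_of_Q sq1 sq2 @Etale
      (fun f hf => by haveI : IsOpenImmersion f := hf; infer_instance)
      (fun f hf => by haveI : Etale f := hf; exact f.isOpenMap) P hs ht W hW hmax
  · exact preimage_le_of_Q sq1 sq2 @Smooth
      (fun f hf => by haveI : IsOpenImmersion f := hf; infer_instance)
      (fun f hf => by haveI : Smooth f := hf; exact f.isOpenMap) P hs ht W hW hmax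
  · haveI : P.IsLocalAtTarget (Scheme.precoverage (@Flat ⊓ @LocallyOfFinitePresentation)) := ‹_›
    exact preimage_le_of_Q sq1 sq2 (@Flat ⊓ @LocallyOfFinitePresentation)
      (fun f hf => by
        haveI : IsOpenImmersion f := hf
        exact ⟨inferInstance, inferInstance⟩)
      (fun f hf => by
        haveI : Flat f := hf.1
        haveI : LocallyOfFinitePresentation f := hf.2
        exact f.isOpenMap) P hs ht W hW hmax

end Groth.Agent.H37.LocTarget
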