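import Mathlib

/-!
# (G1), (G2) for S14113 (helper37, for helper42's squad)
-/

set_option autoImplicit false
universe u
open CategoryTheory CategoryTheory.Limits

namespace Groth.Agent.H37.NH_G12

theorem G1 {C : Type*} [Category C] [Abelian C] (E : CochainComplex C ℤ)
    (h : Homotopy (𝟙 E) 0) : E.Acyclic := by
  intro i
  rw [HomologicalComplex.exactAt_iff_isZero_homology, IsZero.iff_id_eq_zero]
  have h1 := h.homologyMap_eq i
  rw [HomologicalComplex.homologyMap_id, HomologicalComplex.homologyMap_zero] at h1
  exact h1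

theorem G2 {C : Type*} [Category C] [Abelian C] (K : CochainComplex C ℤ) (b : ℤ)
    (hb : ∀ i : ℤ, b < i → IsZero (K.X i)) (hp : ∀ i : ℤ, Projective (K.X i))
    (hac : K.Acyclic) : Nonempty (Homotopy (𝟙 K) 0) := by
  haveI : K.IsStrictlyLE b := (CochainComplex.isStrictlyLE_iff K b).mpr hb
  haveI := hp
  haveI := CochainComplex.isKProjective_of_projective K b
  exact ⟨CochainComplex.IsKProjective.homotopyZero (𝟙 K) hac⟩

end Groth.Agent.H37.NH_G12
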