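import Mathlib

/-!
# Base change of the norm along a pushout of commutative rings
-/

set_option autoImplicit false
universe u
open CategoryTheory TensorProduct

namespace Groth.Agent.H37

/-- The norm of a finite free algebra commutes with base change. -/
theorem norm_one_tmul {R S T : Type*} [CommRing R] [CommRing S] [CommRing T] [Algebra R S]
    [Algebra R T] [Module.Free R S] [Module.Finite R S] (x : S) :
    Algebra.norm T ((1 : T) ⊗ₜ[R] x) = algebraMap R T (Algebra.norm R x) := by
  rw [Algebra.norm_apply, Algebra.norm_apply, ← LinearMap.det_baseChange]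
  congr 1
  refine LinearMap.ext fun y => ?_
  induction y using TensorProduct.induction_on with
  | zero => simp
  | tmul t s => simp [Algebra.TensorProduct.tmul_mul_tmul]
  | add a b ha hb => rw [map_add, map_add, ha, hb]

/-- The norm of a finite free algebra commutes with base change along a pushout square of
commutative rings. -/
theorem norm_of_isPushout {R S T P : CommRingCat.{u}} {f : R ⟶ S} {g : R ⟶ T}
    {inl : S ⟶ P} {inr : T ⟶ P} (h : CategoryTheory.IsPushout f g inl inr)
    (hfree : letI := f.hom.toAlgebra; Module.Free R S)
    (hfin : letI := f.hom.toAlgebra; Module.Finite R S) (x : S) :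
    letI := f.hom.toAlgebra
    letI := inr.hom.toAlgebra
    Algebra.norm T (inl.hom x) = g.hom (Algebra.norm R x) := by
  algebraize [f.hom, g.hom, inl.hom, inr.hom, inl.hom.comp f.hom]
  have : IsScalarTower R T P := .of_algebraMap_eq' <| congr($(h.1.1).hom)
  have h1 : Algebra.IsPushout R S T P := CommRingCat.isPushout_iff_isPushout.mp h
  haveI h2 : Algebra.IsPushout R T S P := h1.symm
  have e1 : Algebra.IsPushout.equiv R T S P ((1 : T) ⊗ₜ[R] x) = inl.hom x := by
    rw [Algebra.IsPushout.equiv_tmul, map_one, one_mul]; rfl
  rw [← e1, Algebra.norm_eq_of_algEquiv, norm_one_tmul]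
  rfl

end Groth.Agent.H37
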