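import Groth.Prelude.Def_Models
import Mathlib.Tactic

/-!
Helper lemmas on numerical types (`Models.NumericalType`): the intersection form is negative
semi-definite with kernel spanned by `m`, hence negative definite on proper subsets.
-/

set_option autoImplicit false

namespace Groth.Agent.H37

open Finset Models

variable {n : ℕ} (T : Models.NumericalType n)

theorem a_symm (i j : Fin n) : T.a i j = T.a j i := T.symm.apply j i

theorem row_sum (i : Fin n) : ∑ j, T.a i j * T.m j = 0 := by
  have := congrFun T.mulVec_m i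
  simpa [Matrix.mulVec, dotProduct] using this

theorem col_sum (j : Fin n) : ∑ i, T.a i j * T.m i = 0 := by
  have := row_sum T j
  simpa [a_symm T j] using this

theorem mQ_pos (i : Fin n) : (0 : ℚ) < T.m i := by exact_mod_cast T.m_pos i

theorem mQ_ne (i : Fin n) : (T.m i : ℚ) ≠ 0 := (mQ_pos T i).ne'

/-- The basic identity for the intersection form. -/
theorem qform_identity (x : Fin n → ℚ) :
    ∑ i, ∑ j, (T.a i j : ℚ) * (T.m i) * (T.m j) * (x i / T.m i - x j / T.m j) ^ 2
      = -2 * ∑ i, ∑ j, (T.a i j : ℚ) * x i * x j := by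
  have hrow : ∀ i, ∑ j, (T.a i j : ℚ) * T.m j = 0 := by
    intro i; exact_mod_cast row_sum T i
  have hcol : ∀ j, ∑ i, (T.a i j : ℚ) * T.m i = 0 := by
    intro j; exact_mod_cast col_sum T j
  have key : ∀ i j, (T.a i j : ℚ) * (T.m i) * (T.m j) * (x i / T.m i - x j / T.m j) ^ 2
      = (x i ^ 2 / T.m i) * ((T.a i j : ℚ) * T.m j) + (x j ^ 2 / T.m j) * ((T.a i j : ℚ) * T.m i)
        - 2 * ((T.a i j : ℚ) * x i * x j) := by
    intro i j
    have hi := mQ_ne T i
    have hj := mQ_ne T j
    field_simp
    ring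
  simp_rw [key, Finset.sum_sub_distrib, Finset.sum_add_distrib, ← Finset.mul_sum, hrow, mul_zero,
    Finset.sum_const_zero, zero_add]
  rw [Finset.sum_comm]
  simp_rw [← Finset.mul_sum, hcol, mul_zero, Finset.sum_const_zero, zero_sub]
  ring

theorem term_nonneg (x : Fin n → ℚ) (i j : Fin n) :
    0 ≤ (T.a i j : ℚ) * (T.m i) * (T.m j) * (x i / T.m i - x j / T.m j) ^ 2 := by
  by_cases h : i = j
  · subst h; simp
  · have h1 : (0 : ℚ) ≤ T.a i j := by exact_mod_cast T.offDiag_nonneg i j h
    have h2 := (mQ_pos T i).le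
    have h3 := (mQ_pos T j).le
    positivity

/-- The intersection form is negative semi-definite. -/
theorem qform_nonpos (x : Fin n → ℚ) : ∑ i, ∑ j, (T.a i j : ℚ) * x i * x j ≤ 0 := by
  have h := qform_identity T x
  have h0 : 0 ≤ ∑ i, ∑ j, (T.a i j : ℚ) * (T.m i) * (T.m j) * (x i / T.m i - x j / T.m j) ^ 2 :=
    Finset.sum_nonneg fun i _ => Finset.sum_nonneg fun j _ => term_nonneg T x i j
  linarith

/-- If the form vanishes at `x` then `x i / m i` is constant along edges. -/
theorem ratio_eq_of_qform_eq_zero (x : Fin n → ℚ)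
    (h : ∑ i, ∑ j, (T.a i j : ℚ) * x i * x j = 0) (i j : Fin n) (hij : T.a i j ≠ 0) :
    x i / T.m i = x j / T.m j := by
  have hid := qform_identity T x
  rw [h, mul_zero] at hid
  have h1 := (Finset.sum_eq_zero_iff_of_nonneg
    (fun i _ => Finset.sum_nonneg fun j _ => term_nonneg T x i j)).1 hid i (Finset.mem_univ _)
  have h2 := (Finset.sum_eq_zero_iff_of_nonneg
    (fun j _ => term_nonneg T x i j)).1 h1 j (Finset.mem_univ _)
  have ha : (T.a i j : ℚ) ≠ 0 := by exact_mod_cast hij
  have hmi := mQ_ne T i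
  have hmj := mQ_ne T j
  have : (x i / T.m i - x j / T.m j) ^ 2 = 0 := by
    rcases mul_eq_zero.1 h2 with h3 | h3
    · exfalso
      rcases mul_eq_zero.1 h3 with h4 | h4
      · rcases mul_eq_zero.1 h4 with h5 | h5
        · exact ha h5
        · exact hmi h5
      · exact hmj h4
    · exact h3
  have := pow_eq_zero_iff (n := 2) (by norm_num) |>.1 this
  linarith

/-- Negative definiteness away from the line spanned by `m`: a vector with a zero entry and a
nonzero entry has strictly negative self-intersection. -/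
theorem qform_neg (x : Fin n → ℚ) (h0 : ∃ i, x i = 0) (h1 : ∃ i, x i ≠ 0) :
    ∑ i, ∑ j, (T.a i j : ℚ) * x i * x j < 0 := by
  rcases lt_or_eq_of_le (qform_nonpos T x) with h | h
  · exact h
  · exfalso
    obtain ⟨i0, hi0⟩ := h0
    obtain ⟨i1, hi1⟩ := h1
    classical
    let I : Finset (Fin n) := Finset.univ.filter fun i => x i = 0
    have hIne : I.Nonempty := ⟨i0, by simp [I, hi0]⟩
    have hIuniv : I ≠ Finset.univ := by
      intro hI
      have : i1 ∈ I := by rw [hI]; exact Finset.mem_univ _
      simp [I] at this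
      exact hi1 this
    obtain ⟨i, hiI, j, hjI, hij⟩ := T.connected I hIne hIuniv
    have hr := ratio_eq_of_qform_eq_zero T x h i j hij
    have hxi : x i = 0 := by simpa [I] using hiI
    have hxj : x j ≠ 0 := by simpa [I] using hjI
    rw [hxi, zero_div] at hr
    have := mQ_ne T j
    have : x j = 0 := by
      have h2 : x j / (T.m j : ℚ) = 0 := hr.symm
      rcases div_eq_zero_iff.1 h2 with h3 | h3
      · exact h3
      · exact absurd h3 this
    exact hxj this

/-- Integer version of `qform_neg`. -/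
theorem qform_neg_int (x : Fin n → ℤ) (h0 : ∃ i, x i = 0) (h1 : ∃ i, x i ≠ 0) :
    ∑ i, ∑ j, T.a i j * x i * x j < 0 := by
  have := qform_neg T (fun i => (x i : ℚ))
    (by obtain ⟨i, hi⟩ := h0; exact ⟨i, by simp [hi]⟩)
    (by obtain ⟨i, hi⟩ := h1; exact ⟨i, by simpa using hi⟩)
  exact_mod_cast this

/-- Negative definiteness on a proper subset of the indices, given as an embedding of `Fin k`. -/
theorem qform_sub_neg {k : ℕ} (v : Fin k ↪ Fin n) (hk : k < n) (y : Fin k → ℤ) (hy : ∃ p, y p ≠ 0) :
    ∑ p, ∑ q, T.a (v p) (v q) * y p * y q < 0 := by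
  classical
  let x : Fin n → ℤ := Function.extend v y 0
  have hxv : ∀ p, x (v p) = y p := fun p => v.injective.extend_apply y 0 p
  have hx0 : ∀ i, i ∉ Set.range v → x i = 0 := by
    intro i hi
    have : ¬ ∃ p, v p = i := by simpa [Set.mem_range] using hi
    simp [x, Function.extend_apply' _ _ _ this]
  have hex0 : ∃ i, x i = 0 := by
    by_contra hne
    push Not at hne
    have hsurj : Function.Surjective v := by
      intro i
      by_contra hi
      exact hne i (hx0 i (by simpa [Set.mem_range] using hi))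
    have := Fintype.card_le_of_surjective v hsurj
    simp at this
    omega
  have hex1 : ∃ i, x i ≠ 0 := by
    obtain ⟨p, hp⟩ := hy
    exact ⟨v p, by rw [hxv]; exact hp⟩
  have hneg := qform_neg_int T x hex0 hex1
  have hsum : ∀ f : Fin n → ℤ, (∀ i, i ∉ Set.range v → f i = 0) → ∑ i, f i = ∑ p, f (v p) := by
    intro f hf
    rw [← Finset.sum_map Finset.univ v f]
    symm
    apply Finset.sum_subset (Finset.subset_univ _)
    intro i _ hi
    apply hf
    intro ⟨p, hp⟩
    exact hi (by simp [← hp])
  have : ∑ i, ∑ j, T.a i j * x i * x j = ∑ p, ∑ q, T.a (v p) (v q) * y p * y q := by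
    rw [hsum (fun i => ∑ j, T.a i j * x i * x j)]
    · apply Finset.sum_congr rfl
      intro p _
      rw [hsum (fun j => T.a (v p) j * x (v p) * x j)]
      · apply Finset.sum_congr rfl
        intro q _
        rw [hxv, hxv]
      · intro j hj
        simp [hx0 j hj]
    · intro i hi
      simp [hx0 i hi]
  rw [← this]
  exact hneg

/-- For more than one index the diagonal entries are negative. -/
theorem diag_neg (hn : 1 < n) (i : Fin n) : T.a i i < 0 := by
  have h := qform_sub_neg T (k := 1) ⟨fun _ => i, fun _ _ _ => Subsingleton.elim _ _⟩ hn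
    (fun _ => 1) ⟨0, one_ne_zero⟩
  simpa using h

/-- A nonzero off-diagonal entry is at least both weights. -/
theorem w_le_offDiag (i j : Fin n) (hij : i ≠ j) (h : T.a i j ≠ 0) :
    T.w i ≤ T.a i j ∧ T.w j ≤ T.a i j := by
  have hpos : 0 < T.a i j := lt_of_le_of_ne (T.offDiag_nonneg i j hij) (Ne.symm h)
  refine ⟨Int.le_of_dvd hpos (T.w_dvd i j), ?_⟩
  have := T.w_dvd j i
  rw [a_symm T j i] at this
  exact Int.le_of_dvd hpos this

theorem w_dvd' (i j : Fin n) : T.w j ∣ T.a i j := by
  have := T.w_dvd j i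
  rwa [a_symm T j i] at this

/-- Partial row sums over a subfamily of indices are nonpositive. -/
theorem row_sub_le {k : ℕ} (v : Fin k ↪ Fin n) (p : Fin k) :
    ∑ q, T.a (v p) (v q) * T.m (v q) ≤ 0 := by
  classical
  have h := row_sum T (v p)
  rw [← Finset.sum_map Finset.univ v (fun j => T.a (v p) j * T.m j)]
  rw [← h]
  apply Finset.sum_le_sum_of_subset_of_nonneg (Finset.subset_univ _)
  intro j _ hj
  have hne : v p ≠ j := by
    intro hpj
    exact hj (by simp [← hpj])
  exact mul_nonneg (T.offDiag_nonneg _ _ hne) (T.m_pos j).le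

theorem sum_ge_one {k : ℕ} (f : Fin k → ℤ) (hf : ∀ q, 0 ≤ f q) (a : Fin k) : f a ≤ ∑ q, f q :=
  Finset.single_le_sum (fun q _ => hf q) (Finset.mem_univ a)

theorem sum_ge_two {k : ℕ} (f : Fin k → ℤ) (hf : ∀ q, 0 ≤ f q) (a b : Fin k) (hab : a ≠ b) :
    f a + f b ≤ ∑ q, f q := by
  classical
  have h : ∑ q ∈ ({a, b} : Finset (Fin k)), f q ≤ ∑ q, f q :=
    Finset.sum_le_sum_of_subset_of_nonneg (Finset.subset_univ _) (fun q _ _ => hf q)
  rwa [Finset.sum_pair hab] at h

theorem sum_ge_three {k : ℕ} (f : Fin k → ℤ) (hf : ∀ q, 0 ≤ f q) (a b c : Fin k)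
    (hab : a ≠ b) (hac : a ≠ c) (hbc : b ≠ c) : f a + f b + f c ≤ ∑ q, f q := by
  classical
  have h : ∑ q ∈ ({a, b, c} : Finset (Fin k)), f q ≤ ∑ q, f q :=
    Finset.sum_le_sum_of_subset_of_nonneg (Finset.subset_univ _) (fun q _ _ => hf q)
  rw [Finset.sum_insert (by simp [hab, hac]), Finset.sum_pair hbc] at h
  linarith

/-- A family of `(-2)`-indices forming a proper subfamily carries no nonzero nonnegative vector `y`
which is superharmonic (`2 y p ≤ ∑_{q ~ p} y q`) for a relation `adj` contained in the graph of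
nonzero intersection numbers. -/
theorem no_superharmonic {k : ℕ} (v : Fin k ↪ Fin n) (hk : k < n)
    (hv : ∀ p, T.IsMinusTwo (v p))
    (adj : Fin k → Fin k → Prop) [DecidableRel adj]
    (hadj : ∀ p q, adj p q → p ≠ q ∧ T.a (v p) (v q) ≠ 0)
    (y : Fin k → ℤ) (hy0 : ∀ p, 0 ≤ y p) (hy : ∃ p, y p ≠ 0)
    (hharm : ∀ p, 2 * y p ≤ ∑ q, if adj p q then y q else 0) : False := by
  have hQ := qform_sub_neg T v hk y hy
  have hnn : 0 ≤ ∑ p, ∑ q, T.a (v p) (v q) * y p * y q := by
    apply Finset.sum_nonneg
    intro p _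
    have hterm : ∀ q, T.w (v p) * y p * (if adj p q then y q else 0)
        - (if q = p then 2 * T.w (v p) * y p * y p else 0) ≤ T.a (v p) (v q) * y p * y q := by
      intro q
      by_cases hqp : q = p
      · subst hqp
        have hna : ¬ adj q q := fun h => (hadj q q h).1 rfl
        rw [if_neg hna, if_pos rfl, (hv q).2]
        linarith
      · rw [if_neg hqp]
        have hvne : v p ≠ v q := fun h => hqp (v.injective h).symm
        by_cases ha : adj p q
        · rw [if_pos ha]
          have h1 := (w_le_offDiag T (v p) (v q) hvne (hadj p q ha).2).1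
          have h2 : 0 ≤ y p * y q := mul_nonneg (hy0 p) (hy0 q)
          nlinarith
        · rw [if_neg ha]
          have h1 := T.offDiag_nonneg (v p) (v q) hvne
          have h2 : 0 ≤ y p * y q := mul_nonneg (hy0 p) (hy0 q)
          nlinarith
    have h0 : 0 ≤ T.w (v p) * y p * ((∑ q, if adj p q then y q else 0) - 2 * y p) :=
      mul_nonneg (mul_nonneg (T.w_pos _).le (hy0 p)) (by linarith [hharm p])
    have heq : T.w (v p) * y p * ((∑ q, if adj p q then y q else 0) - 2 * y p)
        = ∑ q, (T.w (v p) * y p * (if adj p q then y q else 0)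
          - (if q = p then 2 * T.w (v p) * y p * y p else 0)) := by
      rw [Finset.sum_sub_distrib, ← Finset.mul_sum, Finset.sum_ite_eq']
      simp
      ring
    calc (0 : ℤ) ≤ _ := h0
      _ = _ := heq
      _ ≤ _ := Finset.sum_le_sum (fun q _ => hterm q)
  linarith

end Groth.Agent.H37
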