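import Groth.Agent.H37.NumType2
import Groth.Agent.H11.NumType

/-!
Numerical types of genus one: all indices of a minimal type of genus one on more than one index are
`(-2)`-indices.
-/

set_option autoImplicit false

namespace Groth.Agent.H37

open Finset Models

variable {n : ℕ} (T : Models.NumericalType n)

theorem isMinusTwo_of_term_zero (hn : 1 < n) (i : Fin n)
    (h : T.m i * (2 * T.w i * (T.g i - 1) - T.a i i) = 0) : T.IsMinusTwo i := by
  have hm := T.m_pos i
  have hw := T.w_pos i
  have hg := T.g_nonneg i
  have hd := diag_neg T hn i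
  obtain ⟨c, hc⟩ := T.w_dvd i i
  have h1 : 2 * T.w i * (T.g i - 1) - T.a i i = 0 := by
    rcases mul_eq_zero.1 h with h0 | h0
    · omega
    · exact h0
  have hc1 : c ≤ -1 := by
    by_contra hcon
    push Not at hcon
    have : 0 ≤ c := by omega
    have := mul_nonneg hw.le this
    omega
  rw [hc] at h1
  have h2 : T.w i * (2 * (T.g i - 1) - c) = 0 := by
    have : T.w i * (2 * (T.g i - 1) - c) = 2 * T.w i * (T.g i - 1) - T.w i * c := by ring
    rw [this]; exact h1
  have h3 : 2 * (T.g i - 1) - c = 0 := by
    rcases mul_eq_zero.1 h2 with h0 | h0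
    · omega
    · exact h0
  have hg0 : T.g i = 0 := by omega
  have hcm : c = -2 := by omega
  refine ⟨hg0, ?_⟩
  rw [hc, hcm]; ring

/-- In a minimal numerical type of genus one on more than one index every index is a `(-2)`-index. -/
theorem all_minusTwo_of_genus_one (hmin : T.IsMinimal) (hn : 1 < n) (hg : T.genus = 1) (i : Fin n) :
    T.IsMinusTwo i := by
  obtain ⟨t, ht⟩ := Groth.Agent.H11.nt_two_dvd T
  rw [Groth.Agent.H11.nt_genus_eq T t ht] at hg
  have hnn : ∀ j ∈ Finset.univ, 0 ≤ T.m j * (2 * T.w j * (T.g j - 1) - T.a j j) :=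
    fun j _ => Groth.Agent.H11.nt_term_nonneg T hmin hn j
  have h2 : ∑ i, T.m i * (2 * T.w i * (T.g i - 1) - T.a i i)
      = 2 * (∑ i, T.m i * T.w i * (T.g i - 1)) - ∑ i, T.m i * T.a i i := by
    rw [Finset.mul_sum, ← Finset.sum_sub_distrib]
    refine Finset.sum_congr rfl fun i _ => by ring
  have h0 : ∑ i, T.m i * (2 * T.w i * (T.g i - 1) - T.a i i) = 0 := by
    rw [h2, ht]; linarith
  have := (Finset.sum_eq_zero_iff_of_nonneg hnn).1 h0 i (Finset.mem_univ _)
  exact isMinusTwo_of_term_zero T hn i this

/-- The full row sums vanish (all indices listed by an equivalence `Fin k ≃ Fin n`-like bijection is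
not needed for `Fin n` itself): explicit form for the identity embedding. -/
theorem row_eq (i : Fin n) : ∑ j, T.a i j * T.m j = 0 := row_sum T i

/-- Negative semi-definiteness for integer vectors. -/
theorem qform_nonpos_int (x : Fin n → ℤ) : ∑ i, ∑ j, T.a i j * x i * x j ≤ 0 := by
  have := qform_nonpos T (fun i => (x i : ℚ))
  exact_mod_cast this

end Groth.Agent.H37
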