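import Mathlib

/-!
# Profinite-type algebras over a field (helper37)

`A` is a `k`-algebra in which every finite subset lies in a subalgebra isomorphic to a finite
product of copies of `k`.  Every prime of `A` is the kernel of a `k`-algebra map `A → k`, so
every point of `Spec A` is the image of a section of `Spec A → Spec k`; and `Spec A → Spec k` is
integral.
-/

set_option autoImplicit false
universe u
open CategoryTheory AlgebraicGeometry

namespace Groth.Agent.H37.ProfAff

section Alg

variable (k : Type u) [Field k] (A : Type u) [CommRing A] [Algebra k A]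

/-- `A` is a directed union of subalgebras isomorphic to finite products of copies of `k` -/
def IsProf : Prop :=
  ∀ s : Finset A, ∃ (B : Subalgebra k A) (n : ℕ), (↑s : Set A) ⊆ (B : Set A) ∧
    Nonempty (B ≃ₐ[k] (Fin n → k))

variable {k A}

lemma exists_root (hA : IsProf k A) (a : A) :
    ∃ (n : ℕ) (v : Fin n → k), ∏ i, (a - algebraMap k A (v i)) = 0 := by
  obtain ⟨B, n, hs, ⟨φ⟩⟩ := hA {a}
  have haB : a ∈ B := hs (by simp)
  refine ⟨n, φ ⟨a, haB⟩, ?_⟩
  have h0 : ∏ i, ((⟨a, haB⟩ : B) - algebraMap k B (φ ⟨a, haB⟩ i)) = 0 := by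
    apply φ.injective
    rw [map_zero, map_prod]
    funext j
    rw [Finset.prod_apply, Pi.zero_apply]
    apply Finset.prod_eq_zero (Finset.mem_univ j)
    rw [map_sub, AlgEquiv.commutes, Pi.sub_apply, Pi.algebraMap_apply, sub_eq_zero]
    rfl
  have h1 := congrArg B.val h0
  rw [map_prod, map_zero] at h1
  refine (Finset.prod_congr rfl fun i _ => ?_).trans h1
  rw [map_sub, AlgHom.commutes]
  rfl

lemma exists_sub_mem (hA : IsProf k A) (p : Ideal A) [p.IsPrime] (a : A) :
    ∃ c : k, a - algebraMap k A c ∈ p := by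
  obtain ⟨n, v, hv⟩ := exists_root hA a
  have h : ∏ i, (a - algebraMap k A (v i)) ∈ p := by rw [hv]; exact p.zero_mem
  obtain ⟨i, _, hi⟩ := Ideal.IsPrime.prod_mem_iff.mp h
  exact ⟨v i, hi⟩

lemma exists_eval (hA : IsProf k A) (p : Ideal A) [p.IsPrime] :
    ∃ ev : A →+* k, (∀ c, ev (algebraMap k A c) = c) ∧ ∀ a, ev a = 0 ↔ a ∈ p := by
  have hinj : Function.Injective (algebraMap k (A ⧸ p)) := (algebraMap k (A ⧸ p)).injective
  have hsurj : Function.Surjective (algebraMap k (A ⧸ p)) := by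
    intro y
    obtain ⟨a, rfl⟩ := Ideal.Quotient.mk_surjective y
    obtain ⟨c, hc⟩ := exists_sub_mem hA p a
    exact ⟨c, ((Ideal.Quotient.eq.mpr hc).trans (Ideal.Quotient.mk_algebraMap k p c)).symm⟩
  obtain ⟨e, he⟩ : ∃ e : k ≃+* (A ⧸ p), ∀ c, e c = algebraMap k (A ⧸ p) c :=
    ⟨RingEquiv.ofBijective (algebraMap k (A ⧸ p)) ⟨hinj, hsurj⟩, fun _ => rfl⟩
  refine ⟨(e.symm : (A ⧸ p) →+* k).comp (Ideal.Quotient.mk p), fun c => ?_, fun a => ?_⟩
  · have h1 : Ideal.Quotient.mk p (algebraMap k A c) = e c :=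
      (Ideal.Quotient.mk_algebraMap k p c).trans (he c).symm
    show e.symm (Ideal.Quotient.mk p (algebraMap k A c)) = c
    rw [h1]; exact e.symm_apply_apply c
  · show e.symm (Ideal.Quotient.mk p a) = 0 ↔ a ∈ p
    rw [map_eq_zero_iff _ e.symm.injective]
    exact Ideal.Quotient.eq_zero_iff_mem

/-- every point of `Spec A` is the image of the closed point under a section of
`Spec A → Spec k` -/
theorem exists_point_section (hA : IsProf k A) (t : Spec (CommRingCat.of A)) :
    ∃ x : Spec (CommRingCat.of k) ⟶ Spec (CommRingCat.of A),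
      x ≫ Spec.map (CommRingCat.ofHom (algebraMap k A)) = 𝟙 _ ∧
      x (IsLocalRing.closedPoint k) = t := by
  haveI : t.asIdeal.IsPrime := t.isPrime
  obtain ⟨ev, hev1, hev2⟩ := exists_eval hA t.asIdeal
  refine ⟨Spec.map (CommRingCat.ofHom ev), ?_, ?_⟩
  · rw [← Spec.map_comp, ← Spec.map_id]
    congr 1
    ext c
    exact hev1 c
  · refine PrimeSpectrum.ext ?_
    ext a
    have h1 : ev a ∈ IsLocalRing.maximalIdeal k ↔ a ∈ t.asIdeal := by
      rw [IsLocalRing.maximalIdeal_eq_bot, Ideal.mem_bot]; exact hev2 a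
    exact h1

/-- `Spec A → Spec k` is integral -/
theorem isIntegralHom_structure (hA : IsProf k A) :
    IsIntegralHom (Spec.map (CommRingCat.ofHom (algebraMap k A))) := by
  rw [IsIntegralHom.SpecMap_iff]
  intro a
  obtain ⟨n, v, hv⟩ := exists_root hA a
  refine ⟨∏ i, (Polynomial.X - Polynomial.C (v i)),
    Polynomial.monic_prod_of_monic _ _ (fun i _ => Polynomial.monic_X_sub_C _), ?_⟩
  rw [Polynomial.eval₂_finsetProd]
  refine Eq.trans (Finset.prod_congr rfl fun i _ => ?_) hv
  rw [Polynomial.eval₂_sub, Polynomial.eval₂_X, Polynomial.eval₂_C]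
  rfl

end Alg

end Groth.Agent.H37.ProfAff
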