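import Groth.Agent.H37.ProfAff1
import Groth.Agent.H37.GrpConn
import Groth.Agent.H37.GrpdConn2
import Groth.Agent.H37.GrpdComp
import Mathlib

/-!
# Images of profinite-type affine schemes in a group scheme lie in an affine open (helper37)
-/

set_option autoImplicit false
universe u
open CategoryTheory CategoryTheory.Limits AlgebraicGeometry MonoidalCategory CartesianMonoidalCategory
open Grpd
open scoped MonObj

namespace Groth.Agent.H37.ProfAff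

open Groth.Agent.H37.GrpdCalc Groth.Agent.H37.GrpObjGrpd

/-! ### left translation by a section in a groupoid with `s = t` -/

section Trans

variable {S : Scheme.{u}} (Γ : Grpd.GroupoidScheme S)

/-- left translation by a section `x` -/
noncomputable def ltr (x : Γ.U ⟶ Γ.R) : Γ.R ⟶ Γ.R := mul Γ (Γ.s ≫ x) (𝟙 Γ.R)

variable {Γ}

lemma ltr_ok (hst : Γ.s = Γ.t) {x : Γ.U ⟶ Γ.R} (hx : x ≫ Γ.s = 𝟙 Γ.U) :
    (Γ.s ≫ x) ≫ Γ.s = 𝟙 Γ.R ≫ Γ.t := by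
  rw [Category.assoc, hx, Category.comp_id, Category.id_comp]
  exact hst

lemma comp_ltr (hst : Γ.s = Γ.t) {x : Γ.U ⟶ Γ.R} (hx : x ≫ Γ.s = 𝟙 Γ.U) {T : Scheme.{u}}
    (z : T ⟶ Γ.R) : z ≫ ltr Γ x = mul Γ ((z ≫ Γ.s) ≫ x) z := by
  unfold ltr
  rw [comp_mul z (ltr_ok hst hx), Category.comp_id, Category.assoc]

lemma ltr_s (hst : Γ.s = Γ.t) {x : Γ.U ⟶ Γ.R} (hx : x ≫ Γ.s = 𝟙 Γ.U) :
    ltr Γ x ≫ Γ.s = Γ.s := by
  unfold ltr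
  rw [mul_s (ltr_ok hst hx), Category.id_comp]

lemma hx_inv (hst : Γ.s = Γ.t) {x : Γ.U ⟶ Γ.R} (hx : x ≫ Γ.s = 𝟙 Γ.U) :
    (x ≫ Γ.i) ≫ Γ.s = 𝟙 Γ.U := by
  rw [Category.assoc, Γ.i_s, ← hst, hx]

lemma ltr_inv (hst : Γ.s = Γ.t) {x : Γ.U ⟶ Γ.R} (hx : x ≫ Γ.s = 𝟙 Γ.U) :
    ltr Γ x ≫ ltr Γ (x ≫ Γ.i) = 𝟙 Γ.R := by
  rw [comp_ltr hst (hx_inv hst hx), ltr_s hst hx]
  unfold ltr
  exact i_mul_mul (ltr_ok hst hx) (Category.assoc _ _ _).symm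

lemma ltr_inv' (hst : Γ.s = Γ.t) {x : Γ.U ⟶ Γ.R} (hx : x ≫ Γ.s = 𝟙 Γ.U) :
    ltr Γ (x ≫ Γ.i) ≫ ltr Γ x = 𝟙 Γ.R := by
  rw [comp_ltr hst hx, ltr_s hst (hx_inv hst hx)]
  unfold ltr
  refine mul_i_mul' ?_ (Category.assoc _ _ _).symm
  rw [Category.assoc, ← hst, hx, Category.comp_id, Category.id_comp]

lemma isIso_ltr (hst : Γ.s = Γ.t) {x : Γ.U ⟶ Γ.R} (hx : x ≫ Γ.s = 𝟙 Γ.U) : IsIso (ltr Γ x) :=
  ⟨⟨ltr Γ (x ≫ Γ.i), ltr_inv hst hx, ltr_inv' hst hx⟩⟩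

lemma section_ltr (hst : Γ.s = Γ.t) {x : Γ.U ⟶ Γ.R} (hx : x ≫ Γ.s = 𝟙 Γ.U)
    (z : Γ.U ⟶ Γ.R) (hz : z ≫ Γ.s = 𝟙 Γ.U) : z ≫ ltr Γ x = mul Γ x z := by
  rw [comp_ltr hst hx, hz, Category.id_comp]

lemma rtr_ok (hst : Γ.s = Γ.t) (y : Γ.U ⟶ Γ.R) (hy : y ≫ Γ.s = 𝟙 Γ.U) :
    𝟙 Γ.R ≫ Γ.s = (Γ.s ≫ y) ≫ Γ.t := by
  rw [Category.id_comp, Category.assoc, ← hst, hy, Category.comp_id]

lemma inv_rtr (hst : Γ.s = Γ.t) (y : Γ.U ⟶ Γ.R) (hy : y ≫ Γ.s = 𝟙 Γ.U) :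
    (y ≫ Γ.i) ≫ mul Γ (𝟙 Γ.R) (Γ.s ≫ y) = Γ.e := by
  rw [comp_mul _ (rtr_ok hst y hy), Category.comp_id, ← Category.assoc (y ≫ Γ.i) Γ.s y,
    hx_inv hst hy, Category.id_comp, i_mul rfl, ← Category.assoc, hy, Category.id_comp]

end Trans

/-! ### the map `(g, t) ↦ g · f₁ t` -/

section Psi

variable {S : Scheme.{u}} (Γ : Grpd.GroupoidScheme S) {T : Scheme.{u}} (pT : T ⟶ Γ.U)
  (f₁ : T ⟶ Γ.R)

/-- the map `(g, t) ↦ g · f₁ t` on `R ×_U T` -/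
noncomputable def Ψ : pullback Γ.s pT ⟶ Γ.R :=
  mul Γ (pullback.fst Γ.s pT) (pullback.snd Γ.s pT ≫ f₁)

lemma Ψ_ok (hst : Γ.s = Γ.t) (hf₁ : f₁ ≫ Γ.s = pT) :
    pullback.fst Γ.s pT ≫ Γ.s = (pullback.snd Γ.s pT ≫ f₁) ≫ Γ.t := by
  rw [Category.assoc, ← hst, hf₁]; exact pullback.condition

variable (xt : Γ.U ⟶ T) (hxt : xt ≫ pT = 𝟙 Γ.U)

/-- the section `g ↦ (g, t)` of the first projection attached to a section `xt` of `pT` -/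
noncomputable def σ : Γ.R ⟶ pullback Γ.s pT :=
  pullback.lift (𝟙 Γ.R) (Γ.s ≫ xt)
    (by rw [Category.id_comp, Category.assoc, hxt, Category.comp_id])

lemma σ_fst : σ Γ pT xt hxt ≫ pullback.fst Γ.s pT = 𝟙 Γ.R := pullback.lift_fst _ _ _

lemma σ_snd : σ Γ pT xt hxt ≫ pullback.snd Γ.s pT = Γ.s ≫ xt := pullback.lift_snd _ _ _

lemma fst_eq_σ : pullback.fst (pullback.snd Γ.s pT) xt =
    (pullback.fst (pullback.snd Γ.s pT) xt ≫ pullback.fst Γ.s pT) ≫ σ Γ pT xt hxt := by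
  have c1 : pullback.fst Γ.s pT ≫ Γ.s = pullback.snd Γ.s pT ≫ pT := pullback.condition
  have c2 : pullback.fst (pullback.snd Γ.s pT) xt ≫ pullback.snd Γ.s pT =
      pullback.snd (pullback.snd Γ.s pT) xt ≫ xt := pullback.condition
  apply pullback.hom_ext
  · rw [Category.assoc, σ_fst, Category.comp_id]
  · symm
    calc ((pullback.fst (pullback.snd Γ.s pT) xt ≫ pullback.fst Γ.s pT) ≫ σ Γ pT xt hxt) ≫
          pullback.snd Γ.s pT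
        = (pullback.fst (pullback.snd Γ.s pT) xt ≫ pullback.fst Γ.s pT) ≫ (Γ.s ≫ xt) := by
          rw [Category.assoc, σ_snd]
      _ = pullback.fst (pullback.snd Γ.s pT) xt ≫ ((pullback.fst Γ.s pT ≫ Γ.s) ≫ xt) := by
          simp only [Category.assoc]
      _ = (pullback.fst (pullback.snd Γ.s pT) xt ≫ pullback.snd Γ.s pT) ≫ (pT ≫ xt) := by
          rw [c1]; simp only [Category.assoc]
      _ = pullback.snd (pullback.snd Γ.s pT) xt ≫ ((xt ≫ pT) ≫ xt) := by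
          rw [c2]; simp only [Category.assoc]
      _ = pullback.snd (pullback.snd Γ.s pT) xt ≫ xt := by rw [hxt, Category.id_comp]
      _ = pullback.fst (pullback.snd Γ.s pT) xt ≫ pullback.snd Γ.s pT := c2.symm

lemma eq_σ_of_snd (z : ↥(pullback Γ.s pT)) (u : Γ.U) (hz : pullback.snd Γ.s pT z = xt u) :
    z = σ Γ pT xt hxt (pullback.fst Γ.s pT z) := by
  obtain ⟨w, hw1, hw2⟩ := Scheme.Pullback.exists_preimage_pullback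
    (f := pullback.snd Γ.s pT) (g := xt) z u hz
  have h := congrArg
    (fun ψ : pullback (pullback.snd Γ.s pT) xt ⟶ pullback Γ.s pT => ψ w) (fst_eq_σ Γ pT xt hxt)
  simp only [Scheme.Hom.comp_apply] at h
  rw [hw1] at h
  exact h

lemma σ_Ψ (hst : Γ.s = Γ.t) (hf₁ : f₁ ≫ Γ.s = pT) :
    σ Γ pT xt hxt ≫ Ψ Γ pT f₁ = mul Γ (𝟙 Γ.R) (Γ.s ≫ xt ≫ f₁) := by
  unfold Ψ
  rw [comp_mul _ (Ψ_ok Γ pT f₁ hst hf₁), σ_fst, ← Category.assoc, σ_snd, Category.assoc]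

end Psi

/-! ### topology -/

section Top

lemma isAffineOpen_of_isClopen {Y : Scheme.{u}} [IsAffine Y] (W : Y.Opens)
    (hW : IsClosed (W : Set Y)) : IsAffineOpen W := by
  haveI : IsClosedImmersion W.ι :=
    IsClosedImmersion.of_isPreimmersion W.ι (by rw [Scheme.Opens.range_ι]; exact hW)
  exact isAffine_of_isAffineHom W.ι

lemma isAffineOpen_inf_clopen {X : Scheme.{u}} {U : X.Opens} (hU : IsAffineOpen U)
    (E : X.Opens) (hE : IsClosed (E : Set X)) : IsAffineOpen (U ⊓ E) := by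
  haveI : IsAffine U := hU
  have h1 : IsAffineOpen (U.ι ⁻¹ᵁ E) :=
    isAffineOpen_of_isClopen (U.ι ⁻¹ᵁ E) (hE.preimage U.ι.continuous)
  have h2 := h1.image_of_isOpenImmersion U.ι
  rwa [Scheme.Hom.image_preimage_eq_opensRange_inf, Scheme.Opens.opensRange_ι] at h2

lemma map_cc {X : Type*} [TopologicalSpace X] (φ : X → X) (hφ : Continuous φ) (e : X)
    (he : φ e ∈ connectedComponent e) {a : X} (ha : a ∈ connectedComponent e) :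
    φ a ∈ connectedComponent e := by
  have h1 := hφ.image_connectedComponent_subset e (Set.mem_image_of_mem φ ha)
  rwa [← connectedComponent_eq he] at h1

end Top

/-! ### the core: translating a closed subset of `T` mapping to `C₀` into a neighbourhood of `e` -/

section Core

theorem core_grpd {S : Scheme.{u}} (Γ : Grpd.GroupoidScheme S) (hst : Γ.s = Γ.t) (pt : Γ.U)
    (C₀ : Set Γ.R) (hC₀ : IsClosed C₀) (η₀ : Γ.R) (hη₀ : IsGenericPoint η₀ C₀)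
    (hi : ∀ a ∈ C₀, Γ.i a ∈ C₀)
    (hJ : JacobsonSpace Γ.R)
    (hrat : ∀ g : Γ.R, IsClosed ({g} : Set Γ.R) →
      ∃ x : Γ.U ⟶ Γ.R, x ≫ Γ.s = 𝟙 Γ.U ∧ x pt = g)
    {T : Scheme.{u}} (pT : T ⟶ Γ.U) (hint : IsIntegralHom pT)
    (hT : ∀ t : T, ∃ xt : Γ.U ⟶ T, xt ≫ pT = 𝟙 Γ.U ∧ xt pt = t)
    (f₁ : T ⟶ Γ.R) (hf₁ : f₁ ≫ Γ.s = pT)
    (F : Set T) (hF : IsClosed F) (hFC : ∀ t ∈ F, f₁ t ∈ C₀)
    (U : Set Γ.R) (hU : IsOpen U) (heU : Γ.e pt ∈ U) :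
    ∃ x : Γ.U ⟶ Γ.R, x ≫ Γ.s = 𝟙 Γ.U ∧ ∀ t ∈ F, ltr Γ x (f₁ t) ∈ U := by
  haveI := hJ
  haveI := hint
  have hΨc : Continuous (Ψ Γ pT f₁) := (Ψ Γ pT f₁).continuous
  have hBd : IsClosed ((⇑(Ψ Γ pT f₁) ⁻¹' U)ᶜ ∩ ⇑(pullback.snd Γ.s pT) ⁻¹' F) :=
    (hU.preimage hΨc).isClosed_compl.inter (hF.preimage (pullback.snd Γ.s pT).continuous)
  have hcl : IsClosed (⇑(pullback.fst Γ.s pT) ''
      ((⇑(Ψ Γ pT f₁) ⁻¹' U)ᶜ ∩ ⇑(pullback.snd Γ.s pT) ⁻¹' F)) :=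
    (pullback.fst Γ.s pT).isClosedMap _ hBd
  -- the generic point of `C₀` is not in the image of the bad set
  have hη : η₀ ∉ ⇑(pullback.fst Γ.s pT) ''
      ((⇑(Ψ Γ pT f₁) ⁻¹' U)ᶜ ∩ ⇑(pullback.snd Γ.s pT) ⁻¹' F) := by
    rintro ⟨z, ⟨hz1, hz2⟩, hz3⟩
    apply hz1
    obtain ⟨xt, hxt, hxt'⟩ := hT (pullback.snd Γ.s pT z)
    have hzσ := eq_σ_of_snd Γ pT xt hxt z pt hxt'.symm
    rw [hz3] at hzσ
    have hy : (xt ≫ f₁) ≫ Γ.s = 𝟙 Γ.U := by rw [Category.assoc, hf₁, hxt]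
    have hopen : IsOpen (⇑(mul Γ (𝟙 Γ.R) (Γ.s ≫ xt ≫ f₁)) ⁻¹' U) :=
      hU.preimage (Scheme.Hom.continuous _)
    have hmem : η₀ ∈ ⇑(mul Γ (𝟙 Γ.R) (Γ.s ≫ xt ≫ f₁)) ⁻¹' U := by
      rw [hη₀.mem_open_set_iff hopen]
      have h := congrArg (fun ψ : Γ.U ⟶ Γ.R => ψ pt) (inv_rtr hst (xt ≫ f₁) hy)
      simp only [Scheme.Hom.comp_apply] at h
      refine ⟨Γ.i (f₁ (xt pt)), hi _ ?_, ?_⟩
      · rw [hxt']; exact hFC _ hz2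
      · show mul Γ (𝟙 Γ.R) (Γ.s ≫ xt ≫ f₁) (Γ.i (f₁ (xt pt))) ∈ U
        rw [h]; exact heU
    have h2 := congrArg (fun ψ : Γ.R ⟶ Γ.R => ψ η₀) (σ_Ψ Γ pT f₁ xt hxt hst hf₁)
    simp only [Scheme.Hom.comp_apply] at h2
    show Ψ Γ pT f₁ z ∈ U
    rw [hzσ, h2]
    exact hmem
  have hne : ((⇑(pullback.fst Γ.s pT) ''
      ((⇑(Ψ Γ pT f₁) ⁻¹' U)ᶜ ∩ ⇑(pullback.snd Γ.s pT) ⁻¹' F))ᶜ ∩ C₀).Nonempty :=
    ⟨η₀, hη, hη₀.mem⟩
  have hlc : IsLocallyClosed ((⇑(pullback.fst Γ.s pT) ''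
      ((⇑(Ψ Γ pT f₁) ⁻¹' U)ᶜ ∩ ⇑(pullback.snd Γ.s pT) ⁻¹' F))ᶜ ∩ C₀) :=
    hcl.isOpen_compl.isLocallyClosed.inter hC₀.isLocallyClosed
  obtain ⟨g, ⟨hg1, hg2⟩, hg3⟩ := nonempty_inter_closedPoints hne hlc
  obtain ⟨x, hx, hxg⟩ := hrat g (mem_closedPoints_iff.mp hg3)
  refine ⟨x, hx, fun t ht => ?_⟩
  obtain ⟨xt, hxt, hxt'⟩ := hT t
  have hζw : x ≫ Γ.s = xt ≫ pT := by rw [hx, hxt]
  have hΨζ : pullback.lift x xt hζw ≫ Ψ Γ pT f₁ = (xt ≫ f₁) ≫ ltr Γ x := by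
    have hy : (xt ≫ f₁) ≫ Γ.s = 𝟙 Γ.U := by rw [Category.assoc, hf₁, hxt]
    rw [section_ltr hst hx (xt ≫ f₁) hy]
    unfold Ψ
    rw [comp_mul _ (Ψ_ok Γ pT f₁ hst hf₁), pullback.lift_fst, ← Category.assoc,
      pullback.lift_snd]
  have h3 := congrArg (fun ψ : Γ.U ⟶ Γ.R => ψ pt) hΨζ
  simp only [Scheme.Hom.comp_apply] at h3
  rw [hxt'] at h3
  rw [← h3]
  by_contra hcon
  apply hg1
  refine ⟨pullback.lift x xt hζw pt, ⟨hcon, ?_⟩, ?_⟩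
  · show pullback.snd Γ.s pT (pullback.lift x xt hζw pt) ∈ F
    rw [← Scheme.Hom.comp_apply, pullback.lift_snd, hxt']; exact ht
  · rw [← Scheme.Hom.comp_apply, pullback.lift_fst]; exact hxg

end Core

/-! ### a clopen neighbourhood of each point of the image lying in an affine open -/

section PerPoint

theorem per_point_aux {S : Scheme.{u}} (Γ : Grpd.GroupoidScheme S) (hst : Γ.s = Γ.t) (pt : Γ.U)
    (C₀ : Set Γ.R) (hC₀ : IsClosed C₀) (η₀ : Γ.R) (hη₀ : IsGenericPoint η₀ C₀)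
    (hi : ∀ a ∈ C₀, Γ.i a ∈ C₀) (he : Γ.e pt ∈ C₀)
    (hsep : ∀ x : Γ.R, x ∉ C₀ → ∃ E : Set Γ.R, IsClopen E ∧ C₀ ⊆ E ∧ x ∉ E)
    (hJ : JacobsonSpace Γ.R)
    (hrat : ∀ g : Γ.R, IsClosed ({g} : Set Γ.R) →
      ∃ x : Γ.U ⟶ Γ.R, x ≫ Γ.s = 𝟙 Γ.U ∧ x pt = g)
    {T : Scheme.{u}} (hTc : CompactSpace T) (pT : T ⟶ Γ.U) (hint : IsIntegralHom pT)
    (hT : ∀ t : T, ∃ xt : Γ.U ⟶ T, xt ≫ pT = 𝟙 Γ.U ∧ xt pt = t)
    (f : T ⟶ Γ.R) (hf : f ≫ Γ.s = pT)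
    (lam : Γ.R ⟶ Γ.R) [IsIso lam] (hls : lam ≫ Γ.s = Γ.s) (t₀ : T) (hle : lam (f t₀) = Γ.e pt) :
    ∃ V : Γ.R.Opens, IsAffineOpen V ∧ ∃ E : Set Γ.R, IsClopen E ∧ f t₀ ∈ E ∧
      ∀ t, f t ∈ E → f t ∈ V := by
  haveI := hTc
  have hf₁ : (f ≫ lam) ≫ Γ.s = pT := by rw [Category.assoc, hls, hf]
  obtain ⟨U₀, hU₀aff, heU₀, -⟩ :=
    exists_isAffineOpen_mem_and_subset (x := Γ.e pt) (U := ⊤) (by trivial)
  obtain ⟨x, hx, hxF⟩ := core_grpd Γ hst pt C₀ hC₀ η₀ hη₀ hi hJ hrat pT hint hT (f ≫ lam) hf₁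
      (⇑(f ≫ lam) ⁻¹' C₀) (hC₀.preimage (Scheme.Hom.continuous _)) (fun t ht => ht)
      (U₀ : Set Γ.R) U₀.isOpen heU₀
  haveI hxiso : IsIso (ltr Γ x) := isIso_ltr hst hx
  have hxF' : ∀ t : T, lam (f t) ∈ C₀ → ltr Γ x (lam (f t)) ∈ (U₀ : Set Γ.R) := by
    intro t ht
    have h1 : (f ≫ lam) t ∈ C₀ := by rw [Scheme.Hom.comp_apply]; exact ht
    have h2 := hxF t h1
    rwa [Scheme.Hom.comp_apply] at h2
  have hKc : IsCompact ((⇑f ⁻¹' (⇑lam ⁻¹' (⇑(ltr Γ x) ⁻¹' (U₀ : Set Γ.R))))ᶜ) :=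
    (((U₀.isOpen.preimage (ltr Γ x).continuous).preimage lam.continuous).preimage
      f.continuous).isClosed_compl.isCompact
  have hex : ∀ t : T, ∃ E : Set Γ.R, IsClopen E ∧ C₀ ⊆ E ∧
      (t ∈ (⇑f ⁻¹' (⇑lam ⁻¹' (⇑(ltr Γ x) ⁻¹' (U₀ : Set Γ.R))))ᶜ → lam (f t) ∉ E) := by
    intro t
    by_cases ht : lam (f t) ∈ C₀
    · exact ⟨Set.univ, isClopen_univ, Set.subset_univ _, fun h => absurd (hxF' t ht) h⟩
    · obtain ⟨E, hE, hCE, hxE⟩ := hsep _ ht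
      exact ⟨E, hE, hCE, fun _ => hxE⟩
  choose E hE hCE hEt using hex
  obtain ⟨I, hI⟩ := hKc.elim_finite_subcover (fun t => ⇑f ⁻¹' (⇑lam ⁻¹' (E t)ᶜ))
    (fun t => (((hE t).isClosed.isOpen_compl).preimage lam.continuous).preimage f.continuous)
    (fun t ht => Set.mem_iUnion.mpr ⟨t, hEt t ht⟩)
  have hE₁ : IsClopen (⋂ i ∈ I, E i) := isClopen_biInter_finset (fun i _ => hE i)
  refine ⟨(lam ≫ ltr Γ x) ⁻¹ᵁ U₀, hU₀aff.preimage_of_isIso _, ⇑lam ⁻¹' (⋂ i ∈ I, E i),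
    hE₁.preimage lam.continuous, ?_, ?_⟩
  · show lam (f t₀) ∈ ⋂ i ∈ I, E i
    rw [hle]
    exact Set.mem_iInter₂.mpr fun i _ => hCE i he
  · intro t ht
    by_contra hcon
    have htK : t ∈ (⇑f ⁻¹' (⇑lam ⁻¹' (⇑(ltr Γ x) ⁻¹' (U₀ : Set Γ.R))))ᶜ := by
      intro h'
      apply hcon
      show (lam ≫ ltr Γ x) (f t) ∈ U₀
      rw [Scheme.Hom.comp_apply]
      exact h'
    obtain ⟨i, hi', hti⟩ := Set.mem_iUnion₂.mp (hI htK)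
    exact hti (Set.mem_iInter₂.mp ht i hi')

theorem per_point_grpd {S : Scheme.{u}} (Γ : Grpd.GroupoidScheme S) (hst : Γ.s = Γ.t) (pt : Γ.U)
    (C₀ : Set Γ.R) (hC₀ : IsClosed C₀) (η₀ : Γ.R) (hη₀ : IsGenericPoint η₀ C₀)
    (hi : ∀ a ∈ C₀, Γ.i a ∈ C₀) (he : Γ.e pt ∈ C₀)
    (hsep : ∀ x : Γ.R, x ∉ C₀ → ∃ E : Set Γ.R, IsClopen E ∧ C₀ ⊆ E ∧ x ∉ E)
    (hJ : JacobsonSpace Γ.R)
    (hrat : ∀ g : Γ.R, IsClosed ({g} : Set Γ.R) →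
      ∃ x : Γ.U ⟶ Γ.R, x ≫ Γ.s = 𝟙 Γ.U ∧ x pt = g)
    {T : Scheme.{u}} (hTc : CompactSpace T) (pT : T ⟶ Γ.U) (hint : IsIntegralHom pT)
    (hT : ∀ t : T, ∃ xt : Γ.U ⟶ T, xt ≫ pT = 𝟙 Γ.U ∧ xt pt = t)
    (f : T ⟶ Γ.R) (hf : f ≫ Γ.s = pT) (t₀ : T) :
    ∃ V : Γ.R.Opens, IsAffineOpen V ∧ ∃ E : Set Γ.R, IsClopen E ∧ f t₀ ∈ E ∧
      ∀ t, f t ∈ E → f t ∈ V := by
  obtain ⟨xt₀, hxt₀, hxt₀'⟩ := hT t₀
  have hy₀ : (xt₀ ≫ f) ≫ Γ.s = 𝟙 Γ.U := by rw [Category.assoc, hf, hxt₀]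
  have hy₀i : ((xt₀ ≫ f) ≫ Γ.i) ≫ Γ.s = 𝟙 Γ.U := hx_inv hst hy₀
  haveI hlamiso : IsIso (ltr Γ ((xt₀ ≫ f) ≫ Γ.i)) := isIso_ltr hst hy₀i
  have hle : ltr Γ ((xt₀ ≫ f) ≫ Γ.i) (f t₀) = Γ.e pt := by
    have h1 : mul Γ ((xt₀ ≫ f) ≫ Γ.i) (xt₀ ≫ f) = Γ.e := by
      rw [i_mul rfl, ← Category.assoc, hy₀, Category.id_comp]
    have h := (section_ltr hst hy₀i (xt₀ ≫ f) hy₀).trans h1
    have h2 := congrArg (fun ψ : Γ.U ⟶ Γ.R => ψ pt) h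
    simp only [Scheme.Hom.comp_apply] at h2
    rw [hxt₀'] at h2
    exact h2
  exact per_point_aux Γ hst pt C₀ hC₀ η₀ hη₀ hi he hsep hJ hrat hTc pT hint hT f hf
    (ltr Γ ((xt₀ ≫ f) ≫ Γ.i)) (ltr_s hst hy₀i) t₀ hle

end PerPoint

/-! ### the affine open -/

section Main

theorem main_grpd {S : Scheme.{u}} (Γ : Grpd.GroupoidScheme S) (hst : Γ.s = Γ.t) (pt : Γ.U)
    (C₀ : Set Γ.R) (hC₀ : IsClosed C₀) (η₀ : Γ.R) (hη₀ : IsGenericPoint η₀ C₀)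
    (hi : ∀ a ∈ C₀, Γ.i a ∈ C₀) (he : Γ.e pt ∈ C₀)
    (hsep : ∀ x : Γ.R, x ∉ C₀ → ∃ E : Set Γ.R, IsClopen E ∧ C₀ ⊆ E ∧ x ∉ E)
    (hJ : JacobsonSpace Γ.R)
    (hrat : ∀ g : Γ.R, IsClosed ({g} : Set Γ.R) →
      ∃ x : Γ.U ⟶ Γ.R, x ≫ Γ.s = 𝟙 Γ.U ∧ x pt = g)
    {T : Scheme.{u}} (hTc : CompactSpace T) (pT : T ⟶ Γ.U) (hint : IsIntegralHom pT)
    (hT : ∀ t : T, ∃ xt : Γ.U ⟶ T, xt ≫ pT = 𝟙 Γ.U ∧ xt pt = t)
    (f : T ⟶ Γ.R) (hf : f ≫ Γ.s = pT) :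
    ∃ W : Γ.R.Opens, IsAffineOpen W ∧ Set.range ⇑f ⊆ (W : Set Γ.R) := by
  haveI := hTc
  have hpp := per_point_grpd Γ hst pt C₀ hC₀ η₀ hη₀ hi he hsep hJ hrat hTc pT hint hT f hf
  choose V hV E hE hEt hEV using hpp
  obtain ⟨I, hI⟩ := isCompact_univ.elim_finite_subcover (fun t => ⇑f ⁻¹' E t)
    (fun t => (hE t).isOpen.preimage f.continuous) (fun t _ => Set.mem_iUnion.mpr ⟨t, hEt t⟩)
  have key : ∀ J : Finset T, ∃ W : Γ.R.Opens, IsAffineOpen W ∧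
      ∀ t : T, (∃ a ∈ J, f t ∈ E a) → f t ∈ W := by
    intro J
    classical
    induction J using Finset.induction_on with
    | empty =>
      exact ⟨⊥, isAffineOpen_bot _, fun t ⟨a, ha, _⟩ => absurd ha (Finset.notMem_empty a)⟩
    | insert a J' ha ih =>
      obtain ⟨W', hW', hW'E⟩ := ih
      have h1 : IsAffineOpen (V a ⊓ (⟨E a, (hE a).isOpen⟩ : Γ.R.Opens)) :=
        isAffineOpen_inf_clopen (hV a) ⟨E a, (hE a).isOpen⟩ (hE a).isClosed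
      have h2 : IsAffineOpen (W' ⊓ (⟨(E a)ᶜ, (hE a).compl.isOpen⟩ : Γ.R.Opens)) :=
        isAffineOpen_inf_clopen hW' ⟨(E a)ᶜ, (hE a).compl.isOpen⟩ (hE a).compl.isClosed
      have hd : Disjoint (V a ⊓ (⟨E a, (hE a).isOpen⟩ : Γ.R.Opens))
          (W' ⊓ (⟨(E a)ᶜ, (hE a).compl.isOpen⟩ : Γ.R.Opens)) := by
        rw [← TopologicalSpace.Opens.coe_disjoint, TopologicalSpace.Opens.coe_inf,
          TopologicalSpace.Opens.coe_inf, Set.disjoint_left]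
        rintro x ⟨_, hx1⟩ ⟨_, hx2⟩
        exact hx2 hx1
      refine ⟨_, h1.sup_of_disjoint h2 hd, fun t hb0 => ?_⟩
      obtain ⟨b, hb, hbt⟩ := hb0
      rw [TopologicalSpace.Opens.mem_sup]
      by_cases hta : f t ∈ E a
      · exact Or.inl ⟨hEV a t hta, hta⟩
      · rcases Finset.mem_insert.mp hb with rfl | hb'
        · exact absurd hbt hta
        · exact Or.inr ⟨hW'E t ⟨b, hb', hbt⟩, hta⟩
  obtain ⟨W, hW, hWE⟩ := key I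
  refine ⟨W, hW, ?_⟩
  rintro _ ⟨t, rfl⟩
  obtain ⟨a, ha, hta⟩ := Set.mem_iUnion₂.mp (hI (Set.mem_univ t))
  exact hWE t ⟨a, ha, hta⟩

end Main

/-! ### group schemes over a field -/

section Grp

variable (k : Type u) [Field k] (G : Over (Spec (CommRingCat.of k))) [GrpObj G]

lemma sep₀ (x : G.left) (hx : x ∉ connectedComponent (η[G].left (IsLocalRing.closedPoint k))) :
    ∃ E : Set G.left, IsClopen E ∧
      connectedComponent (η[G].left (IsLocalRing.closedPoint k)) ⊆ E ∧ x ∉ E := by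
  haveI hqs : QuasiSeparatedSpace (ofGrpObj G).R := quasiSeparatedSpace_of_grpObj_field k G
  rw [(grp_connectedComponent_one k G).1] at hx ⊢
  exact exists_isClopen_of_not_mem_idComp (ofGrpObj G) k (Iso.refl _)
    (irreducibleComponent (η[G].left (IsLocalRing.closedPoint k)))
    (irreducibleComponent_mem_irreducibleComponents _) (IsLocalRing.closedPoint k)
    mem_irreducibleComponent x hx

lemma inv_mem_cc {a : G.left}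
    (ha : a ∈ connectedComponent (η[G].left (IsLocalRing.closedPoint k))) :
    ι[G].left a ∈ connectedComponent (η[G].left (IsLocalRing.closedPoint k)) := by
  refine map_cc (⇑ι[G].left) ι[G].left.continuous _ ?_ ha
  have h : η[G].left ≫ ι[G].left = η[G].left := GrpdRst.e_i (ofGrpObj G)
  have h2 : ι[G].left (η[G].left (IsLocalRing.closedPoint k)) =
      η[G].left (IsLocalRing.closedPoint k) := by
    rw [← Scheme.Hom.comp_apply, h]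
  rw [h2]; exact mem_connectedComponent

theorem main [JacobsonSpace G.left]
    (hrat : ∀ g : G.left, IsClosed ({g} : Set G.left) →
      ∃ x : Spec (CommRingCat.of k) ⟶ G.left, x ≫ G.hom = 𝟙 _ ∧
        x (IsLocalRing.closedPoint k) = g)
    (A : Type u) [CommRing A] [Algebra k A] (hA : IsProf k A)
    (f : Spec (CommRingCat.of A) ⟶ G.left)
    (hf : f ≫ G.hom = Spec.map (CommRingCat.ofHom (algebraMap k A))) :
    ∃ U : G.left.Opens, IsAffineOpen U ∧ Set.range ⇑f ⊆ (U : Set G.left) := by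
  obtain ⟨hcc, -⟩ := grp_connectedComponent_one k G
  have hirr : IsIrreducible (connectedComponent (η[G].left (IsLocalRing.closedPoint k))) := by
    rw [hcc]; exact isIrreducible_irreducibleComponent
  obtain ⟨η₀, hη₀⟩ := QuasiSober.sober hirr isClosed_connectedComponent
  exact main_grpd (ofGrpObj G) rfl (IsLocalRing.closedPoint k)
    (connectedComponent (η[G].left (IsLocalRing.closedPoint k))) isClosed_connectedComponent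
    η₀ hη₀ (fun a ha => inv_mem_cc k G ha) mem_connectedComponent (sep₀ k G)
    (‹JacobsonSpace G.left›) hrat (inferInstance : CompactSpace (Spec (CommRingCat.of A)))
    (Spec.map (CommRingCat.ofHom (algebraMap k A))) (isIntegralHom_structure hA)
    (exists_point_section hA) f hf

end Grp

end Groth.Agent.H37.ProfAff
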