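import Groth.Agent.H37.GrpdCalc
import Groth.Agent.H37.GrpdCalc2
import Groth.Prelude.Def_Mor2
import Mathlib

/-!
# Restriction of a groupoid scheme along an arbitrary monomorphism `u : U' ⟶ U`

`V = R ×_{t,U} U'` (arrows with target in `U'`), `v : V ⟶ U` the source map,
`R' = V ×_{v,U} U'` (arrows with source and target in `U'`), and the groupoid `(U', R')`.
-/

set_option autoImplicit false
universe u
open CategoryTheory CategoryTheory.Limits AlgebraicGeometry
open Grpd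

namespace Groth.Agent.H37.QSect1

open Groth.Agent.H37.GrpdCalc

variable {S : Scheme.{u}} (G : Grpd.GroupoidScheme S) {U' : Scheme.{u}} (u : U' ⟶ G.U)

/-- arrows with target in `U'` -/
noncomputable def V : Scheme.{u} := pullback G.t u
/-- the underlying arrow -/
noncomputable def fV : V G u ⟶ G.R := pullback.fst G.t u
/-- the target, as a point of `U'` -/
noncomputable def gV : V G u ⟶ U' := pullback.snd G.t u
/-- the source map on `V` -/
noncomputable def v : V G u ⟶ G.U := fV G u ≫ G.s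

lemma fV_t : fV G u ≫ G.t = gV G u ≫ u := pullback.condition
lemma isPullback_V : IsPullback (fV G u) (gV G u) G.t u := IsPullback.of_hasPullback _ _
lemma v_eq : v G u = fV G u ≫ G.s := rfl

variable {G u} {T : Scheme.{u}}

/-- points of `V` -/
noncomputable def liftV (r : T ⟶ G.R) (a : T ⟶ U') (h : r ≫ G.t = a ≫ u) : T ⟶ V G u :=
  pullback.lift r a h

lemma liftV_fV (r : T ⟶ G.R) (a : T ⟶ U') (h : r ≫ G.t = a ≫ u) :
    liftV r a h ≫ fV G u = r := pullback.lift_fst _ _ _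

lemma liftV_gV (r : T ⟶ G.R) (a : T ⟶ U') (h : r ≫ G.t = a ≫ u) :
    liftV r a h ≫ gV G u = a := pullback.lift_snd _ _ _

lemma liftV_v (r : T ⟶ G.R) (a : T ⟶ U') (h : r ≫ G.t = a ≫ u) :
    liftV r a h ≫ v G u = r ≫ G.s := by
  rw [v_eq, ← Category.assoc, liftV_fV]

lemma hom_ext_V {m m' : T ⟶ V G u} (h₁ : m ≫ fV G u = m' ≫ fV G u)
    (h₂ : m ≫ gV G u = m' ≫ gV G u) : m = m' :=
  pullback.hom_ext h₁ h₂

variable (G u)

/-- arrows with source and target in `U'` -/
noncomputable def R' : Scheme.{u} := pullback (v G u) u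
/-- the projection to `V` -/
noncomputable def kR : R' G u ⟶ V G u := pullback.fst (v G u) u
/-- the restricted source -/
noncomputable def s' : R' G u ⟶ U' := pullback.snd (v G u) u
/-- the restricted target -/
noncomputable def t' : R' G u ⟶ U' := kR G u ≫ gV G u
/-- the underlying arrow -/
noncomputable def ιR : R' G u ⟶ G.R := kR G u ≫ fV G u

lemma isPullback_R' : IsPullback (kR G u) (s' G u) (v G u) u := IsPullback.of_hasPullback _ _
lemma kR_v : kR G u ≫ v G u = s' G u ≫ u := pullback.condition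
lemma t'_eq : t' G u = kR G u ≫ gV G u := rfl
lemma ιR_eq : ιR G u = kR G u ≫ fV G u := rfl

lemma s'_u : s' G u ≫ u = ιR G u ≫ G.s := by
  rw [← kR_v, ιR_eq, v_eq, Category.assoc]

lemma t'_u : t' G u ≫ u = ιR G u ≫ G.t := by
  rw [t'_eq, ιR_eq, Category.assoc, Category.assoc, fV_t]

variable {G u}

/-- points of `R'` -/
noncomputable def liftR (r : T ⟶ G.R) (a b : T ⟶ U') (ht : r ≫ G.t = a ≫ u)
    (hs : r ≫ G.s = b ≫ u) : T ⟶ R' G u :=
  pullback.lift (liftV r a ht) b (by rw [liftV_v]; exact hs)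

lemma liftR_kR (r : T ⟶ G.R) (a b : T ⟶ U') (ht : r ≫ G.t = a ≫ u) (hs : r ≫ G.s = b ≫ u) :
    liftR r a b ht hs ≫ kR G u = liftV r a ht := pullback.lift_fst _ _ _

lemma liftR_s' (r : T ⟶ G.R) (a b : T ⟶ U') (ht : r ≫ G.t = a ≫ u) (hs : r ≫ G.s = b ≫ u) :
    liftR r a b ht hs ≫ s' G u = b := pullback.lift_snd _ _ _

lemma liftR_ι (r : T ⟶ G.R) (a b : T ⟶ U') (ht : r ≫ G.t = a ≫ u) (hs : r ≫ G.s = b ≫ u) :
    liftR r a b ht hs ≫ ιR G u = r := by
  rw [ιR_eq, ← Category.assoc, liftR_kR, liftV_fV]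

lemma liftR_t' (r : T ⟶ G.R) (a b : T ⟶ U') (ht : r ≫ G.t = a ≫ u) (hs : r ≫ G.s = b ≫ u) :
    liftR r a b ht hs ≫ t' G u = a := by
  rw [t'_eq, ← Category.assoc, liftR_kR, liftV_gV]

lemma hom_ext_R' [Mono u] {m m' : T ⟶ R' G u} (h : m ≫ ιR G u = m' ≫ ιR G u) : m = m' := by
  have hs : m ≫ s' G u = m' ≫ s' G u := by
    rw [← cancel_mono u, Category.assoc, Category.assoc, s'_u, ← Category.assoc,
      ← Category.assoc, h]
  have ht : m ≫ t' G u = m' ≫ t' G u := by
    rw [← cancel_mono u, Category.assoc, Category.assoc, t'_u, ← Category.assoc,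
      ← Category.assoc, h]
  have hk : m ≫ kR G u = m' ≫ kR G u := by
    refine hom_ext_V ?_ ?_
    · rw [Category.assoc, Category.assoc]; exact h
    · rw [Category.assoc, Category.assoc]; exact ht
  exact pullback.hom_ext hk hs

instance mono_ιR [Mono u] : Mono (ιR G u) := ⟨fun _ _ h => hom_ext_R' h⟩

lemma comp_aux {α β : T ⟶ R' G u} (h : α ≫ s' G u = β ≫ t' G u) :
    (α ≫ ιR G u) ≫ G.s = (β ≫ ιR G u) ≫ G.t := by
  rw [Category.assoc, Category.assoc, ← s'_u, ← t'_u, ← Category.assoc, ← Category.assoc, h]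

variable (G u)

/-- composition on the restriction -/
noncomputable def c' : pullback (s' G u) (t' G u) ⟶ R' G u :=
  liftR (mul G (pullback.fst (s' G u) (t' G u) ≫ ιR G u) (pullback.snd (s' G u) (t' G u) ≫ ιR G u))
    (pullback.fst (s' G u) (t' G u) ≫ t' G u) (pullback.snd (s' G u) (t' G u) ≫ s' G u)
    (by rw [mul_t (comp_aux pullback.condition), Category.assoc, Category.assoc, t'_u])
    (by rw [mul_s (comp_aux pullback.condition), Category.assoc, Category.assoc, s'_u])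

lemma c'_ι : c' G u ≫ ιR G u =
    mul G (pullback.fst (s' G u) (t' G u) ≫ ιR G u) (pullback.snd (s' G u) (t' G u) ≫ ιR G u) :=
  liftR_ι _ _ _ _ _

lemma c'_s : c' G u ≫ s' G u = pullback.snd (s' G u) (t' G u) ≫ s' G u := liftR_s' _ _ _ _ _
lemma c'_t : c' G u ≫ t' G u = pullback.fst (s' G u) (t' G u) ≫ t' G u := liftR_t' _ _ _ _ _

lemma key {α β : T ⟶ R' G u} (h : α ≫ s' G u = β ≫ t' G u) :
    (pullback.lift α β h ≫ c' G u) ≫ ιR G u = mul G (α ≫ ιR G u) (β ≫ ιR G u) := by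
  rw [Category.assoc, c'_ι, comp_mul _ (comp_aux pullback.condition)]
  simp only [pullback.lift_fst_assoc, pullback.lift_snd_assoc]

/-- identity on the restriction -/
noncomputable def e' : U' ⟶ R' G u :=
  liftR (u ≫ G.e) (𝟙 U') (𝟙 U')
    (by rw [Category.assoc, G.e_t, Category.comp_id, Category.id_comp])
    (by rw [Category.assoc, G.e_s, Category.comp_id, Category.id_comp])

lemma e'_ι : e' G u ≫ ιR G u = u ≫ G.e := liftR_ι _ _ _ _ _
lemma e'_s : e' G u ≫ s' G u = 𝟙 U' := liftR_s' _ _ _ _ _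
lemma e'_t : e' G u ≫ t' G u = 𝟙 U' := liftR_t' _ _ _ _ _

/-- inverse on the restriction -/
noncomputable def i' : R' G u ⟶ R' G u :=
  liftR (ιR G u ≫ G.i) (s' G u) (t' G u)
    (by rw [Category.assoc, G.i_t, s'_u])
    (by rw [Category.assoc, G.i_s, t'_u])

lemma i'_ι : i' G u ≫ ιR G u = ιR G u ≫ G.i := liftR_ι _ _ _ _ _
lemma i'_s : i' G u ≫ s' G u = t' G u := liftR_s' _ _ _ _ _
lemma i'_t : i' G u ≫ t' G u = s' G u := liftR_t' _ _ _ _ _

/-- the restricted groupoid scheme `(U', R')` -/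
noncomputable def restr [Mono u] : Grpd.GroupoidScheme S where
  U := U'
  R := R' G u
  pU := u ≫ G.pU
  pR := ιR G u ≫ G.pR
  s := s' G u
  t := t' G u
  e := e' G u
  i := i' G u
  c := c' G u
  s_over := by rw [← Category.assoc, s'_u, Category.assoc, G.s_over]
  t_over := by rw [← Category.assoc, t'_u, Category.assoc, G.t_over]
  comp_s := fun α β h => by rw [Category.assoc, c'_s, pullback.lift_snd_assoc]
  comp_t := fun α β h => by rw [Category.assoc, c'_t, pullback.lift_fst_assoc]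
  assoc := fun α β γ h₁ h₂ => by
    apply hom_ext_R'
    rw [key, key, key, key]
    exact mul_assoc (comp_aux h₁) (comp_aux h₂)
  e_s := e'_s G u
  e_t := e'_t G u
  comp_e := fun α => by
    apply hom_ext_R'
    rw [key]
    refine mul_e ?_
    simp only [Category.assoc, e'_ι]
    rw [← Category.assoc (s' G u), s'_u, Category.assoc]
  e_comp := fun α => by
    apply hom_ext_R'
    rw [key]
    refine e_mul ?_
    simp only [Category.assoc, e'_ι]
    rw [← Category.assoc (t' G u), t'_u, Category.assoc]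
  i_s := i'_s G u
  i_t := i'_t G u
  comp_i := fun α => by
    apply hom_ext_R'
    rw [key, mul_i (by simp only [Category.assoc, i'_ι])]
    simp only [Category.assoc, e'_ι]
    rw [← Category.assoc (t' G u), t'_u, Category.assoc]
  i_comp := fun α => by
    apply hom_ext_R'
    rw [key, i_mul (by simp only [Category.assoc, i'_ι])]
    simp only [Category.assoc, e'_ι]
    rw [← Category.assoc (s' G u), s'_u, Category.assoc]

lemma restr_j_mono [Mono u] [Mono G.j] : Mono (restr G u).j := by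
  have key2 : ∀ {T : Scheme.{u}} (a b : T ⟶ R' G u), a ≫ t' G u = b ≫ t' G u →
      a ≫ s' G u = b ≫ s' G u → a = b := by
    intro T a b h1 h2
    apply hom_ext_R'
    rw [← cancel_mono G.j]
    apply pullback.hom_ext
    · simp only [Category.assoc, j_fst]
      rw [← t'_u, ← Category.assoc, ← Category.assoc, h1]
    · simp only [Category.assoc, j_snd]
      rw [← s'_u, ← Category.assoc, ← Category.assoc, h2]
  refine ⟨fun {T} a b hab => ?_⟩
  have h1 : a ≫ (restr G u).t = b ≫ (restr G u).t := by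
    have := congrArg (fun ψ => ψ ≫ pullback.fst _ _) hab
    simp only [Category.assoc, j_fst] at this
    exact this
  have h2 : a ≫ (restr G u).s = b ≫ (restr G u).s := by
    have := congrArg (fun ψ => ψ ≫ pullback.snd _ _) hab
    simp only [Category.assoc, j_snd] at this
    exact this
  exact key2 a b h1 h2

lemma restr_s_props (h : Mor2.IsFinLocFree (v G u)) : Mor2.IsFinLocFree (s' G u) := by
  obtain ⟨h1, h2, h3⟩ := h
  exact ⟨MorphismProperty.of_isPullback (P := @IsFinite) (isPullback_R' G u) h1,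
    MorphismProperty.of_isPullback (P := @Flat) (isPullback_R' G u) h2,
    MorphismProperty.of_isPullback (P := @LocallyOfFinitePresentation) (isPullback_R' G u) h3⟩

/-! ### equivalence of points -/

lemma pt_congr {X Y : Scheme.{u}} {f g : X ⟶ Y} (h : f = g) (x : X) : f.base x = g.base x := by
  rw [h]

lemma rel_symm {a b : G.U} (h : ∃ r : G.R, G.t.base r = a ∧ G.s.base r = b) :
    ∃ r : G.R, G.t.base r = b ∧ G.s.base r = a := by
  obtain ⟨r, h1, h2⟩ := h
  refine ⟨G.i.base r, ?_, ?_⟩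
  · have := pt_congr G.i_t r
    rw [Scheme.Hom.comp_apply] at this
    exact this.trans h2
  · have := pt_congr G.i_s r
    rw [Scheme.Hom.comp_apply] at this
    exact this.trans h1

lemma rel_trans {a b c : G.U} (h : ∃ r : G.R, G.t.base r = a ∧ G.s.base r = b)
    (h' : ∃ r : G.R, G.t.base r = b ∧ G.s.base r = c) :
    ∃ r : G.R, G.t.base r = a ∧ G.s.base r = c := by
  obtain ⟨r₁, h1, h2⟩ := h
  obtain ⟨r₂, h3, h4⟩ := h'
  obtain ⟨z, hz1, hz2⟩ := Scheme.Pullback.exists_preimage_pullback (f := G.s) (g := G.t) r₁ r₂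
    (h2.trans h3.symm)
  refine ⟨G.c.base z, ?_, ?_⟩
  · have := pt_congr (c_t G) z
    rw [Scheme.Hom.comp_apply, Scheme.Hom.comp_apply, hz1] at this
    exact this.trans h1
  · have := pt_congr (c_s G) z
    rw [Scheme.Hom.comp_apply, Scheme.Hom.comp_apply, hz2] at this
    exact this.trans h4

lemma restr_orbit (x : U') :
    ∀ y₁ ∈ (t' G u).base '' ((s' G u).base ⁻¹' {x}),
      ∀ y₂ ∈ (t' G u).base '' ((s' G u).base ⁻¹' {x}),
      ∃ r : G.R, G.t.base r = u.base y₁ ∧ G.s.base r = u.base y₂ := by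
  have aux : ∀ ρ : R' G u, (s' G u).base ρ = x →
      ∃ r : G.R, G.t.base r = u.base ((t' G u).base ρ) ∧ G.s.base r = u.base x := by
    intro ρ hρ
    refine ⟨(ιR G u).base ρ, ?_, ?_⟩
    · have := pt_congr (t'_u G u) ρ
      rw [Scheme.Hom.comp_apply, Scheme.Hom.comp_apply] at this
      exact this.symm
    · have := pt_congr (s'_u G u) ρ
      rw [Scheme.Hom.comp_apply, Scheme.Hom.comp_apply, hρ] at this
      exact this.symm
  rintro _ ⟨ρ₁, hρ₁, rfl⟩ _ ⟨ρ₂, hρ₂, rfl⟩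
  exact rel_trans G (aux ρ₁ hρ₁) (rel_symm G (aux ρ₂ hρ₂))

lemma restr_hb [Mono u]
    (h2 : ∀ E : Set U', (∀ x ∈ E, ∀ y ∈ E, ∃ r : G.R, G.t.base r = u.base x ∧
      G.s.base r = u.base y) → ∃ W : U'.Opens, IsAffineOpen W ∧ E ⊆ (W : Set U')) :
    ∀ x : (restr G u).U, ∃ W : (restr G u).U.Opens, IsAffineOpen W ∧
      (restr G u).t.base '' ((restr G u).s.base ⁻¹' {x}) ⊆ (W : Set (restr G u).U) :=
  fun x => h2 _ (restr_orbit G u x)

/-! ### auxiliary points -/

variable {G u}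

/-- two points of `V` with the same source differ by an arrow of `R'` -/
lemma exists_R'_of_V {Z : Scheme.{u}} (g₁ g₂ : Z ⟶ V G u) (h : g₁ ≫ v G u = g₂ ≫ v G u) :
    ∃ ρ : Z ⟶ R' G u, ρ ≫ t' G u = g₁ ≫ gV G u ∧ ρ ≫ s' G u = g₂ ≫ gV G u := by
  have hs : (g₁ ≫ fV G u) ≫ G.s = (g₂ ≫ fV G u) ≫ G.s := by
    rw [Category.assoc, Category.assoc]; exact h
  have hcomp : (g₁ ≫ fV G u) ≫ G.s = ((g₂ ≫ fV G u) ≫ G.i) ≫ G.t := by
    rw [Category.assoc _ G.i, G.i_t]; exact hs
  have h1 : mul G (g₁ ≫ fV G u) ((g₂ ≫ fV G u) ≫ G.i) ≫ G.t = (g₁ ≫ gV G u) ≫ u := by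
    rw [mul_t hcomp, Category.assoc, Category.assoc, fV_t]
  have h2 : mul G (g₁ ≫ fV G u) ((g₂ ≫ fV G u) ≫ G.i) ≫ G.s = (g₂ ≫ gV G u) ≫ u := by
    rw [mul_s hcomp, Category.assoc _ G.i, G.i_s, Category.assoc, Category.assoc, fV_t]
  exact ⟨liftR _ _ _ h1 h2, liftR_t' _ _ _ _ _, liftR_s' _ _ _ _ _⟩

variable (G u) in
/-- the section of `V ⟶ U'` given by the identities -/
lemma exists_section : ∃ σ : U' ⟶ V G u, σ ≫ v G u = u ∧ σ ≫ gV G u = 𝟙 U' := by
  have h : (u ≫ G.e) ≫ G.t = 𝟙 U' ≫ u := by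
    rw [Category.assoc, G.e_t, Category.comp_id, Category.id_comp]
  refine ⟨liftV (u ≫ G.e) (𝟙 U') h, ?_, liftV_gV _ _ _⟩
  rw [liftV_v, Category.assoc, G.e_s, Category.comp_id]

/-- translating a point of `V` by an arrow -/
lemma exists_translate {Z : Scheme.{u}} (r : Z ⟶ G.R) (g : Z ⟶ V G u)
    (h : r ≫ G.s = g ≫ v G u) :
    ∃ m : Z ⟶ V G u, m ≫ v G u = r ≫ G.t ∧ m ≫ gV G u = g ≫ gV G u := by
  have hcomp : (g ≫ fV G u) ≫ G.s = (r ≫ G.i) ≫ G.t := by
    rw [Category.assoc _ G.i, G.i_t, h, Category.assoc]; rfl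
  have h1 : mul G (g ≫ fV G u) (r ≫ G.i) ≫ G.t = (g ≫ gV G u) ≫ u := by
    rw [mul_t hcomp, Category.assoc, Category.assoc, fV_t]
  refine ⟨liftV _ _ h1, ?_, liftV_gV _ _ _⟩
  rw [liftV_v, mul_s hcomp, Category.assoc, G.i_s]

/-- from an arrow of `R'` between the targets of two points of `V` to an arrow of `R` between
their sources -/
lemma exists_theta {Z : Scheme.{u}} (ω₁ ω₂ : Z ⟶ V G u) (ρ : Z ⟶ R' G u)
    (h₁ : ρ ≫ t' G u = ω₁ ≫ gV G u) (h₂ : ρ ≫ s' G u = ω₂ ≫ gV G u) :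
    ∃ θ : Z ⟶ G.R, θ ≫ G.t = ω₁ ≫ v G u ∧ θ ≫ G.s = ω₂ ≫ v G u := by
  have hA : ((ω₁ ≫ fV G u) ≫ G.i) ≫ G.s = (ρ ≫ ιR G u) ≫ G.t := by
    rw [Category.assoc _ G.i, G.i_s, Category.assoc, Category.assoc, fV_t, ← t'_u,
      ← Category.assoc, ← Category.assoc, h₁]
  have hB : mul G ((ω₁ ≫ fV G u) ≫ G.i) (ρ ≫ ιR G u) ≫ G.s = (ω₂ ≫ fV G u) ≫ G.t := by
    rw [mul_s hA, Category.assoc, Category.assoc, fV_t, ← s'_u, ← Category.assoc,
      ← Category.assoc, h₂]
  refine ⟨mul G (mul G ((ω₁ ≫ fV G u) ≫ G.i) (ρ ≫ ιR G u)) (ω₂ ≫ fV G u), ?_, ?_⟩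
  · rw [mul_t hB, mul_t hA, Category.assoc _ G.i, G.i_t, Category.assoc]; rfl
  · rw [mul_s hB, Category.assoc]; rfl

end Groth.Agent.H37.QSect1
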