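import Groth.Agent.H37.QSect1
import Groth.Agent.H37.QSect2
import Groth.Agent.H49.GQ10
import Mathlib

/-!
# Quotient of a groupoid scheme with a finite locally free quasi-section

The quotient of the restricted groupoid `(U', R')` (H49's finite-groupoid quotient) descends along
the fpqc cover `v : V ⟶ U` to a quotient of `(U, R)`.
-/

set_option autoImplicit false
universe u
open CategoryTheory CategoryTheory.Limits AlgebraicGeometry
open Grpd

namespace Groth.Agent.H37.QSect3

open Groth.Agent.H37.GrpdCalc Groth.Agent.H37.QSect1 Groth.Agent.H37.QSect2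

variable {S : Scheme.{u}} {G : Grpd.GroupoidScheme S} {U' : Scheme.{u}} {u : U' ⟶ G.U}

/-- `(t, s)` is jointly monic when `j` is a monomorphism -/
lemma mono_lift [Mono G.j] {Y : Scheme.{u}} (p : G.U ⟶ Y) (w : G.t ≫ p = G.s ≫ p) :
    Mono (pullback.lift G.t G.s w) := by
  refine ⟨fun {T} a b hab => ?_⟩
  have h1 : a ≫ G.t = b ≫ G.t := by
    have := congrArg (fun ψ => ψ ≫ pullback.fst _ _) hab
    simp only [Category.assoc, pullback.lift_fst] at this
    exact this
  have h2 : a ≫ G.s = b ≫ G.s := by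
    have := congrArg (fun ψ => ψ ≫ pullback.snd _ _) hab
    simp only [Category.assoc, pullback.lift_snd] at this
    exact this
  rw [← cancel_mono G.j]
  apply pullback.hom_ext
  · simp only [Category.assoc, j_fst]
    exact h1
  · simp only [Category.assoc, j_snd]
    exact h2

/-- a flat cover of `U ×_Y U` by pairs of points of `V` -/
lemma exists_cover {Y : Scheme.{u}} (p : G.U ⟶ Y) [Surjective (v G u)] [Flat (v G u)]
    [QuasiCompact (v G u)] :
    ∃ (T : Scheme.{u}) (π : T ⟶ pullback p p) (ω₁ ω₂ : T ⟶ V G u),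
      Surjective π ∧ Flat π ∧ QuasiCompact π ∧ ω₁ ≫ v G u = π ≫ pullback.fst p p ∧
        ω₂ ≫ v G u = π ≫ pullback.snd p p := by
  refine ⟨pullback (pullback.fst (pullback.fst p p) (v G u) ≫ pullback.snd p p) (v G u),
    pullback.fst (pullback.fst (pullback.fst p p) (v G u) ≫ pullback.snd p p) (v G u) ≫
      pullback.fst (pullback.fst p p) (v G u),
    pullback.fst (pullback.fst (pullback.fst p p) (v G u) ≫ pullback.snd p p) (v G u) ≫
      pullback.snd (pullback.fst p p) (v G u),
    pullback.snd (pullback.fst (pullback.fst p p) (v G u) ≫ pullback.snd p p) (v G u),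
    inferInstance, inferInstance, inferInstance, ?_, ?_⟩
  · rw [Category.assoc, Category.assoc, ← pullback.condition]
  · rw [Category.assoc]; exact pullback.condition.symm

/-- descent of the quotient of the restricted groupoid to the whole groupoid -/
theorem descent_main [Mono u] [Surjective (v G u)] [Flat (v G u)] [QuasiCompact (v G u)]
    {Y : Scheme.{u}} (q : U' ⟶ Y) (hq : s' G u ≫ q = t' G u ≫ q) [Epi q] [Surjective q]
    [IsIntegralHom q] (hqopen : IsOpenMap q.base)
    (hdesc : ∀ {Z : Scheme.{u}} (g : U' ⟶ Z), s' G u ≫ g = t' G u ≫ g →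
      ∃ g' : Y ⟶ Z, q ≫ g' = g)
    (hsurj : Function.Surjective (pullback.lift (t' G u) (s' G u) hq.symm).base)
    (hmono : Mono G.j → Flat q ∧ IsIso (pullback.lift (t' G u) (s' G u) hq.symm)) :
    ∃ (p : G.U ⟶ Y) (w : G.t ≫ p = G.s ≫ p),
      Nonempty (IsColimit (Cofork.ofπ p w)) ∧ Surjective p ∧
      (IsOpenMap G.t.base → IsOpenMap p.base) ∧ (UniversallyClosed G.t → UniversallyClosed p) ∧
      Function.Surjective (pullback.lift G.t G.s w).base ∧
      (Mono G.j → IsPullback G.t G.s p p ∧ (Flat G.t → Flat p)) := by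
  -- the quotient morphism
  have hd : ∀ {Z : Scheme.{u}} (g₁ g₂ : Z ⟶ V G u), g₁ ≫ v G u = g₂ ≫ v G u →
      g₁ ≫ gV G u ≫ q = g₂ ≫ gV G u ≫ q := by
    intro Z g₁ g₂ h
    obtain ⟨ρ, e1, e2⟩ := exists_R'_of_V g₁ g₂ h
    rw [← Category.assoc, ← e1, ← Category.assoc, ← e2, Category.assoc, Category.assoc, hq]
  obtain ⟨p, hp⟩ : ∃ p : G.U ⟶ Y, v G u ≫ p = gV G u ≫ q :=
    ⟨EffectiveEpi.desc (v G u) (gV G u ≫ q) hd, EffectiveEpi.fac _ _ _⟩
  have hup : u ≫ p = q := by
    obtain ⟨σ, e1, e2⟩ := exists_section G u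
    calc u ≫ p = (σ ≫ v G u) ≫ p := by rw [e1]
      _ = (σ ≫ gV G u) ≫ q := by rw [Category.assoc, hp, Category.assoc]
      _ = q := by rw [e2, Category.id_comp]
  -- invariance
  have w : G.t ≫ p = G.s ≫ p := by
    haveI : Epi (pullback.fst G.s (v G u)) := Flat.epi_of_flat_of_surjective _
    rw [← cancel_epi (pullback.fst G.s (v G u))]
    obtain ⟨m, hm1, hm2⟩ := exists_translate (pullback.fst G.s (v G u))
      (pullback.snd G.s (v G u)) pullback.condition
    calc pullback.fst G.s (v G u) ≫ G.t ≫ p = (m ≫ v G u) ≫ p := by rw [hm1, Category.assoc]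
      _ = (pullback.snd G.s (v G u) ≫ gV G u) ≫ q := by
          rw [Category.assoc, hp, ← Category.assoc, hm2]
      _ = pullback.snd G.s (v G u) ≫ v G u ≫ p := by rw [hp, Category.assoc]
      _ = pullback.fst G.s (v G u) ≫ G.s ≫ p := by
          rw [← Category.assoc, ← pullback.condition, Category.assoc]
  -- the coequalizer property
  haveI : Epi (v G u) := Flat.epi_of_flat_of_surjective _
  have hex : ∀ c : Cofork G.t G.s, ∃ g' : Y ⟶ c.pt, p ≫ g' = c.π := by
    intro c
    have hc : s' G u ≫ (u ≫ c.π) = t' G u ≫ (u ≫ c.π) := by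
      rw [← Category.assoc, s'_u, ← Category.assoc, t'_u, Category.assoc, Category.assoc,
        c.condition]
    obtain ⟨g', hg'⟩ := hdesc (u ≫ c.π) hc
    refine ⟨g', ?_⟩
    rw [← cancel_epi (v G u), ← Category.assoc, hp, Category.assoc, hg', ← Category.assoc,
      ← fV_t, Category.assoc, c.condition, ← Category.assoc]
    rfl
  have hcoeq : Nonempty (IsColimit (Cofork.ofπ p w)) :=
    ⟨Cofork.IsColimit.mk _ (fun c => (hex c).choose) (fun c => (hex c).choose_spec)
      (fun c m hm => by
        have hm' : p ≫ m = c.π := hm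
        rw [← cancel_epi q, ← hup, Category.assoc, Category.assoc, hm', (hex c).choose_spec])⟩
  -- surjectivity
  have hps : Surjective p := by
    haveI : Surjective (u ≫ p) := by rw [hup]; infer_instance
    exact Surjective.of_comp u p
  -- openness
  have hopen : IsOpenMap G.t.base → IsOpenMap p.base := by
    intro ht W hW
    have himg : p.base '' W = q.base '' (u.base ⁻¹' (G.t.base '' (G.s.base ⁻¹' W))) := by
      ext y
      constructor
      · rintro ⟨x, hx, rfl⟩
        obtain ⟨g, rfl⟩ := (v G u).surjective x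
        have e0 : (v G u).base g = G.s.base ((fV G u).base g) :=
          Scheme.Hom.comp_apply (fV G u) G.s g
        have e1 : G.t.base ((fV G u).base g) = u.base ((gV G u).base g) := by
          have := pt_congr (fV_t G u) g
          rwa [Scheme.Hom.comp_apply, Scheme.Hom.comp_apply] at this
        have e2 : p.base ((v G u).base g) = q.base ((gV G u).base g) := by
          have := pt_congr hp g
          rwa [Scheme.Hom.comp_apply, Scheme.Hom.comp_apply] at this
        refine ⟨(gV G u).base g, ⟨(fV G u).base g, ?_, e1⟩, e2.symm⟩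
        show G.s.base ((fV G u).base g) ∈ W
        rw [← e0]; exact hx
      · rintro ⟨a, ⟨r, hr, hra⟩, rfl⟩
        have e1 : p.base (G.t.base r) = p.base (G.s.base r) := by
          have := pt_congr w r
          rwa [Scheme.Hom.comp_apply, Scheme.Hom.comp_apply] at this
        have e2 : p.base (u.base a) = q.base a := by
          have := pt_congr hup a
          rwa [Scheme.Hom.comp_apply] at this
        exact ⟨G.s.base r, hr, by rw [← e2, ← hra, e1]⟩
    rw [himg]
    exact hqopen _ ((ht _ (hW.preimage G.s.continuous)).preimage u.continuous)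
  -- universal closedness
  have hcl : UniversallyClosed G.t → UniversallyClosed p := by
    intro ht
    haveI : UniversallyClosed (gV G u) :=
      MorphismProperty.of_isPullback (P := @UniversallyClosed) (isPullback_V G u) ht
    haveI : UniversallyClosed (v G u ≫ p) := by rw [hp]; infer_instance
    exact UniversallyClosed.of_comp_surjective (v G u) p
  -- a cover of `U ×_Y U`
  obtain ⟨T, π, ω₁, ω₂, hπ1, hπ2, hπ3, h1, h2⟩ := exists_cover (G := G) (u := u) p
  haveI := hπ1
  haveI := hπ2
  haveI := hπ3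
  have hκ : (ω₁ ≫ gV G u) ≫ q = (ω₂ ≫ gV G u) ≫ q := by
    rw [Category.assoc, ← hp, ← Category.assoc, h1, Category.assoc, pullback.condition,
      ← Category.assoc, ← h2, Category.assoc, hp, Category.assoc]
  obtain ⟨κ, hκ1, hκ2⟩ : ∃ κ : T ⟶ pullback q q, κ ≫ pullback.fst q q = ω₁ ≫ gV G u ∧
      κ ≫ pullback.snd q q = ω₂ ≫ gV G u :=
    ⟨pullback.lift _ _ hκ, pullback.lift_fst _ _ _, pullback.lift_snd _ _ _⟩
  have hΦs : Function.Surjective (pullback.lift G.t G.s w).base := by
    haveI : Surjective (pullback.lift (t' G u) (s' G u) hq.symm) := ⟨hsurj⟩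
    have e1 : pullback.snd κ (pullback.lift (t' G u) (s' G u) hq.symm) ≫ t' G u =
        (pullback.fst κ (pullback.lift (t' G u) (s' G u) hq.symm) ≫ ω₁) ≫ gV G u := by
      have := congrArg (fun ψ => ψ ≫ pullback.fst q q)
        (pullback.condition (f := κ) (g := pullback.lift (t' G u) (s' G u) hq.symm))
      simp only [Category.assoc, pullback.lift_fst, hκ1] at this
      rw [Category.assoc]; exact this.symm
    have e2 : pullback.snd κ (pullback.lift (t' G u) (s' G u) hq.symm) ≫ s' G u =
        (pullback.fst κ (pullback.lift (t' G u) (s' G u) hq.symm) ≫ ω₂) ≫ gV G u := by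
      have := congrArg (fun ψ => ψ ≫ pullback.snd q q)
        (pullback.condition (f := κ) (g := pullback.lift (t' G u) (s' G u) hq.symm))
      simp only [Category.assoc, pullback.lift_snd, hκ2] at this
      rw [Category.assoc]; exact this.symm
    obtain ⟨θ, hθ1, hθ2⟩ := exists_theta _ _ _ e1 e2
    have hθ : θ ≫ pullback.lift G.t G.s w =
        pullback.fst κ (pullback.lift (t' G u) (s' G u) hq.symm) ≫ π := by
      apply pullback.hom_ext
      · rw [Category.assoc, pullback.lift_fst, hθ1, Category.assoc, h1, Category.assoc]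
      · rw [Category.assoc, pullback.lift_snd, hθ2, Category.assoc, h2, Category.assoc]
    exact surjective_of_cover _ _ θ hθ
  refine ⟨p, w, hcoeq, hps, hopen, hcl, hΦs, fun hj => ?_⟩
  haveI := hj
  obtain ⟨hqf, hiso⟩ := hmono hj
  haveI := hqf
  haveI := hiso
  haveI : Mono (pullback.lift G.t G.s w) := mono_lift p w
  constructor
  · have e1 : (κ ≫ inv (pullback.lift (t' G u) (s' G u) hq.symm)) ≫ t' G u = ω₁ ≫ gV G u := by
      rw [← hκ1, Category.assoc]
      congr 1
      rw [IsIso.inv_comp_eq, pullback.lift_fst]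
    have e2 : (κ ≫ inv (pullback.lift (t' G u) (s' G u) hq.symm)) ≫ s' G u = ω₂ ≫ gV G u := by
      rw [← hκ2, Category.assoc]
      congr 1
      rw [IsIso.inv_comp_eq, pullback.lift_snd]
    obtain ⟨θ, hθ1, hθ2⟩ := exists_theta _ _ _ e1 e2
    have hθ : θ ≫ pullback.lift G.t G.s w = π := by
      apply pullback.hom_ext
      · rw [Category.assoc, pullback.lift_fst, hθ1, h1]
      · rw [Category.assoc, pullback.lift_snd, hθ2, h2]
    haveI : IsIso (pullback.lift G.t G.s w) := isIso_of_mono_of_effectiveEpi_lift _ π θ hθ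
    exact IsPullback.of_iso_pullback ⟨w⟩ (asIso (pullback.lift G.t G.s w))
      (pullback.lift_fst _ _ _) (pullback.lift_snd _ _ _)
  · intro htf
    haveI := htf
    haveI : Flat (gV G u) := MorphismProperty.of_isPullback (P := @Flat) (isPullback_V G u) htf
    haveI : Flat (v G u ≫ p) := by rw [hp]; infer_instance
    exact flat_of_comp_surjective (v G u) p

/-- the quotient of the restricted groupoid -/
theorem exists_quotient [Mono u] (h1 : Mor2.IsFinLocFree (v G u))
    (h2 : ∀ E : Set U', (∀ x ∈ E, ∀ y ∈ E, ∃ r : G.R, G.t.base r = u.base x ∧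
      G.s.base r = u.base y) → ∃ W : U'.Opens, IsAffineOpen W ∧ E ⊆ (W : Set U')) :
    ∃ (Y : Scheme.{u}) (q : U' ⟶ Y) (hq : s' G u ≫ q = t' G u ≫ q), Epi q ∧ Surjective q ∧
      IsIntegralHom q ∧ IsOpenMap q.base ∧
      (∀ {Z : Scheme.{u}} (g : U' ⟶ Z), s' G u ≫ g = t' G u ≫ g → ∃ g' : Y ⟶ Z, q ≫ g' = g) ∧
      Function.Surjective (pullback.lift (t' G u) (s' G u) hq.symm).base ∧
      (Mono G.j → Flat q ∧ IsIso (pullback.lift (t' G u) (s' G u) hq.symm)) := by
  obtain ⟨k1, k2, k3⟩ := restr_s_props G u h1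
  haveI : IsFinite (restr G u).s := k1
  haveI : Flat (restr G u).s := k2
  haveI : LocallyOfFinitePresentation (restr G u).s := k3
  have hT := Groth.Agent.H49.GQ7.goodFamily_top (G := restr G u) (restr_hb G u h2)
  refine ⟨Groth.Agent.H49.GQ6.Y (restr G u), Groth.Agent.H49.GQ7.q hT,
    Groth.Agent.H49.GQ7.s_q_eq_t_q hT, Groth.Agent.H49.GQ9.epi_q hT,
    Groth.Agent.H49.GQ7.surjective_q hT, Groth.Agent.H49.GQ7.isIntegralHom_q hT,
    Groth.Agent.H49.GQ10.isOpenMap_q hT,
    fun g hg => Groth.Agent.H49.GQ9.exists_desc hT g hg,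
    Groth.Agent.H49.GQ10.lift_surjective hT, fun hj => ?_⟩
  haveI := hj
  haveI : Mono (restr G u).j := restr_j_mono G u
  exact ⟨Groth.Agent.H49.GQ8.flat_q hT, Groth.Agent.H49.GQ8.isIso_lift hT⟩

end Groth.Agent.H37.QSect3
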