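import Mathlib

/-!
# Quasi-compact covers: composition in arbitrary universes
-/

set_option autoImplicit false
universe w w' u
open CategoryTheory CategoryTheory.Limits AlgebraicGeometry

namespace Groth.Agent.H37

theorem quasiCompactCover_bind {X : Scheme.{u}} (𝒰 : PreZeroHypercover.{w} X)
    [QuasiCompactCover 𝒰] (f : ∀ (x : 𝒰.I₀), PreZeroHypercover.{w'} (𝒰.X x))
    [∀ x, QuasiCompactCover (f x)] : QuasiCompactCover (𝒰.bind f) where
  isCompactOpenCovered_of_isAffineOpen {U} hU := by
    obtain ⟨s, hs, V, hcV, hU⟩ := hU.isCompactOpenCovered 𝒰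
    have (i) (hi) : IsCompactOpenCovered ((f i).f ·) (V i hi) :=
      QuasiCompactCover.isCompactOpenCovered_of_isCompact (f i) (hcV i hi)
    choose t ht W hcW hV using this
    have : Finite s := hs
    have (i) (hi) : Finite (t i hi) := ht i hi
    refine .of_finite (κ := Σ (i : s), t i.1 i.2) (fun p ↦ ⟨p.1, p.2⟩) (fun p ↦ W _ p.1.2 _ p.2.2)
      (fun p ↦ hcW ..) ?_
    simpa [← hV, Set.iUnion_sigma, Set.iUnion_subtype, Set.image_iUnion, Set.image_image] using! hU

end Groth.Agent.H37
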