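import Mathlib

/-! (QCU) for helper29's S1370 squad: compactness of the preimage of an open that is quasi-compact
over the base, after an affine base change. -/

set_option autoImplicit false
universe u
open AlgebraicGeometry CategoryTheory Limits TopologicalSpace

namespace Groth.Agent.H37.RAU_QCU

theorem isCompact_preimage_of_isPullback {X X' S S' : Scheme.{u}} (f : X ⟶ S) (U : X.Opens)
    [QuasiCompact (U.ι ≫ f)] (g : S' ⟶ S) (f' : X' ⟶ S') (g' : X' ⟶ X)
    (sq : IsPullback g' f' f g) [IsAffine S'] :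
    IsCompact ((g' ⁻¹ᵁ U : X'.Opens) : Set X') := by
  have h1 : IsPullback (g' ∣_ U) (g' ⁻¹ᵁ U).ι U.ι g' := isPullback_morphismRestrict g' U
  have h2 : IsPullback (g' ∣_ U) ((g' ⁻¹ᵁ U).ι ≫ f') (U.ι ≫ f) g := h1.paste_vert sq
  have hq : QuasiCompact ((g' ⁻¹ᵁ U).ι ≫ f') :=
    MorphismProperty.of_isPullback (P := @QuasiCompact) h2 inferInstance
  have hc : CompactSpace ((g' ⁻¹ᵁ U : X'.Opens) : Scheme.{u}) :=
    QuasiCompact.compactSpace_of_compactSpace ((g' ⁻¹ᵁ U).ι ≫ f')
  have h3 := isCompact_range ((g' ⁻¹ᵁ U).ι.continuous)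
  rwa [Scheme.Opens.range_ι] at h3

end Groth.Agent.H37.RAU_QCU
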