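import Groth.Agent.H37.SubGrpd3
import Groth.Agent.H37.FieldBase
import Groth.Agent.H37.GrpObjGrpd
import Groth.Agent.H30.ShQuot2
import Groth.Agent.S8026
import Mathlib

/-!
# Schemes locally of finite type over a field with a dense set of rational points

* `eq_lift_of_sections`: a point of `X ×_S Y` whose projections are values of sections is the value
  of the product section.
* `geometricallyReduced_of_dense_sections`: a reduced scheme locally of finite type over a field
  `k` with a dense set of `k`-rational points is geometrically reduced.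
* `exists_closure_subgroup`: the reduced Zariski closure of a subgroup of `G(k)` is a smooth closed
  subgroup scheme of `G` (`G` locally of finite type over `k`).
-/

set_option autoImplicit false
set_option linter.unusedSimpArgs false
universe u
open CategoryTheory CategoryTheory.Limits AlgebraicGeometry TensorProduct

namespace Groth.Agent.H37.RatDense

/-- a point of `X ×_S Y` both of whose projections are values of sections of `X` and `Y` is the
value of the product section -/
theorem eq_lift_of_sections {X Y S : Scheme.{u}} (a : X ⟶ S) (b : Y ⟶ S) (σ : S ⟶ X) (τ : S ⟶ Y)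
    (hσ : σ ≫ a = 𝟙 S) (hτ : τ ≫ b = 𝟙 S) (q : ↥(pullback a b)) (s₁ s : S)
    (h1 : pullback.fst a b q = σ s₁) (h2 : pullback.snd a b q = τ s) :
    q = pullback.lift σ τ (by rw [hσ, hτ]) s := by
  obtain ⟨r, -, hr⟩ := Scheme.Pullback.exists_preimage_pullback (f := σ)
    (g := pullback.fst a b) s₁ q h1.symm
  have c1 : pullback.fst σ (pullback.fst a b) ≫ σ =
      pullback.snd σ (pullback.fst a b) ≫ pullback.fst a b := pullback.condition
  have c2 : pullback.fst a b ≫ a = pullback.snd a b ≫ b := pullback.condition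
  obtain ⟨L, hL1, hL2⟩ : ∃ L : Y ⟶ pullback a b, L ≫ pullback.fst a b = b ≫ σ ∧
      L ≫ pullback.snd a b = 𝟙 Y :=
    ⟨pullback.lift (b ≫ σ) (𝟙 Y) (by rw [Category.assoc, hσ, Category.comp_id, Category.id_comp]),
      pullback.lift_fst _ _ _, pullback.lift_snd _ _ _⟩
  have hw : pullback.snd σ (pullback.fst a b) =
      (pullback.snd σ (pullback.fst a b) ≫ pullback.snd a b) ≫ L := by
    apply pullback.hom_ext
    · calc pullback.snd σ (pullback.fst a b) ≫ pullback.fst a b
          = pullback.fst σ (pullback.fst a b) ≫ σ := c1.symm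
        _ = pullback.fst σ (pullback.fst a b) ≫ (σ ≫ a) ≫ σ := by rw [hσ, Category.id_comp]
        _ = (pullback.fst σ (pullback.fst a b) ≫ σ) ≫ a ≫ σ := by simp only [Category.assoc]
        _ = (pullback.snd σ (pullback.fst a b) ≫ pullback.fst a b) ≫ a ≫ σ := by rw [c1]
        _ = pullback.snd σ (pullback.fst a b) ≫ (pullback.fst a b ≫ a) ≫ σ := by
            simp only [Category.assoc]
        _ = pullback.snd σ (pullback.fst a b) ≫ (pullback.snd a b ≫ b) ≫ σ := by rw [c2]
        _ = ((pullback.snd σ (pullback.fst a b) ≫ pullback.snd a b) ≫ L) ≫ pullback.fst a b := by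
            simp only [Category.assoc, hL1]
    · simp only [Category.assoc, hL2, Category.comp_id]
  have hτL : τ ≫ L = pullback.lift σ τ (by rw [hσ, hτ]) := by
    apply pullback.hom_ext
    · rw [Category.assoc, hL1, pullback.lift_fst, ← Category.assoc, hτ, Category.id_comp]
    · rw [Category.assoc, hL2, pullback.lift_snd, Category.comp_id]
  have e1 : q = L (pullback.snd a b q) := by
    rw [← hr]
    have : pullback.snd σ (pullback.fst a b) r =
        ((pullback.snd σ (pullback.fst a b) ≫ pullback.snd a b) ≫ L) r := by rw [← hw]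
    rw [Scheme.Hom.comp_apply, Scheme.Hom.comp_apply] at this
    exact this
  rw [← hτL, Scheme.Hom.comp_apply, ← h2]
  exact e1

/-- affine case: if the `k`-rational points `Sg` of `Spec R` are dense and `R` is reduced of finite
type over `k`, then `R ⊗_k L` is reduced -/
theorem isReduced_pullback_of_dense_affine {k : Type u} [Field k] (R : CommRingCat.{u})
    (φ : CommRingCat.of k ⟶ R) (hred : _root_.IsReduced R) (hft : φ.hom.FiniteType)
    (Sg : Set (R ⟶ CommRingCat.of k)) (hSg : ∀ ψ ∈ Sg, φ ≫ ψ = 𝟙 _)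
    (hd : Dense {z : ↥(Spec R) | ∃ ψ ∈ Sg, (Spec.map ψ) (IsLocalRing.closedPoint k) = z})
    (L : Type u) [Field L] [Algebra k L] :
    IsReduced (pullback (Spec.map φ) (Spec.map (CommRingCat.ofHom (algebraMap k L)))) := by
  letI : Algebra k R := φ.hom.toAlgebra
  haveI : Algebra.FiniteType k R := hft
  have hgr : Algebra.IsGeometricallyReduced k R := by
    refine Groth.Agent.S8026.result k R
      {s : R →ₐ[k] k | ∃ ψ ∈ Sg, ∀ a : R, s a = ψ.hom a} ?_
    intro a ha
    have hsub : {z : ↥(Spec R) | ∃ ψ ∈ Sg, (Spec.map ψ) (IsLocalRing.closedPoint k) = z} ⊆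
        (PrimeSpectrum.zeroLocus ({a} : Set R) : Set (PrimeSpectrum R)) := by
      rintro _ ⟨ψ, hψ, rfl⟩
      refine (PrimeSpectrum.mem_zeroLocus _ _).mpr (Set.singleton_subset_iff.mpr ?_)
      have h0 : ψ.hom a = 0 :=
        ha ⟨ψ.hom, fun c => congrArg
          (fun χ : CommRingCat.of k ⟶ CommRingCat.of k => χ.hom c) (hSg ψ hψ)⟩
          ⟨ψ, hψ, fun _ => rfl⟩
      show ψ.hom a ∈ (IsLocalRing.closedPoint k).asIdeal
      rw [h0]
      exact Ideal.zero_mem _
    have hcl : IsClosed (PrimeSpectrum.zeroLocus ({a} : Set R) : Set (PrimeSpectrum R)) :=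
      PrimeSpectrum.isClosed_zeroLocus _
    have hall : ∀ z : PrimeSpectrum R, a ∈ z.asIdeal := by
      intro z
      have hz : z ∈ (PrimeSpectrum.zeroLocus ({a} : Set R) : Set (PrimeSpectrum R)) :=
        closure_minimal hsub hcl (hd z)
      exact Set.singleton_subset_iff.mp ((PrimeSpectrum.mem_zeroLocus _ _).mp hz)
    have hnil : a ∈ nilradical R := by
      rw [nilradical_eq_sInf, Ideal.mem_sInf]
      intro J hJ
      exact hall ⟨J, hJ⟩
    exact hred.eq_zero a (mem_nilradical.mp hnil)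
  have hiff : Algebra.IsGeometricallyReduced k R ↔
      ∀ (K : Type u) [Field K] [Algebra k K], _root_.IsReduced (K ⊗[k] R) :=
    (Groth.Agent.H25.GeomRed.tfae_geometricallyReduced (k := k) (S := (R : Type u))).out 1 2
  haveI hL : _root_.IsReduced (L ⊗[k] R) := hiff.mp hgr L
  haveI : _root_.IsReduced (R ⊗[k] L) :=
    isReduced_of_injective (Algebra.TensorProduct.comm k R L).toRingEquiv.toRingHom
      (Algebra.TensorProduct.comm k R L).injective
  haveI : IsReduced (Spec (CommRingCat.of (R ⊗[k] L))) := inferInstance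
  exact isReduced_of_isOpenImmersion (pullbackSpecIso k R L).hom

/-- chart case -/
theorem isReduced_pullback_chart {k : Type u} [Field k] {Z : Scheme.{u}}
    (f : Z ⟶ Spec (CommRingCat.of k)) [LocallyOfFiniteType f] [IsReduced Z]
    (Sg : Set (Spec (CommRingCat.of k) ⟶ Z)) (hSg : ∀ σ ∈ Sg, σ ≫ f = 𝟙 _)
    (hd : Dense {z : Z | ∃ σ ∈ Sg, σ (IsLocalRing.closedPoint k) = z})
    (R : CommRingCat.{u}) (j : Spec R ⟶ Z) [IsOpenImmersion j]
    (L : Type u) [Field L] [Algebra k L] :
    IsReduced (pullback (j ≫ f) (Spec.map (CommRingCat.ofHom (algebraMap k L)))) := by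
  haveI hsub : Subsingleton ↥(Spec (CommRingCat.of k)) :=
    inferInstanceAs (Subsingleton (PrimeSpectrum k))
  obtain ⟨φ, hφ⟩ : ∃ φ : CommRingCat.of k ⟶ R, Spec.map φ = j ≫ f := Spec.map_surjective _
  rw [← hφ]
  haveI : IsReduced (Spec R) := isReduced_of_isOpenImmersion j
  have hred : _root_.IsReduced R := (affine_isReduced_iff R).mp inferInstance
  haveI : LocallyOfFiniteType (Spec.map φ) := by rw [hφ]; infer_instance
  have hft : φ.hom.FiniteType :=
    (HasRingHomProperty.Spec_iff (P := @LocallyOfFiniteType)).mp inferInstance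
  refine isReduced_pullback_of_dense_affine R φ hred hft {ψ | Spec.map ψ ≫ j ∈ Sg} ?_ ?_ L
  · intro ψ hψ
    apply Spec.map_injective
    rw [Spec.map_comp, hφ, ← Category.assoc, hSg _ hψ, Spec.map_id]
  · have hpre : Dense (⇑j ⁻¹' {z : Z | ∃ σ ∈ Sg, σ (IsLocalRing.closedPoint k) = z}) :=
      hd.preimage j.isOpenEmbedding.isOpenMap
    refine hpre.mono ?_
    rintro z ⟨σ, hσ, hz⟩
    have hrange : Set.range ⇑σ ⊆ Set.range ⇑j := by
      rintro _ ⟨x, rfl⟩
      rw [Subsingleton.elim x (IsLocalRing.closedPoint k), hz]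
      exact ⟨z, rfl⟩
    obtain ⟨σ', hσ'⟩ : ∃ σ' : Spec (CommRingCat.of k) ⟶ Spec R, σ' ≫ j = σ :=
      ⟨IsOpenImmersion.lift j σ hrange, IsOpenImmersion.lift_fac _ _ _⟩
    obtain ⟨ψ, hψ⟩ := Spec.map_surjective σ'
    refine ⟨ψ, ?_, ?_⟩
    · show Spec.map ψ ≫ j ∈ Sg
      rw [hψ, hσ']; exact hσ
    · apply j.isOpenEmbedding.injective
      rw [hψ, ← Scheme.Hom.comp_apply, hσ', hz]

/-- a reduced scheme locally of finite type over a field `k` with a dense set of `k`-rational
points is geometrically reduced -/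
theorem geometricallyReduced_of_dense_sections {k : Type u} [Field k] {Z : Scheme.{u}}
    (f : Z ⟶ Spec (CommRingCat.of k)) [LocallyOfFiniteType f] [IsReduced Z]
    (Sg : Set (Spec (CommRingCat.of k) ⟶ Z)) (hSg : ∀ σ ∈ Sg, σ ≫ f = 𝟙 _)
    (hd : Dense {z : Z | ∃ σ ∈ Sg, σ (IsLocalRing.closedPoint k) = z}) :
    GeometricallyReduced f := by
  refine ⟨geometrically_iff_of_commRing_of_isClosedUnderIsomorphisms.mpr fun L _ _ => ?_⟩
  haveI : ∀ i, IsReduced ((Scheme.Pullback.openCoverOfLeft Z.affineOpenCover.openCover f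
      (Spec.map (CommRingCat.ofHom (algebraMap k L)))).X i) := fun i =>
    isReduced_pullback_chart f Sg hSg hd (Z.affineOpenCover.X i) (Z.affineOpenCover.f i) L
  exact IsReduced.of_openCover _ (Scheme.Pullback.openCoverOfLeft Z.affineOpenCover.openCover f
      (Spec.map (CommRingCat.ofHom (algebraMap k L))))

section Group

open MonoidalCategory CartesianMonoidalCategory MonObj

/-- the reduced Zariski closure of a subgroup of the group of rational points of a group scheme
locally of finite type over a field is a smooth closed subgroup scheme -/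
theorem exists_closure_subgroup (k : Type u) [Field k]
    (G : Over (Spec (CommRingCat.of k))) [GrpObj G] [LocallyOfFiniteType G.hom]
    (S : Subgroup (𝟙_ (Over (Spec (CommRingCat.of k))) ⟶ G)) :
    ∃ (H : Over (Spec (CommRingCat.of k))) (_ : GrpObj H) (i : H ⟶ G), IsMonHom i ∧
      IsClosedImmersion i.left ∧ Smooth H.hom ∧ IsReduced H.left ∧
      Set.range i.left.base =
        closure ((fun s : (𝟙_ (Over (Spec (CommRingCat.of k))) ⟶ G) => s.left.base (IsLocalRing.closedPoint k)) '' (S : Set _)) := by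
  haveI hsubs : Subsingleton ↥(Spec (CommRingCat.of k)) :=
    inferInstanceAs (Subsingleton (PrimeSpectrum k))
  obtain ⟨E, hE⟩ : ∃ E : Set ↥G.left, E = (fun s : (𝟙_ (Over (Spec (CommRingCat.of k))) ⟶ G) => s.left.base (IsLocalRing.closedPoint k)) '' (S : Set _) := ⟨_, rfl⟩
  rw [← hE]
  have h1 : (1 : 𝟙_ (Over (Spec (CommRingCat.of k))) ⟶ G) = η[G] := by
    rw [Hom.one_def, toUnit_unit, Category.id_comp]
  obtain ⟨muG, invG, oneG, sec, hsecE, hsecw, hsec_mul, hsec_inv, hsec_one, hmu, hinv, hone⟩ :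
    ∃ (muG : pullback G.hom G.hom ⟶ G.left) (invG : G.left ⟶ G.left)
      (oneG : Spec (CommRingCat.of k) ⟶ G.left)
      (sec : (𝟙_ (Over (Spec (CommRingCat.of k))) ⟶ G) → (Spec (CommRingCat.of k) ⟶ G.left)),
      (∀ s, sec s (IsLocalRing.closedPoint k) = s.left.base (IsLocalRing.closedPoint k)) ∧
      (∀ s, sec s ≫ G.hom = 𝟙 _) ∧
      (∀ s₁ s₂ h, sec (s₁ * s₂) = pullback.lift (sec s₁) (sec s₂) h ≫ muG) ∧
      (∀ s, sec s⁻¹ = sec s ≫ invG) ∧ sec 1 = oneG ∧ muG = μ[G].left ∧ invG = ι[G].left ∧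
      oneG = η[G].left :=
    ⟨μ[G].left, ι[G].left, η[G].left, fun s => s.left, fun _ => rfl, fun s => Over.w s,
      fun _ _ _ => rfl, fun _ => rfl, congrArg CommaMorphism.left h1, rfl, rfl, rfl⟩
  have hEmem : ∀ s ∈ S, sec s (IsLocalRing.closedPoint k) ∈ E := by
    intro s hs
    rw [hE]
    exact ⟨s, hs, (hsecE s).symm⟩
  have hEcases : ∀ y ∈ E, ∃ s ∈ S, sec s (IsLocalRing.closedPoint k) = y := by
    intro y hy
    rw [hE] at hy
    obtain ⟨s, hs, rfl⟩ := hy
    exact ⟨s, hs, hsecE s⟩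
  obtain ⟨C, hC⟩ : ∃ C : TopologicalSpace.Closeds G.left, (C : Set G.left) = closure E :=
    ⟨⟨_, isClosed_closure⟩, rfl⟩
  obtain ⟨Z, j, hj, hred, hrange, hfac⟩ : ∃ (Z : Scheme.{u}) (j : Z ⟶ G.left),
      IsClosedImmersion j ∧ IsReduced Z ∧ Set.range ⇑j = (C : Set G.left) ∧
      ∀ {T : Scheme.{u}} [IsReduced T] (h : T ⟶ G.left), (∀ x, h x ∈ (C : Set G.left)) →
        ∃ h' : T ⟶ Z, h' ≫ j = h :=
    ⟨_, (Scheme.IdealSheafData.vanishingIdeal C).subschemeι, inferInstance,
      SubGrpd.isReduced_vanishingIdeal_subscheme C,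
      by rw [Scheme.IdealSheafData.range_subschemeι,
        Scheme.IdealSheafData.coe_support_vanishingIdeal],
      fun h hh => SubGrpd.exists_factor_red C h hh⟩
  haveI := hj
  haveI := hred
  have hjC : ∀ z, j z ∈ closure E := fun z => by
    rw [← hC, ← hrange]; exact ⟨z, rfl⟩
  have hsecC : ∀ s ∈ S, ∀ x, sec s x ∈ (C : Set G.left) := by
    intro s hs x
    rw [hC, Subsingleton.elim x (IsLocalRing.closedPoint k)]
    exact subset_closure (hEmem s hs)
  have hlift : ∀ s ∈ S, ∃ σ : Spec (CommRingCat.of k) ⟶ Z, σ ≫ j = sec s := fun s hs =>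
    hfac _ (hsecC s hs)
  -- geometric reducedness
  haveI : LocallyOfFiniteType (j ≫ G.hom) := inferInstance
  haveI hgr : GeometricallyReduced (j ≫ G.hom) := by
    refine geometricallyReduced_of_dense_sections (j ≫ G.hom)
      {σ | ∃ s ∈ S, σ ≫ j = sec s} ?_ ?_
    · rintro σ ⟨s, hs, hσ⟩
      rw [← Category.assoc, hσ]; exact hsecw s
    · rw [j.isClosedEmbedding.isInducing.dense_iff]
      intro z
      have hsub : E ⊆ ⇑j '' {z : Z | ∃ σ ∈ {σ | ∃ s ∈ S, σ ≫ j = sec s},
          σ (IsLocalRing.closedPoint k) = z} := by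
        intro y hy
        obtain ⟨s, hs, rfl⟩ := hEcases y hy
        obtain ⟨σ, hσ⟩ := hlift s hs
        refine ⟨σ (IsLocalRing.closedPoint k), ⟨σ, ⟨s, hs, hσ⟩, rfl⟩, ?_⟩
        rw [← Scheme.Hom.comp_apply, hσ]
      exact closure_mono hsub (hjC z)
  -- the unit
  obtain ⟨e', he'⟩ : ∃ e' : Spec (CommRingCat.of k) ⟶ Z, e' ≫ j = oneG := by
    obtain ⟨σ, hσ⟩ := hlift 1 S.one_mem
    exact ⟨σ, hσ.trans hsec_one⟩
  -- the inverse
  have hinvE : ∀ y ∈ closure E, invG y ∈ closure E := by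
    intro y hy
    have hsub : ⇑invG '' E ⊆ E := by
      rintro _ ⟨y', hy', rfl⟩
      obtain ⟨s, hs, rfl⟩ := hEcases y' hy'
      have := hEmem s⁻¹ (S.inv_mem hs)
      rw [hsec_inv, Scheme.Hom.comp_apply] at this
      exact this
    exact closure_mono hsub (image_closure_subset_closure_image invG.continuous ⟨y, hy, rfl⟩)
  obtain ⟨i', hi'⟩ := hfac (j ≫ invG) (fun z => by
    rw [Scheme.Hom.comp_apply, hC]; exact hinvE _ (hjC z))
  -- the multiplication
  have hmulE : ∀ q : ↥(pullback G.hom G.hom), pullback.fst G.hom G.hom q ∈ closure E →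
      pullback.snd G.hom G.hom q ∈ closure E → muG q ∈ closure E := by
    intro q hq1 hq2
    have hq := mem_closure_inter_of_field_base (IsPullback.of_hasPullback G.hom G.hom) k
      (Iso.refl _) E E q hq1 hq2
    have hsub : ⇑muG '' (⇑(pullback.fst G.hom G.hom) ⁻¹' E ∩
        ⇑(pullback.snd G.hom G.hom) ⁻¹' E) ⊆ E := by
      rintro _ ⟨q', ⟨hq1', hq2'⟩, rfl⟩
      obtain ⟨s₁, hs₁, hs₁'⟩ := hEcases _ hq1'
      obtain ⟨s₂, hs₂, hs₂'⟩ := hEcases _ hq2'
      have hq' := eq_lift_of_sections G.hom G.hom (sec s₁) (sec s₂) (hsecw s₁) (hsecw s₂) q' _ _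
        hs₁'.symm hs₂'.symm
      rw [hq', ← Scheme.Hom.comp_apply, ← hsec_mul s₁ s₂]
      exact hEmem _ (S.mul_mem hs₁ hs₂)
    exact closure_mono hsub (image_closure_subset_closure_image muG.continuous ⟨q, hq, rfl⟩)
  haveI hP : IsReduced (pullback (j ≫ G.hom) (j ≫ G.hom)) := Groth.Agent.S4628.result _ _
  have hcondm : (pullback.fst (j ≫ G.hom) (j ≫ G.hom) ≫ j) ≫ G.hom =
      (pullback.snd (j ≫ G.hom) (j ≫ G.hom) ≫ j) ≫ G.hom := by
    simp only [Category.assoc]; exact pullback.condition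
  obtain ⟨m, hm1, hm2⟩ : ∃ m : pullback (j ≫ G.hom) (j ≫ G.hom) ⟶ pullback G.hom G.hom,
      m ≫ pullback.fst G.hom G.hom = pullback.fst (j ≫ G.hom) (j ≫ G.hom) ≫ j ∧
      m ≫ pullback.snd G.hom G.hom = pullback.snd (j ≫ G.hom) (j ≫ G.hom) ≫ j :=
    ⟨pullback.lift _ _ hcondm, pullback.lift_fst _ _ _, pullback.lift_snd _ _ _⟩
  obtain ⟨c', hc'⟩ := hfac (m ≫ muG) (fun p => by
    rw [Scheme.Hom.comp_apply, hC]
    refine hmulE _ ?_ ?_
    · rw [← Scheme.Hom.comp_apply, hm1, Scheme.Hom.comp_apply]; exact hjC _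
    · rw [← Scheme.Hom.comp_apply, hm2, Scheme.Hom.comp_apply]; exact hjC _)
  -- the subgroup
  obtain ⟨i, hi⟩ : ∃ i : Over.mk (j ≫ G.hom) ⟶ G, i.left = j := ⟨Over.homMk j rfl, rfl⟩
  haveI : Mono i := by
    haveI : Mono i.left := by rw [hi]; infer_instance
    exact Over.mono_of_mono_left i
  have hone' : ∃ e : 𝟙_ (Over (Spec (CommRingCat.of k))) ⟶ Over.mk (j ≫ G.hom),
      e ≫ i = η[G] := by
    refine ⟨Over.homMk e' ?_, ?_⟩
    · show e' ≫ j ≫ G.hom = 𝟙 _
      rw [← Category.assoc, he', hone]; exact GrpObjGrpd.η_hom G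
    · ext
      show e' ≫ i.left = η[G].left
      rw [hi, he', hone]
  have hinvw : invG ≫ G.hom = G.hom := by rw [hinv]; exact GrpObjGrpd.ι_hom G
  have hinv' : ∀ {T : Over (Spec (CommRingCat.of k))} (x : T ⟶ Over.mk (j ≫ G.hom)),
      ∃ z : T ⟶ Over.mk (j ≫ G.hom), z ≫ i = (x ≫ i)⁻¹ := by
    intro T x
    have hx : x.left ≫ j ≫ G.hom = T.hom := Over.w x
    refine ⟨Over.homMk (x.left ≫ i') ?_, ?_⟩
    · show (x.left ≫ i') ≫ j ≫ G.hom = T.hom
      rw [Category.assoc, ← Category.assoc i', hi', Category.assoc, hinvw, hx]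
    · ext
      show (x.left ≫ i') ≫ i.left = (x.left ≫ i.left) ≫ ι[G].left
      rw [hi, Category.assoc, hi', hinv, Category.assoc]
  have hmul' : ∀ {T : Over (Spec (CommRingCat.of k))} (x y : T ⟶ Over.mk (j ≫ G.hom)),
      ∃ z : T ⟶ Over.mk (j ≫ G.hom), z ≫ i = (x ≫ i) * (y ≫ i) := by
    intro T x y
    have hx : x.left ≫ j ≫ G.hom = T.hom := Over.w x
    have hy : y.left ≫ j ≫ G.hom = T.hom := Over.w y
    have hxy : x.left ≫ j ≫ G.hom = y.left ≫ j ≫ G.hom := hx.trans hy.symm
    have hxy' : (x.left ≫ i.left) ≫ G.hom = (y.left ≫ i.left) ≫ G.hom := by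
      rw [hi]; simpa only [Category.assoc] using hxy
    have hfin : ((x ≫ i) * (y ≫ i)).left =
        pullback.lift (x.left ≫ i.left) (y.left ≫ i.left) hxy' ≫ muG := by
      rw [hmu]; rfl
    have hz : (pullback.lift x.left y.left hxy ≫ c') ≫ j =
        pullback.lift (x.left ≫ i.left) (y.left ≫ i.left) hxy' ≫ muG := by
      rw [Category.assoc, hc', ← Category.assoc]
      congr 1
      apply pullback.hom_ext
      · rw [Category.assoc, hm1, pullback.lift_fst_assoc, pullback.lift_fst, hi]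
      · rw [Category.assoc, hm2, pullback.lift_snd_assoc, pullback.lift_snd, hi]
    refine ⟨Over.homMk (pullback.lift x.left y.left hxy ≫ c') ?_, ?_⟩
    · show (pullback.lift x.left y.left hxy ≫ c') ≫ j ≫ G.hom = T.hom
      rw [← Category.assoc, hz, ← hfin]
      exact Over.w _
    · ext
      show (pullback.lift x.left y.left hxy ≫ c') ≫ i.left = _
      rw [hi, hz, hfin]
  obtain ⟨str, hstr⟩ := Groth.Agent.H30.ShQuot.exists_grpObj_of_closed i hmul' hinv' hone'
  refine ⟨Over.mk (j ≫ G.hom), str, i, hstr, by rw [hi]; exact hj, ?_, hred, ?_⟩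
  · letI := str
    exact smooth_of_grpObj (j ≫ G.hom)
  · rw [hi]
    exact hrange.trans hC

end Group

end Groth.Agent.H37.RatDense
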