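import Groth.Agent.H37.EpiSections

/-!
# Mumford's rigidity lemma over a general base

`ξ : X ⟶ S` universally closed and surjective with `O_S ≅ ξ_* O_X`, `f : X ⟶ Y` over `S`.  The set of
points of `S` over which `f` contracts the fibre of `ξ` is open, and over it `f` factors through
`ξ`; more generally the base change of `f` to `T ⟶ S` factors through `T` iff `T` maps into this
open set.
-/

set_option autoImplicit false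
universe u
open CategoryTheory CategoryTheory.Limits AlgebraicGeometry

namespace Groth.Agent.H37.RigidBase

open Groth.Agent.H37.EpiSections

section

variable {X Y S : Scheme.{u}} (ξ : X ⟶ S) (f : X ⟶ Y)

theorem bijective_restrict_app (h0 : ∀ U : S.Opens, Function.Bijective (ξ.app U).hom)
    (W : S.Opens) (W' : (W : Scheme.{u}).Opens) :
    Function.Bijective ((ξ ∣_ W).app W').hom := by
  rw [morphismRestrict_app]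
  have h1 := h0 (W.ι ''ᵁ W')
  have h2 : Function.Bijective
      (X.presheaf.map (eqToHom (image_morphismRestrict_preimage ξ W W')).op).hom :=
    ConcreteCategory.bijective_of_isIso _
  exact h2.comp h1

theorem epi_restrict [Surjective ξ] (h0 : ∀ U : S.Opens, Function.Bijective (ξ.app U).hom)
    (W : S.Opens) : Epi (ξ ∣_ W) := by
  haveI : Surjective (ξ ∣_ W) := IsZariskiLocalAtTarget.restrict (P := @Surjective) ‹Surjective ξ› W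
  exact epi_of_surjective_of_app_injective _ (ξ ∣_ W).surjective
    (fun W' => (bijective_restrict_app ξ h0 W W').1)

theorem restrict_homOfLE {W' W : S.Opens} (hle : W' ≤ W) :
    (ξ ∣_ W') ≫ S.homOfLE hle =
      X.homOfLE (show ξ ⁻¹ᵁ W' ≤ ξ ⁻¹ᵁ W from fun _ hx => hle hx) ≫ (ξ ∣_ W) := by
  rw [← cancel_mono W.ι, Category.assoc, Category.assoc, Scheme.homOfLE_ι,
    morphismRestrict_ι ξ W', morphismRestrict_ι ξ W, ← Category.assoc, Scheme.homOfLE_ι]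

theorem restrict_factor {W' W : S.Opens} (hle : W' ≤ W) (ρ : (W : Scheme.{u}) ⟶ Y)
    (h : (ξ ⁻¹ᵁ W).ι ≫ f = (ξ ∣_ W) ≫ ρ) :
    (ξ ⁻¹ᵁ W').ι ≫ f = (ξ ∣_ W') ≫ S.homOfLE hle ≫ ρ := by
  rw [← Category.assoc, restrict_homOfLE ξ hle, Category.assoc, ← h, ← Category.assoc,
    Scheme.homOfLE_ι]

theorem local_factor [UniversallyClosed ξ]
    (h0 : ∀ U : S.Opens, Function.Bijective (ξ.app U).hom)
    (s : S) (y : Y) (hy : ∀ x : X, ξ x = s → f x = y) :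
    ∃ (S' : S.Opens) (r : (S' : Scheme.{u}) ⟶ Y), s ∈ S' ∧
      (ξ ⁻¹ᵁ S').ι ≫ f = (ξ ∣_ S') ≫ r := by
  obtain ⟨V, hV', hyV⟩ : ∃ V : Y.Opens, IsAffineOpen V ∧ y ∈ V := by
    obtain ⟨V, hV, hyV, -⟩ := TopologicalSpace.Opens.isBasis_iff_nbhd.mp Y.isBasis_affineOpens
      (show y ∈ (⊤ : Y.Opens) from trivial)
    exact ⟨V, hV, hyV⟩
  have hC : IsClosed (ξ '' (f ⁻¹' (V : Set Y)ᶜ)) :=
    ξ.isClosedMap _ (V.isOpen.isClosed_compl.preimage f.continuous)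
  have hsC : s ∉ ξ '' (f ⁻¹' (V : Set Y)ᶜ) := by
    rintro ⟨w, hw, hws⟩
    exact hw (by rw [hy w hws]; exact hyV)
  obtain ⟨S', hS'⟩ : ∃ S' : S.Opens, (S' : Set S) = (ξ '' (f ⁻¹' (V : Set Y)ᶜ))ᶜ :=
    ⟨⟨_, hC.isOpen_compl⟩, rfl⟩
  have hsS' : s ∈ S' := by
    show s ∈ (S' : Set S)
    rw [hS']; exact hsC
  have hVU : ∀ w : X, ξ w ∈ S' → f w ∈ V := by
    intro w hw
    by_contra hwV
    have h1 : ξ w ∈ (S' : Set S) := hw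
    rw [hS'] at h1
    exact h1 ⟨w, hwV, rfl⟩
  haveI : IsAffine (V : Scheme.{u}) := hV'
  have hr1 : Set.range ((ξ ⁻¹ᵁ S').ι ≫ f) ⊆ Set.range V.ι := by
    rintro _ ⟨w, rfl⟩
    rw [Scheme.Opens.range_ι]
    exact hVU ((ξ ⁻¹ᵁ S').ι w) w.2
  obtain ⟨m1, hm1⟩ : ∃ m1 : ((ξ ⁻¹ᵁ S' : X.Opens) : Scheme.{u}) ⟶ V,
      m1 ≫ V.ι = (ξ ⁻¹ᵁ S').ι ≫ f :=
    ⟨IsOpenImmersion.lift V.ι _ hr1, IsOpenImmersion.lift_fac _ _ _⟩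
  have hbij : Function.Bijective (ξ ∣_ S').appTop.hom := bijective_restrict_app ξ h0 S' ⊤
  haveI : IsIso (ξ ∣_ S').appTop := (ConcreteCategory.isIso_iff_bijective _).mpr hbij
  obtain ⟨ψ, hψ⟩ : ∃ ψ : Γ((V : Scheme.{u}), ⊤) ⟶ Γ((S' : Scheme.{u}), ⊤),
      ψ ≫ (ξ ∣_ S').appTop = m1.appTop :=
    ⟨m1.appTop ≫ inv (ξ ∣_ S').appTop, by
      rw [Category.assoc, IsIso.inv_hom_id, Category.comp_id]⟩
  refine ⟨S', (S' : Scheme.{u}).toSpecΓ ≫ Spec.map ψ ≫ (V : Scheme.{u}).isoSpec.inv ≫ V.ι,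
    hsS', ?_⟩
  have hnat1 := Scheme.toSpecΓ_naturality (ξ ∣_ S')
  have hnat2 := Scheme.toSpecΓ_naturality m1
  have hiso : (V : Scheme.{u}).toSpecΓ ≫ (V : Scheme.{u}).isoSpec.inv = 𝟙 _ :=
    Scheme.toSpecΓ_isoSpec_inv _
  calc (ξ ⁻¹ᵁ S').ι ≫ f = m1 ≫ V.ι := hm1.symm
    _ = (m1 ≫ (V : Scheme.{u}).toSpecΓ ≫ (V : Scheme.{u}).isoSpec.inv) ≫ V.ι := by
        rw [hiso, Category.comp_id]
    _ = ((m1 ≫ (V : Scheme.{u}).toSpecΓ) ≫ (V : Scheme.{u}).isoSpec.inv) ≫ V.ι := by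
        simp only [Category.assoc]
    _ = ((((ξ ⁻¹ᵁ S' : X.Opens) : Scheme.{u}).toSpecΓ ≫ Spec.map m1.appTop) ≫
          (V : Scheme.{u}).isoSpec.inv) ≫ V.ι := by rw [hnat2]
    _ = (((((ξ ⁻¹ᵁ S' : X.Opens) : Scheme.{u}).toSpecΓ ≫ Spec.map (ξ ∣_ S').appTop) ≫
          Spec.map ψ) ≫ (V : Scheme.{u}).isoSpec.inv) ≫ V.ι := by
        rw [← hψ, Spec.map_comp]
        simp only [Category.assoc]
    _ = ((((ξ ∣_ S') ≫ (S' : Scheme.{u}).toSpecΓ) ≫ Spec.map ψ) ≫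
          (V : Scheme.{u}).isoSpec.inv) ≫ V.ι := by rw [hnat1]
    _ = (ξ ∣_ S') ≫ (S' : Scheme.{u}).toSpecΓ ≫ Spec.map ψ ≫
          (V : Scheme.{u}).isoSpec.inv ≫ V.ι := by simp only [Category.assoc]

theorem glue_compat [Surjective ξ] (h0 : ∀ U : S.Opens, Function.Bijective (ξ.app U).hom)
    {T : Scheme.{u}} (τ : T ⟶ S) (S₁ S₂ : S.Opens)
    (r₁ : (S₁ : Scheme.{u}) ⟶ Y) (r₂ : (S₂ : Scheme.{u}) ⟶ Y)
    (h₁ : (ξ ⁻¹ᵁ S₁).ι ≫ f = (ξ ∣_ S₁) ≫ r₁) (h₂ : (ξ ⁻¹ᵁ S₂).ι ≫ f = (ξ ∣_ S₂) ≫ r₂)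
    {Q : Scheme.{u}} (a : Q ⟶ ((τ ⁻¹ᵁ S₁ : T.Opens) : Scheme.{u}))
    (b : Q ⟶ ((τ ⁻¹ᵁ S₂ : T.Opens) : Scheme.{u}))
    (hab : a ≫ (τ ⁻¹ᵁ S₁).ι = b ≫ (τ ⁻¹ᵁ S₂).ι) :
    a ≫ (τ ∣_ S₁) ≫ r₁ = b ≫ (τ ∣_ S₂) ≫ r₂ := by
  haveI := epi_restrict ξ h0 (S₁ ⊓ S₂)
  have key : S.homOfLE (inf_le_left : S₁ ⊓ S₂ ≤ S₁) ≫ r₁ =
      S.homOfLE (inf_le_right : S₁ ⊓ S₂ ≤ S₂) ≫ r₂ := by
    rw [← cancel_epi (ξ ∣_ (S₁ ⊓ S₂)), ← restrict_factor ξ f inf_le_left r₁ h₁,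
      ← restrict_factor ξ f inf_le_right r₂ h₂]
  have hrange : Set.range (a ≫ (τ ⁻¹ᵁ S₁).ι ≫ τ) ⊆ Set.range (S₁ ⊓ S₂).ι := by
    rintro _ ⟨q, rfl⟩
    rw [Scheme.Opens.range_ι]
    show _ ∈ ((S₁ ⊓ S₂ : S.Opens) : Set S)
    rw [TopologicalSpace.Opens.coe_inf]
    refine ⟨(a q).2, ?_⟩
    have h3 : (a ≫ (τ ⁻¹ᵁ S₁).ι ≫ τ) q = (b ≫ (τ ⁻¹ᵁ S₂).ι ≫ τ) q := by
      rw [← Category.assoc, hab, Category.assoc]
    rw [h3]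
    exact (b q).2
  obtain ⟨d, hd⟩ : ∃ d : Q ⟶ ((S₁ ⊓ S₂ : S.Opens) : Scheme.{u}),
      d ≫ (S₁ ⊓ S₂).ι = a ≫ (τ ⁻¹ᵁ S₁).ι ≫ τ :=
    ⟨IsOpenImmersion.lift _ _ hrange, IsOpenImmersion.lift_fac _ _ _⟩
  have e₁ : a ≫ (τ ∣_ S₁) = d ≫ S.homOfLE inf_le_left := by
    rw [← cancel_mono S₁.ι, Category.assoc, Category.assoc, morphismRestrict_ι τ S₁,
      Scheme.homOfLE_ι, hd]
  have e₂ : b ≫ (τ ∣_ S₂) = d ≫ S.homOfLE inf_le_right := by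
    rw [← cancel_mono S₂.ι, Category.assoc, Category.assoc, morphismRestrict_ι τ S₂,
      Scheme.homOfLE_ι, hd, ← Category.assoc, ← hab, Category.assoc]
  rw [← Category.assoc, e₁, ← Category.assoc b, e₂, Category.assoc, Category.assoc, key]

theorem fst_factor {T : Scheme.{u}} (τ : T ⟶ S) (S₁ : S.Opens)
    (r₁ : (S₁ : Scheme.{u}) ⟶ Y) (h₁ : (ξ ⁻¹ᵁ S₁).ι ≫ f = (ξ ∣_ S₁) ≫ r₁) :
    ((pullback.snd ξ τ) ⁻¹ᵁ (τ ⁻¹ᵁ S₁)).ι ≫ pullback.fst ξ τ ≫ f =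
      ((pullback.snd ξ τ) ∣_ (τ ⁻¹ᵁ S₁)) ≫ (τ ∣_ S₁) ≫ r₁ := by
  have hrange : Set.range (((pullback.snd ξ τ) ⁻¹ᵁ (τ ⁻¹ᵁ S₁)).ι ≫ pullback.fst ξ τ) ⊆
      Set.range (ξ ⁻¹ᵁ S₁).ι := by
    rintro _ ⟨n, rfl⟩
    rw [Scheme.Opens.range_ι]
    show ξ ((pullback.fst ξ τ) (((pullback.snd ξ τ) ⁻¹ᵁ (τ ⁻¹ᵁ S₁)).ι n)) ∈ S₁
    have h3 : ξ ((pullback.fst ξ τ) (((pullback.snd ξ τ) ⁻¹ᵁ (τ ⁻¹ᵁ S₁)).ι n)) =
        τ ((pullback.snd ξ τ) (((pullback.snd ξ τ) ⁻¹ᵁ (τ ⁻¹ᵁ S₁)).ι n)) :=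
      congrArg (fun m : pullback ξ τ ⟶ S => m (((pullback.snd ξ τ) ⁻¹ᵁ (τ ⁻¹ᵁ S₁)).ι n))
        pullback.condition
    rw [h3]
    exact n.2
  obtain ⟨e, he⟩ : ∃ e : (((pullback.snd ξ τ) ⁻¹ᵁ (τ ⁻¹ᵁ S₁) : (pullback ξ τ).Opens) :
      Scheme.{u}) ⟶ ((ξ ⁻¹ᵁ S₁ : X.Opens) : Scheme.{u}),
      e ≫ (ξ ⁻¹ᵁ S₁).ι = ((pullback.snd ξ τ) ⁻¹ᵁ (τ ⁻¹ᵁ S₁)).ι ≫ pullback.fst ξ τ :=
    ⟨IsOpenImmersion.lift _ _ hrange, IsOpenImmersion.lift_fac _ _ _⟩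
  have h2 : e ≫ (ξ ∣_ S₁) = ((pullback.snd ξ τ) ∣_ (τ ⁻¹ᵁ S₁)) ≫ (τ ∣_ S₁) := by
    rw [← cancel_mono S₁.ι, Category.assoc, Category.assoc, morphismRestrict_ι ξ S₁,
      morphismRestrict_ι τ S₁, ← Category.assoc, he, Category.assoc, pullback.condition,
      ← Category.assoc, ← morphismRestrict_ι (pullback.snd ξ τ) (τ ⁻¹ᵁ S₁), Category.assoc]
  rw [← Category.assoc, ← he, Category.assoc, h₁, ← Category.assoc, h2, Category.assoc]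

end

theorem exists_glue {T Y : Scheme.{u}} (W : T → T.Opens) (hW : ∀ t, t ∈ W t)
    (ρ : ∀ t, ((W t : T.Opens) : Scheme.{u}) ⟶ Y)
    (hρ : ∀ (t₁ t₂ : T) {Q : Scheme.{u}} (a : Q ⟶ ((W t₁ : T.Opens) : Scheme.{u}))
      (b : Q ⟶ ((W t₂ : T.Opens) : Scheme.{u})),
      a ≫ (W t₁).ι = b ≫ (W t₂).ι → a ≫ ρ t₁ = b ≫ ρ t₂) :
    ∃ g : T ⟶ Y, ∀ t, (W t).ι ≫ g = ρ t := by
  have hc : TopologicalSpace.IsOpenCover W :=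
    .mk (eq_top_iff.mpr fun t _ => TopologicalSpace.Opens.mem_iSup.mpr ⟨t, hW t⟩)
  refine ⟨(T.openCoverOfIsOpenCover W hc).glueMorphisms ρ
    (fun t₁ t₂ => hρ t₁ t₂ _ _ pullback.condition), fun t => ?_⟩
  exact Scheme.Cover.ι_glueMorphisms (T.openCoverOfIsOpenCover W hc) ρ _ t

theorem main {X Y S : Scheme.{u}} (ξ : X ⟶ S) [UniversallyClosed ξ] [Surjective ξ]
    (h0 : ∀ U : S.Opens, Function.Bijective (ξ.app U).hom)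
    (v : Y ⟶ S) (f : X ⟶ Y) (hf : f ≫ v = ξ) :
    IsOpen {s : ↥S | ∃ y : ↥Y, ∀ x : ↥X, ξ.base x = s → f.base x = y} ∧
    ∀ (T : Scheme.{u}) (τ : T ⟶ S),
      ((∃ r : T ⟶ Y, r ≫ v = τ ∧ pullback.fst ξ τ ≫ f = pullback.snd ξ τ ≫ r) ↔
        ∀ t : ↥T, τ.base t ∈ {s : ↥S | ∃ y : ↥Y, ∀ x : ↥X, ξ.base x = s → f.base x = y}) := by
  have hloc : ∀ s : S, (∃ y : Y, ∀ x : X, ξ.base x = s → f.base x = y) →
      ∃ (S' : S.Opens) (r : (S' : Scheme.{u}) ⟶ Y), s ∈ S' ∧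
        (ξ ⁻¹ᵁ S').ι ≫ f = (ξ ∣_ S') ≫ r := by
    rintro s ⟨y, hy⟩
    exact local_factor ξ f h0 s y hy
  have hsub : ∀ (S' : S.Opens) (r : (S' : Scheme.{u}) ⟶ Y),
      (ξ ⁻¹ᵁ S').ι ≫ f = (ξ ∣_ S') ≫ r →
      ∀ s' ∈ S', ∃ y : Y, ∀ x : X, ξ.base x = s' → f.base x = y := by
    intro S' r hr s' hs'
    refine ⟨r ⟨s', hs'⟩, fun x hx => ?_⟩
    have hxS : x ∈ ξ ⁻¹ᵁ S' := by
      show ξ.base x ∈ S'
      rw [hx]; exact hs'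
    have h1 := congrArg (fun m : ((ξ ⁻¹ᵁ S' : X.Opens) : Scheme.{u}) ⟶ Y => m ⟨x, hxS⟩) hr
    have h2 : (ξ ∣_ S') ⟨x, hxS⟩ = ⟨s', hs'⟩ := by
      apply Subtype.ext
      have h3 := congrArg (fun m : ((ξ ⁻¹ᵁ S' : X.Opens) : Scheme.{u}) ⟶ S => m ⟨x, hxS⟩)
        (morphismRestrict_ι ξ S')
      exact h3.trans hx
    calc f.base x = ((ξ ⁻¹ᵁ S').ι ≫ f) ⟨x, hxS⟩ := rfl
      _ = ((ξ ∣_ S') ≫ r) ⟨x, hxS⟩ := h1
      _ = r ((ξ ∣_ S') ⟨x, hxS⟩) := rfl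
      _ = r ⟨s', hs'⟩ := by rw [h2]
  refine ⟨?_, ?_⟩
  · rw [isOpen_iff_forall_mem_open]
    intro s hs
    obtain ⟨S', r, hsS', hr⟩ := hloc s hs
    exact ⟨(S' : Set S), fun s' hs' => hsub S' r hr s' hs', S'.isOpen, hsS'⟩
  · intro T τ
    constructor
    · rintro ⟨r, -, hr⟩ t
      refine ⟨r.base t, fun x hx => ?_⟩
      obtain ⟨w, hw1, hw2⟩ :=
        Scheme.Pullback.exists_preimage_pullback (f := ξ) (g := τ) x t hx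
      have h1 := congrArg (fun m : pullback ξ τ ⟶ Y => m w) hr
      calc f.base x = f ((pullback.fst ξ τ) w) := by rw [hw1]
        _ = r ((pullback.snd ξ τ) w) := h1
        _ = r.base t := by rw [hw2]
    · intro hT
      have hex : ∀ t : T, ∃ (S' : S.Opens) (r : (S' : Scheme.{u}) ⟶ Y), τ.base t ∈ S' ∧
          (ξ ⁻¹ᵁ S').ι ≫ f = (ξ ∣_ S') ≫ r := fun t => hloc _ (hT t)
      choose S' r hmem hfac using hex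
      have hrv : ∀ t, r t ≫ v = (S' t).ι := by
        intro t
        haveI := epi_restrict ξ h0 (S' t)
        rw [← cancel_epi (ξ ∣_ (S' t)), ← Category.assoc, ← hfac t, Category.assoc, hf,
          morphismRestrict_ι]
      obtain ⟨g, hg⟩ := exists_glue (fun t : T => τ ⁻¹ᵁ (S' t)) hmem
        (fun t => (τ ∣_ (S' t)) ≫ r t)
        (fun t₁ t₂ Q a b hab =>
          glue_compat ξ f h0 τ (S' t₁) (S' t₂) (r t₁) (r t₂) (hfac t₁) (hfac t₂) a b hab)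
      refine ⟨g, ?_, ?_⟩
      · apply Scheme.hom_ext_of_forall
        intro t
        refine ⟨τ ⁻¹ᵁ (S' t), hmem t, ?_⟩
        rw [← Category.assoc, hg t, Category.assoc, hrv t, morphismRestrict_ι]
      · apply Scheme.hom_ext_of_forall
        intro w
        refine ⟨(pullback.snd ξ τ) ⁻¹ᵁ (τ ⁻¹ᵁ (S' ((pullback.snd ξ τ).base w))), hmem _, ?_⟩
        rw [fst_factor ξ f τ _ (r _) (hfac _), ← hg, ← Category.assoc,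
          morphismRestrict_ι (pullback.snd ξ τ), Category.assoc]

end Groth.Agent.H37.RigidBase
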