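import Groth.Agent.H37.Rigidity
import Groth.Agent.H37.SepPts
import Groth.Agent.H37.PbPoints
import Groth.Agent.H37.FieldBase

/-!
# Rigidity for a product over a field, with the contracted fibre over a geometric point

`X` proper geometrically integral, `Y` geometrically integral, `Z` separated over a field `k`, and
`f : X × Y ⟶ Z` contracting `X × {y₀}` for a geometric point `y₀` of `Y`.  Then `f` factors
uniquely through the second projection: apply the rigidity lemma to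
`X × (X × Y) ⟶ X × Y` with its diagonal section, and descend along the fpqc covering
`X × Y ⟶ Y`.
-/

universe u

open CategoryTheory CategoryTheory.Limits MonoidalCategory CartesianMonoidalCategory
  AlgebraicGeometry

namespace Groth.Agent.H37.RigidGeomPt

open Groth.Agent.H37.SepPts

theorem geomConn_of_geomIrr {X S : Scheme.{u}} (f : X ⟶ S) [GeometricallyIrreducible f] :
    GeometricallyConnected f :=
  ⟨fun K _ y Z fst snd hsq =>
    haveI : IrreducibleSpace ↥Z :=
      GeometricallyIrreducible.geometrically_irreducibleSpace y fst snd hsq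
    inferInstance⟩

theorem aux (k : Type u) [Field k]
    (X Y Z : Over (Spec (CommRingCat.of k)))
    [IsProper X.hom] [GeometricallyIntegral X.hom] [GeometricallyIntegral Y.hom]
    [IsSeparated Z.hom] (f : X ⊗ Y ⟶ Z)
    (T : Over (Spec (CommRingCat.of k))) [hTsub : Subsingleton ↥T.left] [hTne : Nonempty ↥T.left]
    (y₀ : T ⟶ Y) (z₀ : T ⟶ Z)
    (h : (X ◁ y₀) ≫ f = snd X T ≫ z₀) :
    ∃! g : Y ⟶ Z, f = snd X Y ≫ g := by
  obtain ⟨hint, hsubs⟩ :=
    integral_subsingleton_of_iso_spec_field k (Iso.refl (Spec (CommRingCat.of k)))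
  haveI := hint
  haveI := hsubs
  haveI : Flat X.hom := inferInstance
  haveI : Surjective X.hom := inferInstance
  haveI : GeometricallyConnected X.hom := geomConn_of_geomIrr _
  haveI : UniversallyOpen X.hom := univOpen_of_iso_spec_field k (Iso.refl _) _
  have hsnd : ∀ (Y' : Over (Spec (CommRingCat.of k))), Flat (snd X Y').left ∧
      Surjective (snd X Y').left ∧ QuasiCompact (snd X Y').left ∧
      UniversallyClosed (snd X Y').left ∧ GeometricallyConnected (snd X Y').left := by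
    intro Y'
    have e : (snd X Y').left = pullback.snd X.hom Y'.hom := rfl
    rw [e]
    exact ⟨inferInstance, inferInstance, inferInstance, inferInstance, inferInstance⟩
  have app : ∀ {A B : Over (Spec (CommRingCat.of k))} {s t : A ⟶ B} (_ : s = t) (x : A.left),
      s.left x = t.left x := fun e x => by rw [e]
  -- irreducibility and reducedness
  have hirrY : ∀ (q : Y.left ⟶ Spec (CommRingCat.of k)) [GeometricallyIrreducible q],
      IrreducibleSpace ↥Y.left := fun q _ =>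
    GeometricallyIrreducible.irreducibleSpace_of_subsingleton q
  haveI : IrreducibleSpace ↥Y.left := hirrY Y.hom
  have hirr : ∀ (Y' : Over (Spec (CommRingCat.of k))) [IrreducibleSpace ↥Y'.left],
      IrreducibleSpace ↥(X ⊗ Y').left := by
    intro Y' _
    show IrreducibleSpace ↥(pullback X.hom Y'.hom)
    infer_instance
  haveI hirrXY : IrreducibleSpace ↥(X ⊗ Y).left := hirr Y
  haveI hirrP : IrreducibleSpace ↥(X ⊗ (X ⊗ Y)).left := hirr (X ⊗ Y)
  haveI hgrXY : GeometricallyReduced (X ⊗ Y).hom := by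
    show GeometricallyReduced (pullback.fst X.hom Y.hom ≫ X.hom)
    exact geometricallyReduced_prod X.hom Y.hom
  haveI hgrP : GeometricallyReduced (pullback.fst X.hom (X ⊗ Y).hom ≫ X.hom) :=
    geometricallyReduced_prod X.hom (X ⊗ Y).hom
  haveI hredP : IsReduced (X ⊗ (X ⊗ Y)).left := by
    show IsReduced (pullback X.hom (X ⊗ Y).hom)
    exact hgrP.geometrically_isReduced (𝟙 (Spec (CommRingCat.of k)))
      (𝟙 (pullback X.hom (X ⊗ Y).hom)) _ IsPullback.of_id_fst
  -- the data for rigidity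
  obtain ⟨p, hp⟩ : ∃ p : X ⊗ (X ⊗ Y) ⟶ X ⊗ Y, p = snd X (X ⊗ Y) := ⟨_, rfl⟩
  obtain ⟨σ, hσ⟩ : ∃ σ : X ⊗ Y ⟶ X ⊗ (X ⊗ Y), σ = lift (fst X Y) (𝟙 (X ⊗ Y)) := ⟨_, rfl⟩
  obtain ⟨hh, hhh⟩ : ∃ hh : X ⊗ (X ⊗ Y) ⟶ Z, hh = (X ◁ snd X Y) ≫ f := ⟨_, rfl⟩
  have hσp : σ ≫ p = 𝟙 _ := by rw [hσ, hp, lift_snd]
  have hσw : σ ≫ (X ◁ snd X Y) = 𝟙 (X ⊗ Y) := by
    rw [hσ]
    apply CartesianMonoidalCategory.hom_ext <;> simp
  have hpσh : p ≫ σ ≫ hh = snd X (X ⊗ Y) ≫ f := by
    rw [hhh, ← Category.assoc σ, hσw, Category.id_comp, hp]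
  obtain ⟨hfl, hsj, hqc, huc, hgc⟩ := hsnd (X ⊗ Y)
  haveI : UniversallyClosed p.left := by rw [hp]; exact huc
  haveI : GeometricallyConnected p.left := by rw [hp]; exact hgc
  haveI : Surjective p.left := by rw [hp]; exact hsj
  have hdense : ∀ V : (X ⊗ Y).left.Opens, (V : Set ↥(X ⊗ Y).left).Nonempty →
      Dense (⇑p.left ⁻¹' (V : Set ↥(X ⊗ Y).left)) := by
    intro V hV
    obtain ⟨v, hv⟩ := hV
    obtain ⟨w, hw⟩ := p.left.surjective v
    exact (V.isOpen.preimage p.left.continuous).dense ⟨w, by show p.left w ∈ V; rw [hw]; exact hv⟩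
  -- the contracted fibre
  obtain ⟨tK⟩ := hTne
  haveI hsjT : Surjective (snd X T).left := (hsnd T).2.1
  obtain ⟨v₀, -⟩ := (snd X T).left.surjective tK
  have sq : IsPullback (X ◁ y₀).left (snd X T).left (snd X Y).left y₀.left := by
    have e1 : (X ◁ y₀).left ≫ pullback.fst X.hom Y.hom = pullback.fst X.hom T.hom :=
      congrArg (fun t => t.left) (whiskerLeft_fst X y₀)
    have e2 : (X ◁ y₀).left ≫ (snd X Y).left = (snd X T).left ≫ y₀.left :=
      congrArg (fun t => t.left) (whiskerLeft_snd X y₀)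
    refine IsPullback.of_right ?_ e2 (IsPullback.of_hasPullback X.hom Y.hom)
    rw [e1, Over.w y₀]
    exact IsPullback.of_hasPullback X.hom T.hom
  have hfib : ∀ w : ↥(X ⊗ (X ⊗ Y)).left, p.left w = (X ◁ y₀).left v₀ →
      hh.left w = z₀.left tK := by
    intro w hw
    have h1 : (snd X Y).left ((X ◁ snd X Y).left w) = y₀.left ((snd X T).left v₀) := by
      have a1 := app (whiskerLeft_snd X (snd X Y)) w
      have a2 := app (whiskerLeft_snd X y₀) v₀
      have a3 : (snd X (X ⊗ Y)).left w = (X ◁ y₀).left v₀ := by rw [← hp]; exact hw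
      calc (snd X Y).left ((X ◁ snd X Y).left w)
          = (snd X Y).left ((snd X (X ⊗ Y)).left w) := a1
        _ = (snd X Y).left ((X ◁ y₀).left v₀) := by rw [a3]
        _ = y₀.left ((snd X T).left v₀) := a2
    obtain ⟨v, hv1, -⟩ := exists_of_isPullback sq _ _ h1
    have a4 := app h v
    calc hh.left w = f.left ((X ◁ snd X Y).left w) := by rw [hhh]; rfl
      _ = f.left ((X ◁ y₀).left v) := by rw [hv1]
      _ = z₀.left ((snd X T).left v) := a4
      _ = z₀.left tK := by rw [Subsingleton.elim ((snd X T).left v) tK]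
  have hsub : (⇑hh.left '' (⇑p.left ⁻¹' {(X ◁ y₀).left v₀})).Subsingleton := by
    rintro _ ⟨w₁, hw₁, rfl⟩ _ ⟨w₂, hw₂, rfl⟩
    rw [hfib w₁ hw₁, hfib w₂ hw₂]
  have hrig : hh.left = p.left ≫ σ.left ≫ hh.left :=
    Rigidity.rigidity p.left σ.left (congrArg (fun t => t.left) hσp) hdense Z.hom hh.left
      ((Over.w hh).trans (Over.w (p ≫ σ ≫ hh)).symm) _ hsub
  have E : (X ◁ snd X Y) ≫ f = snd X (X ⊗ Y) ≫ f := by
    rw [← hhh, ← hpσh]
    exact Over.OverMorphism.ext hrig
  -- descent along the second projection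
  obtain ⟨hfl', hsj', hqc', -, -⟩ := hsnd Y
  haveI := hfl'
  haveI := hsj'
  haveI := hqc'
  haveI : EffectiveEpi (snd X Y).left := inferInstance
  have hcompat : ∀ {W : Scheme.{u}} (g₁ g₂ : W ⟶ (X ⊗ Y).left),
      g₁ ≫ (snd X Y).left = g₂ ≫ (snd X Y).left → g₁ ≫ f.left = g₂ ≫ f.left := by
    intro W g₁ g₂ hg
    have hw2 : g₂ ≫ (X ⊗ Y).hom = g₁ ≫ (X ⊗ Y).hom := by
      rw [← Over.w (snd X Y), ← Category.assoc, ← Category.assoc, hg]
    obtain ⟨G₁, hG₁⟩ : ∃ G₁ : Over.mk (g₁ ≫ (X ⊗ Y).hom) ⟶ X ⊗ Y, G₁.left = g₁ :=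
      ⟨Over.homMk g₁ rfl, rfl⟩
    obtain ⟨G₂, hG₂⟩ : ∃ G₂ : Over.mk (g₁ ≫ (X ⊗ Y).hom) ⟶ X ⊗ Y, G₂.left = g₂ :=
      ⟨Over.homMk g₂ hw2, rfl⟩
    have hG : G₁ ≫ snd X Y = G₂ ≫ snd X Y := by
      apply Over.OverMorphism.ext
      show G₁.left ≫ (snd X Y).left = G₂.left ≫ (snd X Y).left
      rw [hG₁, hG₂, hg]
    have e1 : lift (G₁ ≫ fst X Y) G₂ ≫ (X ◁ snd X Y) = G₁ := by
      apply CartesianMonoidalCategory.hom_ext
      · simp
      · simp [hG]
    have e2 : lift (G₁ ≫ fst X Y) G₂ ≫ snd X (X ⊗ Y) = G₂ := lift_snd _ _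
    have e3 : G₁ ≫ f = G₂ ≫ f := by
      rw [← e1, Category.assoc, E, ← Category.assoc, e2]
    have e4 := congrArg (fun t => t.left) e3
    rw [← hG₁, ← hG₂]
    exact e4
  obtain ⟨g', hg'⟩ : ∃ g' : Y.left ⟶ Z.left, (snd X Y).left ≫ g' = f.left :=
    ⟨EffectiveEpi.desc (snd X Y).left f.left hcompat, EffectiveEpi.fac _ _ _⟩
  haveI : Epi (snd X Y).left := inferInstance
  have hg'w : g' ≫ Z.hom = Y.hom := by
    rw [← cancel_epi (snd X Y).left, ← Category.assoc, hg', Over.w f, Over.w (snd X Y)]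
  haveI : Epi (snd X Y) := Over.epi_of_epi_left _
  refine ⟨Over.homMk g' hg'w, ?_, ?_⟩
  · apply Over.OverMorphism.ext
    exact hg'.symm
  · intro g₂ hg₂
    rw [← cancel_epi (snd X Y), ← hg₂]
    apply Over.OverMorphism.ext
    exact hg'.symm

theorem main (k : Type u) [Field k]
    (X Y Z : Over (Spec (CommRingCat.of k)))
    [IsProper X.hom] [GeometricallyIntegral X.hom] [GeometricallyIntegral Y.hom]
    [IsSeparated Z.hom] (f : X ⊗ Y ⟶ Z)
    (K : Type u) [Field K] [Algebra k K]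
    (y₀ : (Over.mk (Spec.map (CommRingCat.ofHom (algebraMap k K))) :
      Over (Spec (CommRingCat.of k))) ⟶ Y)
    (z₀ : (Over.mk (Spec.map (CommRingCat.ofHom (algebraMap k K))) :
      Over (Spec (CommRingCat.of k))) ⟶ Z)
    (h : (X ◁ y₀) ≫ f = snd X _ ≫ z₀) :
    ∃! g : Y ⟶ Z, f = snd X Y ≫ g := by
  obtain ⟨hintK, hsubsK⟩ :=
    integral_subsingleton_of_iso_spec_field K (Iso.refl (Spec (CommRingCat.of K)))
  haveI : Subsingleton ↥(Over.mk (Spec.map (CommRingCat.ofHom (algebraMap k K))) :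
      Over (Spec (CommRingCat.of k))).left := hsubsK
  haveI : Nonempty ↥(Over.mk (Spec.map (CommRingCat.ofHom (algebraMap k K))) :
      Over (Spec (CommRingCat.of k))).left := by
    haveI := hintK
    show Nonempty ↥(Spec (CommRingCat.of K))
    infer_instance
  exact aux k X Y Z f _ y₀ z₀ h

end Groth.Agent.H37.RigidGeomPt
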