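import Mathlib

/-!
# A rigidity lemma (with a section)

`p : P ⟶ X` universally closed with geometrically connected fibres and a section `σ`, `P` reduced,
`h : P ⟶ Y` into a separated scheme contracting one fibre of `p`, and preimages of nonempty opens of
`X` dense in `P`: then `h = p ≫ σ ≫ h`.

The key point: for an affine open `V` of `X`, the ring map `Γ(p⁻¹V) → Γ(V)` induced by the section
is injective (an element of the kernel is integral over `Γ(V)`, hence on each connected fibre it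
vanishes identically as soon as it vanishes at one point).
-/

set_option autoImplicit false
universe u
open CategoryTheory CategoryTheory.Limits AlgebraicGeometry

namespace Groth.Agent.H37.Rigidity

lemma field_split {K : Type*} [Field K] (a : ℕ → K) (n m : ℕ) (hmn : m ≤ n)
    (ha : ∀ i, i < m → a i = 0) (τ : K)
    (h : ∑ i ∈ Finset.range (n + 1), a i * τ ^ i = 0) :
    τ ^ m * ∑ j ∈ Finset.range (n - m + 1), a (m + j) * τ ^ j = 0 := by
  have hn : n + 1 = m + (n - m + 1) := by omega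
  rw [hn, Finset.sum_range_add] at h
  have h0 : ∑ i ∈ Finset.range m, a i * τ ^ i = 0 :=
    Finset.sum_eq_zero fun i hi => by rw [ha i (Finset.mem_range.mp hi), zero_mul]
  rw [h0, zero_add] at h
  rw [Finset.mul_sum, ← h]
  refine Finset.sum_congr rfl fun j _ => ?_
  rw [pow_add]; ring

lemma sum_zero_pow {K : Type*} [Field K] (b : ℕ → K) (N : ℕ) :
    ∑ j ∈ Finset.range (N + 1), b j * (0 : K) ^ j = b 0 := by
  rw [Finset.sum_range_succ']
  have : ∀ i ∈ Finset.range N, b (i + 1) * (0 : K) ^ (i + 1) = 0 := fun i _ => by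
    rw [pow_succ, mul_zero, mul_zero]
  rw [Finset.sum_eq_zero this, zero_add, pow_zero, mul_one]

/-- injectivity on global sections of a section of a universally closed morphism with connected
fibres from a reduced scheme to an affine scheme -/
theorem injective_appTop_of_section {Q W : Scheme.{u}} (r : Q ⟶ W) [UniversallyClosed r]
    [GeometricallyConnected r] [IsReduced Q] [IsAffine W] (s : W ⟶ Q) (hs : s ≫ r = 𝟙 W) :
    Function.Injective s.appTop.hom := by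
  have hint : r.appTop.hom.IsIntegral := isIntegral_appTop_of_universallyClosed r
  rw [injective_iff_map_eq_zero]
  intro t ht
  refine (basicOpen_eq_bot_iff t).mp
    ((Q.basicOpen_eq_bot_iff_forall_evaluation_eq_zero t).mpr fun w => ?_)
  by_contra hne
  obtain ⟨M, hMmonic, hM⟩ := hint t
  -- evaluation of pulled back functions
  have key1 : ∀ (w' : Q) (c : Γ(W, ⊤)),
      (Q.Γevaluation w').hom (r.appTop.hom c) = 0 ↔ r w' ∉ W.basicOpen c := by
    intro w' c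
    have h1 := Scheme.Γevaluation_naturality_apply r w' c
    have h2 : (Q.Γevaluation w').hom (r.appTop.hom c) =
        (r.residueFieldMap w').hom ((W.Γevaluation (r w')).hom c) := h1.symm
    rw [h2, map_eq_zero_iff _ (r.residueFieldMap w').hom.injective]
    exact W.evaluation_eq_zero_iff_notMem_basicOpen _ _ _
  have hsum : ∀ w' : Q, ∑ i ∈ Finset.range (M.natDegree + 1),
      (Q.Γevaluation w').hom (r.appTop.hom (M.coeff i)) * ((Q.Γevaluation w').hom t) ^ i = 0 := by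
    intro w'
    have := congrArg (Q.Γevaluation w').hom hM
    rw [Polynomial.eval₂_eq_sum_range, map_sum, map_zero] at this
    simp only [map_mul, map_pow] at this
    exact this
  -- the point of the base and the first coefficient not vanishing there
  obtain ⟨u, hu⟩ : ∃ u : W, u = r w.1 := ⟨_, rfl⟩
  have hex : ∃ i, u ∈ W.basicOpen (M.coeff i) := by
    refine ⟨M.natDegree, ?_⟩
    rw [hMmonic.coeff_natDegree]
    refine (W.evaluation_ne_zero_iff_mem_basicOpen (U := ⊤) u (Set.mem_univ _) (1 : Γ(W, ⊤))).mp ?_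
    rw [map_one]; exact one_ne_zero
  classical
  have hm_le : Nat.find hex ≤ M.natDegree := Nat.find_min' hex (by
    rw [hMmonic.coeff_natDegree]
    refine (W.evaluation_ne_zero_iff_mem_basicOpen (U := ⊤) u (Set.mem_univ _) (1 : Γ(W, ⊤))).mp ?_
    rw [map_one]; exact one_ne_zero)
  have hlt : ∀ i, i < Nat.find hex → u ∉ W.basicOpen (M.coeff i) := fun i hi => Nat.find_min hex hi
  have hmm : u ∈ W.basicOpen (M.coeff (Nat.find hex)) := Nat.find_spec hex
  obtain ⟨g, hg⟩ : ∃ g : Γ(Q, ⊤), g = ∑ j ∈ Finset.range (M.natDegree - Nat.find hex + 1),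
      r.appTop.hom (M.coeff (Nat.find hex + j)) * t ^ j := ⟨_, rfl⟩
  have hevg : ∀ w' : Q, (Q.Γevaluation w').hom g =
      ∑ j ∈ Finset.range (M.natDegree - Nat.find hex + 1),
        (Q.Γevaluation w').hom (r.appTop.hom (M.coeff (Nat.find hex + j))) *
          ((Q.Γevaluation w').hom t) ^ j := by
    intro w'
    rw [hg, map_sum]
    simp only [map_mul, map_pow]
  have hA : ∀ w' : Q, r w' = u →
      ((Q.Γevaluation w').hom t) ^ (Nat.find hex) * (Q.Γevaluation w').hom g = 0 := by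
    intro w' hw'
    rw [hevg]
    refine field_split (fun i => (Q.Γevaluation w').hom (r.appTop.hom (M.coeff i)))
      M.natDegree (Nat.find hex) hm_le ?_ _ (hsum w')
    intro i hi
    exact (key1 w' _).mpr (by rw [hw']; exact hlt i hi)
  have hB : ∀ w' : Q, r w' = u → (Q.Γevaluation w').hom t = 0 →
      (Q.Γevaluation w').hom g ≠ 0 := by
    intro w' hw' h0
    rw [hevg, h0, sum_zero_pow (fun j =>
      (Q.Γevaluation w').hom (r.appTop.hom (M.coeff (Nat.find hex + j))))]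
    intro h1
    exact (key1 w' _).mp h1 (by rw [hw', add_zero]; exact hmm)
  -- the two closed sets
  have hΦ : _root_.IsPreconnected (r ⁻¹' {u}) := (r.isConnected_preimage_singleton u).isPreconnected
  have hT1 : IsClosed ((Q.basicOpen t : Set Q)ᶜ) := (Q.basicOpen t).isOpen.isClosed_compl
  have hT2 : IsClosed ((Q.basicOpen g : Set Q)ᶜ) := (Q.basicOpen g).isOpen.isClosed_compl
  have hmem : ∀ (w' : Q) (c : Γ(Q, ⊤)), w' ∈ (Q.basicOpen c : Set Q)ᶜ ↔
      (Q.Γevaluation w').hom c = 0 := by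
    intro w' c
    exact (Q.evaluation_eq_zero_iff_notMem_basicOpen (U := ⊤) w' (Set.mem_univ _) c).symm
  have hcover : r ⁻¹' {u} ⊆ (Q.basicOpen t : Set Q)ᶜ ∪ (Q.basicOpen g : Set Q)ᶜ := by
    intro w' hw'
    by_cases hτ : (Q.Γevaluation w').hom t = 0
    · exact Or.inl ((hmem w' t).mpr hτ)
    · exact Or.inr ((hmem w' g).mpr
        ((mul_eq_zero.mp (hA w' hw')).resolve_left (pow_ne_zero _ hτ)))
  have hsu : r (s u) = u := by
    rw [← Scheme.Hom.comp_apply, hs]; rfl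
  have hne1 : (r ⁻¹' {u} ∩ (Q.basicOpen t : Set Q)ᶜ).Nonempty := by
    refine ⟨s u, hsu, (hmem _ _).mpr ?_⟩
    have h1 := Scheme.Γevaluation_naturality_apply s u t
    have h2 : (s.residueFieldMap u).hom ((Q.Γevaluation (s u)).hom t) =
        (W.Γevaluation u).hom (s.appTop.hom t) := h1
    rw [ht, map_zero] at h2
    exact (map_eq_zero_iff _ (s.residueFieldMap u).hom.injective).mp h2
  have hne2 : (r ⁻¹' {u} ∩ (Q.basicOpen g : Set Q)ᶜ).Nonempty := by
    refine ⟨w.1, hu.symm, (hmem _ _).mpr ?_⟩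
    exact (mul_eq_zero.mp (hA w.1 hu.symm)).resolve_left (pow_ne_zero _ hne)
  obtain ⟨w'', hw''Φ, hw''1, hw''2⟩ :=
    isPreconnected_closed_iff.mp hΦ _ _ hT1 hT2 hcover hne1 hne2
  exact hB w'' hw''Φ ((hmem _ _).mp hw''1) ((hmem _ _).mp hw''2)

/-- the rigidity lemma -/
theorem rigidity {P X Y B : Scheme.{u}} (p : P ⟶ X) [UniversallyClosed p]
    [GeometricallyConnected p] [IsReduced P] (σ : X ⟶ P) (hσ : σ ≫ p = 𝟙 X)
    (hdense : ∀ V : X.Opens, (V : Set X).Nonempty → Dense (p ⁻¹' (V : Set X)))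
    (q : Y ⟶ B) [IsSeparated q] (h : P ⟶ Y) (hq : h ≫ q = (p ≫ σ ≫ h) ≫ q)
    (a : X) (ha : (h '' (p ⁻¹' {a})).Subsingleton) :
    h = p ≫ σ ≫ h := by
  obtain ⟨U, hU', hyU⟩ : ∃ U : Y.Opens, IsAffineOpen U ∧ h (σ a) ∈ U := by
    obtain ⟨U, hU, hyU, -⟩ := TopologicalSpace.Opens.isBasis_iff_nbhd.mp Y.isBasis_affineOpens
      (show h (σ a) ∈ (⊤ : Y.Opens) from trivial)
    exact ⟨U, hU, hyU⟩
  have hσa : σ a ∈ p ⁻¹' {a} := by
    show p (σ a) = a
    rw [← Scheme.Hom.comp_apply, hσ]; rfl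
  have hC : IsClosed (p '' (h ⁻¹' (U : Set Y)ᶜ)) :=
    p.isClosedMap _ (U.isOpen.isClosed_compl.preimage h.continuous)
  have haC : a ∉ p '' (h ⁻¹' (U : Set Y)ᶜ) := by
    rintro ⟨w, hw, hwa⟩
    have : h w = h (σ a) := ha ⟨w, hwa, rfl⟩ ⟨σ a, hσa, rfl⟩
    exact hw (this ▸ hyU)
  obtain ⟨V, hV', haV, hVC⟩ : ∃ V : X.Opens, IsAffineOpen V ∧ a ∈ V ∧
      ∀ x, x ∈ V → x ∉ p '' (h ⁻¹' (U : Set Y)ᶜ) := by
    obtain ⟨V, hV, haV, hVC⟩ := TopologicalSpace.Opens.isBasis_iff_nbhd.mp X.isBasis_affineOpens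
      (show a ∈ (⟨_, hC.isOpen_compl⟩ : X.Opens) from haC)
    exact ⟨V, hV, haV, fun x hx => hVC hx⟩
  have hVU : ∀ w : P, p w ∈ V → h w ∈ U := by
    intro w hw
    by_contra hwU
    exact hVC _ hw ⟨w, hwU, rfl⟩
  haveI : IsAffine (V : Scheme) := hV'
  haveI : IsAffine (U : Scheme) := hU'
  haveI : IsReduced ((p ⁻¹ᵁ V : P.Opens) : Scheme) := isReduced_of_isOpenImmersion (p ⁻¹ᵁ V).ι
  -- the section over `V`
  have hrange : Set.range (V.ι ≫ σ) ⊆ Set.range (p ⁻¹ᵁ V).ι := by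
    rintro _ ⟨v, rfl⟩
    rw [Scheme.Opens.range_ι]
    show p (σ (V.ι v)) ∈ V
    rw [← Scheme.Hom.comp_apply, hσ]; exact v.2
  obtain ⟨sV, hsV⟩ : ∃ sV : (V : Scheme) ⟶ (p ⁻¹ᵁ V : P.Opens), sV ≫ (p ⁻¹ᵁ V).ι = V.ι ≫ σ :=
    ⟨IsOpenImmersion.lift (p ⁻¹ᵁ V).ι (V.ι ≫ σ) hrange, IsOpenImmersion.lift_fac _ _ _⟩
  have hsVp : sV ≫ (p ∣_ V) = 𝟙 _ := by
    rw [← cancel_mono V.ι, Category.assoc, morphismRestrict_ι, ← Category.assoc, hsV,
      Category.assoc, hσ, Category.comp_id, Category.id_comp]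
  have hinj : Function.Injective sV.appTop.hom := injective_appTop_of_section (p ∣_ V) sV hsVp
  -- the two morphisms into `U`
  have hr1 : Set.range ((p ⁻¹ᵁ V).ι ≫ h) ⊆ Set.range U.ι := by
    rintro _ ⟨w, rfl⟩
    rw [Scheme.Opens.range_ι]
    exact hVU ((p ⁻¹ᵁ V).ι w) w.2
  have hr2 : Set.range ((p ⁻¹ᵁ V).ι ≫ p ≫ σ ≫ h) ⊆ Set.range U.ι := by
    rintro _ ⟨w, rfl⟩
    rw [Scheme.Opens.range_ι]
    refine hVU (σ (p ((p ⁻¹ᵁ V).ι w))) ?_
    have : p (σ (p ((p ⁻¹ᵁ V).ι w))) = p ((p ⁻¹ᵁ V).ι w) := by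
      rw [← Scheme.Hom.comp_apply σ p, hσ]; rfl
    rw [this]; exact w.2
  obtain ⟨m1, hm1⟩ : ∃ m1 : ((p ⁻¹ᵁ V : P.Opens) : Scheme) ⟶ U, m1 ≫ U.ι = (p ⁻¹ᵁ V).ι ≫ h :=
    ⟨IsOpenImmersion.lift U.ι _ hr1, IsOpenImmersion.lift_fac _ _ _⟩
  obtain ⟨m2, hm2⟩ : ∃ m2 : ((p ⁻¹ᵁ V : P.Opens) : Scheme) ⟶ U,
      m2 ≫ U.ι = (p ⁻¹ᵁ V).ι ≫ p ≫ σ ≫ h :=
    ⟨IsOpenImmersion.lift U.ι _ hr2, IsOpenImmersion.lift_fac _ _ _⟩
  have hsm : sV ≫ m1 = sV ≫ m2 := by
    rw [← cancel_mono U.ι, Category.assoc, Category.assoc, hm1, hm2]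
    calc sV ≫ (p ⁻¹ᵁ V).ι ≫ h = (sV ≫ (p ⁻¹ᵁ V).ι) ≫ h := (Category.assoc _ _ _).symm
      _ = (V.ι ≫ σ) ≫ h := by rw [hsV]
      _ = (V.ι ≫ σ) ≫ (p ≫ σ ≫ h) := by
            simp only [Category.assoc]
            rw [← Category.assoc σ p, hσ, Category.id_comp]
      _ = (sV ≫ (p ⁻¹ᵁ V).ι) ≫ p ≫ σ ≫ h := by rw [hsV]
      _ = sV ≫ (p ⁻¹ᵁ V).ι ≫ p ≫ σ ≫ h := Category.assoc _ _ _
  have happ : m1.appTop = m2.appTop := by
    have h1 := congrArg Scheme.Hom.appTop hsm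
    rw [Scheme.Hom.comp_appTop, Scheme.Hom.comp_appTop] at h1
    ext b
    apply hinj
    exact congrArg (fun g => g.hom b) h1
  have hm : m1 = m2 := ext_of_isAffine happ
  have hVeq : (p ⁻¹ᵁ V).ι ≫ h = (p ⁻¹ᵁ V).ι ≫ p ≫ σ ≫ h := by rw [← hm1, ← hm2, hm]
  haveI : IsDominant (p ⁻¹ᵁ V).ι := ⟨by
    rw [DenseRange, Scheme.Opens.range_ι]
    exact hdense V ⟨a, haV⟩⟩
  exact ext_of_isDominant_of_isSeparated q hq (p ⁻¹ᵁ V).ι hVeq

end Groth.Agent.H37.Rigidity
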