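import Mathlib

/-!
# (T4) for S13109: a finite subintegral extension of a seminormal ring is trivial — core,
hypothesis-style on (T1), (T2), (T3) (helper37, for helper13's squad)
-/

set_option autoImplicit false
universe u
open CategoryTheory

namespace Groth.Agent.H37.SN_T4

section

variable {A C : Type u} [CommRing A] [CommRing C] [Algebra A C]

local notation "φ" => algebraMap A C

variable (A C) in
/-- the conductor of `A → C` -/
def cond : Ideal A where
  carrier := {u | ∀ c : C, φ u * c ∈ (φ).range}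
  add_mem' := fun {a b} ha hb c => by
    rw [map_add, add_mul]
    exact (φ).range.add_mem (ha c) (hb c)
  zero_mem' := fun c => by
    rw [map_zero, zero_mul]
    exact (φ).range.zero_mem
  smul_mem' := fun r a ha c => by
    have h := ha (φ r * c)
    have e : φ (r • a) * c = φ a * (φ r * c) := by
      rw [smul_eq_mul, map_mul]
      ring
    rw [e]
    exact h

theorem mem_cond {u : A} : u ∈ cond A C ↔ ∀ c : C, φ u * c ∈ (φ).range := Iff.rfl

/-- membership in `A` locally at `p` -/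
def InS (p : Ideal A) (x : C) : Prop := ∃ u : A, u ∉ p ∧ φ u * x ∈ (φ).range

theorem inS_of_range {p : Ideal A} (hp : p.IsPrime) {x : C} (hx : x ∈ (φ).range) : InS p x :=
  ⟨1, (Ideal.ne_top_iff_one p).mp hp.ne_top, by rw [map_one, one_mul]; exact hx⟩

theorem inS_add {p : Ideal A} (hp : p.IsPrime) {x y : C} (hx : InS p x) (hy : InS p y) :
    InS p (x + y) := by
  obtain ⟨u, hu, h1⟩ := hx
  obtain ⟨u', hu', h2⟩ := hy
  refine ⟨u * u', fun h => (hp.mem_or_mem h).elim hu hu', ?_⟩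
  have e : φ (u * u') * (x + y) = φ u' * (φ u * x) + φ u * (φ u' * y) := by
    rw [map_mul]
    ring
  rw [e]
  exact (φ).range.add_mem ((φ).range.mul_mem ⟨u', rfl⟩ h1) ((φ).range.mul_mem ⟨u, rfl⟩ h2)

theorem inS_of_mul {p : Ideal A} (hp : p.IsPrime) {w : A} (hw : w ∉ p) {x : C}
    (h : InS p (φ w * x)) : InS p x := by
  obtain ⟨u, hu, h1⟩ := h
  refine ⟨u * w, fun h => (hp.mem_or_mem h).elim hu hw, ?_⟩
  have e : φ (u * w) * x = φ u * (φ w * x) := by
    rw [map_mul]
    ring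
  rw [e]
  exact h1

theorem le_of_over
    (hsub : ∀ (p : PrimeSpectrum A) (c : C), ∃ u a : A, u ∉ p.asIdeal ∧
      ∀ q : PrimeSpectrum C, PrimeSpectrum.comap (algebraMap A C) q = p →
        algebraMap A C u * c - algebraMap A C a ∈ q.asIdeal)
    (p : PrimeSpectrum A) (q q' : PrimeSpectrum C)
    (hq : PrimeSpectrum.comap (algebraMap A C) q = p)
    (hq' : PrimeSpectrum.comap (algebraMap A C) q' = p) : q.asIdeal ≤ q'.asIdeal := by
  intro c hc
  obtain ⟨u, a, hu, h⟩ := hsub p c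
  have h1 := h q hq
  have h2 := h q' hq'
  have ha : φ a ∈ q.asIdeal := by
    have h3 : φ u * c ∈ q.asIdeal := Ideal.mul_mem_left _ _ hc
    have h4 := Ideal.sub_mem _ h3 h1
    rwa [sub_sub_cancel] at h4
  have hap : a ∈ p.asIdeal := by
    rw [← hq]
    exact ha
  have ha' : φ a ∈ q'.asIdeal := by
    rw [← hq'] at hap
    exact hap
  have h3 : φ u * c ∈ q'.asIdeal := by
    have h4 := Ideal.add_mem _ h2 ha'
    rwa [sub_add_cancel] at h4
  rcases q'.isPrime.mem_or_mem h3 with h4 | h4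
  · exfalso
    apply hu
    rw [← hq']
    exact h4
  · exact h4

/-- (T4), with (T1) (T2) (T3) as hypotheses. -/
theorem surjective_of_subintegral_core [IsNoetherianRing A] [Module.Finite A C]
    (hinj : Function.Injective (algebraMap A C))
    (hT1 : ∀ z : C, z ^ 2 ∈ (algebraMap A C).range → z ^ 3 ∈ (algebraMap A C).range →
      z ∈ (algebraMap A C).range)
    (hT2 : ∀ (I p : Ideal A), p ∈ I.minimalPrimes →
      ∃ (u : A) (M : ℕ), u ∉ p ∧ ∀ a ∈ p ^ M, u * a ∈ I)
    (hT3 : ∀ (p : PrimeSpectrum A) (n : PrimeSpectrum C),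
      PrimeSpectrum.comap (algebraMap A C) n = p →
      (∀ q : PrimeSpectrum C, PrimeSpectrum.comap (algebraMap A C) q = p → q = n) →
      ∃ (u : A) (k : ℕ), u ∉ p.asIdeal ∧ ∀ x ∈ n.asIdeal ^ k,
        algebraMap A C u * x ∈ p.asIdeal.map (algebraMap A C))
    (hsub : ∀ (p : PrimeSpectrum A) (c : C), ∃ u a : A, u ∉ p.asIdeal ∧
      ∀ q : PrimeSpectrum C, PrimeSpectrum.comap (algebraMap A C) q = p →
        algebraMap A C u * c - algebraMap A C a ∈ q.asIdeal) :
    Function.Surjective (algebraMap A C) := by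
  classical
  by_contra hns
  have hI : cond A C ≠ ⊤ := by
    intro h
    apply hns
    intro c
    have h1 : (1 : A) ∈ cond A C := h ▸ Submodule.mem_top
    have h2 := h1 c
    rw [map_one, one_mul] at h2
    exact h2
  obtain ⟨m, hm, hIm⟩ := Ideal.exists_le_maximal (cond A C) hI
  haveI := hm.isPrime
  obtain ⟨p, hp, -⟩ := Ideal.exists_minimalPrimes_le hIm
  have hpprime : p.IsPrime := hp.1.1
  haveI := hpprime
  obtain ⟨u2, M, hu2, h2⟩ := hT2 (cond A C) p hp
  -- the prime of `C` over `p`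
  haveI : Algebra.IsIntegral A C := Algebra.IsIntegral.of_finite A C
  have hbot : (⊥ : Ideal C).comap (algebraMap A C) ≤ p := by
    intro a ha
    have h0 : φ a = 0 := ha
    have h1 : a = 0 := hinj (h0.trans (map_zero _).symm)
    rw [h1]
    exact zero_mem _
  obtain ⟨n, -, hnprime, hnp⟩ := Ideal.exists_ideal_over_prime_of_isIntegral p (⊥ : Ideal C) hbot
  obtain ⟨pP, hpP⟩ : ∃ pP : PrimeSpectrum A, pP.asIdeal = p := ⟨⟨p, hpprime⟩, rfl⟩
  obtain ⟨nP, hnP⟩ : ∃ nP : PrimeSpectrum C, nP.asIdeal = n := ⟨⟨n, hnprime⟩, rfl⟩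
  have hcomap : PrimeSpectrum.comap (algebraMap A C) nP = pP := by
    apply PrimeSpectrum.ext
    show Ideal.comap (algebraMap A C) nP.asIdeal = pP.asIdeal
    rw [hnP, hpP, hnp]
  have huniq : ∀ q : PrimeSpectrum C, PrimeSpectrum.comap (algebraMap A C) q = pP → q = nP := by
    intro q hq
    apply PrimeSpectrum.ext
    exact le_antisymm (le_of_over hsub pP q nP hq hcomap) (le_of_over hsub pP nP q hcomap hq)
  obtain ⟨u3, k, hu3, h3⟩ := hT3 pP nP hcomap huniq
  rw [hpP] at hu3 h3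
  -- `n ^ (k * M)` is in `S`
  have hJ : Ideal.span {φ u3} * nP.asIdeal ^ k ≤ Ideal.map φ p :=
    Ideal.span_singleton_mul_le_iff.mpr h3
  have hJM : Ideal.span {φ u3 ^ M} * nP.asIdeal ^ (k * M) ≤ Ideal.map φ (p ^ M) := by
    rw [Ideal.map_pow, ← Ideal.span_singleton_pow, pow_mul, ← mul_pow]
    exact Ideal.pow_right_mono hJ M
  have hmapS : ∀ y ∈ Ideal.map φ (p ^ M), ∀ c : C, φ u2 * (c * y) ∈ (φ).range := by
    intro y hy
    have hy' : y ∈ Submodule.span C ((φ) '' ((p ^ M : Ideal A) : Set A)) := hy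
    refine Submodule.span_induction
      (p := fun y _ => ∀ c : C, φ u2 * (c * y) ∈ (φ).range) ?_ ?_ ?_ ?_ hy'
    · rintro _ ⟨a, ha, rfl⟩ c
      have h4 := h2 a ha c
      have e : φ u2 * (c * φ a) = φ (u2 * a) * c := by
        rw [map_mul]
        ring
      rw [e]
      exact h4
    · intro c
      rw [mul_zero, mul_zero]
      exact (φ).range.zero_mem
    · intro y1 y2 _ _ h4 h5 c
      rw [mul_add, mul_add]
      exact (φ).range.add_mem (h4 c) (h5 c)
    · intro r y _ h4 c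
      have h5 := h4 (c * r)
      have e : φ u2 * (c * r • y) = φ u2 * (c * r * y) := by
        rw [smul_eq_mul]
        ring
      rw [e]
      exact h5
  have hu23 : u2 * u3 ^ M ∉ p := by
    intro h
    rcases hpprime.mem_or_mem h with h4 | h4
    · exact hu2 h4
    · exact hu3 (hpprime.mem_of_pow_mem M h4)
  have hkM : ∀ x ∈ nP.asIdeal ^ (k * M), InS p x := by
    intro x hx
    have h4 : φ u3 ^ M * x ∈ Ideal.map φ (p ^ M) :=
      hJM (Ideal.mul_mem_mul (Ideal.mem_span_singleton_self _) hx)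
    have h5 := hmapS _ h4 1
    refine ⟨u2 * u3 ^ M, hu23, ?_⟩
    have e : φ (u2 * u3 ^ M) * x = φ u2 * (1 * (φ u3 ^ M * x)) := by
      rw [map_mul, map_pow]
      ring
    rw [e]
    exact h5
  -- not everything is in `S`
  have hnotall : ¬ ∀ c : C, InS p c := by
    intro hall
    have hQ : ∀ N : Submodule A C, N.FG →
        ∃ u : A, u ∉ p ∧ ∀ x ∈ N, φ u * x ∈ (φ).range := by
      intro N hN
      refine Submodule.fg_induction
        (motive := fun N _ => ∃ u : A, u ∉ p ∧ ∀ x ∈ N, φ u * x ∈ (φ).range) ?_ ?_ N hN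
      · intro x
        obtain ⟨u, hu, hx⟩ := hall x
        refine ⟨u, hu, fun y hy => ?_⟩
        obtain ⟨a, rfl⟩ := Submodule.mem_span_singleton.mp hy
        have e : φ u * (a • x) = φ a * (φ u * x) := by
          rw [Algebra.smul_def]
          ring
        rw [e]
        exact (φ).range.mul_mem ⟨a, rfl⟩ hx
      · rintro N1 N2 _ _ ⟨u1, hu1, h4⟩ ⟨u1', hu1', h5⟩
        refine ⟨u1 * u1', fun h => (hpprime.mem_or_mem h).elim hu1 hu1', fun x hx => ?_⟩
        obtain ⟨y, hy, z, hz, rfl⟩ := Submodule.mem_sup.mp hx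
        have e : φ (u1 * u1') * (y + z) = φ u1' * (φ u1 * y) + φ u1 * (φ u1' * z) := by
          rw [map_mul]
          ring
        rw [e]
        exact (φ).range.add_mem ((φ).range.mul_mem ⟨u1', rfl⟩ (h4 y hy))
          ((φ).range.mul_mem ⟨u1, rfl⟩ (h5 z hz))
    obtain ⟨u, hu, h⟩ := hQ ⊤ Module.Finite.fg_top
    exact hu (hp.1.2 (mem_cond.mpr (fun c => h c Submodule.mem_top)))
  have hn_not : ¬ ∀ x ∈ nP.asIdeal, InS p x := by
    intro hnS
    apply hnotall
    intro c
    obtain ⟨u, a, hu, h⟩ := hsub pP c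
    rw [hpP] at hu
    have h4 : φ u * c - φ a ∈ nP.asIdeal := h nP hcomap
    have h5 : InS p (φ u * c - φ a) := hnS _ h4
    have h6 : InS p (φ u * c) := by
      have h7 := inS_add hpprime h5 (inS_of_range hpprime ⟨a, rfl⟩)
      rwa [sub_add_cancel] at h7
    exact inS_of_mul hpprime hu h6
  -- the minimal power of `n` inside `S`
  have hex : ∃ K : ℕ, ∀ x ∈ nP.asIdeal ^ K, InS p x := ⟨k * M, hkM⟩
  obtain ⟨K0, hK0⟩ : ∃ K0 : ℕ, K0 = Nat.find hex := ⟨_, rfl⟩
  have hK0spec : ∀ x ∈ nP.asIdeal ^ K0, InS p x := hK0 ▸ Nat.find_spec hex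
  have hK0min : ∀ m : ℕ, m < K0 → ¬ ∀ x ∈ nP.asIdeal ^ m, InS p x := by
    intro m hm
    rw [hK0] at hm
    exact Nat.find_min hex hm
  have hK0ne0 : K0 ≠ 0 := by
    intro h0
    apply hnotall
    intro c
    apply hK0spec
    rw [h0, pow_zero, Ideal.one_eq_top]
    exact Submodule.mem_top
  have hK0ne1 : K0 ≠ 1 := by
    intro h1
    apply hn_not
    intro x hx
    apply hK0spec
    rw [h1, pow_one]
    exact hx
  have hK0ge : 2 ≤ K0 := by omega
  have hmin := hK0min (K0 - 1) (by omega)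
  obtain ⟨z, hz, hzS⟩ : ∃ z ∈ nP.asIdeal ^ (K0 - 1), ¬ InS p z := by
    by_contra hcon
    exact hmin (fun x hx => by_contra (fun hx' => hcon ⟨x, hx, hx'⟩))
  have hz2 : z ^ 2 ∈ nP.asIdeal ^ K0 := by
    have h4 : z ^ 2 ∈ (nP.asIdeal ^ (K0 - 1)) ^ 2 := Ideal.pow_mem_pow hz 2
    rw [← pow_mul] at h4
    exact Ideal.pow_le_pow_right (by omega) h4
  have hz3 : z ^ 3 ∈ nP.asIdeal ^ K0 := by
    have h4 : z ^ 3 ∈ (nP.asIdeal ^ (K0 - 1)) ^ 3 := Ideal.pow_mem_pow hz 3
    rw [← pow_mul] at h4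
    exact Ideal.pow_le_pow_right (by omega) h4
  obtain ⟨u, hu, a2, e2⟩ := hK0spec _ hz2
  obtain ⟨u', hu', a3, e3⟩ := hK0spec _ hz3
  apply hzS
  refine ⟨u * u', fun h => (hpprime.mem_or_mem h).elim hu hu', ?_⟩
  apply hT1
  · refine ⟨u * u' ^ 2 * a2, ?_⟩
    rw [map_mul, e2]
    simp only [map_mul, map_pow]
    ring
  · refine ⟨u ^ 3 * u' ^ 2 * a3, ?_⟩
    rw [map_mul, e3]
    simp only [map_mul, map_pow]
    ring

end

end Groth.Agent.H37.SN_T4
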