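import Mathlib
import Groth.Prelude
import Groth.Agent.S2150
import Groth.Agent.H37.GalTrans
import Groth.Agent.H37.FinSubLimit

/-!
# Points of `X_Ω` over a point `x` whose residue field has finite separable closure of `k`

For `Ω/k` separably closed and algebraic, a point `y` of `X_Ω` over `x` determines an embedding of
the separable closure of `k` in `κ(x)` into `Ω`, and is determined by it.  Hence the automorphisms
of `Ω/k` fixing the normal closure of that separable closure fix all points over `x`.
-/

set_option autoImplicit false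
universe u
open CategoryTheory CategoryTheory.Limits AlgebraicGeometry TensorProduct

namespace Groth.Agent.H37

section Alg

/-- The separable closure of `k` in `κ` embeds into a separably closed `Ω`, compatibly with given
maps of `κ` and `Ω` to a common field. -/
theorem exists_sepClosure_embedding {k κ Ω M : Type u} [Field k] [Field κ] [Field Ω] [Field M]
    [Algebra k κ] [Algebra k Ω] [IsSepClosed Ω] (ικ : κ →+* M) (ι : Ω →+* M)
    (h : ι.comp (algebraMap k Ω) = ικ.comp (algebraMap k κ)) :
    ∃ τ : ↥(separableClosure k κ) →ₐ[k] Ω,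
      ∀ c : ↥(separableClosure k κ), ι (τ c) = ικ (c : κ) := by
  letI : Algebra Ω M := ι.toAlgebra
  letI : Algebra k M := (ι.comp (algebraMap k Ω)).toAlgebra
  haveI : IsScalarTower k Ω M := IsScalarTower.of_algebraMap_eq (fun x => rfl)
  let g : κ →ₐ[k] M :=
    { ικ with
      commutes' := fun c => by
        show ικ (algebraMap k κ c) = ι (algebraMap k Ω c)
        exact (congrArg (fun r : k →+* M => r c) h).symm }
  have hmem : ∀ c : ↥(separableClosure k κ),
      g (c : κ) ∈ (IsScalarTower.toAlgHom k Ω M).range := by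
    intro c
    have hc : IsSeparable k (c : κ) := mem_separableClosure_iff.mp c.2
    have hgc : IsSeparable k (g (c : κ)) := by
      unfold IsSeparable
      rw [minpoly.algHom_eq g g.injective]
      exact hc
    have hΩ : IsSeparable Ω (g (c : κ)) := IsSeparable.tower_top Ω hgc
    have hm : g (c : κ) ∈ separableClosure Ω M := mem_separableClosure_iff.mpr hΩ
    rw [IntermediateField.eq_bot_of_isSepClosed_of_isSeparable (separableClosure Ω M)] at hm
    obtain ⟨ω, hω⟩ := IntermediateField.mem_bot.mp hm
    exact ⟨ω, hω⟩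
  let e := AlgEquiv.ofInjectiveField (IsScalarTower.toAlgHom k Ω M)
  let τ : ↥(separableClosure k κ) →ₐ[k] Ω :=
    (e.symm : _ →ₐ[k] Ω).comp
      ((g.comp (separableClosure k κ).val).codRestrict _ (fun c => hmem c))
  refine ⟨τ, fun c => ?_⟩
  have h1 := e.apply_symm_apply ⟨g (c : κ), hmem c⟩
  exact congrArg Subtype.val h1

/-- An irreducible spectrum of an algebra integral over a field is a single point. -/
theorem subsingleton_primeSpectrum_of_irreducible_of_integral {κ B : Type*} [Field κ]
    [CommRing B] [Algebra κ B] [Algebra.IsIntegral κ B] [IrreducibleSpace (PrimeSpectrum B)] :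
    Subsingleton (PrimeSpectrum B) := by
  have hmax : ∀ P : PrimeSpectrum B, P.asIdeal.IsMaximal := by
    intro P
    haveI : IsDomain (B ⧸ P.asIdeal) := Ideal.Quotient.isDomain _
    have hf : IsField (B ⧸ P.asIdeal) :=
      isField_of_isIntegral_of_isField' (R := κ) (Field.toIsField κ)
    exact Ideal.Quotient.maximal_of_isField _ hf
  have h1 : ∀ P : PrimeSpectrum B, genericPoint (PrimeSpectrum B) = P := by
    intro P
    have hs : genericPoint (PrimeSpectrum B) ⤳ P := genericPoint_specializes P
    have hle : (genericPoint (PrimeSpectrum B)).asIdeal ≤ P.asIdeal :=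
      (PrimeSpectrum.le_iff_specializes _ P).mpr hs
    exact PrimeSpectrum.ext ((hmax _).eq_of_le P.2.ne_top hle)
  exact ⟨fun P Q => (h1 P).symm.trans (h1 Q)⟩

/-- `κ ⊗ Ω` over the separable closure of `k` in `κ` has a one point spectrum, for `Ω` algebraic
over that separable closure. -/
theorem subsingleton_primeSpectrum_tensor_sepClosure {k κ Ω : Type u} [Field k] [Field κ]
    [Field Ω] [Algebra k κ] [Algebra ↥(separableClosure k κ) Ω]
    [Algebra.IsIntegral ↥(separableClosure k κ) Ω] :
    Subsingleton (PrimeSpectrum (κ ⊗[↥(separableClosure k κ)] Ω)) := by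
  have hsep : ∀ α : κ, IsSeparable ↥(separableClosure k κ) α →
      α ∈ Set.range (algebraMap ↥(separableClosure k κ) κ) := by
    intro α hα
    have hm : α ∈ separableClosure ↥(separableClosure k κ) κ := mem_separableClosure_iff.mpr hα
    rw [separableClosure.separableClosure_eq_bot] at hm
    exact IntermediateField.mem_bot.mp hm
  have hirr : IrreducibleSpace (PrimeSpectrum (Ω ⊗[↥(separableClosure k κ)] κ)) :=
    (Groth.Agent.S2150.result.mpr hsep) Ω
  haveI : IrreducibleSpace (PrimeSpectrum (κ ⊗[↥(separableClosure k κ)] Ω)) :=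
    (PrimeSpectrum.homeomorphOfRingEquiv
      (Algebra.TensorProduct.comm ↥(separableClosure k κ) Ω κ).toRingEquiv).irreducibleSpace_iff.mp
      hirr
  exact subsingleton_primeSpectrum_of_irreducible_of_integral (κ := κ)

end Alg

section Points

/-- A point `y` over `x` is the image of a field valued point compatible with `Spec κ(x) ⟶ X`. -/
theorem exists_field_point_over {X Y : Scheme.{u}} (p : Y ⟶ X) (y : Y) (x : X) (hx : p y = x) :
    ∃ (M : Type u) (_ : Field M) (a : Spec (CommRingCat.of M) ⟶ Y)
      (ικ : X.residueField x →+* M),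
      (∀ s, a s = y) ∧
      a ≫ p = Spec.map (CommRingCat.ofHom ικ) ≫ X.fromSpecResidueField x := by
  obtain ⟨s₀⟩ : Nonempty ↥(Spec (X.residueField x)) :=
    (inferInstance : Nonempty (PrimeSpectrum (X.residueField x)))
  have h0 : X.fromSpecResidueField x s₀ = p y :=
    (Scheme.fromSpecResidueField_apply x s₀).trans hx.symm
  obtain ⟨z, hz1, hz2⟩ := Scheme.Pullback.exists_preimage_pullback
    (f := X.fromSpecResidueField x) (g := p) s₀ y h0
  let P := pullback (X.fromSpecResidueField x) p
  let M : Type u := ↑(P.residueField z)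
  let t : Spec (CommRingCat.of M) ⟶ P := P.fromSpecResidueField z
  obtain ⟨ψ, hψ⟩ := Spec.map_surjective (t ≫ pullback.fst (X.fromSpecResidueField x) p)
  refine ⟨M, inferInstance, t ≫ pullback.snd _ _, ψ.hom, ?_, ?_⟩
  · intro s
    rw [Scheme.Hom.comp_apply, show t s = z from Scheme.fromSpecResidueField_apply z s]
    exact hz2
  · rw [Category.assoc, ← pullback.condition, ← Category.assoc, ← hψ]
    rfl

variable {k Ω : Type u} [Field k] [Field Ω] [Algebra k Ω] [Algebra.IsAlgebraic k Ω]

/-- Two field valued points of `X_Ω` over `x` inducing the same embedding of the separable closure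
have the same image. -/
theorem fieldPoint_eq_of_same_embedding {X : Scheme.{u}} (f : X ⟶ Spec (CommRingCat.of k)) (x : X)
    [Algebra k (X.residueField x)]
    (hφ : Spec.map (CommRingCat.ofHom (algebraMap k (X.residueField x))) =
      X.fromSpecResidueField x ≫ f)
    (τ : ↥(separableClosure k (X.residueField x)) →ₐ[k] Ω)
    {M : Type u} [Field M]
    (a : Spec (CommRingCat.of M) ⟶ pullback f (Spec.map (CommRingCat.ofHom (algebraMap k Ω))))
    (ικ : X.residueField x →+* M) (ι : Ω →+* M)
    (ha1 : a ≫ pullback.fst f (Spec.map (CommRingCat.ofHom (algebraMap k Ω))) =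
      Spec.map (CommRingCat.ofHom ικ) ≫ X.fromSpecResidueField x)
    (ha2 : a ≫ pullback.snd f (Spec.map (CommRingCat.ofHom (algebraMap k Ω))) =
      Spec.map (CommRingCat.ofHom ι))
    (hτ : ∀ c : ↥(separableClosure k (X.residueField x)), ι (τ c) = ικ (c : X.residueField x))
    {M' : Type u} [Field M']
    (a' : Spec (CommRingCat.of M') ⟶ pullback f (Spec.map (CommRingCat.ofHom (algebraMap k Ω))))
    (ικ' : X.residueField x →+* M') (ι' : Ω →+* M')
    (ha1' : a' ≫ pullback.fst f (Spec.map (CommRingCat.ofHom (algebraMap k Ω))) =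
      Spec.map (CommRingCat.ofHom ικ') ≫ X.fromSpecResidueField x)
    (ha2' : a' ≫ pullback.snd f (Spec.map (CommRingCat.ofHom (algebraMap k Ω))) =
      Spec.map (CommRingCat.ofHom ι'))
    (hτ' : ∀ c : ↥(separableClosure k (X.residueField x)),
      ι' (τ c) = ικ' (c : X.residueField x))
    (s : ↥(Spec (CommRingCat.of M))) (s' : ↥(Spec (CommRingCat.of M'))) :
    a s = a' s' := by
  letI algΩ : Algebra ↥(separableClosure k (X.residueField x)) Ω := τ.toRingHom.toAlgebra
  haveI tower : IsScalarTower k ↥(separableClosure k (X.residueField x)) Ω :=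
    IsScalarTower.of_algebraMap_eq (fun c => (τ.commutes c).symm)
  haveI : Algebra.IsIntegral ↥(separableClosure k (X.residueField x)) Ω :=
    Algebra.IsIntegral.tower_top (R := k) (S := ↥(separableClosure k (X.residueField x))) (T := Ω)
  haveI hsub : Subsingleton (PrimeSpectrum
      ((X.residueField x) ⊗[↥(separableClosure k (X.residueField x))] Ω)) :=
    subsingleton_primeSpectrum_tensor_sepClosure
  obtain ⟨u₁, hu₁⟩ : ∃ u : Spec (CommRingCat.of
      ((X.residueField x) ⊗[↥(separableClosure k (X.residueField x))] Ω)) ⟶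
      Spec (CommRingCat.of (X.residueField x)),
      u = Spec.map (CommRingCat.ofHom (Algebra.TensorProduct.includeLeftRingHom :
        X.residueField x →+*
          ((X.residueField x) ⊗[↥(separableClosure k (X.residueField x))] Ω))) := ⟨_, rfl⟩
  obtain ⟨u₂, hu₂⟩ : ∃ u : Spec (CommRingCat.of
      ((X.residueField x) ⊗[↥(separableClosure k (X.residueField x))] Ω)) ⟶
      Spec (CommRingCat.of Ω),
      u = Spec.map (CommRingCat.ofHom (Algebra.TensorProduct.includeRight :
        Ω →ₐ[↥(separableClosure k (X.residueField x))]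
          ((X.residueField x) ⊗[↥(separableClosure k (X.residueField x))] Ω)).toRingHom) :=
    ⟨_, rfl⟩
  have hring : (Algebra.TensorProduct.includeLeftRingHom : X.residueField x →+*
        ((X.residueField x) ⊗[↥(separableClosure k (X.residueField x))] Ω)).comp
        (algebraMap k (X.residueField x)) =
      (Algebra.TensorProduct.includeRight : Ω →ₐ[↥(separableClosure k (X.residueField x))]
        ((X.residueField x) ⊗[↥(separableClosure k (X.residueField x))] Ω)).toRingHom.comp
        (algebraMap k Ω) := by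
    ext c
    show (algebraMap k (X.residueField x) c) ⊗ₜ[↥(separableClosure k (X.residueField x))] (1 : Ω) =
      (1 : X.residueField x) ⊗ₜ[↥(separableClosure k (X.residueField x))] (algebraMap k Ω c)
    rw [IsScalarTower.algebraMap_apply k ↥(separableClosure k (X.residueField x))
        (X.residueField x) c,
      IsScalarTower.algebraMap_apply k ↥(separableClosure k (X.residueField x)) Ω c,
      Algebra.algebraMap_eq_smul_one (R := ↥(separableClosure k (X.residueField x)))
        (A := X.residueField x),
      Algebra.algebraMap_eq_smul_one (R := ↥(separableClosure k (X.residueField x))) (A := Ω),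
      TensorProduct.smul_tmul]
  have hcompat : (u₁ ≫ X.fromSpecResidueField x) ≫ f =
      u₂ ≫ Spec.map (CommRingCat.ofHom (algebraMap k Ω)) := by
    rw [Category.assoc, ← hφ, hu₁, hu₂]
    refine (Spec.map_comp _ _).symm.trans (Eq.trans ?_ (Spec.map_comp _ _))
    congr 1
    ext c
    exact congrArg (fun r : k →+* _ => r c) hring
  obtain ⟨j, hj1, hj2⟩ : ∃ j : Spec (CommRingCat.of
      ((X.residueField x) ⊗[↥(separableClosure k (X.residueField x))] Ω)) ⟶
      pullback f (Spec.map (CommRingCat.ofHom (algebraMap k Ω))),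
      j ≫ pullback.fst f _ = u₁ ≫ X.fromSpecResidueField x ∧ j ≫ pullback.snd f _ = u₂ :=
    ⟨pullback.lift _ _ hcompat, pullback.lift_fst _ _ _, pullback.lift_snd _ _ _⟩
  have fac : ∀ (N : Type u) [Field N]
      (b : Spec (CommRingCat.of N) ⟶ pullback f (Spec.map (CommRingCat.ofHom (algebraMap k Ω))))
      (jκ : X.residueField x →+* N) (jΩ : Ω →+* N),
      b ≫ pullback.fst f (Spec.map (CommRingCat.ofHom (algebraMap k Ω))) =
        Spec.map (CommRingCat.ofHom jκ) ≫ X.fromSpecResidueField x →
      b ≫ pullback.snd f (Spec.map (CommRingCat.ofHom (algebraMap k Ω))) =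
        Spec.map (CommRingCat.ofHom jΩ) →
      (∀ c : ↥(separableClosure k (X.residueField x)), jΩ (τ c) = jκ (c : X.residueField x)) →
      ∃ β : Spec (CommRingCat.of N) ⟶ Spec (CommRingCat.of
        ((X.residueField x) ⊗[↥(separableClosure k (X.residueField x))] Ω)), b = β ≫ j := by
    intro N _ b jκ jΩ hb1 hb2 hc
    letI : Algebra ↥(separableClosure k (X.residueField x)) N :=
      (jκ.comp (algebraMap ↥(separableClosure k (X.residueField x)) (X.residueField x))).toAlgebra
    let jκA : X.residueField x →ₐ[↥(separableClosure k (X.residueField x))] N :=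
      { jκ with commutes' := fun c => rfl }
    let jΩA : Ω →ₐ[↥(separableClosure k (X.residueField x))] N :=
      { jΩ with commutes' := fun c => hc c }
    refine ⟨Spec.map (CommRingCat.ofHom
      (Algebra.TensorProduct.productMap jκA jΩA).toRingHom), ?_⟩
    apply pullback.hom_ext
    · rw [Category.assoc, hj1, hb1, ← Category.assoc, hu₁]
      congr 1
      refine Eq.trans ?_ (Spec.map_comp _ _)
      congr 1
      ext c
      exact (Algebra.TensorProduct.productMap_left_apply jκA jΩA c).symm
    · rw [Category.assoc, hj2, hb2, hu₂]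
      refine Eq.trans ?_ (Spec.map_comp _ _)
      congr 1
      ext c
      exact (Algebra.TensorProduct.productMap_right_apply jκA jΩA c).symm
  obtain ⟨α, hα⟩ := fac M a ικ ι ha1 ha2 hτ
  obtain ⟨α', hα'⟩ := fac M' a' ικ' ι' ha1' ha2' hτ'
  rw [hα, hα', Scheme.Hom.comp_apply, Scheme.Hom.comp_apply]
  congr 1
  exact Subsingleton.elim (α := PrimeSpectrum
    ((X.residueField x) ⊗[↥(separableClosure k (X.residueField x))] Ω)) _ _

/-- The automorphisms of `Ω/k` fixing a suitable finite subextension fix all points of `X_Ω` over a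
point `x` such that the separable closure of `k` in `κ(x)` is finite over `k`. -/
theorem exists_finSub_fixing_fibre [IsSepClosed Ω]
    (X : Scheme.{u}) [X.Over (Spec (CommRingCat.of k))] (x : X)
    (φ : k →+* X.residueField x)
    (hφ : Spec.map (CommRingCat.ofHom φ) =
      X.fromSpecResidueField x ≫ (X ↘ Spec (CommRingCat.of k)))
    (hfin : letI := φ.toAlgebra
      FiniteDimensional k ↥(separableClosure k (X.residueField x))) :
    ∃ E : FinSub k Ω, ∀ σ : Ω ≃ₐ[k] Ω, (∀ a : Ω, a ∈ E.1 → σ a = a) →
      ∀ y : ↥(Curv2.bc k X Ω), Curv2.bcFst k X Ω y = x → Curv2.galAct k X Ω σ y = y := by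
  letI := φ.toAlgebra
  haveI := hfin
  refine ⟨⟨IntermediateField.normalClosure k ↥(separableClosure k (X.residueField x)) Ω, inferInstance⟩, ?_⟩
  intro σ hσ y hy
  obtain ⟨M, instM, a, ικ, hpt, ha1⟩ := exists_field_point_over (Curv2.bcFst k X Ω) y x hy
  letI : Field M := instM
  obtain ⟨θ, hθ⟩ := Spec.map_surjective (a ≫ Curv2.bcSnd k X Ω)
  have h1 : Spec.map θ ≫ Spec.map (CommRingCat.ofHom (algebraMap k Ω)) =
      Spec.map (CommRingCat.ofHom ικ) ≫ Spec.map (CommRingCat.ofHom φ) := by
    calc Spec.map θ ≫ Spec.map (CommRingCat.ofHom (algebraMap k Ω))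
        = (a ≫ pullback.snd (X ↘ Spec (CommRingCat.of k))
            (Spec.map (CommRingCat.ofHom (algebraMap k Ω)))) ≫
            Spec.map (CommRingCat.ofHom (algebraMap k Ω)) := by rw [hθ]
      _ = a ≫ (pullback.snd (X ↘ Spec (CommRingCat.of k))
            (Spec.map (CommRingCat.ofHom (algebraMap k Ω))) ≫
            Spec.map (CommRingCat.ofHom (algebraMap k Ω))) := Category.assoc _ _ _
      _ = a ≫ (pullback.fst (X ↘ Spec (CommRingCat.of k))
            (Spec.map (CommRingCat.ofHom (algebraMap k Ω))) ≫
            (X ↘ Spec (CommRingCat.of k))) := by rw [pullback.condition]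
      _ = (a ≫ pullback.fst (X ↘ Spec (CommRingCat.of k))
            (Spec.map (CommRingCat.ofHom (algebraMap k Ω)))) ≫
            (X ↘ Spec (CommRingCat.of k)) := (Category.assoc _ _ _).symm
      _ = (Spec.map (CommRingCat.ofHom ικ) ≫ X.fromSpecResidueField x) ≫
            (X ↘ Spec (CommRingCat.of k)) := by rw [ha1]
      _ = Spec.map (CommRingCat.ofHom ικ) ≫ (X.fromSpecResidueField x ≫
            (X ↘ Spec (CommRingCat.of k))) := Category.assoc _ _ _
      _ = Spec.map (CommRingCat.ofHom ικ) ≫ Spec.map (CommRingCat.ofHom φ) := by rw [hφ]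
  rw [← Spec.map_comp, ← Spec.map_comp] at h1
  have h2 := congrArg CommRingCat.Hom.hom (Spec.map_injective h1)
  have hcomp : θ.hom.comp (algebraMap k Ω) = ικ.comp (algebraMap k (X.residueField x)) := h2
  obtain ⟨τ, hτ⟩ := exists_sepClosure_embedding (k := k) ικ θ.hom hcomp
  have ha2 : a ≫ pullback.snd (X ↘ Spec (CommRingCat.of k))
      (Spec.map (CommRingCat.ofHom (algebraMap k Ω))) = Spec.map (CommRingCat.ofHom θ.hom) :=
    hθ.symm
  have hb1 : (a ≫ Curv2.galAct k X Ω σ) ≫ pullback.fst (X ↘ Spec (CommRingCat.of k))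
      (Spec.map (CommRingCat.ofHom (algebraMap k Ω))) =
      Spec.map (CommRingCat.ofHom ικ) ≫ X.fromSpecResidueField x := by
    refine (Category.assoc _ _ _).trans ?_
    refine (congrArg (fun m => a ≫ m) (galAct_fst k X Ω σ)).trans ?_
    exact ha1
  have hb2 : (a ≫ Curv2.galAct k X Ω σ) ≫ pullback.snd (X ↘ Spec (CommRingCat.of k))
      (Spec.map (CommRingCat.ofHom (algebraMap k Ω))) =
      Spec.map (CommRingCat.ofHom (θ.hom.comp (σ : Ω →ₐ[k] Ω).toRingHom)) := by
    refine (Category.assoc _ _ _).trans ?_
    refine (congrArg (fun m => a ≫ m) (galAct_snd k X Ω σ)).trans ?_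
    refine (Category.assoc _ _ _).symm.trans ?_
    refine (congrArg (fun m => m ≫ Spec.map (CommRingCat.ofHom (σ : Ω →ₐ[k] Ω).toRingHom))
      ha2).trans ?_
    exact (Spec.map_comp _ _).symm
  have hτb : ∀ c : ↥(separableClosure k (X.residueField x)),
      (θ.hom.comp (σ : Ω →ₐ[k] Ω).toRingHom) (τ c) = ικ (c : X.residueField x) := by
    intro c
    have hmem : τ c ∈ IntermediateField.normalClosure k ↥(separableClosure k (X.residueField x)) Ω :=
      AlgHom.fieldRange_le_normalClosure τ (AlgHom.mem_fieldRange.mpr ⟨c, rfl⟩)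
    show θ.hom (σ (τ c)) = _
    rw [hσ (τ c) hmem]
    exact hτ c
  obtain ⟨s⟩ : Nonempty ↥(Spec (CommRingCat.of M)) :=
    (inferInstance : Nonempty (PrimeSpectrum M))
  have key := fieldPoint_eq_of_same_embedding (X ↘ Spec (CommRingCat.of k)) x hφ τ a ικ θ.hom
    ha1 ha2 hτ (a ≫ Curv2.galAct k X Ω σ) ικ (θ.hom.comp (σ : Ω →ₐ[k] Ω).toRingHom)
    hb1 hb2 hτb s s
  rw [← hpt s]
  exact (Scheme.Hom.comp_apply _ _ _).symm.trans key.symm

end Points

end Groth.Agent.H37
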