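import Groth.Agent.H37.SepPoints
import Groth.Agent.H37.ConnCompImage

/-!
# Points of `X_Ω` over `x`, `Ω` separably closed but not necessarily algebraic over `k`

Two points of `X_Ω` over `x` inducing the same embedding of the separable closure of `k` in `κ(x)`
lie in the same connected component.
-/

set_option autoImplicit false
universe u
open CategoryTheory CategoryTheory.Limits AlgebraicGeometry TensorProduct

namespace Groth.Agent.H37

section Alg

/-- `κ ⊗ Ω` over the separable closure of `k` in `κ` has an irreducible spectrum. -/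
theorem irreducibleSpace_primeSpectrum_tensor_sepClosure {k κ Ω : Type u} [Field k] [Field κ]
    [Field Ω] [Algebra k κ] [Algebra ↥(separableClosure k κ) Ω] :
    IrreducibleSpace (PrimeSpectrum (κ ⊗[↥(separableClosure k κ)] Ω)) := by
  have hsep : ∀ α : κ, IsSeparable ↥(separableClosure k κ) α →
      α ∈ Set.range (algebraMap ↥(separableClosure k κ) κ) := by
    intro α hα
    have hm : α ∈ separableClosure ↥(separableClosure k κ) κ := mem_separableClosure_iff.mpr hα
    rw [separableClosure.separableClosure_eq_bot] at hm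
    exact IntermediateField.mem_bot.mp hm
  have hirr : IrreducibleSpace (PrimeSpectrum (Ω ⊗[↥(separableClosure k κ)] κ)) :=
    (Groth.Agent.S2150.result.mpr hsep) Ω
  exact (PrimeSpectrum.homeomorphOfRingEquiv
      (Algebra.TensorProduct.comm ↥(separableClosure k κ) Ω κ).toRingEquiv).irreducibleSpace_iff.mp
      hirr

end Alg

section Points

variable {k Ω : Type u} [Field k] [Field Ω] [Algebra k Ω]

/-- Two field valued points of `X_Ω` over `x` inducing the same embedding of the separable closure
have images in the same connected component. -/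
theorem fieldPoint_sameComponent_of_same_embedding {X : Scheme.{u}} (f : X ⟶ Spec (CommRingCat.of k)) (x : X)
    [Algebra k (X.residueField x)]
    (hφ : Spec.map (CommRingCat.ofHom (algebraMap k (X.residueField x))) =
      X.fromSpecResidueField x ≫ f)
    (τ : ↥(separableClosure k (X.residueField x)) →ₐ[k] Ω)
    {M : Type u} [Field M]
    (a : Spec (CommRingCat.of M) ⟶ pullback f (Spec.map (CommRingCat.ofHom (algebraMap k Ω))))
    (ικ : X.residueField x →+* M) (ι : Ω →+* M)
    (ha1 : a ≫ pullback.fst f (Spec.map (CommRingCat.ofHom (algebraMap k Ω))) =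
      Spec.map (CommRingCat.ofHom ικ) ≫ X.fromSpecResidueField x)
    (ha2 : a ≫ pullback.snd f (Spec.map (CommRingCat.ofHom (algebraMap k Ω))) =
      Spec.map (CommRingCat.ofHom ι))
    (hτ : ∀ c : ↥(separableClosure k (X.residueField x)), ι (τ c) = ικ (c : X.residueField x))
    {M' : Type u} [Field M']
    (a' : Spec (CommRingCat.of M') ⟶ pullback f (Spec.map (CommRingCat.ofHom (algebraMap k Ω))))
    (ικ' : X.residueField x →+* M') (ι' : Ω →+* M')
    (ha1' : a' ≫ pullback.fst f (Spec.map (CommRingCat.ofHom (algebraMap k Ω))) =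
      Spec.map (CommRingCat.ofHom ικ') ≫ X.fromSpecResidueField x)
    (ha2' : a' ≫ pullback.snd f (Spec.map (CommRingCat.ofHom (algebraMap k Ω))) =
      Spec.map (CommRingCat.ofHom ι'))
    (hτ' : ∀ c : ↥(separableClosure k (X.residueField x)),
      ι' (τ c) = ικ' (c : X.residueField x))
    (s : ↥(Spec (CommRingCat.of M))) (s' : ↥(Spec (CommRingCat.of M'))) :
    a' s' ∈ connectedComponent (a s) := by
  letI algΩ : Algebra ↥(separableClosure k (X.residueField x)) Ω := τ.toRingHom.toAlgebra
  haveI tower : IsScalarTower k ↥(separableClosure k (X.residueField x)) Ω :=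
    IsScalarTower.of_algebraMap_eq (fun c => (τ.commutes c).symm)
  haveI hirr : IrreducibleSpace (PrimeSpectrum
      ((X.residueField x) ⊗[↥(separableClosure k (X.residueField x))] Ω)) :=
    irreducibleSpace_primeSpectrum_tensor_sepClosure
  haveI hconn : ConnectedSpace ↥(Spec (CommRingCat.of
      ((X.residueField x) ⊗[↥(separableClosure k (X.residueField x))] Ω))) :=
    (inferInstance : ConnectedSpace (PrimeSpectrum
      ((X.residueField x) ⊗[↥(separableClosure k (X.residueField x))] Ω)))
  obtain ⟨u₁, hu₁⟩ : ∃ u : Spec (CommRingCat.of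
      ((X.residueField x) ⊗[↥(separableClosure k (X.residueField x))] Ω)) ⟶
      Spec (CommRingCat.of (X.residueField x)),
      u = Spec.map (CommRingCat.ofHom (Algebra.TensorProduct.includeLeftRingHom :
        X.residueField x →+*
          ((X.residueField x) ⊗[↥(separableClosure k (X.residueField x))] Ω))) := ⟨_, rfl⟩
  obtain ⟨u₂, hu₂⟩ : ∃ u : Spec (CommRingCat.of
      ((X.residueField x) ⊗[↥(separableClosure k (X.residueField x))] Ω)) ⟶
      Spec (CommRingCat.of Ω),
      u = Spec.map (CommRingCat.ofHom (Algebra.TensorProduct.includeRight :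
        Ω →ₐ[↥(separableClosure k (X.residueField x))]
          ((X.residueField x) ⊗[↥(separableClosure k (X.residueField x))] Ω)).toRingHom) :=
    ⟨_, rfl⟩
  have hring : (Algebra.TensorProduct.includeLeftRingHom : X.residueField x →+*
        ((X.residueField x) ⊗[↥(separableClosure k (X.residueField x))] Ω)).comp
        (algebraMap k (X.residueField x)) =
      (Algebra.TensorProduct.includeRight : Ω →ₐ[↥(separableClosure k (X.residueField x))]
        ((X.residueField x) ⊗[↥(separableClosure k (X.residueField x))] Ω)).toRingHom.comp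
        (algebraMap k Ω) := by
    ext c
    show (algebraMap k (X.residueField x) c) ⊗ₜ[↥(separableClosure k (X.residueField x))] (1 : Ω) =
      (1 : X.residueField x) ⊗ₜ[↥(separableClosure k (X.residueField x))] (algebraMap k Ω c)
    rw [IsScalarTower.algebraMap_apply k ↥(separableClosure k (X.residueField x))
        (X.residueField x) c,
      IsScalarTower.algebraMap_apply k ↥(separableClosure k (X.residueField x)) Ω c,
      Algebra.algebraMap_eq_smul_one (R := ↥(separableClosure k (X.residueField x)))
        (A := X.residueField x),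
      Algebra.algebraMap_eq_smul_one (R := ↥(separableClosure k (X.residueField x))) (A := Ω),
      TensorProduct.smul_tmul]
  have hcompat : (u₁ ≫ X.fromSpecResidueField x) ≫ f =
      u₂ ≫ Spec.map (CommRingCat.ofHom (algebraMap k Ω)) := by
    rw [Category.assoc, ← hφ, hu₁, hu₂]
    refine (Spec.map_comp _ _).symm.trans (Eq.trans ?_ (Spec.map_comp _ _))
    congr 1
    ext c
    exact congrArg (fun r : k →+* _ => r c) hring
  obtain ⟨j, hj1, hj2⟩ : ∃ j : Spec (CommRingCat.of
      ((X.residueField x) ⊗[↥(separableClosure k (X.residueField x))] Ω)) ⟶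
      pullback f (Spec.map (CommRingCat.ofHom (algebraMap k Ω))),
      j ≫ pullback.fst f _ = u₁ ≫ X.fromSpecResidueField x ∧ j ≫ pullback.snd f _ = u₂ :=
    ⟨pullback.lift _ _ hcompat, pullback.lift_fst _ _ _, pullback.lift_snd _ _ _⟩
  have fac : ∀ (N : Type u) [Field N]
      (b : Spec (CommRingCat.of N) ⟶ pullback f (Spec.map (CommRingCat.ofHom (algebraMap k Ω))))
      (jκ : X.residueField x →+* N) (jΩ : Ω →+* N),
      b ≫ pullback.fst f (Spec.map (CommRingCat.ofHom (algebraMap k Ω))) =
        Spec.map (CommRingCat.ofHom jκ) ≫ X.fromSpecResidueField x →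
      b ≫ pullback.snd f (Spec.map (CommRingCat.ofHom (algebraMap k Ω))) =
        Spec.map (CommRingCat.ofHom jΩ) →
      (∀ c : ↥(separableClosure k (X.residueField x)), jΩ (τ c) = jκ (c : X.residueField x)) →
      ∃ β : Spec (CommRingCat.of N) ⟶ Spec (CommRingCat.of
        ((X.residueField x) ⊗[↥(separableClosure k (X.residueField x))] Ω)), b = β ≫ j := by
    intro N _ b jκ jΩ hb1 hb2 hc
    letI : Algebra ↥(separableClosure k (X.residueField x)) N :=
      (jκ.comp (algebraMap ↥(separableClosure k (X.residueField x)) (X.residueField x))).toAlgebra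
    let jκA : X.residueField x →ₐ[↥(separableClosure k (X.residueField x))] N :=
      { jκ with commutes' := fun c => rfl }
    let jΩA : Ω →ₐ[↥(separableClosure k (X.residueField x))] N :=
      { jΩ with commutes' := fun c => hc c }
    refine ⟨Spec.map (CommRingCat.ofHom
      (Algebra.TensorProduct.productMap jκA jΩA).toRingHom), ?_⟩
    apply pullback.hom_ext
    · rw [Category.assoc, hj1, hb1, ← Category.assoc, hu₁]
      congr 1
      refine Eq.trans ?_ (Spec.map_comp _ _)
      congr 1
      ext c
      exact (Algebra.TensorProduct.productMap_left_apply jκA jΩA c).symm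
    · rw [Category.assoc, hj2, hb2, hu₂]
      refine Eq.trans ?_ (Spec.map_comp _ _)
      congr 1
      ext c
      exact (Algebra.TensorProduct.productMap_right_apply jκA jΩA c).symm
  obtain ⟨α, hα⟩ := fac M a ικ ι ha1 ha2 hτ
  obtain ⟨α', hα'⟩ := fac M' a' ικ' ι' ha1' ha2' hτ'
  have hrange : _root_.IsConnected (Set.range ⇑j) := isConnected_range j.continuous
  have h1 : a s ∈ Set.range ⇑j := by
    rw [hα, Scheme.Hom.comp_apply]; exact ⟨_, rfl⟩
  have h2 : a' s' ∈ Set.range ⇑j := by
    rw [hα', Scheme.Hom.comp_apply]; exact ⟨_, rfl⟩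
  exact hrange.isPreconnected.subset_connectedComponent h1 h2


/-- `y` is the image of a field valued point of `X_Ω` over `x` inducing the embedding `τ` of the
separable closure of `k` in `κ(x)` into `Ω`. -/
def HasEmb {X : Scheme.{u}} (f : X ⟶ Spec (CommRingCat.of k)) (x : X)
    [Algebra k (X.residueField x)]
    (y : ↥(pullback f (Spec.map (CommRingCat.ofHom (algebraMap k Ω)))))
    (τ : ↥(separableClosure k (X.residueField x)) →ₐ[k] Ω) : Prop :=
  ∃ (M : Type u) (_ : Field M)
    (a : Spec (CommRingCat.of M) ⟶ pullback f (Spec.map (CommRingCat.ofHom (algebraMap k Ω))))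
    (ικ : X.residueField x →+* M) (ι : Ω →+* M),
    (∀ s, a s = y) ∧
    a ≫ pullback.fst f (Spec.map (CommRingCat.ofHom (algebraMap k Ω))) =
      Spec.map (CommRingCat.ofHom ικ) ≫ X.fromSpecResidueField x ∧
    a ≫ pullback.snd f (Spec.map (CommRingCat.ofHom (algebraMap k Ω))) =
      Spec.map (CommRingCat.ofHom ι) ∧
    ∀ c : ↥(separableClosure k (X.residueField x)), ι (τ c) = ικ (c : X.residueField x)

theorem HasEmb.mem_connectedComponent {X : Scheme.{u}} (f : X ⟶ Spec (CommRingCat.of k)) (x : X)
    [Algebra k (X.residueField x)]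
    (hφ : Spec.map (CommRingCat.ofHom (algebraMap k (X.residueField x))) =
      X.fromSpecResidueField x ≫ f)
    {y y' : ↥(pullback f (Spec.map (CommRingCat.ofHom (algebraMap k Ω))))}
    {τ : ↥(separableClosure k (X.residueField x)) →ₐ[k] Ω}
    (h : HasEmb f x y τ) (h' : HasEmb f x y' τ) : y' ∈ connectedComponent y := by
  obtain ⟨M, instM, a, ικ, ι, ha0, ha1, ha2, hτ⟩ := h
  obtain ⟨M', instM', a', ικ', ι', ha0', ha1', ha2', hτ'⟩ := h'
  letI : Field M := instM
  letI : Field M' := instM'
  obtain ⟨s⟩ : Nonempty ↥(Spec (CommRingCat.of M)) :=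
    (inferInstance : Nonempty (PrimeSpectrum M))
  obtain ⟨s'⟩ : Nonempty ↥(Spec (CommRingCat.of M')) :=
    (inferInstance : Nonempty (PrimeSpectrum M'))
  have key := fieldPoint_sameComponent_of_same_embedding f x hφ τ a ικ ι ha1 ha2 hτ
    a' ικ' ι' ha1' ha2' hτ' s s'
  rw [ha0 s, ha0' s'] at key
  exact key

/-- Every point of `X_Ω` over `x` induces some embedding (`Ω` separably closed). -/
theorem exists_hasEmb [IsSepClosed Ω] {X : Scheme.{u}} (f : X ⟶ Spec (CommRingCat.of k)) (x : X)
    [Algebra k (X.residueField x)]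
    (hφ : Spec.map (CommRingCat.ofHom (algebraMap k (X.residueField x))) =
      X.fromSpecResidueField x ≫ f)
    (y : ↥(pullback f (Spec.map (CommRingCat.ofHom (algebraMap k Ω)))))
    (hy : pullback.fst f (Spec.map (CommRingCat.ofHom (algebraMap k Ω))) y = x) :
    ∃ τ : ↥(separableClosure k (X.residueField x)) →ₐ[k] Ω, HasEmb f x y τ := by
  obtain ⟨M, instM, a, ικ, hpt, ha1⟩ := exists_field_point_over
    (pullback.fst f (Spec.map (CommRingCat.ofHom (algebraMap k Ω)))) y x hy
  letI : Field M := instM
  obtain ⟨θ, hθ⟩ := Spec.map_surjective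
    (a ≫ pullback.snd f (Spec.map (CommRingCat.ofHom (algebraMap k Ω))))
  have h1 : Spec.map θ ≫ Spec.map (CommRingCat.ofHom (algebraMap k Ω)) =
      Spec.map (CommRingCat.ofHom ικ) ≫
        Spec.map (CommRingCat.ofHom (algebraMap k (X.residueField x))) := by
    calc Spec.map θ ≫ Spec.map (CommRingCat.ofHom (algebraMap k Ω))
        = (a ≫ pullback.snd f (Spec.map (CommRingCat.ofHom (algebraMap k Ω)))) ≫
            Spec.map (CommRingCat.ofHom (algebraMap k Ω)) := by rw [hθ]
      _ = a ≫ (pullback.snd f (Spec.map (CommRingCat.ofHom (algebraMap k Ω))) ≫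
            Spec.map (CommRingCat.ofHom (algebraMap k Ω))) := Category.assoc _ _ _
      _ = a ≫ (pullback.fst f (Spec.map (CommRingCat.ofHom (algebraMap k Ω))) ≫ f) := by
          rw [pullback.condition]
      _ = (a ≫ pullback.fst f (Spec.map (CommRingCat.ofHom (algebraMap k Ω)))) ≫ f :=
          (Category.assoc _ _ _).symm
      _ = (Spec.map (CommRingCat.ofHom ικ) ≫ X.fromSpecResidueField x) ≫ f := by rw [ha1]
      _ = Spec.map (CommRingCat.ofHom ικ) ≫ (X.fromSpecResidueField x ≫ f) :=
          Category.assoc _ _ _
      _ = Spec.map (CommRingCat.ofHom ικ) ≫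
            Spec.map (CommRingCat.ofHom (algebraMap k (X.residueField x))) := by rw [hφ]
  rw [← Spec.map_comp, ← Spec.map_comp] at h1
  have h2 := congrArg CommRingCat.Hom.hom (Spec.map_injective h1)
  have hcomp : θ.hom.comp (algebraMap k Ω) = ικ.comp (algebraMap k (X.residueField x)) := h2
  obtain ⟨τ, hτ⟩ := exists_sepClosure_embedding (k := k) ικ θ.hom hcomp
  exact ⟨τ, M, instM, a, ικ, θ.hom, hpt, ha1, hθ.symm, hτ⟩

/-- Over a connected `X` with a point `x` whose residue field has finite separable closure of
`k`, the base change to a separably closed field has at most `[k' : k]` connected components. -/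
theorem card_connectedComponents_le [IsSepClosed Ω] {X : Scheme.{u}} [ConnectedSpace X]
    (f : X ⟶ Spec (CommRingCat.of k)) (x : X) [Algebra k (X.residueField x)]
    (hφ : Spec.map (CommRingCat.ofHom (algebraMap k (X.residueField x))) =
      X.fromSpecResidueField x ≫ f)
    [FiniteDimensional k ↥(separableClosure k (X.residueField x))] :
    Finite (_root_.ConnectedComponents
        ↥(pullback f (Spec.map (CommRingCat.ofHom (algebraMap k Ω))))) ∧
      Nat.card (_root_.ConnectedComponents
        ↥(pullback f (Spec.map (CommRingCat.ofHom (algebraMap k Ω))))) ≤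
        Module.finrank k ↥(separableClosure k (X.residueField x)) := by
  have hpt : ∀ c : _root_.ConnectedComponents
      ↥(pullback f (Spec.map (CommRingCat.ofHom (algebraMap k Ω)))),
      ∃ y, _root_.ConnectedComponents.mk y = c ∧
        pullback.fst f (Spec.map (CommRingCat.ofHom (algebraMap k Ω))) y = x := by
    intro c
    obtain ⟨z, rfl⟩ := ConnectedComponents.surjective_coe c
    have h1 := image_connectedComponent_eq_univ f z
    obtain ⟨y, hy, hyx⟩ : x ∈ ⇑(pullback.fst f (Spec.map (CommRingCat.ofHom (algebraMap k Ω)))) ''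
        connectedComponent z := by
      rw [h1]; exact Set.mem_univ x
    exact ⟨y, ConnectedComponents.coe_eq_coe'.mpr hy, hyx⟩
  choose yc hyc1 hyc2 using hpt
  have hemb := fun c => exists_hasEmb f x hφ (yc c) (hyc2 c)
  choose τc hτc using hemb
  have hinj : Function.Injective τc := by
    intro c c' h
    have h1 : HasEmb f x (yc c') (τc c) := by rw [h]; exact hτc c'
    have h2 := HasEmb.mem_connectedComponent f x hφ (hτc c) h1
    exact (hyc1 c).symm.trans ((ConnectedComponents.coe_eq_coe'.mpr h2).symm.trans (hyc1 c'))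
  haveI : Finite (_root_.ConnectedComponents
      ↥(pullback f (Spec.map (CommRingCat.ofHom (algebraMap k Ω))))) :=
    Finite.of_injective τc hinj
  exact ⟨inferInstance, (Nat.card_le_card_of_injective τc hinj).trans
    (card_algHom_le_finrank k ↥(separableClosure k (X.residueField x)) Ω)⟩

end Points

end Groth.Agent.H37
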