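import Groth.Agent.H37.SepPts
import Mathlib

/-!
# The maximal geometrically reduced closed subscheme with the same separable points

* `isGeometricallyReduced_of_separating`: a `k`-algebra whose elements are separated by `k`-algebra
  maps to geometrically reduced field extensions of `k` is geometrically reduced.
* `geometricallyReduced_of_dense_separable_points`: a reduced `k`-scheme with a dense set of
  separable points is geometrically reduced.
* `exists_unique_sep_closed`: existence and uniqueness of the geometrically reduced closed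
  subscheme containing all separable points.
-/

set_option autoImplicit false
set_option linter.unusedSimpArgs false
universe u
open CategoryTheory CategoryTheory.Limits AlgebraicGeometry TensorProduct

namespace Groth.Agent.H37.SepPts

theorem isGeometricallyReduced_of_separating (k A : Type u) [Field k] [CommRing A] [Algebra k A]
    (hS : ∀ a : A, a ≠ 0 → ∃ (K : Type u) (_ : Field K) (_ : Algebra k K)
      (_ : Algebra.IsGeometricallyReduced k K) (s : A →ₐ[k] K), s a ≠ 0) :
    Algebra.IsGeometricallyReduced k A := by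
  classical
  rw [Algebra.isGeometricallyReduced_field_iff]
  refine ⟨fun x hx => ?_⟩
  let b := Module.Basis.ofVectorSpace k (AlgebraicClosure k)
  obtain ⟨c, rfl⟩ := TensorProduct.eq_repr_basis_left b x
  have hc : c = 0 := by
    by_contra hne
    obtain ⟨i, hi⟩ : ∃ i, c i ≠ 0 := by
      by_contra hall
      push Not at hall
      exact hne (Finsupp.ext hall)
    obtain ⟨K, iF, iA, iG, s, hs⟩ := hS (c i) hi
    let F : AlgebraicClosure k ⊗[k] A →ₐ[k] AlgebraicClosure k ⊗[k] K :=
      Algebra.TensorProduct.map (AlgHom.id k (AlgebraicClosure k)) s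
    haveI : IsReduced (AlgebraicClosure k ⊗[k] K) :=
      (Algebra.isGeometricallyReduced_field_iff k K).mp iG
    have h0 : F (c.sum fun i a => b i ⊗ₜ a) = 0 := (hx.map F).eq_zero
    rw [map_finsuppSum] at h0
    have h1 : ((c.mapRange s (map_zero s)).sum fun i a => b i ⊗ₜ[k] a) = 0 := by
      rw [Finsupp.sum_mapRange_index (by simp)]
      refine Eq.trans (Finsupp.sum_congr fun j _ => ?_) h0
      simp [F]
    have h2 := TensorProduct.sum_tmul_basis_left_eq_zero b _ h1
    have := DFunLike.congr_fun h2 i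
    simp at this
    exact hs this
  simp [hc]

/-- `p` is the value of a separable point of the `k`-scheme `X` -/
def IsSepPt {k : Type u} [Field k] {X : Scheme.{u}} (f : X ⟶ Spec (CommRingCat.of k)) (p : X) :
    Prop :=
  ∃ (k' : Type u) (_ : Field k') (_ : Algebra k k') (_ : Algebra.IsGeometricallyReduced k k')
    (x : Spec (CommRingCat.of k') ⟶ X),
    x ≫ f = Spec.map (CommRingCat.ofHom (algebraMap k k')) ∧ ∃ t, x t = p

theorem isReduced_pullback_chart_sep {k : Type u} [Field k] {Z : Scheme.{u}}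
    (f : Z ⟶ Spec (CommRingCat.of k)) [IsReduced Z] (Sg : Set Z)
    (hSg : ∀ σ ∈ Sg, IsSepPt f σ) (hd : Dense Sg)
    (R : CommRingCat.{u}) (j : Spec R ⟶ Z) [IsOpenImmersion j]
    (L : Type u) [Field L] [Algebra k L] :
    IsReduced (pullback (j ≫ f) (Spec.map (CommRingCat.ofHom (algebraMap k L)))) := by
  obtain ⟨φ, hφ⟩ : ∃ φ : CommRingCat.of k ⟶ R, Spec.map φ = j ≫ f := Spec.map_surjective _
  rw [← hφ]
  haveI : IsReduced (Spec R) := isReduced_of_isOpenImmersion j
  have hred : _root_.IsReduced R := (affine_isReduced_iff R).mp inferInstance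
  letI : Algebra k R := φ.hom.toAlgebra
  have hgr : Algebra.IsGeometricallyReduced k R := by
    refine isGeometricallyReduced_of_separating k R ?_
    intro a ha
    have hnn : ¬ IsNilpotent a := fun h => ha (hred.eq_zero a h)
    have hnil : a ∉ nilradical R := fun h => hnn (mem_nilradical.mp h)
    rw [nilradical_eq_sInf, Ideal.mem_sInf] at hnil
    push Not at hnil
    obtain ⟨J, hJ, haJ⟩ := hnil
    have hopen : IsOpen (⇑j '' (PrimeSpectrum.basicOpen a : Set (PrimeSpectrum R))) :=
      j.isOpenEmbedding.isOpenMap _ (PrimeSpectrum.basicOpen a).isOpen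
    obtain ⟨_, ⟨q, hq, rfl⟩, hσ⟩ := hd.inter_open_nonempty _ hopen ⟨_, ⟨⟨J, hJ⟩, haJ, rfl⟩⟩
    obtain ⟨k', iF, iA, iG, x, hx, t, hxt⟩ := hSg _ hσ
    haveI hsub : Subsingleton ↥(Spec (CommRingCat.of k')) :=
      inferInstanceAs (Subsingleton (PrimeSpectrum k'))
    have hrange : Set.range ⇑x ⊆ Set.range ⇑j := by
      rintro _ ⟨t', rfl⟩
      rw [Subsingleton.elim t' t, hxt]
      exact ⟨q, rfl⟩
    obtain ⟨x', hx'⟩ : ∃ x' : Spec (CommRingCat.of k') ⟶ Spec R, x' ≫ j = x :=
      ⟨IsOpenImmersion.lift j x hrange, IsOpenImmersion.lift_fac _ _ _⟩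
    obtain ⟨ψ, hψ⟩ := Spec.map_surjective x'
    have hcomp : φ ≫ ψ = CommRingCat.ofHom (algebraMap k k') := by
      apply Spec.map_injective
      rw [Spec.map_comp, hψ, hφ, ← Category.assoc, hx', hx]
    have hxq : x' t = q := by
      apply j.isOpenEmbedding.injective
      rw [← Scheme.Hom.comp_apply, hx', hxt]
    refine ⟨k', iF, iA, iG, ⟨ψ.hom, fun c => congrArg
      (fun χ : CommRingCat.of k ⟶ CommRingCat.of k' => χ.hom c) hcomp⟩, ?_⟩
    intro h0
    have h0' : ψ.hom a = 0 := h0
    have hmem : a ∈ (q : PrimeSpectrum R).asIdeal := by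
      rw [← hxq, ← hψ]
      show ψ.hom a ∈ (t : PrimeSpectrum k').asIdeal
      rw [h0']; exact Ideal.zero_mem _
    exact hq hmem
  have hiff : Algebra.IsGeometricallyReduced k R ↔
      ∀ (K : Type u) [Field K] [Algebra k K], _root_.IsReduced (K ⊗[k] R) :=
    (Groth.Agent.H25.GeomRed.tfae_geometricallyReduced (k := k) (S := (R : Type u))).out 1 2
  haveI hL : _root_.IsReduced (L ⊗[k] R) := hiff.mp hgr L
  haveI : _root_.IsReduced (R ⊗[k] L) :=
    isReduced_of_injective (Algebra.TensorProduct.comm k R L).toRingEquiv.toRingHom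
      (Algebra.TensorProduct.comm k R L).injective
  haveI : IsReduced (Spec (CommRingCat.of (R ⊗[k] L))) := inferInstance
  exact isReduced_of_isOpenImmersion (pullbackSpecIso k R L).hom

/-- a reduced `k`-scheme with a dense set of separable points is geometrically reduced -/
theorem geometricallyReduced_of_dense_separable_points {k : Type u} [Field k] {Z : Scheme.{u}}
    (f : Z ⟶ Spec (CommRingCat.of k)) [IsReduced Z] (Sg : Set Z)
    (hSg : ∀ σ ∈ Sg, IsSepPt f σ) (hd : Dense Sg) : GeometricallyReduced f := by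
  refine ⟨geometrically_iff_of_commRing_of_isClosedUnderIsomorphisms.mpr fun L _ _ => ?_⟩
  haveI : ∀ i, IsReduced ((Scheme.Pullback.openCoverOfLeft Z.affineOpenCover.openCover f
      (Spec.map (CommRingCat.ofHom (algebraMap k L)))).X i) := fun i =>
    isReduced_pullback_chart_sep f Sg hSg hd (Z.affineOpenCover.X i) (Z.affineOpenCover.f i) L
  exact IsReduced.of_openCover _ (Scheme.Pullback.openCoverOfLeft Z.affineOpenCover.openCover f
      (Spec.map (CommRingCat.ofHom (algebraMap k L))))

/-- existence and uniqueness of the geometrically reduced closed subscheme containing all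
separable points -/
theorem exists_unique_sep_closed (k : Type u) [Field k] (X : Scheme.{u})
    (f : X ⟶ Spec (CommRingCat.of k)) :
    ∃ (Z : Scheme.{u}) (z : Z ⟶ X), IsClosedImmersion z ∧ GeometricallyReduced (z ≫ f) ∧
      (∀ (k' : Type u) [Field k'] [Algebra k k'] [Algebra.IsGeometricallyReduced k k']
        (x : Spec (CommRingCat.of k') ⟶ X), x ≫ f = Spec.map (CommRingCat.ofHom (algebraMap k k')) →
        ∃ y : Spec (CommRingCat.of k') ⟶ Z, y ≫ z = x) ∧
      ∀ (Z' : Scheme.{u}) (z' : Z' ⟶ X), IsClosedImmersion z' → GeometricallyReduced (z' ≫ f) →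
        (∀ (k' : Type u) [Field k'] [Algebra k k'] [Algebra.IsGeometricallyReduced k k']
        (x : Spec (CommRingCat.of k') ⟶ X), x ≫ f = Spec.map (CommRingCat.ofHom (algebraMap k k')) →
        ∃ y : Spec (CommRingCat.of k') ⟶ Z', y ≫ z' = x) →
        ∃ e : Z' ≅ Z, e.hom ≫ z = z' := by
  obtain ⟨hint, hsubs⟩ :=
    integral_subsingleton_of_iso_spec_field k (Iso.refl (Spec (CommRingCat.of k)))
  haveI := hint
  haveI := hsubs
  obtain ⟨E, hE⟩ : ∃ E : Set X, E = {p | IsSepPt f p} := ⟨_, rfl⟩
  obtain ⟨C, hC⟩ : ∃ C : TopologicalSpace.Closeds X, (C : Set X) = closure E :=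
    ⟨⟨_, isClosed_closure⟩, rfl⟩
  obtain ⟨Z, z, hz, hred, hrange, hfac⟩ : ∃ (Z : Scheme.{u}) (z : Z ⟶ X),
      IsClosedImmersion z ∧ IsReduced Z ∧ Set.range ⇑z = (C : Set X) ∧
      ∀ {T : Scheme.{u}} [IsReduced T] (h : T ⟶ X), (∀ x, h x ∈ (C : Set X)) →
        ∃ h' : T ⟶ Z, h' ≫ z = h :=
    ⟨_, (Scheme.IdealSheafData.vanishingIdeal C).subschemeι, inferInstance,
      SubGrpd.isReduced_vanishingIdeal_subscheme C,
      by rw [Scheme.IdealSheafData.range_subschemeι,
        Scheme.IdealSheafData.coe_support_vanishingIdeal],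
      fun h hh => SubGrpd.exists_factor_red C h hh⟩
  haveI := hz
  haveI := hred
  have hfact : ∀ (k' : Type u) [Field k'] [Algebra k k'] [Algebra.IsGeometricallyReduced k k']
      (x : Spec (CommRingCat.of k') ⟶ X),
      x ≫ f = Spec.map (CommRingCat.ofHom (algebraMap k k')) →
      ∃ y : Spec (CommRingCat.of k') ⟶ Z, y ≫ z = x := by
    intro k' _ _ _ x hx
    refine hfac x (fun t => ?_)
    rw [hC]
    apply subset_closure
    rw [hE]
    exact ⟨k', inferInstance, inferInstance, inferInstance, x, hx, t, rfl⟩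
  have hgr : GeometricallyReduced (z ≫ f) := by
    refine geometricallyReduced_of_dense_separable_points (z ≫ f) (⇑z ⁻¹' E) ?_ ?_
    · intro σ hσ
      rw [Set.mem_preimage, hE] at hσ
      obtain ⟨k', iF, iA, iG, x, hx, t, hxt⟩ := hσ
      obtain ⟨y, hy⟩ := hfact k' x hx
      refine ⟨k', iF, iA, iG, y, by rw [← Category.assoc, hy]; exact hx, t, ?_⟩
      apply z.isClosedEmbedding.injective
      rw [← Scheme.Hom.comp_apply, hy, hxt]
    · rw [z.isClosedEmbedding.isInducing.dense_iff]
      intro w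
      have hsub : E ⊆ ⇑z '' (⇑z ⁻¹' E) := by
        intro p hp
        have hpC : p ∈ Set.range ⇑z := by rw [hrange, hC]; exact subset_closure hp
        obtain ⟨w', rfl⟩ := hpC
        exact ⟨w', hp, rfl⟩
      refine closure_mono hsub ?_
      rw [← hC, ← hrange]; exact ⟨w, rfl⟩
  refine ⟨Z, z, hz, hgr, hfact, ?_⟩
  intro Z' z' hz' hgr' hfact'
  haveI := hz'
  haveI := hgr'
  haveI := hgr
  haveI hZ'red : IsReduced Z' :=
    self_of_isIntegral_of_geometrically (P := IsReduced) hgr'.geometrically_isReduced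
  have h1 : ∀ w' : Z', z' w' ∈ Set.range ⇑z := by
    intro w'
    refine forall_mem_of_isClosed_of_separable_points (z' ≫ f) (⇑z' ⁻¹' Set.range ⇑z)
      (z.isClosedEmbedding.isClosed_range.preimage z'.continuous) ?_ w'
    intro k' _ _ _ x hx t
    obtain ⟨y, hy⟩ := hfact k' (x ≫ z') (by rw [Category.assoc]; exact hx)
    show z' (x t) ∈ Set.range ⇑z
    rw [← Scheme.Hom.comp_apply, ← hy, Scheme.Hom.comp_apply]
    exact ⟨_, rfl⟩
  have h2 : ∀ w : Z, z w ∈ Set.range ⇑z' := by
    intro w
    refine forall_mem_of_isClosed_of_separable_points (z ≫ f) (⇑z ⁻¹' Set.range ⇑z')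
      (z'.isClosedEmbedding.isClosed_range.preimage z.continuous) ?_ w
    intro k' _ _ _ x hx t
    obtain ⟨y, hy⟩ := hfact' k' (x ≫ z) (by rw [Category.assoc]; exact hx)
    show z (x t) ∈ Set.range ⇑z'
    rw [← Scheme.Hom.comp_apply, ← hy, Scheme.Hom.comp_apply]
    exact ⟨_, rfl⟩
  have hker : z.ker = z'.ker := by
    rw [GrpImage.ker_eq_vanishingIdeal z, GrpImage.ker_eq_vanishingIdeal z']
    congr 1
    apply TopologicalSpace.Closeds.ext
    show closure (Set.range ⇑z) = closure (Set.range ⇑z')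
    congr 1
    ext p
    constructor
    · rintro ⟨w, rfl⟩; exact h2 w
    · rintro ⟨w', rfl⟩; exact h1 w'
  haveI hiso : IsIso (IsClosedImmersion.lift z z' hker.le) :=
    IsClosedImmersion.isIso_lift z z' hker
  exact ⟨asIso (IsClosedImmersion.lift z z' hker.le), IsClosedImmersion.lift_fac z z' hker.le⟩

end Groth.Agent.H37.SepPts
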