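import Groth.Prelude.Def_C1
import Groth.Prelude.Def_Cyc
import Groth.Prelude.Def_Pic
import Groth.Agent.H95.SecOrd
import Groth.Agent.H95.AssGen

/-! (ZS) for helper34's S1930 squad: the cycle of the zero scheme of a section, computed by
`zeroSectionFun` and by `subschemeFun`. -/

set_option autoImplicit false
universe u
open CategoryTheory AlgebraicGeometry TopologicalSpace Opposite
namespace Groth.Agent.H37.StubDiv_ZS
variable {X D : Scheme.{u}}

section Alg

lemma free_of_span {R M : Type*} [CommRing R] [AddCommGroup M] [Module R M] (t₁ : M)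
    (hgen : ∀ m : M, ∃ r : R, m = r • t₁) (hfree : ∀ r : R, r • t₁ = 0 → r = 0)
    (t : M) (ht : Submodule.span R {t} = ⊤) : ∀ r : R, r • t = 0 → r = 0 := by
  obtain ⟨u, hu⟩ := hgen t
  have h1 : t₁ ∈ Submodule.span R {t} := ht ▸ Submodule.mem_top
  obtain ⟨v, hv⟩ := Submodule.mem_span_singleton.mp h1
  have hvu : v * u = 1 := by
    have : (v * u - 1) • t₁ = 0 := by
      rw [sub_smul, one_smul, mul_smul, ← hu, hv, sub_self]
    exact sub_eq_zero.mp (hfree _ this)
  intro r hr
  have h2 : (r * u) • t₁ = 0 := by rw [mul_smul, ← hu, hr]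
  have h3 := hfree _ h2
  calc r = r * (v * u) := by rw [hvu, mul_one]
    _ = (r * u) * v := by ring
    _ = 0 := by rw [h3, zero_mul]

lemma span_eq_of_smul_eq {R M : Type*} [CommRing R] [AddCommGroup M] [Module R M]
    (t : M) (ht : Submodule.span R {t} = ⊤) (hfree : ∀ r : R, r • t = 0 → r = 0)
    (t₀ : M) (ht₀ : Submodule.span R {t₀} = ⊤) (f f₀ : R) (h : f • t = f₀ • t₀) :
    Ideal.span {f} = Ideal.span {f₀} := by
  have h1 : t₀ ∈ Submodule.span R {t} := ht ▸ Submodule.mem_top
  obtain ⟨w, hw⟩ := Submodule.mem_span_singleton.mp h1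
  have h2 : t ∈ Submodule.span R {t₀} := ht₀ ▸ Submodule.mem_top
  obtain ⟨w', hw'⟩ := Submodule.mem_span_singleton.mp h2
  have hww : w' * w = 1 := by
    have : (w' * w - 1) • t = 0 := by
      rw [sub_smul, one_smul, mul_smul, hw, hw', sub_self]
    exact sub_eq_zero.mp (hfree _ this)
  have hunit : IsUnit w := ⟨⟨w, w', by rw [mul_comm]; exact hww, hww⟩, rfl⟩
  have hf : f = f₀ * w := by
    have : (f - f₀ * w) • t = 0 := by
      rw [sub_smul, mul_smul, hw, h, sub_self]
    exact sub_eq_zero.mp (hfree _ this)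
  rw [hf]
  exact Ideal.span_singleton_mul_right_unit hunit f₀

lemma length_quotient_eq {R S : Type u} [CommRing R] [CommRing S] (φ : R →+* S)
    (hφ : Function.Surjective φ) (I : Ideal R) (hI : RingHom.ker φ = I) :
    Module.length R (R ⧸ I) = Module.length S S := by
  subst hI
  letI : Algebra R S := φ.toAlgebra
  have hsurj : Function.Surjective (algebraMap R S) := hφ
  have hf : Function.Surjective (Algebra.linearMap R S) := hφ
  have hker : RingHom.ker φ = LinearMap.ker (Algebra.linearMap R S) := by
    ext x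
    rw [LinearMap.mem_ker, RingHom.mem_ker]
    rfl
  have e : (R ⧸ RingHom.ker φ) ≃ₗ[R] S :=
    (Submodule.quotEquivOfEq _ _ hker).trans ((Algebra.linearMap R S).quotKerEquivOfSurjective hf)
  exact (LinearEquiv.length_eq e).trans (Module.length_eq_of_surjective hsurj)

end Alg

open Groth.Agent.H18.TensorGen (IsGen exists_isGen)

/-- (ZS) The cycle of the zero scheme of a section, computed by zeroSectionFun and by
subschemeFun. -/
theorem zeroSectionFun_eq_subschemeFun (δ : X → ℤ) (k : ℤ) (L : X.Modules)
    (hL : PicF.IsInvertible L) (s : L.presheaf.obj (Opposite.op ⊤)) (i : D ⟶ X)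
    [IsClosedImmersion i] (hD : Cyc.IsZeroSchemeOf i L s) :
    Cyc.zeroSectionFun δ k L s = Cyc.subschemeFun δ k i := by
  classical
  funext ξ
  unfold Cyc.zeroSectionFun Cyc.subschemeFun
  by_cases hk : δ ξ = k
  · rw [if_pos hk, if_pos hk]
    obtain ⟨V, τ, hξV, hτ⟩ := exists_isGen hL ξ
    have hgen₁ := Groth.Agent.H95.AssGen.genAt_of_isGen hτ ξ hξV
    have hfree₁ : ∀ r : X.presheaf.stalk ξ, r • L.presheaf.germ V ξ hξV τ = 0 → r = 0 :=
      fun r h => Groth.Agent.H95.MeroData.germ_smul_eq_zero hτ ξ hξV r h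
    have ht : ∃ t : L.presheaf.stalk ξ, Submodule.span (X.presheaf.stalk ξ) {t} = ⊤ := by
      refine ⟨L.presheaf.germ V ξ hξV τ, ?_⟩
      rw [eq_top_iff]
      intro m _
      obtain ⟨r, hr⟩ := hgen₁ m
      rw [hr]
      exact Submodule.smul_mem _ _ (Submodule.mem_span_singleton_self _)
    rw [dif_pos ht]
    have hts := Classical.choose_spec ht
    have hf : ∃ f : X.presheaf.stalk ξ,
        (L.presheaf.germ ⊤ ξ trivial) s = f • Classical.choose ht := by
      have : (L.presheaf.germ ⊤ ξ trivial) s ∈
          Submodule.span (X.presheaf.stalk ξ) {Classical.choose ht} := by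
        rw [hts]
        exact Submodule.mem_top
      obtain ⟨f, hf⟩ := Submodule.mem_span_singleton.mp this
      exact ⟨f, hf.symm⟩
    rw [dif_pos hf]
    have hfs := Classical.choose_spec hf
    have hfree := free_of_span _ hgen₁ hfree₁ _ hts
    by_cases hξ : ξ ∈ Set.range i
    · obtain ⟨d, rfl⟩ := hξ
      have hset : {z : D | i z = i d} = {d} := by
        ext z
        simp only [Set.mem_setOf_eq, Set.mem_singleton_iff]
        exact ⟨fun h => i.isClosedEmbedding.injective h, fun h => by rw [h]⟩
      rw [hset, finsum_mem_singleton]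
      obtain ⟨t₀, f₀, ht₀, hs₀, hker⟩ := hD.2 d
      have hspan : Ideal.span {Classical.choose hf} = Ideal.span {f₀} :=
        span_eq_of_smul_eq _ hts hfree t₀ ht₀ _ f₀ (hfs.symm.trans hs₀)
      have hlen := length_quotient_eq (i.stalkMap d).hom (i.stalkMap_surjective d)
        (Ideal.span {Classical.choose hf}) (hker.trans hspan.symm)
      rw [hlen]
    · have hne : (Submodule.Quotient.mk ((L.presheaf.germ ⊤ ξ trivial) s) :
          Cyc.secFibre L ξ) ≠ 0 := by
        intro h0
        apply hξ
        rw [hD.1]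
        exact h0
      have hunit : IsUnit (Classical.choose hf) := by
        by_contra hnu
        have hmem : Classical.choose hf ∈ IsLocalRing.maximalIdeal (X.presheaf.stalk ξ) :=
          (IsLocalRing.mem_maximalIdeal _).mpr hnu
        apply hne
        rw [Submodule.Quotient.mk_eq_zero, hfs]
        exact Submodule.smul_mem_smul hmem Submodule.mem_top
      have htop : Ideal.span {Classical.choose hf} = ⊤ := Ideal.span_singleton_eq_top.mpr hunit
      haveI : Subsingleton (↥(X.presheaf.stalk ξ) ⧸ Ideal.span {Classical.choose hf}) :=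
        Ideal.Quotient.subsingleton_iff.mpr htop
      have hlen0 : Module.length (X.presheaf.stalk ξ)
          (↥(X.presheaf.stalk ξ) ⧸ Ideal.span {Classical.choose hf}) = 0 :=
        Module.length_eq_zero
      have hempty : {z : D | i z = ξ} = ∅ :=
        Set.eq_empty_of_forall_notMem fun z hz => hξ ⟨z, hz⟩
      rw [hlen0, hempty, finsum_mem_empty]
      simp
  · rw [if_neg hk, if_neg hk]

end Groth.Agent.H37.StubDiv_ZS
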