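import Groth.Prelude.Def_C1
import Groth.Prelude.Def_Cyc
import Groth.Prelude.Def_Pic
import Groth.Prelude.Def_Omega4
import Groth.Agent.H95.SecOrd
import Groth.Agent.H22.PullGen
import Groth.Agent.H39.PullTrack5
import Groth.Agent.H95.AssGen

/-! (SB1) for helper34's S1924 squad: the pullback of a free generator of an invertible module
generates the stalks of the pullback module. -/

set_option autoImplicit false
universe u
open CategoryTheory AlgebraicGeometry TopologicalSpace Opposite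
namespace Groth.Agent.H37.StubSub_SB1
open Groth.Agent.H18.TensorGen (IsGen exists_isGen)
open OmegaSh (pullSect)
open Groth.Agent.H39.PullTrack
open scoped TensorProduct
variable {X Y : Scheme.{u}}

/-- If `M` is generated by `τ₀` over `R`, every element of `S ⊗[R] M` is `b ⊗ τ₀`. -/
lemma exists_tmul_of_gen {R S M : Type*} [CommRing R] [CommRing S] [Algebra R S]
    [AddCommGroup M] [Module R M] (τ₀ : M) (hgen : ∀ x : M, ∃ r : R, x = r • τ₀)
    (z : TensorProduct R S M) : ∃ b : S, z = b ⊗ₜ[R] τ₀ := by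
  induction z using TensorProduct.induction_on with
  | zero => exact ⟨0, (TensorProduct.zero_tmul _ _).symm⟩
  | tmul b x =>
    obtain ⟨r, rfl⟩ := hgen x
    exact ⟨r • b, by rw [TensorProduct.smul_tmul]⟩
  | add z₁ z₂ h₁ h₂ =>
    obtain ⟨b₁, rfl⟩ := h₁
    obtain ⟨b₂, rfl⟩ := h₂
    exact ⟨b₁ + b₂, (TensorProduct.add_tmul _ _ _).symm⟩

/-- A section `μ` generates the stalk at `y` as soon as every local section is locally a
multiple of `μ`. -/
lemma genAt_of_local {P : Y.Modules} {W : Y.Opens} (μ : Γ(P, W)) (y : Y) (hy : y ∈ W)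
    (h : ∀ (W₀ : Y.Opens) (_ : y ∈ W₀) (σ : Γ(P, W₀)),
      ∃ (U' : Y.Opens) (_ : y ∈ U') (h1 : U' ≤ W₀) (h2 : U' ≤ W) (b : Γ(Y, U')),
        P.presheaf.map (homOfLE h1).op σ = b • P.presheaf.map (homOfLE h2).op μ) :
    Groth.Agent.H95.AssGen.GenAt P (P.presheaf.germ W y hy μ) := by
  intro t'
  obtain ⟨W₀, hyW₀, σ, rfl⟩ := TopCat.Presheaf.exists_germ_eq P.presheaf t'
  obtain ⟨U', hyU', h1, h2, b, hb⟩ := h W₀ hyW₀ σ
  refine ⟨Y.presheaf.germ U' y hyU' b, ?_⟩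
  rw [← TopCat.Presheaf.germ_res_apply P.presheaf (homOfLE h1) y hyU' σ, hb, Mero.germ_smul,
    TopCat.Presheaf.germ_res_apply P.presheaf (homOfLE h2) y hyU' μ]

/-- (SB1) [stalkwise] the pulled-back free generator generates every stalk. -/
theorem genAt_pullSect (f : Y ⟶ X) {L : X.Modules} (hL : PicF.IsInvertible L) {V : X.Opens}
    {τ : Γ(L, V)} (hτ : IsGen L V τ) (y : Y) (hy : y ∈ f ⁻¹ᵁ V) :
    Groth.Agent.H95.AssGen.GenAt ((Scheme.Modules.pullback f).obj L)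
      (((Scheme.Modules.pullback f).obj L).presheaf.germ (f ⁻¹ᵁ V) y hy (pullSect f L V τ)) := by
  refine genAt_of_local _ y hy fun W₀ hyW₀ σ => ?_
  obtain ⟨U, hU, hfyU, hUV⟩ : ∃ U : X.Opens, IsAffineOpen U ∧ f y ∈ U ∧ U ≤ V := by
    obtain ⟨U, hU, h1, h2⟩ :=
      Opens.isBasis_iff_nbhd.mp X.isBasis_affineOpens (show f y ∈ V from hy)
    exact ⟨U, hU, h1, h2⟩
  have hyW : y ∈ W₀ ⊓ f ⁻¹ᵁ U := ⟨hyW₀, hfyU⟩
  obtain ⟨U', hU', hyU', hU'le⟩ := Opens.isBasis_iff_nbhd.mp Y.isBasis_affineOpens hyW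
  have e : U' ≤ f ⁻¹ᵁ U := hU'le.trans inf_le_right
  have h1 : U' ≤ W₀ := hU'le.trans inf_le_left
  have h2 : U' ≤ f ⁻¹ᵁ V := e.trans (fun _ hz => hUV hz)
  haveI : L.IsQuasicoherent := Groth.Agent.H18.AmpleBasis.isQuasicoherent_of_isInvertible hL
  letI := (f.appLE U U' e).hom.toAlgebra
  obtain ⟨E, hE⟩ := exists_sectionsPullbackEquiv f L hU hU' e
  have hgenU : ∀ x : Γ(L, U), ∃ r : Γ(X, U), x = r • L.presheaf.map (homOfLE hUV).op τ :=
    fun x => by
      obtain ⟨r, hr⟩ := (hτ.res hUV).self.2 x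
      exact ⟨r, hr.symm⟩
  obtain ⟨b, hb⟩ := exists_tmul_of_gen _ hgenU
    (E (((Scheme.Modules.pullback f).obj L).presheaf.map (homOfLE h1).op σ))
  refine ⟨U', hyU', h1, h2, b, ?_⟩
  apply E.injective
  rw [hb, map_smul, ← pullSectLE_apply, ← pullSectLE_res_source f L hUV U' e τ, hE,
    TensorProduct.smul_tmul', smul_eq_mul, mul_one]

end Groth.Agent.H37.StubSub_SB1
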