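import Groth.Agent.H37.SubGrpd
import Mathlib

/-!
# Sub-groupoid schemes II: explicit data for the scheme-theoretic image, the pair groupoid
`(U, U ×_S U)`, the scheme theoretic image of `j`.
-/

set_option autoImplicit false
set_option linter.unusedSimpArgs false
universe u
open CategoryTheory CategoryTheory.Limits AlgebraicGeometry
open Grpd

namespace Groth.Agent.H37.SubGrpd

open Groth.Agent.H37.GrpdCalc

/-- explicit form of `exists_sub_image` -/
theorem exists_sub_data {S : Scheme.{u}} {G₁ G₂ : Grpd.GroupoidScheme S}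
    (f : Grpd.GroupoidScheme.Hom G₁ G₂) [IsIso f.fU] [QuasiCompact f.fR] (k : Type u) [Field k]
    (eU : G₂.U ≅ Spec (CommRingCat.of k)) :
    ∃ (Z : Scheme.{u}) (ι : Z ⟶ G₂.R) (_ : IsClosedImmersion ι) (q : G₁.R ⟶ Z)
      (c' : pullback (ι ≫ G₂.s) (ι ≫ G₂.t) ⟶ Z)
      (_ : c' ≫ ι = mul G₂ (pullback.fst (ι ≫ G₂.s) (ι ≫ G₂.t) ≫ ι)
        (pullback.snd (ι ≫ G₂.s) (ι ≫ G₂.t) ≫ ι))
      (e' : G₂.U ⟶ Z) (_ : e' ≫ ι = G₂.e) (i' : Z ⟶ Z) (_ : i' ≫ ι = ι ≫ G₂.i),
      q ≫ ι = f.fR ∧ IsSchemeTheoreticallyDominant q ∧ QuasiCompact q ∧ ι.ker = f.fR.ker := by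
  obtain ⟨a, ha⟩ : ∃ a, a = f.fR := ⟨_, rfl⟩
  haveI : QuasiCompact a := ha ▸ ‹_›
  obtain ⟨Z, ι, q, hι, hq, hqd, hqc, hker⟩ : ∃ (Z : Scheme.{u}) (ι : Z ⟶ G₂.R) (q : G₁.R ⟶ Z),
      IsClosedImmersion ι ∧ q ≫ ι = a ∧ IsSchemeTheoreticallyDominant q ∧ QuasiCompact q ∧
        ι.ker = a.ker :=
    ⟨a.image, a.imageι, a.toImage, inferInstance, a.toImage_imageι, ⟨ker_toImage_eq_bot a⟩,
      inferInstance, Scheme.IdealSheafData.ker_subschemeι _⟩
  haveI := hι; haveI := hqd; haveI := hqc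
  have he : (inv f.fU ≫ G₁.e ≫ q) ≫ ι = G₂.e := by
    simp only [Category.assoc, hq, ha, comm_e f, IsIso.inv_hom_id_assoc]
  obtain ⟨i', hi'⟩ := exists_factor q ι (ι ≫ G₂.i) (G₁.i ≫ q) (by
    rw [← Category.assoc, hq, Category.assoc, hq, ha, comm_i f])
  obtain ⟨m, hmd, hm1, hm2⟩ := exists_dominant_prod k eU q (ι ≫ G₂.s) (ι ≫ G₂.t)
  haveI := hmd
  obtain ⟨α, hα⟩ : ∃ α, α = pullback.fst (q ≫ ι ≫ G₂.s) (q ≫ ι ≫ G₂.t) := ⟨_, rfl⟩
  obtain ⟨β, hβ⟩ : ∃ β, β = pullback.snd (q ≫ ι ≫ G₂.s) (q ≫ ι ≫ G₂.t) := ⟨_, rfl⟩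
  rw [← hα] at hm1
  rw [← hβ] at hm2
  have hαβ : α ≫ G₁.s = β ≫ G₁.t := by
    rw [← cancel_mono f.fU, Category.assoc, Category.assoc, ← f.comm_s, ← f.comm_t, ← ha, ← hq,
      hα, hβ]
    simp only [Category.assoc]
    exact pullback.condition
  have hcond : (pullback.fst (ι ≫ G₂.s) (ι ≫ G₂.t) ≫ ι) ≫ G₂.s =
      (pullback.snd (ι ≫ G₂.s) (ι ≫ G₂.t) ≫ ι) ≫ G₂.t := by
    simp only [Category.assoc]; exact pullback.condition
  obtain ⟨h, hh⟩ : ∃ h, h = mul G₂ (pullback.fst (ι ≫ G₂.s) (ι ≫ G₂.t) ≫ ι)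
      (pullback.snd (ι ≫ G₂.s) (ι ≫ G₂.t) ≫ ι) := ⟨_, rfl⟩
  have hmh : m ≫ h = (mul G₁ α β ≫ q) ≫ ι := by
    rw [hh, comp_mul m hcond]
    simp only [Category.assoc, reassoc_of% hm1, reassoc_of% hm2, hq]
    rw [ha]
    exact (comm_mul f hαβ).symm
  obtain ⟨c', hc'⟩ := exists_factor m ι h (mul G₁ α β ≫ q) hmh
  rw [hh] at hc'
  exact ⟨Z, ι, hι, q, c', hc', _, he, i', hi', by rw [hq, ha], hqd, hqc, by rw [hker, ha]⟩

/-- a morphism of groupoids factoring through a sub-groupoid on arrows factors as a morphism of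
groupoids -/
noncomputable def toSubHom {S : Scheme.{u}} {G₁ G : Grpd.GroupoidScheme S}
    (f : Grpd.GroupoidScheme.Hom G₁ G) {Z : Scheme.{u}} (ι : Z ⟶ G.R)
    (c' : pullback (ι ≫ G.s) (ι ≫ G.t) ⟶ Z)
    (hc : c' ≫ ι = mul G (pullback.fst (ι ≫ G.s) (ι ≫ G.t) ≫ ι)
      (pullback.snd (ι ≫ G.s) (ι ≫ G.t) ≫ ι))
    [Mono ι] (e' : G.U ⟶ Z) (he : e' ≫ ι = G.e) (i' : Z ⟶ Z) (hi : i' ≫ ι = ι ≫ G.i)
    (q : G₁.R ⟶ Z) (hq : q ≫ ι = f.fR) :
    Grpd.GroupoidScheme.Hom G₁ (sub G ι c' hc e' he i' hi) where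
  fU := f.fU
  fR := q
  fU_over := f.fU_over
  comm_s := by
    show q ≫ ι ≫ G.s = G₁.s ≫ f.fU
    rw [← Category.assoc, hq, f.comm_s]
  comm_t := by
    show q ≫ ι ≫ G.t = G₁.t ≫ f.fU
    rw [← Category.assoc, hq, f.comm_t]
  comm_c := fun α β h => by
    show (pullback.lift α β h ≫ G₁.c) ≫ q = pullback.lift (α ≫ q) (β ≫ q) _ ≫ c'
    rw [← cancel_mono ι, key G ι c' hc, Category.assoc, hq, lift_c h, comm_mul f h]
    simp only [Category.assoc, hq]

/-- the pair groupoid `(U, U ×_S U, pr₁, pr₀, pr₀₂)` -/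
noncomputable def pair {S U : Scheme.{u}} (pU : U ⟶ S) : Grpd.GroupoidScheme S where
  U := U
  R := pullback pU pU
  pU := pU
  pR := pullback.fst pU pU ≫ pU
  s := pullback.snd pU pU
  t := pullback.fst pU pU
  e := pullback.lift (𝟙 U) (𝟙 U) rfl
  i := pullback.lift (pullback.snd pU pU) (pullback.fst pU pU) pullback.condition.symm
  c := pullback.lift (pullback.fst _ _ ≫ pullback.fst pU pU)
    (pullback.snd _ _ ≫ pullback.snd pU pU) (by
      rw [Category.assoc, Category.assoc, pullback.condition (f := pU) (g := pU),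
        ← Category.assoc, pullback.condition, Category.assoc, pullback.condition])
  s_over := pullback.condition.symm
  t_over := rfl
  comp_s := fun α β h => by
    simp only [Category.assoc, pullback.lift_fst, pullback.lift_fst_assoc, pullback.lift_snd, pullback.lift_snd_assoc, Category.id_comp, Category.comp_id]
  comp_t := fun α β h => by
    simp only [Category.assoc, pullback.lift_fst, pullback.lift_fst_assoc, pullback.lift_snd, pullback.lift_snd_assoc, Category.id_comp, Category.comp_id]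
  assoc := fun α β γ h₁ h₂ => by apply pullback.hom_ext <;>
    simp only [Category.assoc, pullback.lift_fst, pullback.lift_fst_assoc, pullback.lift_snd, pullback.lift_snd_assoc, Category.id_comp, Category.comp_id]
  e_s := by
    simp only [Category.assoc, pullback.lift_fst, pullback.lift_fst_assoc, pullback.lift_snd, pullback.lift_snd_assoc, Category.id_comp, Category.comp_id]
  e_t := by
    simp only [Category.assoc, pullback.lift_fst, pullback.lift_fst_assoc, pullback.lift_snd, pullback.lift_snd_assoc, Category.id_comp, Category.comp_id]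
  comp_e := fun α => by apply pullback.hom_ext <;>
    simp only [Category.assoc, pullback.lift_fst, pullback.lift_fst_assoc, pullback.lift_snd, pullback.lift_snd_assoc, Category.id_comp, Category.comp_id]
  e_comp := fun α => by apply pullback.hom_ext <;>
    simp only [Category.assoc, pullback.lift_fst, pullback.lift_fst_assoc, pullback.lift_snd, pullback.lift_snd_assoc, Category.id_comp, Category.comp_id]
  i_s := by
    simp only [Category.assoc, pullback.lift_fst, pullback.lift_fst_assoc, pullback.lift_snd, pullback.lift_snd_assoc, Category.id_comp, Category.comp_id]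
  i_t := by
    simp only [Category.assoc, pullback.lift_fst, pullback.lift_fst_assoc, pullback.lift_snd, pullback.lift_snd_assoc, Category.id_comp, Category.comp_id]
  comp_i := fun α => by apply pullback.hom_ext <;>
    simp only [Category.assoc, pullback.lift_fst, pullback.lift_fst_assoc, pullback.lift_snd, pullback.lift_snd_assoc, Category.id_comp, Category.comp_id]
  i_comp := fun α => by apply pullback.hom_ext <;>
    simp only [Category.assoc, pullback.lift_fst, pullback.lift_fst_assoc, pullback.lift_snd, pullback.lift_snd_assoc, Category.id_comp, Category.comp_id]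

/-- `j = (t, s)` as a morphism of groupoids to the pair groupoid -/
noncomputable def jHom {S : Scheme.{u}} (G : Grpd.GroupoidScheme S) :
    Grpd.GroupoidScheme.Hom G (pair G.pU) where
  fU := 𝟙 _
  fR := G.j
  fU_over := Category.id_comp _
  comm_s := by
    show G.j ≫ pullback.snd G.pU G.pU = G.s ≫ 𝟙 _
    rw [j_snd, Category.comp_id]
  comm_t := by
    show G.j ≫ pullback.fst G.pU G.pU = G.t ≫ 𝟙 _
    rw [j_fst, Category.comp_id]
  comm_c := fun α β h => by
    apply pullback.hom_ext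
    · refine Eq.trans ?_ ((pair G.pU).comp_t (α ≫ G.j) (β ≫ G.j) _).symm
      show ((pullback.lift α β h ≫ G.c) ≫ G.j) ≫ pullback.fst G.pU G.pU =
        (α ≫ G.j) ≫ pullback.fst G.pU G.pU
      have h1 : (pullback.lift α β h ≫ G.c) ≫ G.t = α ≫ G.t := G.comp_t α β h
      simp only [Category.assoc, j_fst] at h1 ⊢
      exact h1
    · refine Eq.trans ?_ ((pair G.pU).comp_s (α ≫ G.j) (β ≫ G.j) _).symm
      show ((pullback.lift α β h ≫ G.c) ≫ G.j) ≫ pullback.snd G.pU G.pU =
        (β ≫ G.j) ≫ pullback.snd G.pU G.pU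
      have h1 : (pullback.lift α β h ≫ G.c) ≫ G.s = β ≫ G.s := G.comp_s α β h
      simp only [Category.assoc, j_snd] at h1 ⊢
      exact h1

lemma isAffineHom_of_iso_spec_field {U S : Scheme.{u}} (k : Type u) [Field k]
    (eU : U ≅ Spec (CommRingCat.of k)) (p : U ⟶ S) : IsAffineHom p := by
  obtain ⟨h1, h2⟩ := integral_subsingleton_of_iso_spec_field k eU
  haveI : IsAffine U := IsAffine.of_isIso eU.hom
  refine ⟨fun W hW => ?_⟩
  by_cases hne : ∃ x : U, x ∈ p ⁻¹ᵁ W
  · obtain ⟨x, hx⟩ := hne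
    have : p ⁻¹ᵁ W = ⊤ := eq_top_iff.mpr (fun y _ => by rw [Subsingleton.elim y x]; exact hx)
    rw [this]; exact isAffineOpen_top U
  · have : p ⁻¹ᵁ W = ⊥ := eq_bot_iff.mpr (fun y hy => (hne ⟨y, hy⟩).elim)
    rw [this]; exact isAffineOpen_bot U

/-- Stacks: the scheme theoretic image of `j` for a groupoid on the spectrum of a field with
quasi-compact arrows is a groupoid. -/
theorem exists_image_j {S : Scheme.{u}} (G : Grpd.GroupoidScheme S) (k : Type u) [Field k]
    (eU : G.U ≅ Spec (CommRingCat.of k)) [CompactSpace G.R] :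
    ∃ (G' : Grpd.GroupoidScheme S) (φ : Grpd.GroupoidScheme.Hom G G'), IsIso φ.fU ∧
      IsClosedImmersion G'.j ∧ G'.j.ker = (G.j ≫ pullback.map G.pU G.pU G'.pU G'.pU φ.fU φ.fU (𝟙 S)
        ((Category.comp_id _).trans φ.fU_over.symm)
        ((Category.comp_id _).trans φ.fU_over.symm)).ker := by
  haveI : IsAffineHom G.pU := isAffineHom_of_iso_spec_field k eU G.pU
  haveI : IsAffine G.U := IsAffine.of_isIso eU.hom
  haveI : IsAffine (pullback G.pU G.pU) := inferInstance
  haveI : QuasiCompact (jHom G).fR := by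
    show QuasiCompact G.j
    infer_instance
  haveI : IsIso (jHom G).fU := by
    show IsIso (𝟙 G.U)
    infer_instance
  obtain ⟨Z, ι, hι, q, c', hc', e', he, i', hi', hq, hqd, hqc, hker⟩ :=
    exists_sub_data (jHom G) k eU
  haveI : Mono ι := inferInstance
  have hmap : ∀ (h1 : G.pU ≫ 𝟙 S = 𝟙 G.U ≫ G.pU) (h2 : G.pU ≫ 𝟙 S = 𝟙 G.U ≫ G.pU),
      pullback.map G.pU G.pU G.pU G.pU (𝟙 G.U) (𝟙 G.U) (𝟙 S) h1 h2 = 𝟙 _ := fun h1 h2 => by
    apply pullback.hom_ext <;>
    simp only [pullback.map, Category.assoc, pullback.lift_fst, pullback.lift_snd, Category.id_comp, Category.comp_id]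
  refine ⟨sub (pair G.pU) ι c' hc' e' he i' hi', toSubHom (jHom G) ι c' hc' e' he i' hi' q hq,
    ?_, ?_, ?_⟩
  · show IsIso (𝟙 G.U)
    infer_instance
  · have hj : (sub (pair G.pU) ι c' hc' e' he i' hi').j = ι := by
      apply pullback.hom_ext
      · exact pullback.lift_fst _ _ _
      · exact pullback.lift_snd _ _ _
    rw [hj]; exact hι
  · have hj : (sub (pair G.pU) ι c' hc' e' he i' hi').j = ι := by
      apply pullback.hom_ext
      · exact pullback.lift_fst _ _ _
      · exact pullback.lift_snd _ _ _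
    rw [hj]
    show ι.ker = (G.j ≫ pullback.map G.pU G.pU G.pU G.pU (𝟙 G.U) (𝟙 G.U) (𝟙 S) _ _).ker
    rw [hmap, Category.comp_id, hker]
    rfl

end Groth.Agent.H37.SubGrpd
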