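import Groth.Agent.H37.UnrSec_U3c
import Groth.Agent.H82.UnrSec_U3a

/-!
# (U3b), (U3c) for S5318, closed forms (helper37, for helper63's squad)
-/

set_option autoImplicit false
universe u
open CategoryTheory CategoryTheory.Limits AlgebraicGeometry TensorProduct

namespace Groth.Agent.H37.UnrSec_U3c

/-- (U3b) -/
theorem finite_of_isOpenImmersion_lmul {K B : Type u} [Field K] [CommRing B] [Algebra K B]
    (h : IsOpenImmersion (Spec.map (CommRingCat.ofHom
      (Algebra.TensorProduct.lmul' K : B ⊗[K] B →ₐ[K] B).toRingHom))) : Module.Finite K B :=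
  finite_of_isOpenImmersion_lmul_of
    (fun t h1 h2 => Groth.Agent.H82.UnrSec_U3a.finite_of_free_of_elem t h1 h2) h

/-- (U3c) -/
theorem lfp_of_isOpenImmersion_diagonal_field {K : Type u} [Field K] {X : Scheme.{u}}
    (f : X ⟶ Spec (CommRingCat.of K)) [IsOpenImmersion (pullback.diagonal f)] :
    LocallyOfFinitePresentation f :=
  lfp_of_isOpenImmersion_diagonal_field_of (fun h => finite_of_isOpenImmersion_lmul h) f

end Groth.Agent.H37.UnrSec_U3c
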