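import Mathlib
import Groth.Prelude

/-!
# (U3c) (and a short (U3b)) for S5318: a scheme over a field whose diagonal is an open immersion
is locally of finite presentation (helper37, for helper63's squad)
-/

set_option autoImplicit false
universe u
open CategoryTheory CategoryTheory.Limits AlgebraicGeometry TensorProduct

namespace Groth.Agent.H37.UnrSec_U3c

/-- (U3b) from (U3a): via Mathlib's `isOpenImmersion_SpecMap_iff_of_surjective`. -/
theorem finite_of_isOpenImmersion_lmul_of
    (hU3a : ∀ {R S : Type u} [CommRing R] [CommRing S] [Algebra R S] [Module.Free R S]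
      (t : S ⊗[R] S), (∀ s : S, (1 ⊗ₜ[R] s - s ⊗ₜ[R] 1) * t = 0) →
      Algebra.TensorProduct.lmul' R t = 1 → Module.Finite R S)
    {K B : Type u} [Field K] [CommRing B] [Algebra K B]
    (h : IsOpenImmersion (Spec.map (CommRingCat.ofHom
      (Algebra.TensorProduct.lmul' K : B ⊗[K] B →ₐ[K] B).toRingHom))) : Module.Finite K B := by
  have hF : Function.Surjective
      (CommRingCat.ofHom (Algebra.TensorProduct.lmul' K : B ⊗[K] B →ₐ[K] B).toRingHom).hom :=
    fun x => ⟨x ⊗ₜ 1, by simp⟩
  obtain ⟨e, he, he'⟩ := (isOpenImmersion_SpecMap_iff_of_surjective _ hF).mp h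
  have hker : ∀ c : B ⊗[K] B, Algebra.TensorProduct.lmul' K c = 0 → ∃ d, d * e = c := by
    intro c hc
    have hmem : c ∈ RingHom.ker
        (CommRingCat.ofHom (Algebra.TensorProduct.lmul' K : B ⊗[K] B →ₐ[K] B).toRingHom).hom :=
      RingHom.mem_ker.mpr hc
    rw [he'] at hmem
    exact Ideal.mem_span_singleton'.mp hmem
  have hmul : Algebra.TensorProduct.lmul' K e = 0 := by
    have hmem : e ∈ RingHom.ker
        (CommRingCat.ofHom (Algebra.TensorProduct.lmul' K : B ⊗[K] B →ₐ[K] B).toRingHom).hom := by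
      rw [he']
      exact Ideal.mem_span_singleton_self e
    exact RingHom.mem_ker.mp hmem
  refine hU3a (1 - e) (fun s => ?_) ?_
  · obtain ⟨d, hd⟩ := hker (1 ⊗ₜ[K] s - s ⊗ₜ[K] 1) (by simp)
    rw [← hd, mul_assoc, mul_sub, mul_one, he.eq, sub_self, mul_zero]
  · rw [map_sub, map_one, hmul, sub_zero]

/-- (U3c), with (U3b) as a hypothesis. -/
theorem lfp_of_isOpenImmersion_diagonal_field_of
    (hU3b : ∀ {K B : Type u} [Field K] [CommRing B] [Algebra K B],
      IsOpenImmersion (Spec.map (CommRingCat.ofHom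
        (Algebra.TensorProduct.lmul' K : B ⊗[K] B →ₐ[K] B).toRingHom)) → Module.Finite K B)
    {K : Type u} [Field K] {X : Scheme.{u}}
    (f : X ⟶ Spec (CommRingCat.of K)) [IsOpenImmersion (pullback.diagonal f)] :
    LocallyOfFinitePresentation f := by
  wlog hX : ∃ S, X = Spec S generalizing X
  · rw [IsZariskiLocalAtSource.iff_of_openCover (P := @LocallyOfFinitePresentation) X.affineCover]
    intro i
    have inst : IsOpenImmersion (pullback.diagonal (X.affineCover.f i ≫ f)) :=
      MorphismProperty.comp_mem (.diagonal @IsOpenImmersion) _ _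
        (inferInstanceAs (IsOpenImmersion _)) ‹_›
    exact this (_ ≫ _) ⟨_, rfl⟩
  obtain ⟨S, rfl⟩ := hX
  obtain ⟨φ, rfl : Spec.map φ = f⟩ := Spec.homEquiv.symm.surjective f
  rw [HasRingHomProperty.Spec_iff (P := @LocallyOfFinitePresentation)]
  algebraize [φ.hom]
  have hoi : IsOpenImmersion (Spec.map (CommRingCat.ofHom
      (Algebra.TensorProduct.lmul' K : S ⊗[K] S →ₐ[K] S).toRingHom)) := by
    rwa [← MorphismProperty.cancel_right_of_respectsIso (P := @IsOpenImmersion) _
      (pullbackSpecIso K S S).inv, ← AlgebraicGeometry.diagonal_SpecMap K S]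
  haveI hfin : Module.Finite K S := hU3b hoi
  haveI : Algebra.FinitePresentation K S :=
    Algebra.FinitePresentation.of_finiteType.mp inferInstance
  exact RingHom.finitePresentation_algebraMap.mpr this

end Groth.Agent.H37.UnrSec_U3c
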