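import Mathlib

/-!
# (PC1) for S15452/S15453: fixed points of `G` on closed points = `k`-points fixed by `G`
(helper37, for helper74's squad)
-/

set_option autoImplicit false
universe u
open CategoryTheory CategoryTheory.Limits AlgebraicGeometry

namespace Groth.Agent.H37.ZF_PC1

/-- (PC1) -/
theorem card_fix_eq_card_points {k : Type u} [Field k] [IsAlgClosed k] {Y P : Scheme.{u}}
    (sb : Y ⟶ Spec (CommRingCat.of k)) [LocallyOfFiniteType sb] [IrreducibleSpace Y]
    (G : Y ⟶ Y) (hGs : G ≫ sb = sb)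
    (p q : P ⟶ Y) (hP : IsPullback p q sb sb) (j d : Y ⟶ P) (hjp : j ≫ p = 𝟙 Y) (hjq : j ≫ q = G)
    (hdp : d ≫ p = 𝟙 Y) (hdq : d ≫ q = 𝟙 Y)
    (hcl : closure ({j (genericPoint Y)} : Set P) = Set.range j)
    (hA : ∀ w : Y, d w ∈ closure ({j (genericPoint Y)} : Set P) → IsClosed ({w} : Set Y)) :
    Nat.card {w : Y // d w ∈ closure ({j (genericPoint Y)} : Set P)} =
      Nat.card {y : Spec (CommRingCat.of k) ⟶ Y // y ≫ sb = 𝟙 _ ∧ y ≫ G = y} := by
  have hdj : ∀ y : Spec (CommRingCat.of k) ⟶ Y, y ≫ G = y → y ≫ d = y ≫ j := by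
    intro y hy
    apply hP.hom_ext
    · rw [Category.assoc, Category.assoc, hdp, hjp]
    · rw [Category.assoc, Category.assoc, hdq, hjq, Category.comp_id, hy]
  have hmem : ∀ y : Spec (CommRingCat.of k) ⟶ Y, y ≫ G = y →
      d (y (IsLocalRing.closedPoint k)) ∈ closure ({j (genericPoint Y)} : Set P) := by
    intro y hy
    rw [hcl, ← Scheme.Hom.comp_apply, hdj y hy, Scheme.Hom.comp_apply]
    exact Set.mem_range_self _
  symm
  refine Nat.card_congr (Equiv.ofBijective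
    (fun y : {y : Spec (CommRingCat.of k) ⟶ Y // y ≫ sb = 𝟙 _ ∧ y ≫ G = y} =>
      (⟨y.1 (IsLocalRing.closedPoint k), hmem y.1 y.2.2⟩ :
        {w : Y // d w ∈ closure ({j (genericPoint Y)} : Set P)})) ⟨?_, ?_⟩)
  · rintro ⟨y₁, h1, h1'⟩ ⟨y₂, h2, h2'⟩ h
    have h' : y₁ (IsLocalRing.closedPoint k) = y₂ (IsLocalRing.closedPoint k) :=
      congrArg Subtype.val h
    exact Subtype.ext (ext_of_apply_closedPoint_eq sb h1 h2 h')
  · rintro ⟨w, hw⟩
    have hw' := hw
    rw [hcl] at hw'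
    obtain ⟨w', hw'j⟩ := hw'
    have e1 : w' = w := by
      have h1 : (j ≫ p) w' = (d ≫ p) w := by
        rw [Scheme.Hom.comp_apply, Scheme.Hom.comp_apply, hw'j]
      rw [hjp, hdp] at h1
      simpa using h1
    rw [e1] at hw'j
    have e2 : G w = w := by
      have h2 : (j ≫ q) w = (d ≫ q) w := by
        rw [Scheme.Hom.comp_apply, Scheme.Hom.comp_apply, hw'j]
      rw [hjq, hdq] at h2
      simpa using h2
    have hclosed : IsClosed ({w} : Set Y) := hA w hw
    obtain ⟨⟨y, hy⟩, hyw⟩ := (pointEquivClosedPoint sb).surjective ⟨w, hclosed⟩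
    have hyw' : y (IsLocalRing.closedPoint k) = w := congrArg Subtype.val hyw
    have hyG : y ≫ G = y := by
      refine ext_of_apply_closedPoint_eq sb ?_ hy ?_
      · rw [Category.assoc, hGs, hy]
      · rw [Scheme.Hom.comp_apply, hyw', e2]
    exact ⟨⟨y, hy, hyG⟩, Subtype.ext hyw'⟩

end Groth.Agent.H37.ZF_PC1
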